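import Mathlib
import Groth.Agent.H89.AdicRetract

set_option autoImplicit false
universe u v

namespace Groth.Agent.H89

open Polynomial

/-- A finite module over a Noetherian `I`-adically complete ring is `I`-adically complete. -/
theorem isAdicComplete_of_finite_noeth {A : Type u} [CommRing A] [IsNoetherianRing A] (I : Ideal A)
    [IsAdicComplete I A] (M : Type v) [AddCommGroup M] [Module A M] [Module.Finite A M] :
    IsAdicComplete I M := by
  have h1 : IsHausdorff I M := IsHausdorff.of_le_jacobson I M (IsAdicComplete.le_jacobson_bot I)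
  obtain ⟨n, π, hπ⟩ := Module.Finite.exists_fin' A M
  have hpi : IsAdicComplete I (Fin n → A) := isAdicComplete_pi I n
  have hsurj : Function.Surjective (AdicCompletion.of I M) := by
    have h2 : Function.Surjective (AdicCompletion.map I π) := AdicCompletion.map_surjective I hπ
    have h3 : Function.Surjective (AdicCompletion.of I (Fin n → A)) :=
      AdicCompletion.of_surjective I (Fin n → A)
    intro y
    obtain ⟨z, hz⟩ := h2 y
    obtain ⟨w, hw⟩ := h3 z
    refine ⟨π w, ?_⟩
    rw [← hz, ← hw, AdicCompletion.map_of]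
  have h4 : IsPrecomplete I M := (AdicCompletion.of_surjective_iff).mp hsurj
  exact { toIsHausdorff := h1, toIsPrecomplete := h4 }

/-- Idempotents lift along a henselian pair. -/
theorem idem_lift_of_henselianRing {B : Type u} [CommRing B] (I : Ideal B) [HenselianRing B I] :
    Set.SurjOn (Ideal.Quotient.mk I) {e : B | IsIdempotentElem e} {e | IsIdempotentElem e} := by
  intro ebar hebar
  obtain ⟨b, rfl⟩ := Ideal.Quotient.mk_surjective ebar
  have hb : b * b - b ∈ I := by
    rw [← Ideal.Quotient.eq_zero_iff_mem, map_sub, map_mul]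
    have : Ideal.Quotient.mk I b * Ideal.Quotient.mk I b = Ideal.Quotient.mk I b := hebar
    rw [this, sub_self]
  have hmonic : (X ^ 2 - X : B[X]).Monic := by
    nontriviality B
    apply Polynomial.monic_X_pow_sub
    simp
  have heval : (X ^ 2 - X : B[X]).eval b ∈ I := by
    have : (X ^ 2 - X : B[X]).eval b = b * b - b := by simp [pow_two]
    rw [this]; exact hb
  have hder : IsUnit (Ideal.Quotient.mk I ((X ^ 2 - X : B[X]).derivative.eval b)) := by
    have h1 : (X ^ 2 - X : B[X]).derivative.eval b = 2 * b - 1 := by
      simp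
      ring
    rw [h1]
    have h2 : Ideal.Quotient.mk I (2 * b - 1) * Ideal.Quotient.mk I (2 * b - 1) = 1 := by
      rw [← map_mul, ← map_one (Ideal.Quotient.mk I), Ideal.Quotient.eq]
      have : (2 * b - 1) * (2 * b - 1) - 1 = 4 * (b * b - b) := by ring
      rw [this]
      exact I.mul_mem_left _ hb
    exact IsUnit.of_mul_eq_one _ h2
  obtain ⟨a, ha, hab⟩ := HenselianRing.is_henselian (X ^ 2 - X : B[X]) hmonic b heval hder
  refine ⟨a, ?_, ?_⟩
  · have h3 : (X ^ 2 - X : B[X]).eval a = 0 := ha
    have h4 : (X ^ 2 - X : B[X]).eval a = a * a - a := by simp [pow_two]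
    rw [h4, sub_eq_zero] at h3
    exact h3
  · rw [Ideal.Quotient.eq]
    exact hab

end Groth.Agent.H89
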