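import Mathlib

set_option autoImplicit false
universe u

namespace Groth.Agent.H89

/-- For an integral extension `A → B`, an ideal in the Jacobson radical of `A` extends into the
Jacobson radical of `B`. -/
theorem map_le_jacobson_of_isIntegral {A B : Type*} [CommRing A] [CommRing B] [Algebra A B]
    [Algebra.IsIntegral A B] (I : Ideal A) (hI : I ≤ Ideal.jacobson ⊥) :
    Ideal.map (algebraMap A B) I ≤ Ideal.jacobson (⊥ : Ideal B) := by
  rw [Ideal.map_le_iff_le_comap]
  intro a ha
  rw [Ideal.mem_comap, Ideal.jacobson, Ideal.mem_sInf]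
  rintro m ⟨-, hm⟩
  have hmax : (m.comap (algebraMap A B)).IsMaximal :=
    Ideal.isMaximal_comap_of_isIntegral_of_isMaximal (R := A) m
  have h1 : a ∈ Ideal.jacobson (⊥ : Ideal A) := hI ha
  rw [Ideal.jacobson, Ideal.mem_sInf] at h1
  exact h1 ⟨bot_le, hmax⟩

/-- An element that is a unit modulo an ideal inside the Jacobson radical is a unit. -/
theorem isUnit_of_mul_sub_one_mem_jacobson {B : Type*} [CommRing B] (x y : B)
    (h : x * y - 1 ∈ Ideal.jacobson (⊥ : Ideal B)) : IsUnit x := by
  have hu : IsUnit ((x * y - 1) * 1 + 1) := Ideal.mem_jacobson_bot.mp h 1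
  have : (x * y - 1) * 1 + 1 = x * y := by ring
  rw [this] at hu
  exact isUnit_of_mul_isUnit_left hu

end Groth.Agent.H89
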