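import Mathlib

set_option autoImplicit false
universe u

namespace Groth.Agent.H89

/-- An idempotent lying in the Jacobson radical is zero. -/
theorem idem_eq_zero_of_mem_jacobson {B : Type*} [CommRing B] {e : B} (he : IsIdempotentElem e)
    (hJ : e ∈ (⊥ : Ideal B).jacobson) : e = 0 := by
  have hu : IsUnit (1 - e) := by
    have := (Ideal.mem_jacobson_bot.mp hJ) (-1)
    have h2 : e * -1 + 1 = 1 - e := by ring
    rwa [h2] at this
  have h0 : e * (1 - e) = 0 := by rw [mul_sub, mul_one, he.eq, sub_self]
  exact (hu.mul_left_eq_zero).mp h0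

/-- In a product of local rings, idempotents of any quotient lift. -/
theorem pi_local_idem_lift {ι : Type*} (C : ι → Type*) [∀ j, CommRing (C j)]
    [∀ j, IsLocalRing (C j)] (I : Ideal (∀ j, C j)) (b : ∀ j, C j) (hb : b * b - b ∈ I) :
    ∃ ε : ∀ j, C j, IsIdempotentElem ε ∧ ε - b ∈ I := by
  classical
  have key : ∀ j, ∃ (ε u : C j), IsIdempotentElem ε ∧ ε - b j = u * (b j * b j - b j) := by
    intro j
    rcases IsLocalRing.isUnit_or_isUnit_one_sub_self (b j) with h | h
    · obtain ⟨v, hv⟩ := h
      refine ⟨1, -(↑v⁻¹ : C j), IsIdempotentElem.one, ?_⟩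
      rw [← hv]
      have : (↑v⁻¹ : C j) * (v : C j) = 1 := v.inv_mul
      linear_combination ((v : C j) - 1) * this
    · obtain ⟨v, hv⟩ := h
      refine ⟨0, (↑v⁻¹ : C j), IsIdempotentElem.zero, ?_⟩
      have h1 : (↑v⁻¹ : C j) * (v : C j) = 1 := v.inv_mul
      have h2 : b j = 1 - (v : C j) := by rw [hv]; ring
      rw [h2]
      linear_combination (1 - (v : C j)) * h1
  choose ε u hε hu using key
  refine ⟨ε, ?_, ?_⟩
  · funext j
    exact hε j
  · have : ε - b = u * (b * b - b) := by
      funext j
      exact hu j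
    rw [this]
    exact I.mul_mem_left _ hb


/-- If `I` lies in the Jacobson radical of `B`, `B ⧸ I` is a finite product of local rings and
idempotents lift from `B ⧸ I` to `B`, then `B` is a finite product of local rings. -/
theorem exists_prod_local_of_lift {B : Type u} [CommRing B] (I : Ideal B)
    (hI : I ≤ (⊥ : Ideal B).jacobson)
    {ι : Type u} [Fintype ι] [DecidableEq ι] (L : ι → Type u) [∀ j, CommRing (L j)]
    [∀ j, IsLocalRing (L j)] (φ : (B ⧸ I) ≃+* (∀ j, L j))
    (hlift : Set.SurjOn (Ideal.Quotient.mk I) {e : B | IsIdempotentElem e}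
      {e | IsIdempotentElem e}) :
    ∃ (C : ι → Type u) (_ : ∀ j, CommRing (C j)),
      (∀ j, IsLocalRing (C j)) ∧ Nonempty (B ≃+* (∀ j, C j)) := by
  -- the idempotents downstairs
  have hcoi0 : CompleteOrthogonalIdempotents (fun j : ι => (Pi.single j 1 : ∀ j, L j)) :=
    CompleteOrthogonalIdempotents.single L
  have hcoi1 : CompleteOrthogonalIdempotents
      ((φ.symm : (∀ j, L j) →+* (B ⧸ I)) ∘ (fun j : ι => (Pi.single j 1 : ∀ j, L j))) :=
    hcoi0.map _
  choose e he hē using fun j => hlift (hcoi1.idem j)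
  have he' : ∀ j, IsIdempotentElem (e j) := he
  have hφe : ∀ j, φ (Ideal.Quotient.mk I (e j)) = Pi.single j 1 := by
    intro j
    rw [hē j]
    simp
  have hzero : ∀ x : B, IsIdempotentElem x → Ideal.Quotient.mk I x = 0 → x = 0 := by
    intro x hx h0
    exact idem_eq_zero_of_mem_jacobson hx (hI (Ideal.Quotient.eq_zero_iff_mem.mp h0))
  have hortho : OrthogonalIdempotents e := by
    refine ⟨he', ?_⟩
    intro i j hij
    apply hzero _ ((he' i).mul (he' j))
    rw [map_mul, hē, hē]
    exact hcoi1.ortho hij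
  have hcoi : CompleteOrthogonalIdempotents e := by
    refine ⟨hortho, ?_⟩
    have h1 : IsIdempotentElem (1 - ∑ i, e i) := (hortho.isIdempotentElem_sum).one_sub
    have h2 := hzero _ h1 (by
      rw [map_sub, map_one, map_sum]
      have := hcoi1.complete
      simp only [hē]
      rw [this, sub_self])
    exact (sub_eq_zero.mp h2).symm
  have hbij := hcoi.bijective_pi
  refine ⟨fun j => B ⧸ Ideal.span {1 - e j}, fun j => inferInstance, ?_,
    ⟨RingEquiv.ofBijective _ hbij⟩⟩
  intro j
  -- `e j` becomes `1` in the quotient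
  have hej : Ideal.Quotient.mk (Ideal.span {1 - e j}) (e j) = 1 := by
    have : Ideal.Quotient.mk (Ideal.span {1 - e j}) (1 - e j) = 0 :=
      Ideal.Quotient.eq_zero_iff_mem.mpr (Ideal.subset_span rfl)
    rw [map_sub, map_one, sub_eq_zero] at this
    exact this.symm
  -- nontriviality
  have hnt : Nontrivial (B ⧸ Ideal.span {1 - e j}) := by
    rw [Ideal.Quotient.nontrivial_iff]
    intro htop
    have h1 : (1 : B) ∈ Ideal.span {1 - e j} := by rw [htop]; trivial
    obtain ⟨r, hr⟩ := Ideal.mem_span_singleton'.mp h1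
    have h2 : e j = 0 := by
      have : e j * (1 - e j) = 0 := by rw [mul_sub, mul_one, (he' j).eq, sub_self]
      calc e j = e j * 1 := (mul_one _).symm
        _ = e j * (r * (1 - e j)) := by rw [hr]
        _ = r * (e j * (1 - e j)) := by ring
        _ = 0 := by rw [this, mul_zero]
    have h3 := hφe j
    rw [h2, map_zero, map_zero] at h3
    have h4 := congrFun h3 j
    simp at h4
  -- units lift
  have hunit : ∀ b : B, IsUnit (φ (Ideal.Quotient.mk I b) j) →
      IsUnit (Ideal.Quotient.mk (Ideal.span {1 - e j}) b) := by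
    intro b hb
    obtain ⟨γ, hγ⟩ := hb.exists_right_inv
    obtain ⟨c, hc⟩ := Ideal.Quotient.mk_surjective (φ.symm (Pi.single j γ))
    have hz : (b * c - 1) * e j ∈ I := by
      rw [← Ideal.Quotient.eq_zero_iff_mem]
      apply φ.injective
      rw [map_zero, map_mul (Ideal.Quotient.mk I), map_sub, map_mul (Ideal.Quotient.mk I),
        map_one, hc, map_mul φ, hφe, map_sub, map_mul φ, map_one, φ.apply_symm_apply]
      funext k
      by_cases hk : k = j
      · subst hk
        simp [hγ]
      · simp [Pi.single_eq_of_ne hk]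
    have hzu : IsUnit (1 + (b * c - 1) * e j) := by
      have := (Ideal.mem_jacobson_bot.mp (hI hz)) 1
      rwa [mul_one, add_comm] at this
    have h5 := hzu.map (Ideal.Quotient.mk (Ideal.span {1 - e j}))
    rw [map_add, map_mul, hej, mul_one, map_sub, map_one, add_sub_cancel, map_mul] at h5
    exact isUnit_of_mul_isUnit_left h5
  apply IsLocalRing.of_isUnit_or_isUnit_one_sub_self
  intro x
  obtain ⟨b, rfl⟩ := Ideal.Quotient.mk_surjective x
  rcases IsLocalRing.isUnit_or_isUnit_one_sub_self (φ (Ideal.Quotient.mk I b) j) with h | h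
  · exact Or.inl (hunit b h)
  · right
    have := hunit (1 - b) (by
      rw [map_sub, map_one, map_sub, map_one]
      exact h)
    rwa [map_sub, map_one] at this

end Groth.Agent.H89
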