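import Mathlib

set_option autoImplicit false
universe u v

namespace Groth.Agent.H89

open MaximalSpectrum

/-- Maximal ideals of a finite product of local rings are the preimages of the maximal ideals of
the factors. -/
theorem exists_eq_comap_eval_of_isMaximal {ι : Type v} [Finite ι] (C : ι → Type u)
    [∀ j, CommRing (C j)] [∀ j, IsLocalRing (C j)] (I : Ideal (∀ j, C j)) (hI : I.IsMaximal) :
    ∃ j, I = (IsLocalRing.maximalIdeal (C j)).comap (Pi.evalRingHom C j) := by
  obtain ⟨⟨j, p⟩, hp⟩ := (PrimeSpectrum.sigmaToPi_bijective C).2 ⟨I, hI.isPrime⟩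
  refine ⟨j, ?_⟩
  have h1 : I = p.asIdeal.comap (Pi.evalRingHom C j) := by
    have := congrArg PrimeSpectrum.asIdeal hp
    exact this.symm
  have h2 : I ≤ (IsLocalRing.maximalIdeal (C j)).comap (Pi.evalRingHom C j) := by
    rw [h1]
    exact Ideal.comap_mono (IsLocalRing.le_maximalIdeal p.isPrime.ne_top)
  have h3 : (IsLocalRing.maximalIdeal (C j)).comap (Pi.evalRingHom C j) ≠ ⊤ :=
    (Ideal.comap_isPrime _ _).ne_top
  exact hI.eq_of_le h3 h2

/-- For a finite product of local rings, the map to the product of the localizations at the maximal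
ideals is surjective. -/
theorem toPiLocalization_pi_surjective {ι : Type v} [Finite ι] (C : ι → Type u)
    [∀ j, CommRing (C j)] [∀ j, IsLocalRing (C j)] :
    Function.Surjective (MaximalSpectrum.toPiLocalization (∀ j, C j)) := by
  classical
  intro x
  -- the maximal ideals
  let M : ι → Ideal (∀ j, C j) := fun j =>
    (IsLocalRing.maximalIdeal (C j)).comap (Pi.evalRingHom C j)
  have hM : ∀ j, (M j).IsMaximal := fun j =>
    Ideal.comap_isMaximal_of_surjective _ (Function.surjective_eval j)
  have hbij : ∀ j, Function.Bijective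
      (algebraMap (C j) (Localization.AtPrime (IsLocalRing.maximalIdeal (C j)))) := by
    intro j
    have hle : (IsLocalRing.maximalIdeal (C j)).primeCompl ≤ IsUnit.submonoid (C j) := by
      intro c hc
      exact (IsLocalRing.notMem_maximalIdeal.mp hc)
    exact (IsLocalization.atUnits (C j) (IsLocalRing.maximalIdeal (C j)).primeCompl
      (S := Localization.AtPrime (IsLocalRing.maximalIdeal (C j))) hle).bijective
  choose r hr using fun j => (hbij j).2
    (Localization.AtPrime.mapPiEvalRingHom (IsLocalRing.maximalIdeal (C j)) (x ⟨M j, hM j⟩))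
  refine ⟨r, ?_⟩
  funext I
  obtain ⟨j, hj⟩ := exists_eq_comap_eval_of_isMaximal C I.1 I.2
  have hI : I = ⟨M j, hM j⟩ := MaximalSpectrum.ext hj
  rw [hI]
  apply (Localization.AtPrime.mapPiEvalRingHom_bijective (IsLocalRing.maximalIdeal (C j))).1
  rw [← hr j]
  exact Localization.AtPrime.mapPiEvalRingHom_algebraMap_apply _

end Groth.Agent.H89
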