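import Mathlib

set_option autoImplicit false
universe u

namespace Groth.Agent.H89.InjDimEquiv

open CategoryTheory Abelian

/-- finite injective dimension of a ring over itself is invariant under ring isomorphisms -/
theorem hasInjectiveDimensionLT_of_ringEquiv {A B : Type u} [CommRing A] [CommRing B]
    (e : A ≃+* B) (n : ℕ) (h : HasInjectiveDimensionLT (ModuleCat.of A A) n) :
    HasInjectiveDimensionLT (ModuleCat.of B B) n := by
  let F := ModuleCat.restrictScalars.{u} e.toRingHom
  have h1 : HasInjectiveDimensionLT (F.obj (ModuleCat.of B B)) n :=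
    hasInjectiveDimensionLT_of_iso (ModuleCat.restrictScalarsIsoOfEquiv e).symm n
  let _ := HasExt.standard (ModuleCat.{u} A)
  let _ := HasExt.standard (ModuleCat.{u} B)
  rw [hasInjectiveDimensionLT_iff]
  intro i hi Y x
  have hb := Functor.mapExt_bijective_of_preservesInjectiveObjects F Y (ModuleCat.of B B) i
  apply hb.injective
  rw [map_zero]
  exact Ext.eq_zero_of_hasInjectiveDimensionLT _ n hi

end Groth.Agent.H89.InjDimEquiv
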