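import Mathlib
import Groth.Agent.S0342
import Groth.Agent.H2.GorensteinGlobal
import Groth.Agent.H2.InjDimQuot
import Groth.Agent.H89.InjDimEquiv

set_option autoImplicit false
universe u

namespace Groth.Agent.H89.GorReg

open CategoryTheory

/-- regular rings are Gorenstein -/
theorem isGorensteinRing_of_isRegularRing (A : Type u) [CommRing A] [IsRegularRing A] :
    LocCoh.IsGorensteinRing A where
  isGorensteinLocalRing_localization p _ := Groth.Agent.S0342.result (Localization.AtPrime p)

/-- quotient of a ring of finite injective dimension by a regular pair -/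
theorem hasInjectiveDimensionLT_of_regular_pair {S B : Type u} [CommRing S] [CommRing B] (n : ℕ)
    (hS : HasInjectiveDimensionLT (ModuleCat.of S S) (n + 2)) (a h : S) (ha : IsSMulRegular S a)
    (hh : ∀ y, h * y ∈ Ideal.span ({a} : Set S) → y ∈ Ideal.span ({a} : Set S))
    (g : S →+* B) (hg : Function.Surjective g)
    (hker : RingHom.ker g = Ideal.span {a, h}) :
    HasInjectiveDimensionLT (ModuleCat.of B B) n := by
  have h1 := Groth.Agent.H2.InjDimQuot.hasInjectiveDimensionLT_quotient a ha (n + 1) hS
  have hreg : IsSMulRegular (S ⧸ Ideal.span ({a} : Set S))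
      (Ideal.Quotient.mk (Ideal.span ({a} : Set S)) h) := by
    rw [isSMulRegular_iff_right_eq_zero_of_smul]
    intro y hy
    obtain ⟨y, rfl⟩ := Ideal.Quotient.mk_surjective y
    rw [smul_eq_mul, ← map_mul, Ideal.Quotient.eq_zero_iff_mem] at hy
    exact Ideal.Quotient.eq_zero_iff_mem.mpr (hh y hy)
  have h2 := Groth.Agent.H2.InjDimQuot.hasInjectiveDimensionLT_quotient
    (Ideal.Quotient.mk (Ideal.span ({a} : Set S)) h) hreg n h1
  have hag : a ∈ RingHom.ker g := by rw [hker]; exact Ideal.subset_span (by simp)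
  have hhg : h ∈ RingHom.ker g := by rw [hker]; exact Ideal.subset_span (by simp)
  let ψ1 : S ⧸ Ideal.span ({a} : Set S) →+* B := Ideal.Quotient.lift _ g (by
    intro x hx
    obtain ⟨c, rfl⟩ := Ideal.mem_span_singleton'.mp hx
    rw [map_mul, RingHom.mem_ker.mp hag, mul_zero])
  let ψ2 : (S ⧸ Ideal.span ({a} : Set S)) ⧸
      Ideal.span ({Ideal.Quotient.mk (Ideal.span ({a} : Set S)) h} :
        Set (S ⧸ Ideal.span ({a} : Set S))) →+* B :=
    Ideal.Quotient.lift _ ψ1 (by
      intro x hx
      obtain ⟨c, rfl⟩ := Ideal.mem_span_singleton'.mp hx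
      rw [map_mul]
      have : ψ1 (Ideal.Quotient.mk (Ideal.span ({a} : Set S)) h) = 0 := by
        show g h = 0
        exact RingHom.mem_ker.mp hhg
      rw [this, mul_zero])
  have hbij : Function.Bijective ψ2 := by
    constructor
    · rw [injective_iff_map_eq_zero]
      intro x hx
      obtain ⟨x, rfl⟩ := Ideal.Quotient.mk_surjective x
      obtain ⟨x, rfl⟩ := Ideal.Quotient.mk_surjective x
      have hx' : g x = 0 := hx
      have hmem : x ∈ Ideal.span {a, h} := by rw [← hker]; exact hx'
      obtain ⟨r, s, rfl⟩ := Ideal.mem_span_pair.mp hmem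
      rw [Ideal.Quotient.eq_zero_iff_mem, map_add, map_mul, map_mul]
      have h0 : Ideal.Quotient.mk (Ideal.span ({a} : Set S)) a = 0 :=
        Ideal.Quotient.eq_zero_iff_mem.mpr (Ideal.subset_span (Set.mem_singleton _))
      rw [h0, mul_zero, zero_add]
      exact Ideal.mul_mem_left _ _ (Ideal.subset_span (Set.mem_singleton _))
    · intro b
      obtain ⟨x, rfl⟩ := hg b
      exact ⟨Ideal.Quotient.mk _ (Ideal.Quotient.mk _ x), rfl⟩
  exact InjDimEquiv.hasInjectiveDimensionLT_of_ringEquiv (RingEquiv.ofBijective ψ2 hbij) n h2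

end Groth.Agent.H89.GorReg
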