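import Mathlib
import Groth.Prelude.Def_DRing4

/-!
# Contravariant functoriality of `DRing.homCx` in the first variable (helper89)

`homCxPre f K : Hom•(P', K) ⟶ Hom•(P, K)`, functoriality, preservation of homotopies
(`homCxPreHomotopy`), and degreewise splittings of `Hom•(S, K)` for a degreewise split short complex `S`
(`homShortComplex`, `homShortComplexSplitting`).
-/

set_option autoImplicit false
universe u
open CategoryTheory CategoryTheory.Limits MonoidalCategory CochainComplex CochainComplex.HomComplex HomologicalComplex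

namespace Groth.Agent.H89.HomCxPre

variable {A : Type u} [CommRing A]

/-- precomposition with a cochain as a linear map on cochains -/
noncomputable def precompLin {P P' : DRing.Cx A} {d : ℤ} (c : Cochain P P' d) (K : DRing.Cx A) (i j : ℤ)
    (h : d + i = j) : Cochain P' K i →ₗ[A] Cochain P K j where
  toFun z := c.comp z h
  map_add' z z' := by simp
  map_smul' a z := by simp

/-- the degreewise map `Hom^i(P', K) ⟶ Hom^j(P, K)` given by precomposition with a cochain -/
noncomputable def preDeg {P P' : DRing.Cx A} {d : ℤ} (c : Cochain P P' d) (K : DRing.Cx A) (i j : ℤ)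
    (h : d + i = j) : (DRing.homCx P' K).X i ⟶ (DRing.homCx P K).X j :=
  ModuleCat.ofHom (precompLin c K i j h)

lemma preDeg_apply {P P' : DRing.Cx A} {d : ℤ} (c : Cochain P P' d) (K : DRing.Cx A) (i j : ℤ)
    (h : d + i = j) (z : Cochain P' K i) :
    (preDeg c K i j h).hom z = c.comp z h := rfl

/-- contravariant functoriality of the Hom complex in the first variable -/
noncomputable def homCxPre {P P' : DRing.Cx A} (f : P ⟶ P') (K : DRing.Cx A) :
    DRing.homCx P' K ⟶ DRing.homCx P K where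
  f i := preDeg (Cochain.ofHom f) K i i (zero_add i)
  comm' i j _ := by
    apply ModuleCat.hom_ext
    apply LinearMap.ext
    intro z
    change δ i j ((Cochain.ofHom f).comp z (zero_add i)) = (Cochain.ofHom f).comp (δ i j z) (zero_add j)
    exact δ_ofHom_comp f z j

lemma homCxPre_id (P K : DRing.Cx A) : homCxPre (𝟙 P) K = 𝟙 _ := by
  refine HomologicalComplex.hom_ext _ _ fun i => ModuleCat.hom_ext (LinearMap.ext fun (z : Cochain P K i) => ?_)
  change (Cochain.ofHom (𝟙 P)).comp z (zero_add i) = z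
  exact Cochain.id_comp z

lemma homCxPre_comp {P P' P'' : DRing.Cx A} (f : P ⟶ P') (g : P' ⟶ P'') (K : DRing.Cx A) :
    homCxPre (f ≫ g) K = homCxPre g K ≫ homCxPre f K := by
  refine HomologicalComplex.hom_ext _ _ fun i => ModuleCat.hom_ext (LinearMap.ext fun (z : Cochain P'' K i) => ?_)
  change (Cochain.ofHom (f ≫ g)).comp z (zero_add i) =
    (Cochain.ofHom f).comp ((Cochain.ofHom g).comp z (zero_add i)) (zero_add i)
  rw [Cochain.ofHom_comp]
  exact Cochain.comp_assoc_of_first_is_zero_cochain _ _ _ _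

lemma units_smul_hom_apply {X Y : ModuleCat.{u} A} (e : ℤˣ) (f : X ⟶ Y) (x : X) :
    (e • f).hom x = e • f.hom x := by
  rcases Int.units_eq_one_or e with rfl | rfl <;> simp

/-- the identity, from the degree `r` term of the Hom complex to cochains -/
noncomputable def toC (L M : DRing.Cx A) (r : ℤ) :
    ((DRing.homCx L M).X r : Type u) →ₗ[A] Cochain L M r :=
  LinearMap.id (M := Cochain L M r)

/-- the cochain of degree `-1` on Hom complexes attached to a homotopy -/
noncomputable def homotopyCochain {P P' : DRing.Cx A} {f g : P ⟶ P'} (h : Homotopy f g)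
    (K : DRing.Cx A) : Cochain (DRing.homCx P' K) (DRing.homCx P K) (-1) :=
  Cochain.mk (fun i j hij => i.negOnePow • preDeg (Cochain.ofHomotopy h) K i j (by omega))

lemma homotopyCochain_spec {P P' : DRing.Cx A} {f g : P ⟶ P'} (h : Homotopy f g)
    (K : DRing.Cx A) :
    Cochain.ofHom (homCxPre f K) =
      δ (-1) 0 (homotopyCochain h K) + Cochain.ofHom (homCxPre g K) := by
  refine Cochain.ext _ _ (fun i i' hi => ?_)
  obtain rfl : i = i' := by omega
  rw [Cochain.add_v, Cochain.ofHom_v, Cochain.ofHom_v,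
    δ_v (-1) 0 (neg_add_cancel 1) _ i i (add_zero i) (i - 1) (i + 1) rfl rfl]
  apply ModuleCat.hom_ext
  apply LinearMap.ext
  intro z
  rw [ModuleCat.hom_add, ModuleCat.hom_add, LinearMap.add_apply, LinearMap.add_apply,
    units_smul_hom_apply, ModuleCat.hom_comp, ModuleCat.hom_comp, LinearMap.comp_apply,
    LinearMap.comp_apply, homotopyCochain, Cochain.mk_v, Cochain.mk_v, units_smul_hom_apply,
    units_smul_hom_apply]
  change (Cochain.ofHom f).comp (toC P' K i z) (zero_add i) =
    δ (i - 1) i (i.negOnePow • (Cochain.ofHomotopy h).comp (toC P' K i z)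
        (show -1 + i = i - 1 by omega)) +
      Int.negOnePow 0 • (i + 1).negOnePow •
        (Cochain.ofHomotopy h).comp (δ i (i + 1) (toC P' K i z))
          (show -1 + (i + 1) = i by omega) +
      (Cochain.ofHom g).comp (toC P' K i z) (zero_add i)
  generalize toC P' K i z = w
  rw [δ_units_smul, δ_comp (Cochain.ofHomotopy h) w (show -1 + i = i - 1 by omega) 0 (i + 1) i
    (by omega) (by omega) rfl, δ_ofHomotopy, Int.negOnePow_zero, one_smul, smul_add, smul_smul,
    Int.units_mul_self, one_smul, Int.negOnePow_succ, Cochain.sub_comp, Units.neg_smul]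
  abel

/-- `Hom•(-, K)` preserves homotopies. -/
noncomputable def homCxPreHomotopy {P P' : DRing.Cx A} {f g : P ⟶ P'} (h : Homotopy f g)
    (K : DRing.Cx A) : Homotopy (homCxPre f K) (homCxPre g K) :=
  (Cochain.equivHomotopy _ _).symm ⟨homotopyCochain h K, homotopyCochain_spec h K⟩

lemma preDeg_ofHoms_id (P K : DRing.Cx A) (i : ℤ) :
    preDeg (Cochain.ofHoms (fun p => 𝟙 (P.X p))) K i i (zero_add i) = 𝟙 _ := by
  apply ModuleCat.hom_ext
  apply LinearMap.ext
  intro z
  change (Cochain.ofHoms (fun p => 𝟙 (P.X p))).comp (toC P K i z) (zero_add i) = toC P K i z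
  generalize toC P K i z = w
  ext p q hpq
  simp

lemma preDeg_ofHoms_comp {P P' P'' : DRing.Cx A} (a : ∀ p, P.X p ⟶ P'.X p)
    (b : ∀ p, P'.X p ⟶ P''.X p) (K : DRing.Cx A) (i : ℤ) :
    preDeg (Cochain.ofHoms (fun p => a p ≫ b p)) K i i (zero_add i) =
      preDeg (Cochain.ofHoms b) K i i (zero_add i) ≫
        preDeg (Cochain.ofHoms a) K i i (zero_add i) := by
  apply ModuleCat.hom_ext
  apply LinearMap.ext
  intro z
  change (Cochain.ofHoms (fun p => a p ≫ b p)).comp (toC P'' K i z) (zero_add i) =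
    (Cochain.ofHoms a).comp ((Cochain.ofHoms b).comp (toC P'' K i z) (zero_add i)) (zero_add i)
  generalize toC P'' K i z = w
  ext p q hpq
  simp

lemma preDeg_ofHoms_add {P P' : DRing.Cx A} (a b : ∀ p, P.X p ⟶ P'.X p) (K : DRing.Cx A) (i : ℤ) :
    preDeg (Cochain.ofHoms (fun p => a p + b p)) K i i (zero_add i) =
      preDeg (Cochain.ofHoms a) K i i (zero_add i) +
        preDeg (Cochain.ofHoms b) K i i (zero_add i) := by
  apply ModuleCat.hom_ext
  apply LinearMap.ext
  intro z
  change (Cochain.ofHoms (fun p => a p + b p)).comp (toC P' K i z) (zero_add i) =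
    (Cochain.ofHoms a).comp (toC P' K i z) (zero_add i) +
      (Cochain.ofHoms b).comp (toC P' K i z) (zero_add i)
  generalize toC P' K i z = w
  ext p q hpq
  simp

lemma homCxPre_f {P P' : DRing.Cx A} (f : P ⟶ P') (K : DRing.Cx A) (i : ℤ) :
    (homCxPre f K).f i = preDeg (Cochain.ofHoms (fun p => f.f p)) K i i (zero_add i) := rfl

lemma homCxPre_zero (P P' K : DRing.Cx A) : homCxPre (0 : P ⟶ P') K = 0 := by
  refine HomologicalComplex.hom_ext _ _ fun i => ModuleCat.hom_ext (LinearMap.ext fun (z : Cochain P' K i) => ?_)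
  change (Cochain.ofHom (0 : P ⟶ P')).comp z (zero_add i) = 0
  rw [Cochain.ofHom_zero, Cochain.zero_comp]

/-- The short complex `Hom•(X₃,K) ⟶ Hom•(X₂,K) ⟶ Hom•(X₁,K)`. -/
noncomputable def homShortComplex (S : ShortComplex (DRing.Cx A)) (K : DRing.Cx A) :
    ShortComplex (DRing.Cx A) :=
  ShortComplex.mk (homCxPre S.g K) (homCxPre S.f K) (by
    rw [← homCxPre_comp, S.zero, homCxPre_zero])

section Split

variable {X₁ X₂ X₃ : DRing.Cx A} (f : X₁ ⟶ X₂) (g : X₂ ⟶ X₃)
  (r : ∀ p, X₂.X p ⟶ X₁.X p) (s : ∀ p, X₃.X p ⟶ X₂.X p)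

lemma split_f_r (hsg : ∀ p, s p ≫ g.f p = 𝟙 _) (K : DRing.Cx A) (n : ℤ) :
    (homCxPre g K).f n ≫ preDeg (Cochain.ofHoms s) K n n (zero_add n) = 𝟙 _ := by
  rw [homCxPre_f, ← preDeg_ofHoms_comp]
  have : (fun p => s p ≫ g.f p) = fun p => 𝟙 (X₃.X p) := funext hsg
  rw [this]
  exact preDeg_ofHoms_id _ _ _

lemma split_s_g (hfr : ∀ p, f.f p ≫ r p = 𝟙 _) (K : DRing.Cx A) (n : ℤ) :
    preDeg (Cochain.ofHoms r) K n n (zero_add n) ≫ (homCxPre f K).f n = 𝟙 _ := by
  rw [homCxPre_f, ← preDeg_ofHoms_comp]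
  have : (fun p => f.f p ≫ r p) = fun p => 𝟙 (X₁.X p) := funext hfr
  rw [this]
  exact preDeg_ofHoms_id _ _ _

lemma split_id (hid : ∀ p, r p ≫ f.f p + g.f p ≫ s p = 𝟙 _) (K : DRing.Cx A) (n : ℤ) :
    preDeg (Cochain.ofHoms s) K n n (zero_add n) ≫ (homCxPre g K).f n +
      (homCxPre f K).f n ≫ preDeg (Cochain.ofHoms r) K n n (zero_add n) = 𝟙 _ := by
  rw [homCxPre_f, homCxPre_f, ← preDeg_ofHoms_comp, ← preDeg_ofHoms_comp, ← preDeg_ofHoms_add]
  have : (fun p => g.f p ≫ s p + r p ≫ f.f p) = fun p => 𝟙 (X₂.X p) := by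
    funext p
    rw [add_comm]
    exact hid p
  rw [this]
  exact preDeg_ofHoms_id _ _ _

end Split

/-- A degreewise splitting induces a degreewise splitting on Hom complexes. -/
noncomputable def homShortComplexSplitting (S : ShortComplex (DRing.Cx A))
    (σ : ∀ n, (S.map (HomologicalComplex.eval _ _ n)).Splitting) (K : DRing.Cx A) (n : ℤ) :
    ((homShortComplex S K).map (HomologicalComplex.eval _ _ n)).Splitting where
  r := preDeg (Cochain.ofHoms (fun p => ((σ p).s : S.X₃.X p ⟶ S.X₂.X p))) K n n (zero_add n)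
  s := preDeg (Cochain.ofHoms (fun p => ((σ p).r : S.X₂.X p ⟶ S.X₁.X p))) K n n (zero_add n)
  f_r := split_f_r S.g (fun p => ((σ p).s : S.X₃.X p ⟶ S.X₂.X p)) (fun p => (σ p).s_g) K n
  s_g := split_s_g S.f (fun p => ((σ p).r : S.X₂.X p ⟶ S.X₁.X p)) (fun p => (σ p).f_r) K n
  id := split_id S.f S.g (fun p => ((σ p).r : S.X₂.X p ⟶ S.X₁.X p))
    (fun p => ((σ p).s : S.X₃.X p ⟶ S.X₂.X p)) (fun p => (σ p).id) K n

end Groth.Agent.H89.HomCxPre
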