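import Mathlib
import Groth.Agent.H89.HomCxPre
import Groth.Agent.H35.KFBounded
import Groth.Agent.H35.PerfCx
import Groth.Agent.H35.DerHom

/-!
# K-flatness of `Hom•(P, K)` for `P` perfect and `K` K-flat (helper89)

`HomKFlat K E` : `Hom•(E, K)` is K-flat.  It is invariant under homotopy retracts in `E`
(`homKFlat_of_homotopy_retract`), closed under degreewise split extensions (`homKFlat_of_splitting`), holds for
the unit module in one degree (`isKFlat_homCx_sgl_unit`, via `Hom•(A[-m], K) ≅ K⟦m⟧`), hence for finite free and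
finite projective modules in one degree, hence (stupid filtration) for strictly perfect complexes, hence
(`isKFlat_homCx_of_perfect`) for bounded above complexes of projectives that are perfect in `D(A)`.
-/

set_option autoImplicit false
universe u
open CategoryTheory CategoryTheory.Limits MonoidalCategory CochainComplex CochainComplex.HomComplex HomologicalComplex

namespace Groth.Agent.H89.HomCxKFlat

open Groth.Agent.H35.KF Groth.Agent.H89.HomCxPre

variable {A : Type u} [CommRing A] (K : DRing.Cx A)

/-- `Hom•(E, K)` is K-flat. -/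
def HomKFlat (E : DRing.Cx A) : Prop := IsKFlat (DRing.homCx E K)

/-- `L ⊗ -` preserves homotopies. -/
noncomputable def whiskerLeftHomotopy (L : DRing.Cx A) {X Y : DRing.Cx A} {f g : X ⟶ Y}
    (h : Homotopy f g) : Homotopy (L ◁ f) (L ◁ g) :=
  mapBifunctorMapHomotopy₂ (𝟙 L) h (curriedTensor (ModuleCat.{u} A)) (ComplexShape.up ℤ)

theorem homKFlat_of_homotopy_retract {P E : DRing.Cx A} (i : P ⟶ E) (r : E ⟶ P)
    (h : Homotopy (i ≫ r) (𝟙 P)) (hE : HomKFlat K E) : HomKFlat K P := by
  intro L hL n
  have h1 : Homotopy (homCxPre r K ≫ homCxPre i K) (𝟙 _) :=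
    (Homotopy.ofEq (homCxPre_comp i r K).symm).trans
      ((homCxPreHomotopy h K).trans (Homotopy.ofEq (homCxPre_id P K)))
  have h2 : Homotopy (L ◁ homCxPre r K ≫ L ◁ homCxPre i K) (𝟙 _) :=
    (Homotopy.ofEq (by rw [← MonoidalCategory.whiskerLeft_comp])).trans
      ((whiskerLeftHomotopy L h1).trans (Homotopy.ofEq (by simp)))
  have h3 := h2.homologyMap_eq n
  rw [homologyMap_comp, homologyMap_id] at h3
  rw [IsZero.iff_id_eq_zero, ← h3]
  have hz : IsZero ((L ⊗ DRing.homCx E K).homology n) := hE L hL n
  rw [hz.eq_of_tgt (homologyMap (L ◁ homCxPre r K) n) 0, zero_comp]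

theorem homKFlat_of_iso {P E : DRing.Cx A} (e : P ≅ E) (hE : HomKFlat K E) : HomKFlat K P :=
  homKFlat_of_homotopy_retract K e.hom e.inv (Homotopy.ofEq e.hom_inv_id) hE

theorem homKFlat_of_splitting (S : ShortComplex (DRing.Cx A))
    (σ : ∀ n, (S.map (HomologicalComplex.eval _ _ n)).Splitting)
    (h₁ : HomKFlat K S.X₁) (h₃ : HomKFlat K S.X₃) : HomKFlat K S.X₂ := by
  have h := isKFlat_two_of_three (homShortComplex S K)
    (fun F => shortExact_map_tensorLeft_of_splitting _ (homShortComplexSplitting S σ K) F)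
  exact h.2.1 h₃ h₁

theorem homKFlat_of_isZero {E : DRing.Cx A} (hE : IsZero E) : HomKFlat K E := by
  have h0 : IsZero (DRing.homCx E K) := by
    rw [IsZero.iff_id_eq_zero, ← homCxPre_id, hE.eq_of_src (𝟙 E) 0, homCxPre_zero]
  intro L hL n
  have h1 : IsZero (L ⊗ DRing.homCx E K) := (tensorLeft L).map_isZero h0
  exact (HomologicalComplex.homologyFunctor _ _ n).map_isZero h1


section Unit
variable (m : ℤ)

/-- a module placed in degree `m` -/
noncomputable abbrev sgl (m : ℤ) (Q : ModuleCat.{u} A) : DRing.Cx A :=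
  (HomologicalComplex.single (ModuleCat.{u} A) (ComplexShape.up ℤ) m).obj Q

/-- the generator of the unit module placed in degree `m` -/
noncomputable def gen : ((sgl m (ModuleCat.of A A)).X m : Type u) :=
  (singleObjXSelf (ComplexShape.up ℤ) m (ModuleCat.of A A)).inv.hom (1 : A)

/-- evaluation at the generator -/
noncomputable def evGen (n : ℤ) : Cochain (sgl m (ModuleCat.of A A)) K n →ₗ[A] K.X (n + m) where
  toFun z := (z.v m (n + m) (by omega)).hom (gen m)
  map_add' z z' := by simp
  map_smul' a z := by simp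

lemma evGen_injective (n : ℤ) : Function.Injective (evGen K m n) := by
  rw [← LinearMap.ker_eq_bot, LinearMap.ker_eq_bot']
  intro z hz
  refine Cochain.ext _ _ (fun p q hpq => ?_)
  by_cases hp : p = m
  · subst hp
    obtain rfl : q = n + p := by omega
    rw [Cochain.zero_v, ← cancel_epi (singleObjXSelf (ComplexShape.up ℤ) p (ModuleCat.of A A)).inv,
      comp_zero]
    apply ModuleCat.hom_ext
    apply LinearMap.ext_ring
    exact hz
  · exact (isZero_single_obj_X (ComplexShape.up ℤ) m (ModuleCat.of A A) p hp).eq_of_src _ _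

lemma evGen_surjective (n : ℤ) : Function.Surjective (evGen K m n) := by
  intro x
  let g : (sgl m (ModuleCat.of A A)).X m ⟶ K.X (n + m) :=
    (singleObjXSelf (ComplexShape.up ℤ) m (ModuleCat.of A A)).hom ≫
      ModuleCat.ofHom (LinearMap.toSpanSingleton A (K.X (n + m)) x)
  refine ⟨Cochain.single g n, ?_⟩
  change ((Cochain.single g n).v m (n + m) (by omega)).hom (gen m) = x
  rw [Cochain.single_v]
  simp [g, gen]

lemma evGen_δ (n n' : ℤ) (h : n + 1 = n') (z : Cochain (sgl m (ModuleCat.of A A)) K n) :
    evGen K m n' (δ n n' z) = (K.d (n + m) (n' + m)).hom (evGen K m n z) := by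
  change ((δ n n' z).v m (n' + m) (by omega)).hom (gen m) = _
  rw [δ_v n n' h z m (n' + m) (by omega) (n + m) (m + 1) (by omega) rfl]
  simp
  rfl

/-- the comparison map `Hom•(A[-m], K) ⟶ K⟦m⟧` -/
noncomputable def toShift : DRing.homCx (sgl m (ModuleCat.of A A)) K ⟶ K⟦m⟧ where
  f n := ModuleCat.ofHom ((m * n).negOnePow • evGen K m n)
  comm' n n' h := by
    have h' : n + 1 = n' := h
    apply ModuleCat.hom_ext
    apply LinearMap.ext
    intro z
    change (m.negOnePow • K.d (n + m) (n' + m)).hom
        ((m * n).negOnePow • evGen K m n (toC _ K n z)) =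
      (m * n').negOnePow • evGen K m n' (δ n n' (toC _ K n z))
    generalize toC _ K n z = w
    rw [evGen_δ K m n n' h' w, units_smul_hom_apply, map_zsmul_unit, smul_smul]
    congr 1
    subst h'
    rw [mul_add, mul_one, Int.negOnePow_add, mul_comm]

lemma bijective_units_smul {M N : Type u} [AddCommGroup M] [Module A M] [AddCommGroup N]
    [Module A N] (e : ℤˣ) (f : M →ₗ[A] N) (hf : Function.Bijective f) :
    Function.Bijective (e • f) := by
  rcases Int.units_eq_one_or e with rfl | rfl
  · simpa using hf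
  · have : ((-1 : ℤˣ) • f : M →ₗ[A] N) = -f := by simp
    rw [this]
    refine ⟨fun x y h => hf.1 (neg_injective h), fun y => ?_⟩
    obtain ⟨x, hx⟩ := hf.2 (-y)
    exact ⟨x, by simp [hx]⟩

instance isIso_toShift : IsIso (toShift K m) := by
  have : ∀ n, IsIso ((toShift K m).f n) := by
    intro n
    rw [ConcreteCategory.isIso_iff_bijective]
    exact bijective_units_smul _ _ ⟨evGen_injective K m n, evGen_surjective K m n⟩
  exact HomologicalComplex.Hom.isIso_of_components _

theorem isKFlat_homCx_sgl_unit (hK : IsKFlat K) :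
    IsKFlat (DRing.homCx (sgl m (ModuleCat.of A A)) K) :=
  isKFlat_of_iso (asIso (toShift K m)).symm ((isKFlat_shift_iff K m).2 hK)

end Unit

section Free

variable (m : ℤ)

/-- inclusion of the first coordinate -/
noncomputable def inc0 (r : ℕ) : A →ₗ[A] (Fin (r + 1) → A) where
  toFun a := Fin.cons a 0
  map_add' a a' := by
    funext i
    refine Fin.cases ?_ (fun j => ?_) i <;> simp
  map_smul' a y := by
    funext i
    refine Fin.cases ?_ (fun j => ?_) i <;> simp

/-- extension by zero in the first coordinate -/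
noncomputable def consZero (r : ℕ) : (Fin r → A) →ₗ[A] (Fin (r + 1) → A) where
  toFun y := Fin.cons 0 y
  map_add' y y' := by
    funext i
    refine Fin.cases ?_ (fun j => ?_) i <;> simp
  map_smul' a y := by
    funext i
    refine Fin.cases ?_ (fun j => ?_) i <;> simp

/-- forgetting the first coordinate -/
noncomputable def tailL (r : ℕ) : (Fin (r + 1) → A) →ₗ[A] (Fin r → A) where
  toFun x := fun i => x i.succ
  map_add' _ _ := rfl
  map_smul' _ _ := rfl

/-- the first coordinate -/
noncomputable def headL (r : ℕ) : (Fin (r + 1) → A) →ₗ[A] A where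
  toFun x := x 0
  map_add' _ _ := rfl
  map_smul' _ _ := rfl

lemma tailL_inc0 (r : ℕ) : (tailL r) ∘ₗ (inc0 (A := A) r) = 0 := by
  apply LinearMap.ext
  intro a
  funext i
  simp [tailL, inc0]

lemma headL_inc0 (r : ℕ) : (headL r) ∘ₗ (inc0 (A := A) r) = LinearMap.id := by
  apply LinearMap.ext
  intro a
  simp [headL, inc0]

lemma tailL_consZero (r : ℕ) : (tailL r) ∘ₗ (consZero (A := A) r) = LinearMap.id := by
  apply LinearMap.ext
  intro a
  funext i
  simp [tailL, consZero]

lemma inc0_headL_add (r : ℕ) :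
    (inc0 (A := A) r) ∘ₗ (headL r) + (consZero r) ∘ₗ (tailL r) = LinearMap.id := by
  apply LinearMap.ext
  intro x
  funext i
  refine Fin.cases ?_ (fun j => ?_) i <;> simp [tailL, consZero, inc0, headL]

/-- the split short complex `A ⟶ A^(r+1) ⟶ A^r` of modules -/
noncomputable def finSC (r : ℕ) : ShortComplex (ModuleCat.{u} A) :=
  ShortComplex.mk
    (X₁ := ModuleCat.of A A) (X₂ := ModuleCat.of A (Fin (r + 1) → A))
    (X₃ := ModuleCat.of A (Fin r → A))
    (ModuleCat.ofHom (inc0 r)) (ModuleCat.ofHom (tailL r)) (by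
      rw [← ModuleCat.ofHom_comp, tailL_inc0]
      rfl)

/-- the splitting of `finSC` -/
noncomputable def finSCSplitting (r : ℕ) : (finSC (A := A) r).Splitting where
  r := ModuleCat.ofHom (headL (A := A) r)
  s := ModuleCat.ofHom (consZero (A := A) r)
  f_r := by
    change ModuleCat.ofHom (inc0 (A := A) r) ≫ ModuleCat.ofHom (headL (A := A) r) = 𝟙 _
    rw [← ModuleCat.ofHom_comp, headL_inc0]
    rfl
  s_g := by
    change ModuleCat.ofHom (consZero (A := A) r) ≫ ModuleCat.ofHom (tailL (A := A) r) = 𝟙 _
    rw [← ModuleCat.ofHom_comp, tailL_consZero]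
    rfl
  id := by
    change ModuleCat.ofHom (headL (A := A) r) ≫ ModuleCat.ofHom (inc0 (A := A) r) +
      ModuleCat.ofHom (tailL (A := A) r) ≫ ModuleCat.ofHom (consZero (A := A) r) = 𝟙 _
    rw [← ModuleCat.ofHom_comp, ← ModuleCat.ofHom_comp, ← ModuleCat.ofHom_add, inc0_headL_add]
    rfl

theorem homKFlat_sgl_free (hK : IsKFlat K) (r : ℕ) :
    HomKFlat K (sgl m (ModuleCat.of A (Fin r → A))) := by
  induction r with
  | zero =>
    apply homKFlat_of_isZero
    apply (HomologicalComplex.single (ModuleCat.{u} A) (ComplexShape.up ℤ) m).map_isZero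
    exact ModuleCat.isZero_of_subsingleton _
  | succ r ih =>
    let S := (finSC (A := A) r).map
      (HomologicalComplex.single (ModuleCat.{u} A) (ComplexShape.up ℤ) m)
    exact homKFlat_of_splitting K S (fun q => ((finSCSplitting r).map _).map _)
      (isKFlat_homCx_sgl_unit K m hK) ih

theorem homKFlat_sgl_of_finite_projective (hK : IsKFlat K) (Q : ModuleCat.{u} A)
    [Module.Finite A Q] [Module.Projective A Q] : HomKFlat K (sgl m Q) := by
  obtain ⟨r, f, hf⟩ := Module.Finite.exists_fin' A Q
  obtain ⟨g, hg⟩ := Module.projective_lifting_property f LinearMap.id hf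
  let F := HomologicalComplex.single (ModuleCat.{u} A) (ComplexShape.up ℤ) m
  refine homKFlat_of_homotopy_retract K (F.map (ModuleCat.ofHom g)) (F.map (ModuleCat.ofHom f))
    (Homotopy.ofEq ?_) (homKFlat_sgl_free K m hK r)
  rw [← F.map_comp, ← ModuleCat.ofHom_comp, hg]
  exact F.map_id _

end Free

section Perfect

theorem homKFlat_of_concentrated (hK : IsKFlat K) (C : DRing.Cx A) (m : ℤ)
    (hC : ∀ q, q ≠ m → IsZero (C.X q)) (hfin : Module.Finite A (C.X m))
    (hproj : Module.Projective A (C.X m)) : HomKFlat K C := by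
  have : C.IsStrictlyGE m := by
    rw [CochainComplex.isStrictlyGE_iff]
    exact fun i hi => hC i (by omega)
  have : C.IsStrictlyLE m := by
    rw [CochainComplex.isStrictlyLE_iff]
    exact fun i hi => hC i (by omega)
  obtain ⟨M, ⟨e⟩⟩ := C.exists_iso_single m
  have eM : C.X m ≅ M := (HomologicalComplex.eval _ _ m).mapIso e ≪≫
    singleObjXSelf (ComplexShape.up ℤ) m M
  have : Module.Finite A M := Groth.Agent.H35.finite_of_iso eM hfin
  have : Module.Projective A M := Groth.Agent.H35.projective_of_iso eM hproj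
  exact homKFlat_of_iso K e (homKFlat_sgl_of_finite_projective K m hK M)

open Groth.Agent.H45 in
theorem homKFlat_sigmaGE (hK : IsKFlat K) (E : DRing.Cx A) (b : ℤ) [E.IsStrictlyLE b]
    (hfp : ∀ i, Module.Finite A (E.X i) ∧ Module.Projective A (E.X i)) (n : ℕ) :
    HomKFlat K (sigmaGE E (b - n)) := by
  induction n with
  | zero =>
    have e0 : b - ((0 : ℕ) : ℤ) = b := by simp
    rw [e0]
    have hiso := isIso_ιSigmaGE_f E b b le_rfl
    have e : (sigmaGE E b).X b ≅ E.X b := @asIso _ _ _ _ _ hiso
    refine homKFlat_of_concentrated K hK _ b (fun q hq => ?_)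
      (Groth.Agent.H35.finite_of_iso e.symm (hfp b).1)
      (Groth.Agent.H35.projective_of_iso e.symm (hfp b).2)
    by_cases h : q < b
    · exact isZero_sigmaGE_X E b q h
    · have hiso' := isIso_ιSigmaGE_f E b q (by lia)
      exact (E.isZero_of_isStrictlyLE b q (by lia)).of_iso (@asIso _ _ _ _ _ hiso')
  | succ n ih =>
    have e0 : b - ((n + 1 : ℕ) : ℤ) = (b - n) - 1 := by push_cast; ring
    rw [e0]
    let S := sigmaGEShortComplex E (b - n)
    have hS : S.ShortExact := sigmaGEShortComplex_shortExact E (b - n)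
    have e3 : S.X₃.X ((b - n) - 1) ≅ E.X ((b - n) - 1) := sigmaGEShortComplexX₃XIso E (b - n)
    have hX₃ : HomKFlat K S.X₃ :=
      homKFlat_of_concentrated K hK _ ((b - n) - 1)
        (fun q hq => isZero_sigmaGEShortComplex_X₃_X E (b - n) q hq)
        (Groth.Agent.H35.finite_of_iso e3.symm (hfp _).1)
        (Groth.Agent.H35.projective_of_iso e3.symm (hfp _).2)
    have hproj : ∀ q, Projective (S.X₃.X q) := by
      intro q
      by_cases hq : q = (b - n) - 1
      · subst hq
        have : Module.Projective A (S.X₃.X ((b - n) - 1)) :=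
          Groth.Agent.H35.projective_of_iso e3.symm (hfp _).2
        exact (IsProjective.iff_projective (R := A) (P := S.X₃.X ((b - n) - 1))).mp this
      · exact (isZero_sigmaGEShortComplex_X₃_X E (b - n) q hq).projective
    have σ : ∀ q, (S.map (HomologicalComplex.eval _ _ q)).Splitting := fun q => by
      haveI : Projective (S.map (HomologicalComplex.eval _ _ q)).X₃ := hproj q
      exact (hS.map_of_exact (HomologicalComplex.eval _ _ q)).splittingOfProjective
    exact homKFlat_of_splitting K S σ ih hX₃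

open Groth.Agent.H45 in
theorem homKFlat_of_strictlyPerfect (hK : IsKFlat K) (E : DRing.Cx A) (a b : ℤ)
    (hE : DRing.VanishesOutside E a b) (hfp : DRing.TermwiseFiniteProjective E) :
    HomKFlat K E := by
  have : E.IsStrictlyLE b := by
    rw [CochainComplex.isStrictlyLE_iff]
    exact fun i hi => hE i (Or.inr hi)
  let n : ℕ := (b - a).toNat
  have hn : b - (n : ℤ) ≤ a := by
    have := Int.self_le_toNat (b - a)
    omega
  have h := homKFlat_sigmaGE K hK E b hfp n
  have hiso : IsIso (ιSigmaGE E (b - n)) := by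
    have : ∀ q, IsIso ((ιSigmaGE E (b - n)).f q) := by
      intro q
      by_cases hq : b - n ≤ q
      · exact isIso_ιSigmaGE_f E _ q hq
      · exact ⟨0, (isZero_sigmaGE_X E _ q (by omega)).eq_of_src _ _,
          (hE q (Or.inl (by omega))).eq_of_src _ _⟩
    exact HomologicalComplex.Hom.isIso_of_components _
  exact homKFlat_of_iso K (asIso (ιSigmaGE E (b - n))).symm h

end Perfect

section Main

attribute [local instance] HasDerivedCategory.standard

open DerivedCategory in
theorem isKFlat_homCx_of_perfect (P : DRing.Cx A) (b : ℤ) (hPb : DRing.VanishesAbove P b)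
    (hPp : ∀ i : ℤ, Module.Projective A (P.X i)) (hperf : DRing.IsPerfect A (DRing.toD P))
    (hK : IsKFlat K) : IsKFlat (DRing.homCx P K) := by
  obtain ⟨E, a, b', hE, hfp, ⟨e⟩⟩ := hperf
  have hPK : P.IsKProjective := Groth.Agent.H35.isKProjective_of_vanishesAbove P b hPb hPp
  have hEK : E.IsKProjective :=
    Groth.Agent.H35.isKProjective_of_vanishesAbove E b' (fun i hi => hE i (Or.inr hi))
      (fun i => (hfp i).2)
  obtain ⟨i, hi⟩ := Groth.Agent.H35.Q_map_surjective_of_isKProjective (K := P) E e.inv
  obtain ⟨r, hr⟩ := Groth.Agent.H35.Q_map_surjective_of_isKProjective (K := E) P e.hom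
  have h0 : Q.map (i ≫ r - 𝟙 P) = 0 := by
    rw [Functor.map_sub, Functor.map_comp, hi, hr, e.inv_hom_id, CategoryTheory.Functor.map_id, sub_self]
  have h1 := (Groth.Agent.H35.Q_map_eq_zero_iff_of_isKProjective (i ≫ r - 𝟙 P)).1 h0
  have h2 : (HomotopyCategory.quotient _ _).map (i ≫ r) =
      (HomotopyCategory.quotient _ _).map (𝟙 P) := by
    rw [Functor.map_sub, sub_eq_zero] at h1
    exact h1
  exact homKFlat_of_homotopy_retract K i r (HomotopyCategory.homotopyOfEq _ _ h2)
    (homKFlat_of_strictlyPerfect K hK E a b' hE hfp)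

end Main

end Groth.Agent.H89.HomCxKFlat
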