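import Mathlib

set_option autoImplicit false
universe u

namespace Groth.Agent.H89.DualBC

open TensorProduct Function Module

variable (R : Type u) (S : Type u) [CommRing R] [CommRing S] [Algebra R S]

section
variable (P : Type u) [AddCommGroup P] [Module R P]

/-- the canonical comparison map `S ⊗ P^∨ → (S ⊗ P)^∨` -/
noncomputable def cDual : S ⊗[R] Module.Dual R P →ₗ[S] Module.Dual S (S ⊗[R] P) :=
  LinearMap.liftBaseChange S (Module.Dual.baseChange S)

theorem cDual_tmul (s : S) (f : Module.Dual R P) (a : S) (v : P) :
    cDual R S P (s ⊗ₜ f) (a ⊗ₜ v) = s * (f v • a) := by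
  simp [cDual]

variable {P} in
theorem cDual_natural {Q : Type u} [AddCommGroup Q] [Module R Q] (g : P →ₗ[R] Q)
    (x : S ⊗[R] Module.Dual R Q) :
    cDual R S P (g.dualMap.baseChange S x) = (g.baseChange S).dualMap (cDual R S Q x) := by
  induction x using TensorProduct.induction_on with
  | zero => simp
  | add x y hx hy => simp only [map_add, hx, hy]
  | tmul s f =>
    apply LinearMap.ext
    intro y
    induction y using TensorProduct.induction_on with
    | zero => simp
    | add a b ha hb => simp only [map_add, ha, hb]
    | tmul a v =>
      simp [cDual_tmul]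

theorem cDual_bijective_of_free [Module.Free R P] [Module.Finite R P] :
    Bijective (cDual R S P) := by
  have ibc := TensorProduct.isBaseChange R P S
  have h : cDual R S P = (ibc.toDualBaseChange).toLinearMap := by
    apply LinearMap.ext
    intro x
    induction x using TensorProduct.induction_on with
    | zero => simp
    | add x y hx hy => simp only [map_add, hx, hy]
    | tmul s f =>
      apply ibc.algHom_ext
      intro v
      rw [LinearEquiv.coe_coe, IsBaseChange.toDualBaseChange_tmul]
      simp [cDual_tmul, Algebra.smul_def, mul_comm]
  rw [h]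
  exact (ibc.toDualBaseChange).bijective

theorem cDual_bijective [Module.Finite R P] [Module.Projective R P] :
    Bijective (cDual R S P) := by
  obtain ⟨n, ρ, ι, -, -, hρι⟩ := Module.Finite.exists_comp_eq_id_of_projective R P
  have hF := cDual_bijective_of_free R S (Fin n → R)
  have hd : ι.dualMap ∘ₗ ρ.dualMap = LinearMap.id := by
    rw [LinearMap.dualMap_comp_dualMap, hρι, LinearMap.dualMap_id]
  have hb : (ι.dualMap.baseChange S) ∘ₗ (ρ.dualMap.baseChange S) = LinearMap.id := by
    rw [← LinearMap.baseChange_comp, hd, LinearMap.baseChange_id]
  have hbd : (ι.baseChange S).dualMap ∘ₗ (ρ.baseChange S).dualMap = LinearMap.id := by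
    rw [LinearMap.dualMap_comp_dualMap, ← LinearMap.baseChange_comp, hρι,
      LinearMap.baseChange_id, LinearMap.dualMap_id]
  constructor
  · rw [injective_iff_map_eq_zero]
    intro x hx
    have h1 : cDual R S (Fin n → R) (ρ.dualMap.baseChange S x) = 0 := by
      rw [cDual_natural, hx, map_zero]
    have h2 : ρ.dualMap.baseChange S x = 0 := by
      apply hF.1
      rw [h1, map_zero]
    have h3 := LinearMap.congr_fun hb x
    rw [LinearMap.comp_apply, h2, map_zero, LinearMap.id_apply] at h3
    exact h3.symm
  · intro y
    obtain ⟨x', hx'⟩ := hF.2 ((ρ.baseChange S).dualMap y)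
    refine ⟨ι.dualMap.baseChange S x', ?_⟩
    rw [cDual_natural, hx']
    exact LinearMap.congr_fun hbd y

end

section
variable (P : Type u) [AddCommGroup P] [Module R P]

/-- the comparison square between `S ⊗ contractLeft` and `contractLeft` of the base change -/
theorem contractLeft_square (x : S ⊗[R] (Module.Dual R P ⊗[R] P)) :
    TensorProduct.rid R S ((contractLeft R P).lTensor S x) =
      contractLeft S (S ⊗[R] P)
        ((cDual R S P).rTensor (S ⊗[R] P)
          (AlgebraTensorModule.distribBaseChange R S (Module.Dual R P) P x)) := by
  induction x using TensorProduct.induction_on with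
  | zero => simp
  | add x y hx hy => simp only [map_add, hx, hy]
  | tmul s y =>
    induction y using TensorProduct.induction_on with
    | zero => simp
    | add a b ha hb => simp only [tmul_add, map_add, ha, hb]
    | tmul f v =>
      simp [cDual_tmul, contractLeft_apply, Algebra.smul_def, mul_comm]

/-- if `P` is finite projective and `S ⊗ P` is invertible over `S`, then `S ⊗ contractLeft` is
bijective -/
theorem lTensor_contractLeft_bijective [Module.Finite R P] [Module.Projective R P]
    [Module.Invertible S (S ⊗[R] P)] :
    Bijective ((contractLeft R P).lTensor S) := by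
  have h1 : Bijective (contractLeft S (S ⊗[R] P)) := Module.Invertible.bijective
  have h2 : Bijective ((cDual R S P).rTensor (S ⊗[R] P)) := by
    let e := LinearEquiv.ofBijective _ (cDual_bijective R S P)
    have he : (cDual R S P).rTensor (S ⊗[R] P) = (e.rTensor (S ⊗[R] P)).toLinearMap := rfl
    rw [he]
    exact (e.rTensor (S ⊗[R] P)).bijective
  have h3 : Bijective (AlgebraTensorModule.distribBaseChange R S (Module.Dual R P) P) :=
    LinearEquiv.bijective _
  have h4 : Bijective (fun x => TensorProduct.rid R S ((contractLeft R P).lTensor S x)) := by
    have : (fun x => TensorProduct.rid R S ((contractLeft R P).lTensor S x)) =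
        (contractLeft S (S ⊗[R] P)) ∘ ((cDual R S P).rTensor (S ⊗[R] P)) ∘
          (AlgebraTensorModule.distribBaseChange R S (Module.Dual R P) P) := by
      funext x
      exact contractLeft_square R S P x
    rw [this]
    exact h1.comp (h2.comp h3)
  have h5 : ((contractLeft R P).lTensor S : _ → _) =
      (TensorProduct.rid R S).symm ∘
        (fun x => TensorProduct.rid R S ((contractLeft R P).lTensor S x)) := by
    funext x
    simp
  rw [h5]
  exact (LinearEquiv.bijective _).comp h4

end

end Groth.Agent.H89.DualBC
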