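import Mathlib

set_option autoImplicit false
universe u v

namespace Groth.Agent.H89

open TensorProduct

/-- A product of two flat modules is flat. -/
theorem flat_prod (R : Type u) [CommRing R] (M N : Type v) [AddCommGroup M] [AddCommGroup N]
    [Module R M] [Module R N] [Module.Flat R M] [Module.Flat R N] : Module.Flat R (M × N) := by
  rw [Module.Flat.iff_rTensor_injectiveₛ]
  intro P _ _ I
  have hcomm : (TensorProduct.prodRight R R P M N).toLinearMap ∘ₗ (I.subtype.rTensor (M × N)) =
      (LinearMap.prodMap (I.subtype.rTensor M) (I.subtype.rTensor N)) ∘ₗ
        (TensorProduct.prodRight R R I M N).toLinearMap := by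
    apply TensorProduct.ext'
    intro x mn
    simp
  have hinj : Function.Injective ((LinearMap.prodMap (I.subtype.rTensor M) (I.subtype.rTensor N)) ∘ₗ
        (TensorProduct.prodRight R R I M N).toLinearMap) := by
    rw [LinearMap.coe_comp]
    refine Function.Injective.comp ?_ (TensorProduct.prodRight R R I M N).injective
    rw [LinearMap.coe_prodMap]
    exact Function.Injective.prodMap
      (Module.Flat.rTensor_preserves_injective_linearMap _ I.injective_subtype)
      (Module.Flat.rTensor_preserves_injective_linearMap _ I.injective_subtype)
  rw [← hcomm, LinearMap.coe_comp] at hinj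
  exact Function.Injective.of_comp hinj

/-- The kernel of a surjection of flat modules is flat: given an exact sequence
`0 → M → N → P → 0` with `N` and `P` flat, `M` is flat. -/
theorem flat_of_exact_of_flat {R : Type u} [CommRing R] {M N P : Type v} [AddCommGroup M]
    [AddCommGroup N] [AddCommGroup P] [Module R M] [Module R N] [Module R P]
    [Module.Flat R N] [Module.Flat R P]
    (g : M →ₗ[R] N) (f : N →ₗ[R] P) (hg : Function.Injective g) (hf : Function.Surjective f)
    (H : Function.Exact g f) : Module.Flat R M := by
  rw [Module.Flat.iff_rTensor_injectiveₛ]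
  intro Q _ _ I
  let _ := Module.addCommMonoidToAddCommGroup R (M := Q)
  have hcomm : (g.lTensor Q) ∘ₗ (I.subtype.rTensor M) = (I.subtype.rTensor N) ∘ₗ (g.lTensor I) := by
    apply TensorProduct.ext'
    intro x m
    simp
  have h1 : Function.Injective (g.lTensor I) :=
    LinearMap.lTensor_injective_of_exact_of_flat f hf g hg H I
  have h2 : Function.Injective (I.subtype.rTensor N) :=
    Module.Flat.rTensor_preserves_injective_linearMap _ I.injective_subtype
  have h3 : Function.Injective ((g.lTensor Q) ∘ₗ (I.subtype.rTensor M)) := by
    rw [hcomm, LinearMap.coe_comp]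
    exact h2.comp h1
  rw [LinearMap.coe_comp] at h3
  exact Function.Injective.of_comp h3

end Groth.Agent.H89
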