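import Mathlib

/-!
# Idempotent global sections and open-closed subsets of a scheme
-/

set_option autoImplicit false
universe u

open CategoryTheory AlgebraicGeometry TopologicalSpace Opposite

namespace Groth.Agent.H89.SchemeIdem

theorem not_mem_basicOpen_iff (X : Scheme.{u}) {U : X.Opens} (e : Γ(X, U))
    (he : IsIdempotentElem e) (x : X) (hx : x ∈ U) :
    x ∉ X.basicOpen e ↔ x ∈ X.basicOpen (1 - e) := by
  have h0 : e * (1 - e) = 0 := by rw [mul_sub, mul_one, he.eq, sub_self]
  constructor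
  · intro h
    rw [Scheme.mem_basicOpen _ _ _ hx] at h ⊢
    have h1 : X.presheaf.germ U x hx e + X.presheaf.germ U x hx (1 - e) = 1 := by
      rw [← map_add, add_sub_cancel, map_one]
    exact (IsLocalRing.isUnit_or_isUnit_of_add_one h1).resolve_left h
  · intro h h'
    have hmul : x ∈ X.basicOpen (e * (1 - e)) := by
      rw [Scheme.basicOpen_mul]
      exact ⟨h', h⟩
    rw [h0, Scheme.basicOpen_zero] at hmul
    exact hmul

theorem compl_basicOpen (X : Scheme.{u}) (e : Γ(X, ⊤)) (he : IsIdempotentElem e) :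
    ((X.basicOpen e : Set X))ᶜ = X.basicOpen (1 - e) := by
  ext x
  exact not_mem_basicOpen_iff X e he x trivial

theorem isClopen_basicOpen (X : Scheme.{u}) (e : Γ(X, ⊤)) (he : IsIdempotentElem e) :
    IsClopen (X.basicOpen e : Set X) := by
  refine ⟨?_, (X.basicOpen e).isOpen⟩
  rw [← isOpen_compl_iff, compl_basicOpen X e he]
  exact (X.basicOpen (1 - e)).isOpen

/-- The restriction of an idempotent section to its basic open is `1`. -/
theorem res_basicOpen_eq_one (X : Scheme.{u}) (e : Γ(X, ⊤)) (he : IsIdempotentElem e)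
    (V : X.Opens) (hV : V = X.basicOpen e) (hle : V ≤ ⊤) :
    X.presheaf.map (homOfLE hle).op e = 1 := by
  subst hV
  have h1 : IsUnit (X.presheaf.map (homOfLE hle).op e) :=
    RingedSpace.isUnit_res_basicOpen _ e
  have h2 : IsIdempotentElem (X.presheaf.map (homOfLE hle).op e) :=
    he.map (X.presheaf.map (homOfLE hle).op).hom
  exact (IsIdempotentElem.iff_eq_one_of_isUnit h1).mp h2

theorem idem_ext (X : Scheme.{u}) (e₁ e₂ : Γ(X, ⊤)) (h₁ : IsIdempotentElem e₁)
    (h₂ : IsIdempotentElem e₂) (h : X.basicOpen e₁ = X.basicOpen e₂) : e₁ = e₂ := by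
  have hc : X.basicOpen (1 - e₁) = X.basicOpen (1 - e₂) := by
    apply Opens.ext
    rw [← compl_basicOpen X e₁ h₁, ← compl_basicOpen X e₂ h₂, h]
  apply X.IsSheaf.section_ext
  intro x _
  by_cases hx : x ∈ X.basicOpen e₁
  · refine ⟨X.basicOpen e₁, le_top, hx, ?_⟩
    have a1 := res_basicOpen_eq_one X e₁ h₁ _ rfl le_top
    have a3 := res_basicOpen_eq_one X e₂ h₂ _ h le_top
    exact a1.trans a3.symm
  · have hx' : x ∈ X.basicOpen (1 - e₁) := (not_mem_basicOpen_iff X e₁ h₁ x trivial).mp hx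
    refine ⟨X.basicOpen (1 - e₁), le_top, hx', ?_⟩
    have a1 := res_basicOpen_eq_one X (1 - e₁) h₁.one_sub _ rfl le_top
    have a3 := res_basicOpen_eq_one X (1 - e₂) h₂.one_sub _ hc le_top
    have a4 := a1.trans a3.symm
    rw [map_sub, map_sub, map_one] at a4
    exact sub_right_injective a4

theorem subsingleton_of_eq_bot (X : Scheme.{u}) (V : X.Opens) (hV : V = ⊥) :
    Subsingleton Γ(X, V) := by
  subst hV; infer_instance

theorem exists_idem_of_isClopen (X : Scheme.{u}) (U : Set X) (hU : IsClopen U) :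
    ∃ e : Γ(X, ⊤), IsIdempotentElem e ∧ (X.basicOpen e : Set X) = U := by
  let U' : X.Opens := ⟨U, hU.isOpen⟩
  let W' : X.Opens := ⟨Uᶜ, hU.compl.isOpen⟩
  let V : Bool → X.Opens := fun b => Bool.rec W' U' b
  have hcover : (⊤ : X.Opens) ≤ iSup V := by
    intro x _
    simp only [Opens.mem_iSup]
    by_cases hx : x ∈ U
    · exact ⟨true, hx⟩
    · exact ⟨false, hx⟩
  let sf : ∀ b, Γ(X, V b) := fun b => Bool.rec (0 : Γ(X, W')) (1 : Γ(X, U')) b
  have hbot : V true ⊓ V false = ⊥ := by
    apply Opens.ext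
    ext x
    simp only [Opens.coe_inf, Opens.coe_bot, Set.mem_inter_iff, Set.mem_empty_iff_false,
      iff_false, not_and]
    intro h1 h2
    exact h2 h1
  have hbot' : V false ⊓ V true = ⊥ := by rw [inf_comm]; exact hbot
  have ic : TopCat.Presheaf.IsCompatible X.sheaf.obj V sf := by
    intro i j
    cases i <;> cases j
    · rfl
    · exact (subsingleton_of_eq_bot X _ hbot').elim _ _
    · exact (subsingleton_of_eq_bot X _ hbot).elim _ _
    · rfl
  obtain ⟨e, he_spec, he_uniq⟩ :
      ∃ e : Γ(X, ⊤), (∀ i, (X.sheaf.obj.map (homOfLE (le_top : V i ≤ ⊤)).op) e = sf i) ∧ _ :=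
    X.sheaf.existsUnique_gluing' V ⊤ (fun i => homOfLE le_top) hcover sf ic
  have hidem : IsIdempotentElem e := by
    apply he_uniq
    intro i
    have h1 := he_spec i
    change (X.presheaf.map (homOfLE (le_top : V i ≤ ⊤)).op).hom (e * e) = sf i
    rw [map_mul]
    change (X.presheaf.map (homOfLE (le_top : V i ≤ ⊤)).op).hom e = sf i at h1
    rw [h1]
    cases i
    · exact mul_zero _
    · exact mul_one _
  refine ⟨e, hidem, ?_⟩
  have h1 : U' ⊓ X.basicOpen e = U' := by
    have := he_spec true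
    change (X.presheaf.map (homOfLE (le_top : U' ≤ ⊤)).op).hom e = 1 at this
    rw [← Scheme.basicOpen_res X e (homOfLE (le_top : U' ≤ ⊤)).op]
    erw [this]
    exact Scheme.basicOpen_one X
  have h2 : W' ⊓ X.basicOpen e = ⊥ := by
    have := he_spec false
    change (X.presheaf.map (homOfLE (le_top : W' ≤ ⊤)).op).hom e = 0 at this
    rw [← Scheme.basicOpen_res X e (homOfLE (le_top : W' ≤ ⊤)).op]
    erw [this]
    exact Scheme.basicOpen_zero X _
  ext x
  constructor
  · intro hx
    by_contra hxU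
    have : x ∈ W' ⊓ X.basicOpen e := ⟨hxU, hx⟩
    rw [h2] at this
    exact this
  · intro hx
    have : x ∈ U' ⊓ X.basicOpen e := by rw [h1]; exact hx
    exact this.2

/-- If open-closed subsets lift along `φ`, so do idempotent global sections. -/
theorem exists_idem_lift_of_clopenLift {Z Y : Scheme.{u}} (φ : Z ⟶ Y)
    (H : ∀ V : Set Z, IsClopen V → ∃! U : Set Y, IsClopen U ∧ φ.base ⁻¹' U = V)
    (ε : Γ(Z, ⊤)) (hε : IsIdempotentElem ε) :
    ∃ e : Γ(Y, ⊤), IsIdempotentElem e ∧ φ.appTop e = ε := by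
  obtain ⟨U, ⟨hU, hUV⟩, -⟩ := H _ (isClopen_basicOpen Z ε hε)
  obtain ⟨e, he, heU⟩ := exists_idem_of_isClopen Y U hU
  refine ⟨e, he, ?_⟩
  apply idem_ext Z _ _ (he.map φ.appTop.hom) hε
  rw [← Scheme.preimage_basicOpen_top]
  apply Opens.ext
  rw [← hUV, ← heU]
  rfl

end Groth.Agent.H89.SchemeIdem
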