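import Mathlib

/-!
# Dense affine open neighbourhoods in Noetherian schemes (helper89)
-/


set_option autoImplicit false
universe u
open CategoryTheory CategoryTheory.Limits AlgebraicGeometry TopologicalSpace

namespace Groth.Agent.H89.DenseAffine

/-- in a Noetherian scheme every point has a dense affine open neighbourhood -/
theorem exists_dense_affine (X : Scheme.{u}) [IsNoetherian X] (x : X) :
    ∃ U : X.Opens, IsAffineOpen U ∧ x ∈ U ∧ Dense (U : Set X) := by
  obtain ⟨W₀, hW₀, hxW₀⟩ : ∃ W : X.Opens, IsAffineOpen W ∧ x ∈ W := by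
    have hx : x ∈ (⊤ : X.Opens) := trivial
    obtain ⟨W, hW, hxW, -⟩ := (Opens.isBasis_iff_nbhd.1 X.isBasis_affineOpens) hx
    exact ⟨W, hW, hxW⟩
  have hwf : WellFoundedGT (Opens X) := inferInstance
  let S : Set (Opens X) := {V | IsAffineOpen V ∧ W₀ ≤ V}
  have hS : S.Nonempty := ⟨W₀, hW₀, le_rfl⟩
  obtain ⟨V, ⟨hV, hW₀V⟩, hmax⟩ := hwf.wf.has_min S hS
  refine ⟨V, hV, hW₀V hxW₀, ?_⟩
  by_contra hnd
  have hne : ((closure (V : Set X))ᶜ).Nonempty := by
    rw [Set.nonempty_compl]
    intro h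
    exact hnd (dense_iff_closure_eq.2 h)
  obtain ⟨y, hy⟩ := hne
  let O : X.Opens := ⟨(closure (V : Set X))ᶜ, isClosed_closure.isOpen_compl⟩
  have hyO : y ∈ O := hy
  obtain ⟨V', hV', hyV', hV'O⟩ := (Opens.isBasis_iff_nbhd.1 X.isBasis_affineOpens) hyO
  have hdisj : Disjoint V V' := by
    rw [disjoint_iff]
    ext z
    simp only [Opens.coe_inf, Set.mem_inter_iff, SetLike.mem_coe, Opens.coe_bot,
      Set.mem_empty_iff_false, iff_false, not_and]
    intro hzV hzV'
    exact hV'O hzV' (subset_closure hzV)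
  have haff : IsAffineOpen (V ⊔ V') := hV.sup_of_disjoint hV' hdisj
  have hlt : V < V ⊔ V' := by
    refine lt_of_le_of_ne le_sup_left ?_
    intro h
    have : y ∈ V := by
      rw [h]
      exact Or.inr hyV'
    exact hV'O hyV' (subset_closure this)
  exact hmax (V ⊔ V') ⟨haff, hW₀V.trans le_sup_left⟩ hlt

end Groth.Agent.H89.DenseAffine
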