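import Mathlib

/-!
# Sections of a colimit of presheafed spaces of rings (helper89)

For a colimit cocone `c` of a diagram `F` of presheafed spaces (of commutative rings) and an open `U` of
`c.pt`, sections over `U` are the compatible families of sections over the preimages.
-/

set_option autoImplicit false
universe u
open CategoryTheory Limits AlgebraicGeometry TopologicalSpace Opposite TopCat

namespace Groth.Agent.H89.PSpColim

variable {J : Type} [SmallCategory J] {F : J ⥤ PresheafedSpace.{_, _, u} CommRingCat.{u}}

/-- the transition map of the componentwise diagram of a cocone -/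
noncomputable def trans (c : Cocone F) (U : Opens c.pt) {j k : J} (f : j ⟶ k) :
    (F.obj k).presheaf.obj (op ((Opens.map (c.ι.app k).base).obj U)) ⟶
      (F.obj j).presheaf.obj (op ((Opens.map (c.ι.app j).base).obj U)) :=
  (F.map f).c.app _ ≫
    (F.obj j).presheaf.map (eqToHom (by rw [← c.w f, PresheafedSpace.comp_base]; rfl))

variable (F)

/-- sections of the canonical colimit are determined by their restrictions -/
theorem ext_colimit (U : Opens (colimit F : PresheafedSpace CommRingCat))
    (s t : (colimit F : PresheafedSpace CommRingCat).presheaf.obj (op U))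
    (h : ∀ j : J, ((colimit.ι F j).c.app (op U)).hom s = ((colimit.ι F j).c.app (op U)).hom t) :
    s = t := by
  have hinj : Function.Injective
      (PresheafedSpace.colimitPresheafObjIsoComponentwiseLimit F U).hom.hom :=
    ((ConcreteCategory.bijective_of_isIso
      (PresheafedSpace.colimitPresheafObjIsoComponentwiseLimit F U).hom)).1
  apply hinj
  apply Concrete.limit_ext
  intro j
  have h1 := PresheafedSpace.colimitPresheafObjIsoComponentwiseLimit_hom_π F U (unop j)
  have h2 := congrArg (fun f => f.hom s) h1
  have h3 := congrArg (fun f => f.hom t) h1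
  simp only [CommRingCat.hom_comp, RingHom.coe_comp, Function.comp_apply] at h2 h3
  exact h2.trans ((h (unop j)).trans h3.symm)

theorem exists_colimit (U : Opens (colimit F : PresheafedSpace CommRingCat))
    (x : ∀ j : J, (F.obj j).presheaf.obj (op ((Opens.map (colimit.ι F j).base).obj U)))
    (hx : ∀ {j k : J} (f : j ⟶ k), (trans (colimit.cocone F) U f).hom (x k) = x j) :
    ∃ s : (colimit F : PresheafedSpace CommRingCat).presheaf.obj (op U),
      ∀ j : J, ((colimit.ι F j).c.app (op U)).hom s = x j := by
  let D := PresheafedSpace.componentwiseDiagram F U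
  let s₀ : (D ⋙ forget CommRingCat).sections := ⟨fun j => x (unop j), by
    intro j k f
    exact hx f.unop⟩
  let hl := isLimitOfPreserves (forget CommRingCat) (limit.isLimit D)
  let y : (forget CommRingCat).obj (limit D) := (Types.isLimitEquivSections hl).symm s₀
  have hy : ∀ j : Jᵒᵖ, (limit.π D j).hom y = x (unop j) := fun j =>
    Types.isLimitEquivSections_symm_apply hl s₀ j
  refine ⟨(PresheafedSpace.colimitPresheafObjIsoComponentwiseLimit F U).inv.hom y, fun j => ?_⟩
  have h1 := PresheafedSpace.colimitPresheafObjIsoComponentwiseLimit_inv_ι_app F U j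
  have h2 := congrArg (fun f => f.hom y) h1
  simp only [CommRingCat.hom_comp, RingHom.coe_comp, Function.comp_apply] at h2
  exact h2.trans (hy (op j))

variable {F} {c : Cocone F} (hc : IsColimit c) (U : Opens c.pt)

/-- the comparison iso from the canonical colimit -/
noncomputable def cmp : (colimit F : PresheafedSpace CommRingCat) ≅ c.pt :=
  (colimit.isColimit F).coconePointUniqueUpToIso hc

lemma ι_cmp (j : J) : colimit.ι F j ≫ (cmp hc).hom = c.ι.app j :=
  IsColimit.comp_coconePointUniqueUpToIso_hom (colimit.isColimit F) hc j

lemma c_app_eq (j : J) : (c.ι.app j).c.app (op U) =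
    ((cmp hc).hom.c.app (op U) ≫
      (colimit.ι F j).c.app (op ((Opens.map (cmp hc).hom.base).obj U))) ≫
        (F.obj j).presheaf.map (eqToHom (by rw [← ι_cmp hc j]; rfl)) := by
  rw [PresheafedSpace.congr_app (ι_cmp hc j).symm (op U), PresheafedSpace.comp_c_app]
  rfl

lemma injective_cmp_c : Function.Injective ((cmp hc).hom.c.app (op U)).hom := by
  have : IsIso (cmp hc).hom.c := PresheafedSpace.c_isIso_of_iso _
  have : IsIso ((cmp hc).hom.c.app (op U)) := inferInstance
  exact (ConcreteCategory.bijective_of_isIso ((cmp hc).hom.c.app (op U))).1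

lemma surjective_cmp_c : Function.Surjective ((cmp hc).hom.c.app (op U)).hom := by
  have : IsIso (cmp hc).hom.c := PresheafedSpace.c_isIso_of_iso _
  have : IsIso ((cmp hc).hom.c.app (op U)) := inferInstance
  exact (ConcreteCategory.bijective_of_isIso ((cmp hc).hom.c.app (op U))).2

lemma injective_map_eqToHom {X : PresheafedSpace.{_, _, u} CommRingCat.{u}} {V W : (Opens X)ᵒᵖ}
    (h : V = W) : Function.Injective (X.presheaf.map (eqToHom h)).hom := by
  subst h
  rw [eqToHom_refl, X.presheaf.map_id]
  exact fun a b hab => hab

include hc in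
/-- sections of a colimit are determined by their restrictions -/
theorem ext_of_isColimit (s t : c.pt.presheaf.obj (op U))
    (h : ∀ j : J, ((c.ι.app j).c.app (op U)).hom s = ((c.ι.app j).c.app (op U)).hom t) :
    s = t := by
  apply injective_cmp_c hc U
  apply ext_colimit F
  intro j
  have hj := h j
  rw [c_app_eq hc U j] at hj
  simp only [CommRingCat.hom_comp, RingHom.coe_comp, Function.comp_apply] at hj
  exact injective_map_eqToHom _ hj

@[reassoc]
lemma natural_eqToHom {X Y : PresheafedSpace.{_, _, u} CommRingCat.{u}} (g : X ⟶ Y)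
    {V W : (Opens Y)ᵒᵖ} (h : V = W) :
    Y.presheaf.map (eqToHom h) ≫ g.c.app W =
      g.c.app V ≫ X.presheaf.map (eqToHom (by rw [h])) := by
  subst h
  simp

include hc in
/-- compatible families of sections glue to a section of the colimit -/
theorem exists_of_isColimit
    (x : ∀ j : J, (F.obj j).presheaf.obj (op ((Opens.map (c.ι.app j).base).obj U)))
    (hx : ∀ {j k : J} (f : j ⟶ k), (trans c U f).hom (x k) = x j) :
    ∃ s : c.pt.presheaf.obj (op U), ∀ j, ((c.ι.app j).c.app (op U)).hom s = x j := by
  have E : ∀ j : J, op ((Opens.map (c.ι.app j).base).obj U) =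
      op ((Opens.map (colimit.ι F j).base).obj ((Opens.map (cmp hc).hom.base).obj U)) := by
    intro j
    rw [← ι_cmp hc j]
    rfl
  obtain ⟨s₀, hs₀⟩ := exists_colimit F ((Opens.map (cmp hc).hom.base).obj U)
    (fun j => ((F.obj j).presheaf.map (eqToHom (E j))).hom (x j)) (by
      intro j k f
      have hmor : (F.obj k).presheaf.map (eqToHom (E k)) ≫
          trans (colimit.cocone F) ((Opens.map (cmp hc).hom.base).obj U) f =
          trans c U f ≫ (F.obj j).presheaf.map (eqToHom (E j)) := by
        simp only [trans, colimit.cocone_ι]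
        rw [natural_eqToHom_assoc]
        simp only [Category.assoc, ← Functor.map_comp]
        rfl
      have h1 := congrArg (fun g => g.hom (x k)) hmor
      simp only [CommRingCat.hom_comp, RingHom.coe_comp, Function.comp_apply] at h1
      rw [← hx f]
      exact h1)
  obtain ⟨s, rfl⟩ := surjective_cmp_c hc U s₀
  refine ⟨s, fun j => ?_⟩
  have hj := hs₀ j
  rw [c_app_eq hc U j]
  simp only [CommRingCat.hom_comp, RingHom.coe_comp, Function.comp_apply]
  rw [hj, ← CommRingCat.comp_apply, ← Functor.map_comp, eqToHom_trans, eqToHom_refl,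
    CategoryTheory.Functor.map_id]
  rfl

end Groth.Agent.H89.PSpColim
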