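import Mathlib
import Groth.Agent.H89.PSpColim

/-!
# Sections of a pushout of presheafed spaces of rings (helper89)
-/

set_option autoImplicit false
universe u
open CategoryTheory Limits AlgebraicGeometry TopologicalSpace Opposite TopCat

namespace Groth.Agent.H89.PSpColim

variable {J : Type} [SmallCategory J] {F : J ⥤ PresheafedSpace.{_, _, u} CommRingCat.{u}}

lemma ι_c_app (c : Cocone F) (U : Opens c.pt) {j k : J} (f : j ⟶ k) :
    (c.ι.app j).c.app (op U) = (c.ι.app k).c.app (op U) ≫ trans c U f := by
  rw [PresheafedSpace.congr_app (c.w f).symm (op U), PresheafedSpace.comp_c_app, trans]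
  exact Category.assoc _ _ _

lemma c_app_eqToHom_of_eq_id {X : PresheafedSpace.{_, _, u} CommRingCat.{u}} (g : X ⟶ X)
    (hg : g = 𝟙 X) (V : Opens X) (h : op ((Opens.map g.base).obj V) = op V) :
    g.c.app (op V) ≫ X.presheaf.map (eqToHom h) = 𝟙 _ := by
  subst hg
  rw [PresheafedSpace.id_c_app]
  erw [CategoryTheory.Functor.map_id, Category.id_comp]

lemma trans_id (c : Cocone F) (U : Opens c.pt) (j : J) : trans c U (𝟙 j) = 𝟙 _ :=
  c_app_eqToHom_of_eq_id _ (F.map_id j) _ _


lemma map_eqToHom_trans_apply {X : PresheafedSpace.{_, _, u} CommRingCat.{u}}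
    {U V W : (Opens X)ᵒᵖ} (h₁ : U = V) (h₂ : V = W) (w : X.presheaf.obj U) :
    (X.presheaf.map (eqToHom h₂)).hom ((X.presheaf.map (eqToHom h₁)).hom w) =
      (X.presheaf.map (eqToHom (h₁.trans h₂))).hom w := by
  subst h₁ h₂
  simp

section Pushout

variable {X Z Z' X' : PresheafedSpace.{_, _, u} CommRingCat.{u}} {a : Z ⟶ X} {b : Z ⟶ Z'}
  {c : X ⟶ X'} {d : Z' ⟶ X'} (hpo : IsPushout a b c d) (U : Opens X')

include hpo in
theorem pushout_ext (s t : X'.presheaf.obj (op U))
    (h1 : (c.c.app (op U)).hom s = (c.c.app (op U)).hom t)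
    (h2 : (d.c.app (op U)).hom s = (d.c.app (op U)).hom t) : s = t := by
  refine ext_of_isColimit hpo.isColimit U s t ?_
  have hl : ((hpo.cocone.ι.app WalkingSpan.left).c.app (op U)).hom s =
      ((hpo.cocone.ι.app WalkingSpan.left).c.app (op U)).hom t := h1
  rintro (_ | _ | _)
  · rw [ι_c_app hpo.cocone U WalkingSpan.Hom.fst]
    exact congrArg (fun z => (trans hpo.cocone U WalkingSpan.Hom.fst).hom z) hl
  · exact h1
  · exact h2

include hpo in
theorem pushout_glue (x : X.presheaf.obj (op ((Opens.map c.base).obj U)))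
    (y : Z'.presheaf.obj (op ((Opens.map d.base).obj U)))
    (hxy : (trans hpo.cocone U WalkingSpan.Hom.fst).hom x =
      (trans hpo.cocone U WalkingSpan.Hom.snd).hom y) :
    ∃ s : X'.presheaf.obj (op U), (c.c.app (op U)).hom s = x ∧ (d.c.app (op U)).hom s = y := by
  let fam : ∀ j : WalkingSpan, ((span a b).obj j).presheaf.obj
      (op ((Opens.map (hpo.cocone.ι.app j).base).obj U)) := fun j =>
    match j with
    | none => (trans hpo.cocone U WalkingSpan.Hom.fst).hom x
    | some WalkingPair.left => x
    | some WalkingPair.right => y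
  obtain ⟨s, hs⟩ := exists_of_isColimit hpo.isColimit U fam (by
    intro j k f
    rcases f with _ | i
    · have h := trans_id hpo.cocone U j
      exact congrArg (fun g => g.hom (fam j)) h
    · cases i with
      | left => rfl
      | right => exact hxy.symm)
  exact ⟨s, hs WalkingSpan.left, hs WalkingSpan.right⟩

include hpo in
theorem pushout_glue' (x : X.presheaf.obj (op ((Opens.map c.base).obj U)))
    (y : Z'.presheaf.obj (op ((Opens.map d.base).obj U)))
    (h : op ((Opens.map a.base).obj ((Opens.map c.base).obj U)) =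
      op ((Opens.map b.base).obj ((Opens.map d.base).obj U)))
    (hxy : (Z.presheaf.map (eqToHom h)).hom ((a.c.app (op ((Opens.map c.base).obj U))).hom x) =
      (b.c.app (op ((Opens.map d.base).obj U))).hom y) :
    ∃ s : X'.presheaf.obj (op U), (c.c.app (op U)).hom s = x ∧ (d.c.app (op U)).hom s = y := by
  apply pushout_glue hpo U x y
  have e2 : op ((Opens.map b.base).obj ((Opens.map d.base).obj U)) =
      op ((Opens.map (hpo.cocone.ι.app WalkingSpan.zero).base).obj U) := by
    rw [← hpo.cocone.w WalkingSpan.Hom.snd]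
    rfl
  have h1 : (trans hpo.cocone U WalkingSpan.Hom.fst).hom x =
      (Z.presheaf.map (eqToHom (h.trans e2))).hom
        ((a.c.app (op ((Opens.map c.base).obj U))).hom x) := rfl
  have h2 : (trans hpo.cocone U WalkingSpan.Hom.snd).hom y =
      (Z.presheaf.map (eqToHom e2)).hom
        ((b.c.app (op ((Opens.map d.base).obj U))).hom y) := rfl
  rw [h1, h2, ← hxy]
  exact (map_eqToHom_trans_apply h e2 _).symm

end Pushout

end Groth.Agent.H89.PSpColim
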