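import Mathlib
import Groth.Agent.H89.PSpPushout

/-!
# Sections of a scheme which is a pushout in ringed spaces (helper89)
-/

set_option autoImplicit false
universe u
open CategoryTheory Limits AlgebraicGeometry TopologicalSpace Opposite TopCat

namespace Groth.Agent.H89.SchPushout

variable {X Z Z' X' : Scheme.{u}} {ι : Z ⟶ X} {q : Z ⟶ Z'} {π : X ⟶ X'} {ι' : Z' ⟶ X'}
  (hpo : IsPushout
    ((Scheme.forgetToLocallyRingedSpace ⋙ LocallyRingedSpace.forgetToSheafedSpace).map ι)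
    ((Scheme.forgetToLocallyRingedSpace ⋙ LocallyRingedSpace.forgetToSheafedSpace).map q)
    ((Scheme.forgetToLocallyRingedSpace ⋙ LocallyRingedSpace.forgetToSheafedSpace).map π)
    ((Scheme.forgetToLocallyRingedSpace ⋙ LocallyRingedSpace.forgetToSheafedSpace).map ι'))
  (U' : X'.Opens)

include hpo in
lemma comm : ι ≫ π = q ≫ ι' := by
  have h := hpo.w
  rw [← Functor.map_comp, ← Functor.map_comp] at h
  have : (Scheme.forgetToLocallyRingedSpace ⋙
      LocallyRingedSpace.forgetToSheafedSpace).Faithful := inferInstance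
  exact (Scheme.forgetToLocallyRingedSpace ⋙
    LocallyRingedSpace.forgetToSheafedSpace).map_injective h

include hpo in
theorem sections_ext (s t : Γ(X', U')) (h1 : (π.app U').hom s = (π.app U').hom t)
    (h2 : (ι'.app U').hom s = (ι'.app U').hom t) : s = t :=
  Groth.Agent.H89.PSpColim.pushout_ext (hpo.map SheafedSpace.forgetToPresheafedSpace) U' s t h1 h2

include hpo in
theorem sections_glue (x : Γ(X, π ⁻¹ᵁ U')) (y : Γ(Z', ι' ⁻¹ᵁ U'))
    (h : ι ⁻¹ᵁ π ⁻¹ᵁ U' = q ⁻¹ᵁ ι' ⁻¹ᵁ U')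
    (hxy : (Z.presheaf.map (eqToHom (congrArg op h))).hom ((ι.app (π ⁻¹ᵁ U')).hom x) =
      (q.app (ι' ⁻¹ᵁ U')).hom y) :
    ∃ s : Γ(X', U'), (π.app U').hom s = x ∧ (ι'.app U').hom s = y :=
  Groth.Agent.H89.PSpColim.pushout_glue' (hpo.map SheafedSpace.forgetToPresheafedSpace) U' x y
    (congrArg op h) hxy

end Groth.Agent.H89.SchPushout
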