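import Groth.Agent.H89.AdeqShfExt

/-!
# Abelian sheaves on the big site: sheaf condition for families, gluing over finite products of rings,
sectionwise left exactness, local surjectivity of epimorphisms
-/

set_option autoImplicit false
set_option linter.style.haveILetI false
universe u v
open CategoryTheory Limits Opposite TensorProduct Adeq AlgebraicGeometry

namespace Groth.Agent.H89.AQ

section AbSheaf
variable {K : Precoverage Scheme.{u}} [BigSite.OSh K] {S : Scheme.{u}} (G : BigSite.Ab K S)

theorem ab_map_id (V : Over S) (x : G.obj.obj (op V)) : G.obj.map (𝟙 V).op x = x := by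
  rw [op_id, G.obj.map_id]
  rfl

theorem ab_map_comp {V V' V'' : Over S} (f : V ⟶ V') (g : V' ⟶ V'') (x : G.obj.obj (op V'')) :
    G.obj.map (f ≫ g).op x = G.obj.map f.op (G.obj.map g.op x) := by
  rw [op_comp, G.obj.map_comp]
  rfl

theorem ab_hom_nat {G G' : BigSite.Ab K S} (φ : G ⟶ G') {V V' : Over S} (f : V ⟶ V')
    (x : G.obj.obj (op V')) :
    φ.hom.app (op V) (G.obj.map f.op x) = G'.obj.map f.op (φ.hom.app (op V') x) :=
  congrArg (fun ψ : G.obj.obj (op V') ⟶ G'.obj.obj (op V) => ψ x) (φ.hom.naturality f.op)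

theorem ab_isSheafFor_family {X : Over S} {I : Type v} (Y : I → Over S) (p : ∀ i, Y i ⟶ X)
    (hcov : Presieve.ofArrows (fun i => (Y i).left) (fun i => (p i).left) ∈ K.coverings X.left) :
    Presieve.IsSheafFor (G.obj ⋙ forget _) (Presieve.ofArrows Y p) := by
  have h1 := (Presheaf.isSheaf_iff_isSheaf_forget (QuotSh.J K S) G.obj (forget _)).mp G.property
  rw [isSheaf_iff_isSheaf_of_type] at h1
  exact h1.isSheafFor _ (ofArrows_mem_J Y p hcov)

theorem ab_family_sep {X : Over S} {I : Type v} (Y : I → Over S) (p : ∀ i, Y i ⟶ X)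
    (hcov : Presieve.ofArrows (fun i => (Y i).left) (fun i => (p i).left) ∈ K.coverings X.left)
    (x x' : G.obj.obj (op X))
    (h : ∀ i, G.obj.map (p i).op x = G.obj.map (p i).op x') : x = x' := by
  have hs := ab_isSheafFor_family G Y p hcov
  rw [Presieve.isSheafFor_arrows_iff] at hs
  have hc : Presieve.Arrows.Compatible (G.obj ⋙ forget _) p
      (fun i => G.obj.map (p i).op x) := by
    intro i j Z gi gj hij
    change G.obj.map gi.op (G.obj.map (p i).op x) = G.obj.map gj.op (G.obj.map (p j).op x)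
    rw [← ab_map_comp, ← ab_map_comp, hij]
  obtain ⟨t, _, ht⟩ := hs _ hc
  rw [ht x (fun i => rfl), ht x' (fun i => (h i).symm)]

theorem ab_family_glue {X : Over S} {I : Type v} (Y : I → Over S) (p : ∀ i, Y i ⟶ X)
    (hcov : Presieve.ofArrows (fun i => (Y i).left) (fun i => (p i).left) ∈ K.coverings X.left)
    (y : ∀ i, G.obj.obj (op (Y i)))
    (h : ∀ (i j : I) (Z : Over S) (q₁ : Z ⟶ Y i) (q₂ : Z ⟶ Y j), q₁ ≫ p i = q₂ ≫ p j →
      G.obj.map q₁.op (y i) = G.obj.map q₂.op (y j)) :
    ∃ x : G.obj.obj (op X), ∀ i, G.obj.map (p i).op x = y i := by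
  have hs := ab_isSheafFor_family G Y p hcov
  rw [Presieve.isSheafFor_arrows_iff] at hs
  obtain ⟨t, ht, _⟩ := hs y (fun i j Z gi gj hij => h i j Z gi gj hij)
  exact ⟨t, ht⟩

variable (hz : Scheme.zariskiPrecoverage ≤ K)

include hz in
theorem ab_subsingleton_of_isEmpty (Z : Over S) [IsEmpty Z.left] :
    Subsingleton (G.obj.obj (op Z)) := by
  refine ⟨fun x y => ab_family_sep G (fun i : PEmpty.{1} => i.elim) (fun i => i.elim)
    (hz _ ?_) x y (fun i => i.elim)⟩
  rw [Scheme.ofArrows_mem_precoverage_iff]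
  exact ⟨fun x => (IsEmpty.false x).elim, fun i => i.elim⟩

include hz in
theorem ab_pi_glue {R : CommRingCat.{u}} (a : Spec R ⟶ S) {n : ℕ} (C : Fin n → Type u)
    [∀ j, CommRing (C j)] [∀ j, Algebra R (C j)]
    (y : ∀ j, G.obj.obj (op ((specOver a).obj (op (algOf R (C j)))))) :
    ∃ yy : G.obj.obj (op ((specOver a).obj (op (algOf R (∀ j, C j))))),
      ∀ j, G.obj.map ((specOver a).map (piProj R C j).op).op yy = y j := by
  refine ab_family_glue G (fun j => (specOver a).obj (op (algOf R (C j))))
    (fun j => (specOver a).map (piProj R C j).op) (hz _ (pi_cover_mem_zariski C)) y ?_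
  intro i j Z q₁ q₂ hq
  have h1 : q₁.left ≫ ((specOver a).map (piProj R C i).op).left =
      q₂.left ≫ ((specOver a).map (piProj R C j).op).left := congrArg CommaMorphism.left hq
  by_cases hij : i = j
  · subst hij
    have hq' : q₁ = q₂ := by
      ext : 1
      haveI : Mono ((specOver a).map (piProj R C i).op).left := by
        change Mono (Spec.map (CommRingCat.ofHom (Pi.evalRingHom C i)))
        infer_instance
      exact (cancel_mono _).mp h1
    rw [hq']
  · haveI : IsEmpty Z.left := by
      refine ⟨fun z => hij ?_⟩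
      have h2 : (Spec.map (CommRingCat.ofHom (Pi.evalRingHom C i))) (q₁.left z) =
          (Spec.map (CommRingCat.ofHom (Pi.evalRingHom C j))) (q₂.left z) := by
        have := congrArg (fun f : Z.left ⟶ Spec (CommRingCat.of (∀ j, C j)) => f z) h1
        exact ((Scheme.Hom.comp_apply q₁.left
          ((specOver a).map (piProj R C i).op).left z).symm.trans this).trans
          (Scheme.Hom.comp_apply q₂.left ((specOver a).map (piProj R C j).op).left z)
      have h3 : PrimeSpectrum.sigmaToPi C ⟨i, q₁.left z⟩ = PrimeSpectrum.sigmaToPi C ⟨j, q₂.left z⟩ :=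
        h2
      exact congrArg Sigma.fst (PrimeSpectrum.sigmaToPi_injective C h3)
    have hs := ab_subsingleton_of_isEmpty G hz Z
    exact @Subsingleton.elim _ hs _ _

end AbSheaf

section AbExact
variable {K : Precoverage Scheme.{u}} {S : Scheme.{u}}
  (C : ShortComplex (BigSite.Ab K S)) (hC : C.ShortExact)

include hC in
theorem ab_shortExact_f_injective (V : Over S) : Function.Injective (C.f.hom.app (op V)) := by
  haveI := hC.mono_f
  let FV : BigSite.Ab K S ⥤ AddCommGrpCat.{u + 1} :=
    sheafToPresheaf _ _ ⋙ (evaluation _ _).obj (op V)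
  haveI : Mono (FV.map C.f) := inferInstance
  exact (AddCommGrpCat.mono_iff_injective (FV.map C.f)).mp inferInstance

include hC in
theorem ab_shortExact_exact (V : Over S) (x : C.X₂.obj.obj (op V))
    (hx : C.g.hom.app (op V) x = 0) : ∃ z : C.X₁.obj.obj (op V), C.f.hom.app (op V) z = x := by
  haveI := hC.mono_f
  let FV : BigSite.Ab K S ⥤ AddCommGrpCat.{u + 1} :=
    sheafToPresheaf _ _ ⋙ (evaluation _ _).obj (op V)
  haveI : FV.PreservesZeroMorphisms := ⟨fun _ _ => rfl⟩
  have hS' := hC.exact.map_of_mono_of_preservesKernel FV (by infer_instance) (by infer_instance)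
  rw [ShortComplex.ab_exact_iff] at hS'
  exact hS' x hx

theorem ab_shortComplex_zero_apply (V : Over S) (z : C.X₁.obj.obj (op V)) :
    C.g.hom.app (op V) (C.f.hom.app (op V) z) = 0 :=
  congrArg (fun ψ : C.X₁ ⟶ C.X₃ => ψ.hom.app (op V) z) C.zero

include hC in
theorem ab_imageSieve_mem (V : Over S) (s : C.X₃.obj.obj (op V)) :
    Presheaf.imageSieve C.g.hom s ∈ QuotSh.J K S V := by
  haveI := hC.epi_g
  haveI : Sheaf.IsLocallySurjective C.g :=
    (Sheaf.isLocallySurjective_iff_epi' (φ := C.g)).mpr inferInstance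
  exact Presheaf.imageSieve_mem (QuotSh.J K S) C.g.hom s

end AbExact

end Groth.Agent.H89.AQ
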