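import Groth.Agent.H89.AdeqCech3

/-!
# Čech exactness for adequate modules along a faithfully flat affine map: the theorem
-/

set_option autoImplicit false
set_option linter.style.haveILetI false
universe u
open CategoryTheory Limits Opposite Adeq AlgebraicGeometry Simplicial AlgebraicTopology TensorProduct

namespace Groth.Agent.H89.AQ

section Ind
variable {R : CommRingCat.{u}} (B : Type u) [CommRing B] [Algebra R B] [Module.FaithfullyFlat R B]
  (N : BigSite.Mod Scheme.fppfPrecoverage (Spec R))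
  (hN : Adeq.adequateMod Scheme.fppfPrecoverage (Spec R) N)

include hN in
theorem cech_base_h3 (y : (secP (ppCok (gB (R := R) B) N)).obj (op (Cech.pw (UB (R := R) B) (Fin 1))))
    (hy : (secP (ppCok (gB (R := R) B) N)).map
        (Cech.pwMap (UB (R := R) B) ((0 : Fin 2).succAbove : Fin 1 → Fin 2)).op y =
      (secP (ppCok (gB (R := R) B) N)).map
        (Cech.pwMap (UB (R := R) B) ((1 : Fin 2).succAbove : Fin 1 → Fin 2)).op y) :
    ∃ y₂ : (secP (ppMod (gB (R := R) B) N)).obj (op (Cech.pw (UB (R := R) B) (Fin 1))),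
      (secP (ppMod (gB (R := R) B) N)).map
          (Cech.pwMap (UB (R := R) B) ((0 : Fin 2).succAbove : Fin 1 → Fin 2)).op y₂ =
        (secP (ppMod (gB (R := R) B) N)).map
          (Cech.pwMap (UB (R := R) B) ((1 : Fin 2).succAbove : Fin 1 → Fin 2)).op y₂ ∧
      (secHom (ppPi (gB (R := R) B) N)).app (op (Cech.pw (UB (R := R) B) (Fin 1))) y₂ = y := by
  obtain ⟨Q, hQdef⟩ : ∃ Q, Q = ppCok (gB (R := R) B) N := ⟨_, rfl⟩
  have hQ : Adeq.adequateMod Scheme.fppfPrecoverage (Spec R) (ppCok (gB (R := R) B) N) :=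
    adequateMod_ses2_X₃ (gB (R := R) B) N hN
  -- restrict to `UA R B`
  have hyB : (secP (ppCok (gB (R := R) B) N)).map ((specOver (𝟙 (Spec R))).map (gL R B).op).op
        ((secP (ppCok (gB (R := R) B) N)).map (psi1 B).op y) =
      (secP (ppCok (gB (R := R) B) N)).map ((specOver (𝟙 (Spec R))).map (gR R B).op).op
        ((secP (ppCok (gB (R := R) B) N)).map (psi1 B).op y) := by
    rw [← secP_map_comp, ← secP_map_comp, ← phi2_zero, ← phi2_one, secP_map_comp, secP_map_comp, hy]
  obtain ⟨x, hx⟩ := cech_two_over B _ hQ _ hyB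
  haveI : IsAffine (UA R R).left := inferInstanceAs (IsAffine (Spec _))
  obtain ⟨x', hx'⟩ : ∃ x' : (secP (ppMod (gB (R := R) B) N)).obj (op (UA R R)),
      (secHom (ppPi (gB (R := R) B) N)).app (op (UA R R)) x' = x :=
    ppPi_surj_affine (gB (R := R) B) N hN (UA R R) x
  refine ⟨(secP (ppMod (gB (R := R) B) N)).map
    (psi2 B ≫ (specOver (𝟙 (Spec R))).map (g0 R B).op).op x', ?_, ?_⟩
  · rw [← secP_map_comp, ← secP_map_comp]
    rw [UA_hom_ext (Cech.pwMap (UB (R := R) B) ((0 : Fin 2).succAbove : Fin 1 → Fin 2) ≫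
      psi2 B ≫ (specOver (𝟙 (Spec R))).map (g0 R B).op)
      (Cech.pwMap (UB (R := R) B) ((1 : Fin 2).succAbove : Fin 1 → Fin 2) ≫
      psi2 B ≫ (specOver (𝟙 (Spec R))).map (g0 R B).op)]
  · rw [secHom_nat]
    rw [hx', secP_map_comp, hx, ← secP_map_comp, psi2_psi1]
    exact secP_map_id _ _ y

include hN in
theorem exAt_zero : Cech.ExAt (Cech.KCos (UB (R := R) B) (secP N)) 0 := by
  refine (termSES_pp (gB (R := R) B) N hN).base (exAt_ppMod (gB (R := R) B) N 0) ?_
  intro y hy
  rw [objD_zero_apply, sub_eq_zero] at hy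
  obtain ⟨y₂, h1, h2⟩ := cech_base_h3 B N hN y hy
  exact ⟨y₂, (objD_zero_apply _ _).trans (sub_eq_zero.mpr h1), h2⟩

end Ind

section Final
variable {R : CommRingCat.{u}} (B : Type u) [CommRing B] [Algebra R B] [Module.FaithfullyFlat R B]

theorem exAt_all (n : ℕ) : ∀ (N : BigSite.Mod Scheme.fppfPrecoverage (Spec R))
    (_ : Adeq.adequateMod Scheme.fppfPrecoverage (Spec R) N),
    Cech.ExAt (Cech.KCos (UB (R := R) B) (secP N)) n := by
  induction n with
  | zero => exact fun N hN => exAt_zero B N hN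
  | succ n ih =>
    intro N hN
    exact (termSES_pp (gB (R := R) B) N hN).step n (exAt_ppMod (gB (R := R) B) N (n + 1))
      (ih (ppCok (gB (R := R) B) N) (adequateMod_ses2_X₃ (gB (R := R) B) N hN))

theorem cech_exactAt_of_adequate (S : Scheme.{u}) (M : BigSite.Mod Scheme.fppfPrecoverage S)
    (hM : Adeq.adequateMod Scheme.fppfPrecoverage S M) (a : Spec R ⟶ S) (n : ℕ) (hn : 0 < n) :
    ((cechComplexFunctor (A := AddCommGrpCat.{u + 1})
        (fun _ : PUnit.{u + 2} => (Over.mk (Spec.map (CommRingCat.ofHom (algebraMap R B))) : Over (Spec R)))).obj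
      ((Over.map a).op ⋙ ((BigSite.toAbMod Scheme.fppfPrecoverage S).obj M).obj)).ExactAt n := by
  obtain ⟨m, rfl⟩ : ∃ m, n = m + 1 := ⟨n - 1, by omega⟩
  refine (Cech.cech_exactAt_iff.{u + 1} _ _ _).mpr ?_
  refine (Cech.exAt_iff _ m).mpr ?_
  exact exAt_all B m ((BigSite.pullMod Scheme.fppfPrecoverage a).obj M)
    (adequateMod_pullMod_fppf a M hM)

end Final

end Groth.Agent.H89.AQ
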