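import Groth.Agent.H89.CechSimple

/-!
# Dimension shifting for alternating coface complexes of abelian groups, elementwise
-/

set_option autoImplicit false
set_option linter.style.haveILetI false
universe t
open CategoryTheory Limits Opposite Simplicial AlgebraicTopology

namespace Groth.Agent.H89.Cech

section Nat
variable {A : Type*} [Category A] [Preadditive A] {X Y : CosimplicialObject A} (φ : X ⟶ Y)

theorem objD_naturality (n : ℕ) :
    AlternatingCofaceMapComplex.objD X n ≫ φ.app ⦋n + 1⦌ =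
      φ.app ⦋n⦌ ≫ AlternatingCofaceMapComplex.objD Y n := by
  simp only [AlternatingCofaceMapComplex.objD]
  rw [Preadditive.comp_sum, Preadditive.sum_comp]
  refine Finset.sum_congr rfl fun x _ => ?_
  rw [Preadditive.comp_zsmul, Preadditive.zsmul_comp]
  congr 1
  exact φ.naturality (SimplexCategory.δ x)

end Nat

section Chase
variable {X₁ X₂ X₃ : CosimplicialObject AddCommGrpCat.{t}} (f : X₁ ⟶ X₂) (g : X₂ ⟶ X₃)

/-- elementwise exactness at degree `n+1` -/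
def ExAt (X : CosimplicialObject AddCommGrpCat.{t}) (n : ℕ) : Prop :=
  ∀ x : X.obj ⦋n + 1⦌, AlternatingCofaceMapComplex.objD X (n + 1) x = 0 →
    ∃ y : X.obj ⦋n⦌, AlternatingCofaceMapComplex.objD X n y = x

theorem exAt_iff (X : CosimplicialObject AddCommGrpCat.{t}) (n : ℕ) :
    ((alternatingCofaceMapComplex AddCommGrpCat.{t}).obj X).ExactAt (n + 1) ↔ ExAt X n :=
  exactAt_succ_iff X n

theorem objD_nat_apply {X Y : CosimplicialObject AddCommGrpCat.{t}} (φ : X ⟶ Y) (n : ℕ)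
    (x : X.obj ⦋n⦌) :
    φ.app ⦋n + 1⦌ (AlternatingCofaceMapComplex.objD X n x) =
      AlternatingCofaceMapComplex.objD Y n (φ.app ⦋n⦌ x) :=
  congrArg (fun ψ : X.obj ⦋n⦌ ⟶ Y.obj ⦋n + 1⦌ => ψ x) (objD_naturality φ n)

theorem objD_sq_apply (X : CosimplicialObject AddCommGrpCat.{t}) (n : ℕ) (x : X.obj ⦋n⦌) :
    AlternatingCofaceMapComplex.objD X (n + 1) (AlternatingCofaceMapComplex.objD X n x) = 0 :=
  congrArg (fun ψ : X.obj ⦋n⦌ ⟶ X.obj ⦋n + 1 + 1⦌ => ψ x)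
    (AlternatingCofaceMapComplex.d_squared X n)

/-- termwise short exactness of cosimplicial abelian groups, elementwise -/
structure TermSES : Prop where
  inj : ∀ n : ℕ, Function.Injective (f.app ⦋n⦌)
  zero : ∀ (n : ℕ) (x : X₁.obj ⦋n⦌), g.app ⦋n⦌ (f.app ⦋n⦌ x) = 0
  exact : ∀ (n : ℕ) (y : X₂.obj ⦋n⦌), g.app ⦋n⦌ y = 0 → ∃ x : X₁.obj ⦋n⦌, f.app ⦋n⦌ x = y
  surj : ∀ n : ℕ, Function.Surjective (g.app ⦋n⦌)

variable {f g}

theorem TermSES.step (h : TermSES f g) (n : ℕ) (h₂ : ExAt X₂ (n + 1)) (h₃ : ExAt X₃ n) :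
    ExAt X₁ (n + 1) := by
  intro x hx
  have hx' : AlternatingCofaceMapComplex.objD X₂ (n + 1 + 1) (f.app ⦋n + 1 + 1⦌ x) = 0 := by
    rw [← objD_nat_apply, hx, map_zero]
  obtain ⟨y', hy'⟩ := h₂ _ hx'
  have hy'' : AlternatingCofaceMapComplex.objD X₃ (n + 1) (g.app ⦋n + 1⦌ y') = 0 := by
    rw [← objD_nat_apply, hy', h.zero]
  obtain ⟨z'', hz''⟩ := h₃ _ hy''
  obtain ⟨z', hz'⟩ := h.surj n z''
  have hg : g.app ⦋n + 1⦌ (y' - AlternatingCofaceMapComplex.objD X₂ n z') = 0 := by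
    rw [map_sub, objD_nat_apply, hz', hz'', sub_self]
  obtain ⟨w, hw⟩ := h.exact (n + 1) _ hg
  refine ⟨w, h.inj (n + 1 + 1) ?_⟩
  rw [objD_nat_apply, hw, map_sub, hy', objD_sq_apply, sub_zero]

theorem TermSES.base (h : TermSES f g) (h₂ : ExAt X₂ 0)
    (h₃ : ∀ y : X₃.obj ⦋0⦌, AlternatingCofaceMapComplex.objD X₃ 0 y = 0 →
      ∃ y₂ : X₂.obj ⦋0⦌, AlternatingCofaceMapComplex.objD X₂ 0 y₂ = 0 ∧ g.app ⦋0⦌ y₂ = y) :
    ExAt X₁ 0 := by
  intro x hx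
  have hx' : AlternatingCofaceMapComplex.objD X₂ (0 + 1) (f.app ⦋0 + 1⦌ x) = 0 := by
    rw [← objD_nat_apply, hx, map_zero]
  obtain ⟨y', hy'⟩ := h₂ _ hx'
  have hy'' : AlternatingCofaceMapComplex.objD X₃ 0 (g.app ⦋0⦌ y') = 0 := by
    rw [← objD_nat_apply, hy', h.zero]
  obtain ⟨y₂, hy₂, hgy₂⟩ := h₃ _ hy''
  have hg : g.app ⦋0⦌ (y' - y₂) = 0 := by
    rw [map_sub, hgy₂, sub_self]
  obtain ⟨w, hw⟩ := h.exact 0 _ hg
  refine ⟨w, h.inj (0 + 1) ?_⟩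
  rw [objD_nat_apply, hw, map_sub, hy', hy₂, sub_zero]

end Chase

end Groth.Agent.H89.Cech
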