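import Groth.Agent.H89.CechInj1
import Groth.Agent.H89.CechChase

/-!
# Injective presheaves on `Over X` are Čech-acyclic for covers of objects `Y → X`

For `a : Y ⟶ X`, `U : Over Y` and an injective presheaf of abelian groups `E` on `Over X`, the cosimplicial group
`n ↦ E(U^{n+1} → Y → X)` (powers in `Over Y`) is exact in positive degrees.
-/

set_option autoImplicit false
set_option linter.style.haveILetI false
universe u
open CategoryTheory Limits Opposite Simplicial AlgebraicTopology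

namespace Groth.Agent.H89.CechInj

variable {𝒮 : Type (u + 1)} [Category.{u} 𝒮] {X Y : 𝒮} (a : Y ⟶ X)

section Lower
variable {a}

/-- the map to `Y` underlying a map `Z ⟶ (V → Y → X)` -/
def zOf {V : Over Y} {Z : Over X} (e : Z ⟶ (Over.map a).obj V) : Z.left ⟶ Y := e.left ≫ V.hom

theorem zOf_comp {V : Over Y} {Z : Over X} (e : Z ⟶ (Over.map a).obj V) : zOf e ≫ a = Z.hom := by
  have := Over.w e
  simpa [zOf] using this

/-- a map `Z ⟶ (V → Y → X)` in `Over X` as a map in `Over Y` -/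
def lower {V : Over Y} {Z : Over X} (e : Z ⟶ (Over.map a).obj V) : Over.mk (zOf e) ⟶ V :=
  Over.homMk e.left rfl

/-- a map in `Over Y` as a map in `Over X` -/
def raise {V : Over Y} {Z : Over X} (z : Z.left ⟶ Y) (hz : z ≫ a = Z.hom) (b : Over.mk z ⟶ V) :
    Z ⟶ (Over.map a).obj V :=
  Over.homMk b.left (by
    have h := Over.w b
    simp only [Over.mk_left, Over.mk_hom] at h
    simp only [Over.map_obj_left, Over.map_obj_hom]
    rw [← Category.assoc, h, hz])

theorem raise_lower {V : Over Y} {Z : Over X} (e : Z ⟶ (Over.map a).obj V) :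
    raise (zOf e) (zOf_comp e) (lower e) = e := by
  ext
  rfl

theorem raise_comp {V V' : Over Y} {Z : Over X} (z : Z.left ⟶ Y) (hz : z ≫ a = Z.hom)
    (b : Over.mk z ⟶ V) (f : V ⟶ V') :
    raise z hz b ≫ (Over.map a).map f = raise z hz (b ≫ f) := by
  ext
  simp [raise]

theorem raise_ext {V : Over Y} {Z : Over X} (z z' : Z.left ⟶ Y) (hz : z ≫ a = Z.hom)
    (hz' : z' ≫ a = Z.hom) (b : Over.mk z ⟶ V) (b' : Over.mk z' ⟶ V) (h : b.left = b'.left) :
    raise z hz b = raise z' hz' b' := by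
  ext
  exact h

end Lower

end Groth.Agent.H89.CechInj

namespace Groth.Agent.H89.CechInj

variable {𝒮 : Type (u + 1)} [Category.{u} 𝒮] {X Y : 𝒮} (a : Y ⟶ X) [HasFiniteProducts (Over Y)]
  (U : Over Y)

section Contr

/-- a chosen map `(Z, z) ⟶ U` in `Over Y`, depending only on `z` -/
noncomputable def beta {T : 𝒮} (z : T ⟶ Y) (h : Nonempty (Over.mk z ⟶ U)) : Over.mk z ⟶ U :=
  Classical.choice h

/-- the extended tuple in `Over Y` -/
noncomputable def ext1 {T : 𝒮} (z : T ⟶ Y) {n : ℕ} (b : Fin (n + 1) → (Over.mk z ⟶ U)) :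
    Over.mk z ⟶ Cech.pw U (Fin (n + 2)) :=
  Pi.lift (Fin.cons (beta U z ⟨b 0⟩) b)

theorem ext1_left_congr {T : 𝒮} (z z' : T ⟶ Y) (hzz : z = z') {n : ℕ}
    (b : Fin (n + 1) → (Over.mk z ⟶ U)) (b' : Fin (n + 1) → (Over.mk z' ⟶ U))
    (hb : ∀ j, (b j).left = (b' j).left) : (ext1 U z b).left = (ext1 U z' b').left := by
  subst hzz
  have : b = b' := funext fun j => Over.OverMorphism.ext (hb j)
  subst this
  rfl

theorem ext1_pwMap_zero {T : 𝒮} (z : T ⟶ Y) {n : ℕ} (b : Fin (n + 1) → (Over.mk z ⟶ U)) :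
    ext1 U z b ≫ Cech.pwMap U ((0 : Fin (n + 2)).succAbove : Fin (n + 1) → Fin (n + 2)) =
      Pi.lift b := by
  apply Pi.hom_ext
  intro j
  rw [Category.assoc, Cech.pwMap_π, Pi.lift_π]
  unfold ext1
  rw [Pi.lift_π, Fin.succAbove_zero_apply, Fin.cons_succ]

theorem ext1_pwMap_succ {T : 𝒮} (z : T ⟶ Y) {n : ℕ} (b : Fin (n + 2) → (Over.mk z ⟶ U))
    (i : Fin (n + 2)) :
    ext1 U z b ≫ Cech.pwMap U (i.succ.succAbove : Fin (n + 2) → Fin (n + 3)) =
      ext1 U z (fun k => b (i.succAbove k)) := by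
  apply Pi.hom_ext
  intro j
  rw [Category.assoc, Cech.pwMap_π]
  unfold ext1
  rw [Pi.lift_π, Pi.lift_π]
  refine Fin.cases ?_ (fun k => ?_) j
  · rw [Fin.succ_succAbove_zero, Fin.cons_zero, Fin.cons_zero]
  · rw [Fin.succ_succAbove_succ, Fin.cons_succ, Fin.cons_succ]

/-- the contraction on Hom-sets -/
noncomputable def sC {Z : Over X} {n : ℕ}
    (e : Z ⟶ (Over.map a).obj (Cech.pw U (Fin (n + 1)))) :
    Z ⟶ (Over.map a).obj (Cech.pw U (Fin (n + 2))) :=
  raise (zOf e) (zOf_comp e)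
    (ext1 U (zOf e) (fun j => lower e ≫ Pi.π (fun _ : Fin (n + 1) => U) j))

theorem sC_zero {Z : Over X} {n : ℕ} (e : Z ⟶ (Over.map a).obj (Cech.pw U (Fin (n + 1)))) :
    sC a U e ≫ (Over.map a).map
      (Cech.pwMap U ((0 : Fin (n + 2)).succAbove : Fin (n + 1) → Fin (n + 2))) = e := by
  unfold sC
  rw [raise_comp, ext1_pwMap_zero]
  have h : Pi.lift (fun j => lower e ≫ Pi.π (fun _ : Fin (n + 1) => U) j) = lower e := by
    apply Pi.hom_ext
    intro j
    rw [Pi.lift_π]
  rw [h, raise_lower]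

theorem sC_succ {Z : Over X} {n : ℕ} (e : Z ⟶ (Over.map a).obj (Cech.pw U (Fin (n + 2))))
    (i : Fin (n + 2)) :
    sC a U e ≫ (Over.map a).map
      (Cech.pwMap U (i.succ.succAbove : Fin (n + 2) → Fin (n + 3))) =
    sC a U (e ≫ (Over.map a).map
      (Cech.pwMap U (i.succAbove : Fin (n + 1) → Fin (n + 2)))) := by
  unfold sC
  rw [raise_comp, ext1_pwMap_succ]
  apply raise_ext
  apply ext1_left_congr
  · unfold zOf
    have h := Over.w (Cech.pwMap U (i.succAbove : Fin (n + 1) → Fin (n + 2)))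
    simp only [Over.comp_left, Over.map_map_left, Category.assoc]
    rw [h]
  · intro j
    have h := congrArg CommaMorphism.left
      (Cech.pwMap_π U (i.succAbove : Fin (n + 1) → Fin (n + 2)) j)
    simp only [Over.comp_left] at h
    simp only [lower, Over.comp_left, Over.homMk_left, Over.map_map_left, Category.assoc]
    first
      | (rw [h]; done)
      | (rw [h]; rfl)

end Contr

theorem objD_apply (X : CosimplicialObject AddCommGrpCat.{u + 1}) (n : ℕ) (x : X.obj ⦋n⦌) :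
    AlternatingCofaceMapComplex.objD X n x =
      ∑ i : Fin (n + 2), (-1 : ℤ) ^ (i : ℕ) • X.δ i x := by
  unfold AlternatingCofaceMapComplex.objD
  rw [ab_sum_apply]
  rfl

theorem exAt_of_injective (E : (Over X)ᵒᵖ ⥤ AddCommGrpCat.{u + 1}) [Injective E] (n : ℕ) :
    Cech.ExAt (Cech.KCos U ((Over.map a).op ⋙ E)) n := by
  intro x hx
  rw [objD_apply] at hx
  obtain ⟨y, hy⟩ := exists_of_contraction E (m := n)
    (W₀ := (Over.map a).obj (Cech.pw U (Fin (n + 1))))
    (W₁ := (Over.map a).obj (Cech.pw U (Fin (n + 2))))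
    (W₂ := (Over.map a).obj (Cech.pw U (Fin (n + 3))))
    (fun i => (Over.map a).map (Cech.pwMap U (i.succAbove : Fin (n + 1) → Fin (n + 2))))
    (fun i => (Over.map a).map (Cech.pwMap U (i.succAbove : Fin (n + 2) → Fin (n + 3))))
    (fun Z e => sC a U e) (fun Z e => sC a U e)
    (fun Z e => sC_zero a U e) (fun Z e i => sC_succ a U e i) x hx
  exact ⟨y, (objD_apply (Cech.KCos U ((Over.map a).op ⋙ E)) n y).trans hy⟩

end Groth.Agent.H89.CechInj
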