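import Groth.Agent.H89.AbShf
import Groth.Agent.H89.CechInj2
import Groth.Agent.H89.AdeqCech4

/-!
# Step A of Cartan's criterion on the big fppf site: for a short exact sequence of abelian sheaves whose kernel has
vanishing first Čech cohomology for faithfully flat covers of an affine object, sections over that object surject
-/

set_option autoImplicit false
set_option linter.style.haveILetI false
universe u v
open CategoryTheory Limits Opposite TensorProduct Adeq AlgebraicGeometry Simplicial AlgebraicTopology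

namespace Groth.Agent.H89.AQ

section AbSheaf'
variable {K : Precoverage Scheme.{u}} [BigSite.OSh K] {S : Scheme.{u}} (G : BigSite.Ab K S)

theorem ab_isSheafFor_of_mem {X : Over S} {I : Type v} (Y : I → Over S) (p : ∀ i, Y i ⟶ X)
    (hmem : Sieve.ofArrows Y p ∈ QuotSh.J K S X) :
    Presieve.IsSheafFor (G.obj ⋙ forget _) (Presieve.ofArrows Y p) := by
  have h1 := (Presheaf.isSheaf_iff_isSheaf_forget (QuotSh.J K S) G.obj (forget _)).mp G.property
  rw [isSheaf_iff_isSheaf_of_type] at h1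
  exact h1.isSheafFor _ hmem

theorem ab_sep_of_mem {X : Over S} {I : Type v} (Y : I → Over S) (p : ∀ i, Y i ⟶ X)
    (hmem : Sieve.ofArrows Y p ∈ QuotSh.J K S X)
    (x x' : G.obj.obj (op X))
    (h : ∀ i, G.obj.map (p i).op x = G.obj.map (p i).op x') : x = x' := by
  have hs := ab_isSheafFor_of_mem G Y p hmem
  rw [Presieve.isSheafFor_arrows_iff] at hs
  have hc : Presieve.Arrows.Compatible (G.obj ⋙ forget _) p
      (fun i => G.obj.map (p i).op x) := by
    intro i j Z gi gj hij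
    change G.obj.map gi.op (G.obj.map (p i).op x) = G.obj.map gj.op (G.obj.map (p j).op x)
    rw [← ab_map_comp, ← ab_map_comp, hij]
  obtain ⟨t, _, ht⟩ := hs _ hc
  rw [ht x (fun i => rfl), ht x' (fun i => (h i).symm)]

theorem ab_glue_of_mem {X : Over S} {I : Type v} (Y : I → Over S) (p : ∀ i, Y i ⟶ X)
    (hmem : Sieve.ofArrows Y p ∈ QuotSh.J K S X)
    (y : ∀ i, G.obj.obj (op (Y i)))
    (h : ∀ (i j : I) (Z : Over S) (q₁ : Z ⟶ Y i) (q₂ : Z ⟶ Y j), q₁ ≫ p i = q₂ ≫ p j →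
      G.obj.map q₁.op (y i) = G.obj.map q₂.op (y j)) :
    ∃ x : G.obj.obj (op X), ∀ i, G.obj.map (p i).op x = y i := by
  have hs := ab_isSheafFor_of_mem G Y p hmem
  rw [Presieve.isSheafFor_arrows_iff] at hs
  obtain ⟨t, ht, _⟩ := hs y (fun i j Z gi gj hij => h i j Z gi gj hij)
  exact ⟨t, ht⟩

end AbSheaf'

section Chase
universe t
variable {K₁ K₂ K₃ : CosimplicialObject AddCommGrpCat.{t}} (f : K₁ ⟶ K₂) (g : K₂ ⟶ K₃)

theorem chase_stepA (hinj : Function.Injective (f.app ⦋2⦌))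
    (hex : ∀ y : K₂.obj ⦋1⦌, g.app ⦋1⦌ y = 0 → ∃ x : K₁.obj ⦋1⦌, f.app ⦋1⦌ x = y)
    (h₁ : Cech.ExAt K₁ 0) (y₀ : K₂.obj ⦋0⦌)
    (hy₀ : AlternatingCofaceMapComplex.objD K₃ 0 (g.app ⦋0⦌ y₀) = 0) :
    ∃ e : K₁.obj ⦋0⦌, AlternatingCofaceMapComplex.objD K₂ 0 (y₀ - f.app ⦋0⦌ e) = 0 := by
  have hg : g.app ⦋0 + 1⦌ (AlternatingCofaceMapComplex.objD K₂ 0 y₀) = 0 := by
    rw [Cech.objD_nat_apply, hy₀]
  obtain ⟨d', hd'⟩ := hex _ hg
  have hd'' : AlternatingCofaceMapComplex.objD K₁ (0 + 1) d' = 0 := by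
    apply hinj
    rw [map_zero]
    have := Cech.objD_nat_apply f (0 + 1) d'
    rw [this, hd', Cech.objD_sq_apply]
  obtain ⟨e, he⟩ := h₁ d' hd''
  refine ⟨e, ?_⟩
  rw [map_sub, ← Cech.objD_nat_apply, he, hd', sub_self]

end Chase

end Groth.Agent.H89.AQ

namespace Groth.Agent.H89.AQ

section Geo
variable {X : Scheme.{u}} {R : CommRingCat.{u}} (a : Spec R ⟶ X)

/-- base object -/
noncomputable abbrev V0 : Over X := (specOver a).obj (op (algOf R R))

example (B : Type u) [CommRing B] [Algebra R B] :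
    (specOver a).obj (op (algOf R B)) = (Over.map a).obj (UB (R := R) B) := rfl

/-- the structure map `Φ W ⟶ V0` -/
noncomputable def theta (W : Over (Spec R)) : (Over.map a).obj W ⟶ V0 a :=
  Over.homMk W.hom (by
    change W.hom ≫ Spec.map (CommRingCat.ofHom (algebraMap R R)) ≫ a = W.hom ≫ a
    rw [Algebra.algebraMap_self, CommRingCat.ofHom_id, Spec.map_id]
    rfl)

theorem map_theta {W W' : Over (Spec R)} (f : W ⟶ W') :
    (Over.map a).map f ≫ theta a W' = theta a W := by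
  ext
  simp only [theta, Over.comp_left, Over.map_map_left]
  exact Over.w f

theorem theta_UB (B : Type u) [CommRing B] [Algebra R B] :
    theta a (UB (R := R) B) = (specOver a).map (g0 R B).op := by
  ext
  rfl

theorem g0_piProj {n : ℕ} (Cj : Fin n → Type u) [∀ j, CommRing (Cj j)] [∀ j, Algebra R (Cj j)]
    (j : Fin n) : g0 R (∀ j, Cj j) ≫ piProj R Cj j = g0 R (Cj j) := by
  ext

section Descend
variable (G : BigSite.Ab Scheme.fppfPrecoverage X) (U : Over (Spec R))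

theorem ab_compat_pw (y : G.obj.obj (op ((Over.map a).obj (Cech.pw U (Fin 1)))))
    (hy : G.obj.map ((Over.map a).map
        (Cech.pwMap U ((0 : Fin 2).succAbove : Fin 1 → Fin 2))).op y =
      G.obj.map ((Over.map a).map
        (Cech.pwMap U ((1 : Fin 2).succAbove : Fin 1 → Fin 2))).op y)
    (Z : Over X) (q₁ q₂ : Z ⟶ (Over.map a).obj (Cech.pw U (Fin 1)))
    (hq : q₁ ≫ theta a _ = q₂ ≫ theta a _) : G.obj.map q₁.op y = G.obj.map q₂.op y := by
  have hz12 : CechInj.zOf q₂ = CechInj.zOf q₁ := (congrArg CommaMorphism.left hq).symm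
  obtain ⟨b₂', hb₂'⟩ : ∃ b₂' : Over.mk (CechInj.zOf q₁) ⟶ Cech.pw U (Fin 1), b₂'.left = q₂.left :=
    ⟨Over.homMk q₂.left hz12, rfl⟩
  obtain ⟨r, hr⟩ : ∃ r : Z ⟶ (Over.map a).obj (Cech.pw U (Fin 2)),
      r = CechInj.raise (CechInj.zOf q₁) (CechInj.zOf_comp q₁)
        (Pi.lift (fun i : Fin 2 => if i = 0 then CechInj.lower q₁ ≫ Pi.π (fun _ : Fin 1 => U) 0
          else b₂' ≫ Pi.π (fun _ : Fin 1 => U) 0)) := ⟨_, rfl⟩
  have hr1 : r ≫ (Over.map a).map (Cech.pwMap U ((1 : Fin 2).succAbove : Fin 1 → Fin 2)) = q₁ := by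
    rw [hr, CechInj.raise_comp]
    refine Eq.trans ?_ (CechInj.raise_lower q₁)
    apply CechInj.raise_ext
    congr 1
    apply Pi.hom_ext
    intro j
    rw [Fin.fin_one_eq_zero j]
    have h1 : (1 : Fin 2).succAbove (0 : Fin 1) = 0 := by decide
    rw [Category.assoc, Cech.pwMap_π, h1, Pi.lift_π, if_pos rfl]
  have hr0 : r ≫ (Over.map a).map (Cech.pwMap U ((0 : Fin 2).succAbove : Fin 1 → Fin 2)) = q₂ := by
    rw [hr, CechInj.raise_comp]
    refine Eq.trans ?_ (CechInj.raise_lower q₂)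
    apply CechInj.raise_ext
    refine Eq.trans ?_ hb₂'
    congr 1
    apply Pi.hom_ext
    intro j
    rw [Fin.fin_one_eq_zero j]
    have h1 : (0 : Fin 2).succAbove (0 : Fin 1) = 1 := by decide
    have h2 : ¬ ((1 : Fin 2) = 0) := by decide
    rw [Category.assoc, Cech.pwMap_π, h1, Pi.lift_π, if_neg h2]
  rw [← hr1, ← hr0, ab_map_comp, ab_map_comp, hy]

end Descend

section Main
variable (C : ShortComplex (BigSite.Ab Scheme.fppfPrecoverage X)) (hC : C.ShortExact)

include hC in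
theorem ab_shortExact_g_surj_base
    (hF : ∀ (B : Type u) [CommRing B] [Algebra R B] [Module.FaithfullyFlat R B],
      Cech.ExAt (Cech.KCos (UB (R := R) B) ((Over.map a).op ⋙ C.X₁.obj)) 0) :
    Function.Surjective (C.g.hom.app (op (V0 a))) := by
  intro s
  have hz := Scheme.zariskiPrecoverage_le_fppfPrecoverage.{u}
  obtain ⟨n, Cj, _, _, hflat, hsurj, hcov, hT'⟩ :=
    refProp_fppf X a _ (ab_imageSieve_mem C hC (V0 a) s)
  haveI := hflat
  haveI : Module.FaithfullyFlat R (∀ j, Cj j) := faithfullyFlat_pi R Cj hsurj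
  choose t ht using hT'
  obtain ⟨tt, htt⟩ := ab_pi_glue C.X₂ hz a Cj t
  -- `g tt = s|_B`
  have h3 : C.g.hom.app _ tt =
      C.X₃.obj.map ((specOver a).map (g0 R (∀ j, Cj j)).op).op s := by
    refine ab_family_sep C.X₃ (fun j => (specOver a).obj (op (algOf R (Cj j))))
      (fun j => (specOver a).map (piProj R Cj j).op) (hz _ (pi_cover_mem_zariski Cj)) _ _
      (fun j => ?_)
    rw [← ab_hom_nat, htt j, ht j, ← ab_map_comp, ← (specOver a).map_comp, ← op_comp, g0_piProj]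
  -- the covering sieve generated by the single map
  have hmem : Sieve.ofArrows
      (fun _ : PUnit.{1} => (Over.map a).obj (Cech.pw (UB (R := R) (∀ j, Cj j)) (Fin 1)))
      (fun _ => theta a (Cech.pw (UB (R := R) (∀ j, Cj j)) (Fin 1))) ∈
        QuotSh.J Scheme.fppfPrecoverage X (V0 a) := by
    have hfam : Sieve.ofArrows (fun j => (specOver a).obj (op (algOf R (Cj j))))
        (fun j => (specOver a).map (g0 R (Cj j)).op) ∈
          QuotSh.J Scheme.fppfPrecoverage X (V0 a) := ofArrows_mem_J _ _ hcov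
    refine (QuotSh.J Scheme.fppfPrecoverage X).superset_covering ?_ hfam
    rw [Sieve.ofArrows, Sieve.generate_le_iff]
    rintro W f ⟨j⟩
    have hfac : (specOver a).map (g0 R (Cj j)).op =
        ((specOver a).map (piProj R Cj j).op ≫ (Over.map a).map
          (Pi.lift (fun _ : Fin 1 => 𝟙 (UB (R := R) (∀ j, Cj j))))) ≫
          theta a (Cech.pw (UB (R := R) (∀ j, Cj j)) (Fin 1)) := by
      have e1 : (Over.map a).map (Pi.lift (fun _ : Fin 1 => 𝟙 (UB (R := R) (∀ j, Cj j)))) ≫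
          theta a (Cech.pw (UB (R := R) (∀ j, Cj j)) (Fin 1)) =
          (specOver a).map (g0 R (∀ j, Cj j)).op :=
        (map_theta a _).trans (theta_UB a _)
      have e2 : (specOver a).map (piProj R Cj j).op ≫ (specOver a).map (g0 R (∀ j, Cj j)).op =
          (specOver a).map (g0 R (Cj j)).op := by
        rw [← (specOver a).map_comp, ← op_comp, g0_piProj]
      exact ((Category.assoc _ _ _).trans
        ((congrArg (fun k => (specOver a).map (piProj R Cj j).op ≫ k) e1).trans e2)).symm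
    rw [hfac]
    exact Sieve.downward_closed _ (Sieve.ofArrows_mk _ _ PUnit.unit) _
  -- the 0-cochain
  obtain ⟨y₀, hy₀def⟩ : ∃ y₀ : C.X₂.obj.obj
      (op ((Over.map a).obj (Cech.pw (UB (R := R) (∀ j, Cj j)) (Fin 1)))),
      y₀ = C.X₂.obj.map ((Over.map a).map
        (Pi.π (fun _ : Fin 1 => UB (R := R) (∀ j, Cj j)) 0)).op tt := ⟨_, rfl⟩
  have hgy₀ : C.g.hom.app _ y₀ =
      C.X₃.obj.map (theta a (Cech.pw (UB (R := R) (∀ j, Cj j)) (Fin 1))).op s := by
    have e : (Over.map a).map (Pi.π (fun _ : Fin 1 => UB (R := R) (∀ j, Cj j)) 0) ≫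
        (specOver a).map (g0 R (∀ j, Cj j)).op =
        theta a (Cech.pw (UB (R := R) (∀ j, Cj j)) (Fin 1)) :=
      (congrArg (fun k => (Over.map a).map
        (Pi.π (fun _ : Fin 1 => UB (R := R) (∀ j, Cj j)) 0) ≫ k) (theta_UB a _).symm).trans
        (map_theta a _)
    exact (congrArg _ hy₀def).trans
      ((ab_hom_nat C.g ((Over.map a).map (Pi.π (fun _ : Fin 1 => UB (R := R) (∀ j, Cj j)) 0)) tt).trans
        ((congrArg (C.X₃.obj.map ((Over.map a).map
          (Pi.π (fun _ : Fin 1 => UB (R := R) (∀ j, Cj j)) 0)).op) h3).trans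
          ((ab_map_comp C.X₃ _ _ s).symm.trans (congrArg (fun k => C.X₃.obj.map k.op s) e))))
  -- the Čech chase
  have hδs : ∀ i : Fin 2, C.X₃.obj.map ((Over.map a).map
      (Cech.pwMap (UB (R := R) (∀ j, Cj j)) (i.succAbove : Fin 1 → Fin 2))).op
      (C.X₃.obj.map (theta a (Cech.pw (UB (R := R) (∀ j, Cj j)) (Fin 1))).op s) =
      C.X₃.obj.map (theta a (Cech.pw (UB (R := R) (∀ j, Cj j)) (Fin 2))).op s := fun i =>
    (ab_map_comp C.X₃ _ _ s).symm.trans
      (congrArg (fun k : (Over.map a).obj (Cech.pw (UB (R := R) (∀ j, Cj j)) (Fin 2)) ⟶ V0 a =>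
        C.X₃.obj.map k.op s) (map_theta a (Cech.pwMap (UB (R := R) (∀ j, Cj j))
          (i.succAbove : Fin 1 → Fin 2))))
  have hy₀ : AlternatingCofaceMapComplex.objD
      (Cech.KCos (UB (R := R) (∀ j, Cj j)) ((Over.map a).op ⋙ C.X₃.obj)) 0
      ((Cech.KCosMap (UB (R := R) (∀ j, Cj j))
        (Functor.whiskerLeft (Over.map a).op C.g.hom)).app ⦋0⦌ y₀) = 0 := by
    refine (objD_zero_apply _ _).trans (sub_eq_zero.mpr ?_)
    change C.X₃.obj.map ((Over.map a).map (Cech.pwMap (UB (R := R) (∀ j, Cj j))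
        ((0 : Fin 2).succAbove : Fin 1 → Fin 2))).op (C.g.hom.app _ y₀) =
      C.X₃.obj.map ((Over.map a).map (Cech.pwMap (UB (R := R) (∀ j, Cj j))
        ((1 : Fin 2).succAbove : Fin 1 → Fin 2))).op (C.g.hom.app _ y₀)
    rw [hgy₀]
    exact (hδs 0).trans (hδs 1).symm
  obtain ⟨e, he⟩ : ∃ e : C.X₁.obj.obj
      (op ((Over.map a).obj (Cech.pw (UB (R := R) (∀ j, Cj j)) (Fin 1)))),
      AlternatingCofaceMapComplex.objD
        (Cech.KCos (UB (R := R) (∀ j, Cj j)) ((Over.map a).op ⋙ C.X₂.obj)) 0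
        (y₀ - C.f.hom.app _ e) = 0 := chase_stepA
    (Cech.KCosMap (UB (R := R) (∀ j, Cj j)) (Functor.whiskerLeft (Over.map a).op C.f.hom))
    (Cech.KCosMap (UB (R := R) (∀ j, Cj j)) (Functor.whiskerLeft (Over.map a).op C.g.hom))
    (ab_shortExact_f_injective C hC _) (fun y hy => ab_shortExact_exact C hC _ y hy)
    (hF (∀ j, Cj j)) y₀ hy₀
  have he' := (objD_zero_apply _ _).symm.trans he
  rw [sub_eq_zero] at he'
  obtain ⟨x, hx⟩ := ab_glue_of_mem C.X₂ _ _ hmem (fun _ => y₀ - C.f.hom.app _ e)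
    (fun _ _ Z q₁ q₂ hq => ab_compat_pw a C.X₂ (UB (R := R) (∀ j, Cj j)) _ he' Z q₁ q₂ hq)
  refine ⟨x, ?_⟩
  refine ab_sep_of_mem C.X₃ _ _ hmem _ _ (fun _ => ?_)
  refine (ab_hom_nat C.g _ x).symm.trans ?_
  rw [hx PUnit.unit, map_sub, ab_shortComplex_zero_apply, sub_zero]
  exact hgy₀

end Main

end Geo

end Groth.Agent.H89.AQ
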