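import Groth.Agent.H89.AdeqColim
import Groth.Agent.H44.MVFFree

/-!
# The category of adequate functors (Stacks 46.3)

* closure instances for `Adeq.adequate A` (zero, kernels, cokernels, colimits, finite products), hence
  `Abelian (Adequate A)` (Mathlib's `ObjectProperty.FullSubcategory` instance) and cocompleteness;
* `linObj_isSeparating`: the standard linearly adequate functors form a small separating family;
* `adequate_ι_isLeftAdjoint`: the inclusion has a right adjoint (special adjoint functor theorem);
* `adequate_enoughInjectives`: enough injectives, transported along the adjunction from `MVF A`.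
-/

set_option autoImplicit false
set_option linter.style.haveILetI false
universe u
open CategoryTheory Limits Opposite TensorProduct Adeq

namespace Groth.Agent.H89.AQ
variable (A : Type u) [CommRing A]

instance adequate_containsZero : (adequate A).ContainsZero where
  exists_zero := by
    let M : ModuleCat.{u+1} A := ModuleCat.of A PUnit
    refine ⟨kernel ((underline A).map (𝟙 M)), ?_, ⟨M, M, 𝟙 M, ⟨Iso.refl _⟩⟩⟩
    exact isZero_kernel_of_mono _

instance adequate_closedKernels : (adequate A).IsClosedUnderKernels where
  kernels_le := by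
    rintro _ ⟨f, k, hk, hX, hY⟩
    exact (adequate A).prop_of_iso (hk.conePointUniqueUpToIso (kernelIsKernel f)).symm
      (adequate_kernel f hX hY)

instance adequate_closedCokernels : (adequate A).IsClosedUnderCokernels where
  cokernels_le := by
    rintro _ ⟨f, k, hk, hX, hY⟩
    exact (adequate A).prop_of_iso (hk.coconePointUniqueUpToIso (cokernelIsCokernel f)).symm
      (adequate_cokernel f hX hY)

instance adequate_closedColimits (J : Type (u+1)) [SmallCategory J] :
    (adequate A).IsClosedUnderColimitsOfShape J :=
  ObjectProperty.IsClosedUnderColimitsOfShape.mk' (by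
    rintro _ ⟨F, hF⟩
    exact adequate_colimit F hF)

instance adequate_closedFiniteProducts : (adequate A).IsClosedUnderFiniteProducts :=
  ObjectProperty.IsClosedUnderFiniteProducts.of_isClosedUnderLimitsOfShape.{u+1} (fun J _ => ⟨by
    rintro X ⟨p⟩
    let f : J → MVF A := fun j => p.diag.obj ⟨j⟩
    haveI : HasFiniteBiproducts (MVF A) := HasFiniteBiproducts.of_hasFiniteProducts
    have e1 : X ≅ limit p.diag := p.isLimit.conePointUniqueUpToIso (limit.isLimit _)
    have e2 : limit p.diag ≅ ∏ᶜ f := HasLimit.isoOfNatIso Discrete.natIsoFunctor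
    have e3 : ∏ᶜ f ≅ ⨁ f := (biproduct.isoProduct f).symm
    have e4 : ⨁ f ≅ ∐ f := biproduct.isoCoproduct f
    exact (adequate A).prop_of_iso (e1 ≪≫ e2 ≪≫ e3 ≪≫ e4).symm
      (adequate_sigma f (fun j => p.prop_diag_obj _))⟩)

noncomputable instance adequate_abelian : Abelian (Adequate A) := inferInstance

end Groth.Agent.H89.AQ

namespace Groth.Agent.H89.AQ
variable (A : Type u) [CommRing A]

instance adequate_hasColimits : HasColimitsOfSize.{u+1, u+1} (Adequate A) :=
  ⟨fun _ _ => inferInstance⟩

noncomputable instance adequate_ι_preservesColimits :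
    PreservesColimitsOfSize.{u+1, u+1} (adequate A).ι :=
  ⟨fun {_} _ => inferInstance⟩

/-- the small family of standard linearly adequate functors -/
noncomputable def linObj (idx : Σ (n l : ℕ), (Fin l → Fin n → A)) : Adequate A :=
  ⟨linFun idx.2.2, ⟨_, _, _, ⟨Iso.refl _⟩⟩⟩

theorem linObj_isSeparating : (ObjectProperty.ofObj (linObj A)).IsSeparating := by
  intro X Y f g hfg
  obtain ⟨M, N, φ, i, hi⟩ := exists_isKer_of_adequate X.property
  apply ObjectProperty.hom_ext
  apply hom_ext'
  intro B ξ
  obtain ⟨n, l, a, p, lam, -, y, hy⟩ := local_cover hi B ξ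
  have h := hfg (linObj A ⟨n, l, a⟩) (ObjectProperty.ofObj_apply _ _) (ObjectProperty.homMk lam)
  have h' := congrArg (fun t => (t.hom).app (pt B) y) h
  simp only [ObjectProperty.FullSubcategory.comp_hom] at h'
  rw [← hy]
  exact h'

end Groth.Agent.H89.AQ

namespace Groth.Agent.H89.AQ
variable (A : Type u) [CommRing A]

instance linObj_small : ObjectProperty.Small.{u+1} (ObjectProperty.ofObj (linObj A)) :=
  inferInstance

theorem adequate_wellPowered : WellPowered.{u+1} (Adequate A) :=
  wellPowered_of_isDetecting (linObj_isSeparating A).isDetecting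

theorem adequate_ι_isLeftAdjoint : (adequate A).ι.IsLeftAdjoint :=
  haveI := adequate_wellPowered A
  haveI : WellPowered.{u+1} (Adequate A)ᵒᵖ := Abelian.wellPowered_opposite
  isLeftAdjoint_of_preservesColimits_of_isSeparating (linObj_isSeparating A) _

end Groth.Agent.H89.AQ

namespace Groth.Agent.H89.AQ
variable (A : Type u) [CommRing A]

theorem adequate_enoughInjectives : EnoughInjectives (Adequate A) := by
  haveI := adequate_ι_isLeftAdjoint A
  haveI : EnoughInjectives (MVF A) := Groth.Agent.H44.enoughInjectives_MVF
  haveI : (adequate A).ι.PreservesMonomorphisms :=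
    (adequate A).preservesMonomorphisms_ι_of_isNormalEpiCategory
  exact EnoughInjectives.of_adjunction (Adjunction.ofIsLeftAdjoint (adequate A).ι)

end Groth.Agent.H89.AQ
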