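import Mathlib
import Groth.Prelude.Def_Adeq

/-!
# Basic API for module-valued functors and adequate functors (Stacks 46.3)

Elementwise descriptions of kernels/cokernels in `Adeq.MVF A`, the predicate `IsKer`
("`i : F ⟶ underline M` exhibits `F` as the kernel of `underline φ`"), and the equivalence
with `Adeq.adequate`.
-/

set_option autoImplicit false
universe u
open CategoryTheory Limits Opposite TensorProduct Adeq

namespace Groth.Agent.H89.AQ
variable {A : Type u} [CommRing A]

instance evalAdditive (B : Alg A) :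
    (PresheafOfModules.evaluation.{u+1} (ringOf A) (pt B)).Additive :=
  PresheafOfModules.instAdditiveModuleCatCarrierObjOppositeRingCatEvaluation _ _

noncomputable instance evalPresLim (B : Alg A) :
    PreservesFiniteLimits (PresheafOfModules.evaluation.{u+1} (ringOf A) (pt B)) :=
  PresheafOfModules.evaluation_preservesFiniteLimits (R := ringOf A) (pt B)

noncomputable instance evalPresColim (B : Alg A) :
    PreservesFiniteColimits (PresheafOfModules.evaluation.{u+1} (ringOf A) (pt B)) :=
  PresheafOfModules.Finite.evaluation_preservesFiniteColimits (R := ringOf A) (pt B)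

/-- kernel.ι is objectwise injective -/
theorem kernel_ι_injective {F G : MVF A} (τ : F ⟶ G) (B : Alg A) :
    Function.Injective ((kernel.ι τ).app (pt B)) :=
  PresheafOfModules.injective_of_mono _ _

theorem kernel_ι_comp {F G : MVF A} (τ : F ⟶ G) (B : Alg A) (y : (kernel τ).obj (pt B)) :
    τ.app (pt B) ((kernel.ι τ).app (pt B) y) = 0 := by
  have h := kernel.condition τ
  have h2 := congrArg (fun φ => (φ.app (pt B)) y) h
  exact h2

theorem kernel_ι_exact {F G : MVF A} (τ : F ⟶ G) (B : Alg A) (x : F.obj (pt B))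
    (hx : τ.app (pt B) x = 0) : ∃ y : (kernel τ).obj (pt B), (kernel.ι τ).app (pt B) y = x := by
  have hS : (ShortComplex.mk (kernel.ι τ) τ (kernel.condition τ)).Exact :=
    ShortComplex.exact_of_f_is_kernel _ (kernelIsKernel τ)
  have hS' := hS.map (PresheafOfModules.evaluation.{u+1} (ringOf A) (pt B))
  rw [ShortComplex.moduleCat_exact_iff] at hS'
  exact hS' x hx

theorem cokernel_π_surjective {F G : MVF A} (τ : F ⟶ G) (B : Alg A) :
    Function.Surjective ((cokernel.π τ).app (pt B)) :=
  PresheafOfModules.surjective_of_epi _ _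

theorem cokernel_π_comp {F G : MVF A} (τ : F ⟶ G) (B : Alg A) (x : F.obj (pt B)) :
    (cokernel.π τ).app (pt B) (τ.app (pt B) x) = 0 := by
  have h := cokernel.condition τ
  have h2 := congrArg (fun φ => (φ.app (pt B)) x) h
  exact h2

theorem cokernel_π_exact {F G : MVF A} (τ : F ⟶ G) (B : Alg A) (y : G.obj (pt B))
    (hy : (cokernel.π τ).app (pt B) y = 0) : ∃ x : F.obj (pt B), τ.app (pt B) x = y := by
  have hS : (ShortComplex.mk τ (cokernel.π τ) (cokernel.condition τ)).Exact :=
    ShortComplex.exact_of_g_is_cokernel _ (cokernelIsCokernel τ)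
  have hS' := hS.map (PresheafOfModules.evaluation.{u+1} (ringOf A) (pt B))
  rw [ShortComplex.moduleCat_exact_iff] at hS'
  exact hS' y hy

/-- morphisms of MVF are determined by their values on elements -/
theorem hom_ext' {F G : MVF A} {σ τ : F ⟶ G}
    (h : ∀ (B : Alg A) (x : F.obj (pt B)), σ.app (pt B) x = τ.app (pt B) x) : σ = τ := by
  ext X x
  exact h X.unop.unop x

theorem comp_app_apply {F G H : MVF A} (σ : F ⟶ G) (τ : G ⟶ H) (B : Alg A) (x : F.obj (pt B)) :
    (σ ≫ τ).app (pt B) x = τ.app (pt B) (σ.app (pt B) x) := rfl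

theorem mono_of_inj {F G : MVF A} (τ : F ⟶ G)
    (h : ∀ B : Alg A, Function.Injective (τ.app (pt B))) : Mono τ :=
  PresheafOfModules.mono_of_injective (fun X => h X.unop.unop)

theorem epi_of_surj {F G : MVF A} (τ : F ⟶ G)
    (h : ∀ B : Alg A, Function.Surjective (τ.app (pt B))) : Epi τ :=
  PresheafOfModules.epi_of_surjective (fun X => h X.unop.unop)

theorem isIso_of_bij {F G : MVF A} (τ : F ⟶ G)
    (h : ∀ B : Alg A, Function.Bijective (τ.app (pt B))) : IsIso τ := by
  haveI := mono_of_inj τ (fun B => (h B).1)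
  haveI := epi_of_surj τ (fun B => (h B).2)
  exact isIso_of_mono_of_epi τ

theorem inj_of_mono {F G : MVF A} (τ : F ⟶ G) [Mono τ] (B : Alg A) :
    Function.Injective (τ.app (pt B)) :=
  PresheafOfModules.injective_of_mono _ _

theorem surj_of_epi {F G : MVF A} (τ : F ⟶ G) [Epi τ] (B : Alg A) :
    Function.Surjective (τ.app (pt B)) :=
  PresheafOfModules.surjective_of_epi _ _

theorem bij_of_isIso {F G : MVF A} (τ : F ⟶ G) [IsIso τ] (B : Alg A) :
    Function.Bijective (τ.app (pt B)) :=
  ⟨inj_of_mono τ B, surj_of_epi τ B⟩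

section Underline

variable (M N : ModuleCat.{u+1} A)

/-- the value of `underline M` at `B`, on elements -/
theorem underline_map_app_apply {M N : ModuleCat.{u+1} A} (g : M ⟶ N) (B : Alg A)
    (x : (B : Type u) ⊗[A] M) :
    ((underline A).map g).app (pt B) x = g.hom.baseChange B x := rfl

theorem underline_obj_map_apply (M : ModuleCat.{u+1} A) {B B' : Alg A} (f : B ⟶ B')
    (x : (B : Type u) ⊗[A] M) :
    ((underline A).obj M).map (ptHom f) x = (f.hom.toLinearMap.rTensor M) x := rfl

theorem underline_smul_apply (M : ModuleCat.{u+1} A) (B : Alg A) (b : B) (x : (B : Type u) ⊗[A] M) :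
    (b • (x : ((underline A).obj M).obj (pt B)) : ((underline A).obj M).obj (pt B)) =
      (b • x : (B : Type u) ⊗[A] M) := rfl

end Underline

/-- `i : F ⟶ underline M` exhibits `F` as the kernel of `underline φ`, elementwise. -/
structure IsKer {F : MVF A} {M : ModuleCat.{u+1} A} (i : F ⟶ (underline A).obj M)
    {N : Type (u+1)} [AddCommGroup N] [Module A N] (φ : M →ₗ[A] N) : Prop where
  inj : ∀ B : Alg A, Function.Injective (i.app (pt B))
  comp : ∀ (B : Alg A) (x : F.obj (pt B)), φ.baseChange B (i.app (pt B) x) = 0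
  exact : ∀ (B : Alg A) (z : (B : Type u) ⊗[A] M), φ.baseChange B z = 0 →
    ∃ x : F.obj (pt B), i.app (pt B) x = z

theorem isKer_kernel_ι {M N : ModuleCat.{u+1} A} (φ : M ⟶ N) :
    IsKer (kernel.ι ((underline A).map φ)) φ.hom where
  inj B := kernel_ι_injective _ B
  comp B x := kernel_ι_comp ((underline A).map φ) B x
  exact B z hz := kernel_ι_exact ((underline A).map φ) B z hz

theorem IsKer.of_iso {F F' : MVF A} {M : ModuleCat.{u+1} A} {i : F ⟶ (underline A).obj M}
    {N : Type (u+1)} [AddCommGroup N] [Module A N] {φ : M →ₗ[A] N} (h : IsKer i φ)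
    (e : F' ≅ F) : IsKer (e.hom ≫ i) φ where
  inj B := (h.inj B).comp (bij_of_isIso e.hom B).1
  comp B x := h.comp B _
  exact B z hz := by
    obtain ⟨x, hx⟩ := h.exact B z hz
    obtain ⟨y, hy⟩ := (bij_of_isIso e.hom B).2 x
    exact ⟨y, by rw [comp_app_apply, hy, hx]⟩

theorem adequate_of_isKer {F : MVF A} {M : ModuleCat.{u+1} A} {i : F ⟶ (underline A).obj M}
    {N : Type (u+1)} [AddCommGroup N] [Module A N] {φ : M →ₗ[A] N} (h : IsKer i φ) :
    adequate A F := by
  let φ' : M ⟶ ModuleCat.of A N := ModuleCat.ofHom φ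
  have w : i ≫ (underline A).map φ' = 0 := by
    apply hom_ext'
    intro B x
    exact h.comp B x
  let l : F ⟶ kernel ((underline A).map φ') := kernel.lift _ i w
  have hl : l ≫ kernel.ι _ = i := kernel.lift_ι _ _ _
  have hbij : ∀ B : Alg A, Function.Bijective (l.app (pt B)) := by
    intro B
    constructor
    · intro x y hxy
      apply h.inj B
      rw [← hl, comp_app_apply, comp_app_apply, hxy]
    · intro y
      obtain ⟨x, hx⟩ := h.exact B ((kernel.ι ((underline A).map φ')).app (pt B) y)
        (kernel_ι_comp ((underline A).map φ') B y)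
      refine ⟨x, ?_⟩
      apply kernel_ι_injective ((underline A).map φ') B
      rw [← comp_app_apply, hl, hx]
  haveI := isIso_of_bij l hbij
  exact ⟨M, ModuleCat.of A N, φ', ⟨asIso l⟩⟩

theorem exists_isKer_of_adequate {F : MVF A} (h : adequate A F) :
    ∃ (M N : ModuleCat.{u+1} A) (φ : M ⟶ N) (i : F ⟶ (underline A).obj M), IsKer i φ.hom := by
  obtain ⟨M, N, φ, ⟨e⟩⟩ := h
  exact ⟨M, N, φ, e.hom ≫ kernel.ι _, (isKer_kernel_ι φ).of_iso e⟩

/-- universal property of an `IsKer` -/
theorem IsKer.lift {F : MVF A} {M : ModuleCat.{u+1} A} {i : F ⟶ (underline A).obj M}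
    {N : Type (u+1)} [AddCommGroup N] [Module A N] {φ : M →ₗ[A] N} (h : IsKer i φ)
    {G : MVF A} (θ : G ⟶ (underline A).obj M)
    (hθ : ∀ (B : Alg A) (x : G.obj (pt B)), φ.baseChange B (θ.app (pt B) x) = 0) :
    ∃ l : G ⟶ F, l ≫ i = θ := by
  let φ' : M ⟶ ModuleCat.of A N := ModuleCat.ofHom φ
  have w : i ≫ (underline A).map φ' = 0 := by
    apply hom_ext'
    intro B x
    exact h.comp B x
  have wθ : θ ≫ (underline A).map φ' = 0 := by
    apply hom_ext'
    intro B x
    exact hθ B x
  let l : F ⟶ kernel ((underline A).map φ') := kernel.lift _ i w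
  have hl : l ≫ kernel.ι _ = i := kernel.lift_ι _ _ _
  have hbij : ∀ B : Alg A, Function.Bijective (l.app (pt B)) := by
    intro B
    constructor
    · intro x y hxy
      apply h.inj B
      rw [← hl, comp_app_apply, comp_app_apply, hxy]
    · intro y
      obtain ⟨x, hx⟩ := h.exact B ((kernel.ι ((underline A).map φ')).app (pt B) y)
        (kernel_ι_comp ((underline A).map φ') B y)
      refine ⟨x, ?_⟩
      apply kernel_ι_injective ((underline A).map φ') B
      rw [← comp_app_apply, hl, hx]
  haveI := isIso_of_bij l hbij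
  refine ⟨kernel.lift _ θ wθ ≫ inv l, ?_⟩
  rw [Category.assoc, ← hl, IsIso.inv_hom_id_assoc, kernel.lift_ι]

theorem IsKer.mono {F : MVF A} {M : ModuleCat.{u+1} A} {i : F ⟶ (underline A).obj M}
    {N : Type (u+1)} [AddCommGroup N] [Module A N] {φ : M →ₗ[A] N} (h : IsKer i φ) : Mono i :=
  mono_of_inj i h.inj

end Groth.Agent.H89.AQ
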