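import Groth.Agent.H89.AbShfSurj

/-!
# Cartan's criterion on the big fppf site of an affine scheme, and vanishing of higher cohomology of adequate modules

`CechAcyclic F`: for every affine object `Spec R → X` and every faithfully flat `R`-algebra `B` the Čech complex of `F`
for `Spec B → Spec R` is exact in positive degrees.  Injective abelian sheaves and adequate modules are Čech-acyclic;
Čech-acyclic sheaves on an affine scheme have vanishing higher cohomology.
-/

set_option autoImplicit false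
set_option linter.style.haveILetI false
universe u v
open CategoryTheory Limits Opposite TensorProduct Adeq AlgebraicGeometry Simplicial AlgebraicTopology

namespace Groth.Agent.H89.Cech

section Quot
universe t
variable {X₁ X₂ X₃ : CosimplicialObject AddCommGrpCat.{t}} {f : X₁ ⟶ X₂} {g : X₂ ⟶ X₃}

theorem TermSES.quot (h : TermSES f g) (n : ℕ) (h₁ : ExAt X₁ (n + 1)) (h₂ : ExAt X₂ n) :
    ExAt X₃ n := by
  intro z hz
  obtain ⟨y, hy⟩ := h.surj (n + 1) z
  have hgy : g.app ⦋n + 1 + 1⦌ (AlternatingCofaceMapComplex.objD X₂ (n + 1) y) = 0 := by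
    rw [objD_nat_apply, hy, hz]
  obtain ⟨x, hx⟩ := h.exact (n + 1 + 1) _ hgy
  have hdx : AlternatingCofaceMapComplex.objD X₁ (n + 1 + 1) x = 0 := by
    apply h.inj (n + 1 + 1 + 1)
    rw [map_zero, objD_nat_apply, hx, objD_sq_apply]
  obtain ⟨w, hw⟩ := h₁ x hdx
  have hy' : AlternatingCofaceMapComplex.objD X₂ (n + 1) (y - f.app ⦋n + 1⦌ w) = 0 := by
    rw [map_sub, ← objD_nat_apply, hw, hx, sub_self]
  obtain ⟨v, hv⟩ := h₂ _ hy'
  refine ⟨g.app ⦋n⦌ v, ?_⟩
  rw [← objD_nat_apply, hv, map_sub, hy, h.zero, sub_zero]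

end Quot

end Groth.Agent.H89.Cech

namespace Groth.Agent.H89.AQ

section ExtShift
open Abelian
variable {𝒜 : Type*} [Category 𝒜] [Abelian 𝒜] [HasExt 𝒜] {S : ShortComplex 𝒜} (hS : S.ShortExact)
  [Injective S.X₂] (Z₀ : 𝒜)

include hS in
theorem subsingleton_ext_one (hlift : ∀ q : Z₀ ⟶ S.X₃, ∃ q' : Z₀ ⟶ S.X₂, q' ≫ S.g = q) :
    Subsingleton (Ext Z₀ S.X₁ 1) := by
  refine subsingleton_of_forall_eq 0 (fun x₁ => ?_)
  obtain ⟨x₃, rfl⟩ := Ext.covariant_sequence_exact₁ Z₀ hS x₁
    (Ext.eq_zero_of_injective _) (zero_add 1)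
  obtain ⟨q, rfl⟩ := (Ext.mk₀_bijective Z₀ S.X₃).2 x₃
  obtain ⟨q', rfl⟩ := hlift q
  rw [← Ext.mk₀_comp_mk₀, Ext.comp_assoc_of_second_deg_zero, hS.comp_extClass, Ext.comp_zero]

include hS in
theorem subsingleton_ext_succ (p : ℕ) (hQ : Subsingleton (Ext Z₀ S.X₃ (p + 1))) :
    Subsingleton (Ext Z₀ S.X₁ (p + 2)) := by
  refine subsingleton_of_forall_eq 0 (fun x₁ => ?_)
  obtain ⟨x₃, rfl⟩ := Ext.covariant_sequence_exact₁ Z₀ hS x₁
    (Ext.eq_zero_of_injective _) (rfl : (p + 1) + 1 = p + 2)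
  rw [Subsingleton.elim x₃ 0, Ext.zero_comp]

end ExtShift

section ConstLift
open Abelian
variable {X : Scheme.{u}}

/-- the constant sheaf `ℤ` on the big fppf site -/
noncomputable abbrev ZX (X : Scheme.{u}) : BigSite.Ab Scheme.fppfPrecoverage X :=
  (constantSheaf (QuotSh.J Scheme.fppfPrecoverage X) AddCommGrpCat.{u + 1}).obj
    (AddCommGrpCat.of (ULift ℤ))

theorem exists_lift_const {G G' : BigSite.Ab Scheme.fppfPrecoverage X} (g : G ⟶ G')
    (hg : Function.Surjective (g.hom.app (op (Over.mk (𝟙 X))))) (q : ZX X ⟶ G') :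
    ∃ q' : ZX X ⟶ G, q' ≫ g = q := by
  have hT : IsTerminal (Over.mk (𝟙 X)) := Over.mkIdTerminal
  obtain ⟨t', ht'⟩ := hg (Sheaf.H.equiv₀ G' hT (Ext.mk₀ q))
  obtain ⟨q', hq'⟩ := (Ext.mk₀_bijective (ZX X) G).2 ((Sheaf.H.equiv₀ G hT).symm t')
  refine ⟨q', ?_⟩
  apply (Ext.mk₀_bijective (ZX X) G').1
  apply (Sheaf.H.equiv₀ G' hT).injective
  have h1 : Sheaf.H.map g 0 (Ext.mk₀ q') = Ext.mk₀ (q' ≫ g) := by
    change (Ext.mk₀ q').comp (Ext.mk₀ g) (add_zero 0) = _
    rw [Ext.mk₀_comp_mk₀]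
  rw [← h1, ← Sheaf.H.equiv₀_naturality, hq', AddEquiv.apply_symm_apply, ht']

end ConstLift

section Acyclic
variable {X : Scheme.{u}}

theorem injective_presheaf_of_sheaf (I : BigSite.Ab Scheme.fppfPrecoverage X)
    [Injective I] : Injective I.obj :=
  Injective.injective_of_adjoint
    (sheafificationAdjunction (QuotSh.J Scheme.fppfPrecoverage X) AddCommGrpCat.{u + 1}) I

/-- Čech-acyclicity of an abelian sheaf on the big fppf site of `X` for all faithfully flat covers of affine objects -/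
def CechAcyclic (F : BigSite.Ab Scheme.fppfPrecoverage X) : Prop :=
  ∀ (R : CommRingCat.{u}) (a : Spec R ⟶ X) (B : Type u) [CommRing B] [Algebra R B]
    [Module.FaithfullyFlat R B] (n : ℕ),
    Cech.ExAt (Cech.KCos (UB (R := R) B) ((Over.map a).op ⋙ F.obj)) n

theorem cechAcyclic_of_injective (I : BigSite.Ab Scheme.fppfPrecoverage X)
    [Injective I] : CechAcyclic I := by
  intro R a B _ _ _ n
  haveI := injective_presheaf_of_sheaf I
  exact CechInj.exAt_of_injective a (UB (R := R) B) I.obj n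

theorem cechAcyclic_of_adequate (M : BigSite.Mod Scheme.fppfPrecoverage X)
    (hM : Adeq.adequateMod Scheme.fppfPrecoverage X M) :
    CechAcyclic ((BigSite.toAbMod Scheme.fppfPrecoverage X).obj M) := by
  intro R a B _ _ _ n
  exact exAt_all B n ((BigSite.pullMod Scheme.fppfPrecoverage a).obj M)
    (adequateMod_pullMod_fppf a M hM)

theorem ab_surj_of_iso {G G' : BigSite.Ab Scheme.fppfPrecoverage X} (φ : G ⟶ G') {V V' : Over X}
    (i : V ≅ V') (h : Function.Surjective (φ.hom.app (op V))) :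
    Function.Surjective (φ.hom.app (op V')) := by
  intro s
  obtain ⟨x, hx⟩ := h (G'.obj.map i.hom.op s)
  refine ⟨G.obj.map i.inv.op x, ?_⟩
  rw [ab_hom_nat, hx, ← ab_map_comp, i.inv_hom_id]
  exact ab_map_id G' V' s

variable (C : ShortComplex (BigSite.Ab Scheme.fppfPrecoverage X)) (hC : C.ShortExact)
  (hF : CechAcyclic C.X₁)

include hC hF in
theorem ab_shortExact_g_surj_affine (V : Over X) [IsAffine V.left] :
    Function.Surjective (C.g.hom.app (op V)) := by
  obtain ⟨h, hh⟩ : ∃ h : Spec Γ(V.left, ⊤) ⟶ X, h = V.left.isoSpec.inv ≫ V.hom := ⟨_, rfl⟩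
  have h0 := ab_shortExact_g_surj_base h C hC (fun B _ _ _ => hF _ h B 0)
  have i : Over.mk h ≅ V := Over.isoMk V.left.isoSpec.symm (by
    rw [hh]
    rfl)
  exact ab_surj_of_iso C.g (baseIso' h ≪≫ i) h0

include hC hF in
theorem termSES_of_cechAcyclic (R : CommRingCat.{u}) (a : Spec R ⟶ X) (B : Type u) [CommRing B]
    [Algebra R B] :
    Cech.TermSES
      (Cech.KCosMap (UB (R := R) B) (Functor.whiskerLeft (Over.map a).op C.f.hom))
      (Cech.KCosMap (UB (R := R) B) (Functor.whiskerLeft (Over.map a).op C.g.hom)) where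
  inj n := ab_shortExact_f_injective C hC _
  zero n x := ab_shortComplex_zero_apply C _ x
  exact n y hy := ab_shortExact_exact C hC _ y hy
  surj n := by
    haveI : IsAffine (UB (R := R) B).left := inferInstanceAs (IsAffine (Spec _))
    haveI : IsAffine ((Over.map a).obj (Cech.pw (UB (R := R) B) (ToType ⦋n⦌))).left :=
      isAffine_pw_left (X := Spec R) (UB (R := R) B) (ToType ⦋n⦌)
    exact ab_shortExact_g_surj_affine C hC hF _

include hC hF in
theorem cechAcyclic_quot (h₂ : CechAcyclic C.X₂) : CechAcyclic C.X₃ := by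
  intro R a B _ _ _ n
  exact (termSES_of_cechAcyclic C hC hF R a B).quot n (hF R a B (n + 1)) (h₂ R a B n)

end Acyclic

section Main
open Abelian
variable {X : Scheme.{u}} [IsAffine X]

theorem subsingleton_H_of_cechAcyclic (q : ℕ) :
    ∀ F : BigSite.Ab Scheme.fppfPrecoverage X, CechAcyclic F →
      Subsingleton (Sheaf.H F (q + 1)) := by
  induction q with
  | zero =>
    intro F hF
    obtain ⟨S, hS, hX₁⟩ : ∃ S : ShortComplex (BigSite.Ab Scheme.fppfPrecoverage X),
        S.ShortExact ∧ S.X₁ = F ∧ Injective S.X₂ := by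
      refine ⟨ShortComplex.mk (Injective.ι F) (cokernel.π (Injective.ι F)) (cokernel.condition _),
        ShortComplex.ShortExact.mk' (ShortComplex.exact_cokernel _) inferInstance inferInstance,
        rfl, ?_⟩
      exact inferInstanceAs (Injective (Injective.under F))
    obtain ⟨rfl, hI⟩ := hX₁
    haveI := hI
    refine subsingleton_ext_one hS (ZX X) (fun q => ?_)
    haveI : IsAffine (Over.mk (𝟙 X)).left := inferInstanceAs (IsAffine X)
    exact exists_lift_const S.g (ab_shortExact_g_surj_affine S hS hF (Over.mk (𝟙 X))) q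
  | succ q ih =>
    intro F hF
    obtain ⟨S, hS, hX₁⟩ : ∃ S : ShortComplex (BigSite.Ab Scheme.fppfPrecoverage X),
        S.ShortExact ∧ S.X₁ = F ∧ Injective S.X₂ := by
      refine ⟨ShortComplex.mk (Injective.ι F) (cokernel.π (Injective.ι F)) (cokernel.condition _),
        ShortComplex.ShortExact.mk' (ShortComplex.exact_cokernel _) inferInstance inferInstance,
        rfl, ?_⟩
      exact inferInstanceAs (Injective (Injective.under F))
    obtain ⟨rfl, hI⟩ := hX₁
    haveI := hI
    exact subsingleton_ext_succ hS (ZX X) q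
      (ih S.X₃ (cechAcyclic_quot S hS hF (cechAcyclic_of_injective S.X₂)))

end Main

end Groth.Agent.H89.AQ
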