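import Groth.Agent.H89.AdeqPushD

/-!
# Pushforward of an adequate module along a quasi-compact quasi-separated morphism is adequate (Stacks 46.5.12)

`F_{f_* M, R}(B) = M(Spec B ×_S T)` is the kernel of a map between finite products of functors
`B ↦ M(Spec (C ⊗_R B))`, by the sheaf condition for a finite affine open cover of `Spec R ×_S T` and
finite affine open covers of the pairwise intersections.
-/

set_option autoImplicit false
set_option linter.style.haveILetI false
set_option linter.unusedSectionVars false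
universe u v w
open CategoryTheory Limits Opposite TensorProduct Adeq AlgebraicGeometry

namespace Groth.Agent.H89.AQ

section Main
variable {S T : Scheme.{u}} (f : T ⟶ S) [QuasiCompact f] [QuasiSeparated f]
  (M : BigSite.Mod Scheme.fppfPrecoverage T) (hM : Adeq.adequateMod Scheme.fppfPrecoverage T M)
  {R : CommRingCat.{u}} (a : Spec R ⟶ S)

include hM in
theorem adequate_pushF (P : Piece f a) :
    adequate R (pushF (K := Scheme.fppfPrecoverage) (R := R) M P.C P.c) :=
  Groth.Agent.S8750.result R P.C _ (adequate_toMVF_fppf T M hM (CommRingCat.of P.C) P.c)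

include hM in
theorem adequate_toMVF_pushMod :
    adequate R ((toMVF Scheme.fppfPrecoverage a).obj
      ((BigSite.pushMod Scheme.fppfPrecoverage f).obj M)) := by
  obtain ⟨n, P, hP⟩ := exists_pieces f a
  choose m Q ψ₁ ψ₂ h₁ h₂ hQ using
    (fun jk : Fin n × Fin n => exists_pair_pieces f a (P jk.1) (P jk.2))
  refine adequate_of_kernel_families (J := Fin n) (Mm := Σ jk : Fin n × Fin n, Fin (m jk))
    ((toMVF Scheme.fppfPrecoverage a).obj ((BigSite.pushMod Scheme.fppfPrecoverage f).obj M))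
    (fun j => pushF (K := Scheme.fppfPrecoverage) (R := R) M (P j).C (P j).c)
    (fun p => pushF (K := Scheme.fppfPrecoverage) (R := R) M (Q p.1 p.2).C (Q p.1 p.2).c)
    (fun j => adequate_pushF f M hM a (P j))
    (fun p => adequate_pushF f M hM a (Q p.1 p.2))
    (fun j => eHom f M a (P j).C (P j).c (P j).hc)
    (fun p => p.1.1) (fun p => p.1.2)
    (fun p => pushMapHom M (P p.1.1).C (P p.1.1).c (Q p.1 p.2).C (Q p.1 p.2).c
      (Piece.algHom (ψ₁ p.1 p.2) (h₁ p.1 p.2)) (Piece.algHom_hd (ψ₁ p.1 p.2) (h₁ p.1 p.2)))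
    (fun p => pushMapHom M (P p.1.2).C (P p.1.2).c (Q p.1 p.2).C (Q p.1 p.2).c
      (Piece.algHom (ψ₂ p.1 p.2) (h₂ p.1 p.2)) (Piece.algHom_hd (ψ₂ p.1 p.2) (h₂ p.1 p.2)))
    ?_ ?_ ?_
  · intro p
    rw [eHom_comp_pushMapHom f M a (P p.1.1).C (P p.1.1).c (P p.1.1).hc (Q p.1 p.2).C
        (Q p.1 p.2).c (Q p.1 p.2).hc,
      eHom_comp_pushMapHom f M a (P p.1.2).C (P p.1.2).c (P p.1.2).hc (Q p.1 p.2).C
        (Q p.1 p.2).c (Q p.1 p.2).hc]
  · intro B x x' h
    exact sheaf_family_sep M (fun j => affObj (P j).C (P j).c B)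
      (fun j => affToPush f a (P j).C (P j).c (P j).hc B)
      (Scheme.zariskiPrecoverage_le_fppfPrecoverage _ (cover_at_push P hP B)) x x' h
  · intro B y hy
    refine sheaf_hyper_glue M (fun j => affObj (P j).C (P j).c B)
      (fun j => affToPush f a (P j).C (P j).c (P j).hc B)
      (Scheme.zariskiPrecoverage_le_fppfPrecoverage _ (cover_at_push P hP B)) y ?_
    intro i j W q₁ q₂ hq
    obtain ⟨Wl, t, s, hcovW, hs⟩ := hyper_geom (P i) (P j) (Q (i, j)) (ψ₁ (i, j)) (ψ₂ (i, j))
      (h₁ (i, j)) (h₂ (i, j)) (hQ (i, j)) B W q₁ q₂ hq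
    refine ⟨Fin (m (i, j)), Wl, t, Scheme.zariskiPrecoverage_le_fppfPrecoverage _ hcovW,
      fun l => ?_⟩
    obtain ⟨hs₁, hs₂⟩ := hs l
    rw [← hs₁, ← hs₂]
    have e1 := PresheafOfModules.map_comp_apply M.val
      (affMap (P i).C (P i).c (Q (i, j) l).C (Q (i, j) l).c
        (Piece.algHom (ψ₁ (i, j) l) (h₁ (i, j) l))
        (Piece.algHom_hd (ψ₁ (i, j) l) (h₁ (i, j) l)) B).op (s l).op (y i)
    have e2 := PresheafOfModules.map_comp_apply M.val
      (affMap (P j).C (P j).c (Q (i, j) l).C (Q (i, j) l).c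
        (Piece.algHom (ψ₂ (i, j) l) (h₂ (i, j) l))
        (Piece.algHom_hd (ψ₂ (i, j) l) (h₂ (i, j) l)) B).op (s l).op (y j)
    exact e1.trans ((congrArg (M.val.map (s l).op) (hy ⟨(i, j), l⟩)).trans e2.symm)

end Main
end Groth.Agent.H89.AQ


namespace Groth.Agent.H89.AQ

theorem adequateMod_pushMod_fppf {S T : Scheme.{u}} (f : T ⟶ S) [QuasiCompact f] [QuasiSeparated f]
    (M : BigSite.Mod Scheme.fppfPrecoverage T) (hM : Adeq.adequateMod Scheme.fppfPrecoverage T M) :
    Adeq.adequateMod Scheme.fppfPrecoverage S ((BigSite.pushMod Scheme.fppfPrecoverage f).obj M) :=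
  affineOpenCover_adequateMod_fppf S _ (fun _ c => adequate_toMVF_pushMod f M hM c)

end Groth.Agent.H89.AQ
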