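import Groth.Agent.H89.AdeqShf

/-!
# `toMVFPre` preserves colimits; cokernels and colimits of adequate modules (Stacks 46.5.11)
-/

set_option autoImplicit false
set_option linter.style.haveILetI false
universe u v w
open CategoryTheory Limits Opposite TensorProduct Adeq AlgebraicGeometry

namespace Groth.Agent.H89.AQ

section Pres
variable {K : Precoverage Scheme.{u}} [BigSite.OSh K] {S : Scheme.{u}} {R : CommRingCat.{u}}
  (a : Spec R ⟶ S)

/-- forgetting the module structures, `toMVFPre` is precomposition with `specOver a` -/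
noncomputable def toMVFPreCompToPresheaf :
    toMVFPre K a ⋙ PresheafOfModules.toPresheaf (ringOf R) ≅
      PresheafOfModules.toPresheaf (BigSite.ORing K S).obj ⋙
        (Functor.whiskeringLeft _ _ _).obj (specOver a).op :=
  NatIso.ofComponents (fun P => Iso.refl _) (by
    intro P Q f
    ext X x
    rfl)

theorem toMVFPre_preservesColimitsOfShape (J : Type v) [Category.{w} J]
    [HasColimitsOfShape J AddCommGrpCat.{u + 1}] :
    PreservesColimitsOfShape J (toMVFPre K a) := by
  haveI : PreservesColimitsOfShape J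
      (toMVFPre K a ⋙ PresheafOfModules.toPresheaf (ringOf R)) :=
    preservesColimitsOfShape_of_natIso (toMVFPreCompToPresheaf a).symm
  haveI : ReflectsColimitsOfShape J (PresheafOfModules.toPresheaf.{u + 1} (ringOf R)) :=
    reflectsColimitsOfShape_of_reflectsIsomorphisms
  exact preservesColimitsOfShape_of_reflects_of_preserves (toMVFPre K a)
    (PresheafOfModules.toPresheaf (ringOf R))

end Pres
end Groth.Agent.H89.AQ

namespace Groth.Agent.H89.AQ

section Shf
variable (S : Scheme.{u})

/-- sheafification of presheaves of modules on the big fppf site -/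
noncomputable abbrev shfA : PresheafOfModules.{u + 1} (BigSite.ORing Scheme.fppfPrecoverage S).obj ⥤
    BigSite.Mod Scheme.fppfPrecoverage S :=
  PresheafOfModules.sheafification (𝟙 (BigSite.ORing Scheme.fppfPrecoverage S).obj)

/-- the underlying presheaf of modules -/
noncomputable abbrev shfG : BigSite.Mod Scheme.fppfPrecoverage S ⥤
    PresheafOfModules.{u + 1} (BigSite.ORing Scheme.fppfPrecoverage S).obj :=
  SheafOfModules.forget _ ⋙
    PresheafOfModules.restrictScalars (𝟙 (BigSite.ORing Scheme.fppfPrecoverage S).obj)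

noncomputable abbrev shfAdj : shfA S ⊣ shfG S :=
  PresheafOfModules.sheafificationAdjunction (𝟙 (BigSite.ORing Scheme.fppfPrecoverage S).obj)

variable {S}

/-- Stacks 46.5.10 -/
theorem adequateMod_shfA
    (P : PresheafOfModules.{u + 1} (BigSite.ORing Scheme.fppfPrecoverage S).obj)
    (h : ∀ (R : CommRingCat.{u}) (a : Spec R ⟶ S),
      adequate R ((toMVFPre Scheme.fppfPrecoverage a).obj P)) :
    adequateMod Scheme.fppfPrecoverage S ((shfA S).obj P) := by
  let η : P ⟶ ((shfA S).obj P).val := (shfAdj S).unit.app P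
  have hLI : Presheaf.IsLocallyInjective (QuotSh.J Scheme.fppfPrecoverage S)
      (CategoryTheory.toSheafify (QuotSh.J Scheme.fppfPrecoverage S) P.presheaf) := inferInstance
  have hLS : Presheaf.IsLocallySurjective (QuotSh.J Scheme.fppfPrecoverage S)
      (CategoryTheory.toSheafify (QuotSh.J Scheme.fppfPrecoverage S) P.presheaf) := inferInstance
  exact adequateMod_of_locBij η hLI hLS h

theorem colimit_iso_shfA {J : Type (u + 1)} [SmallCategory J]
    (D : J ⥤ BigSite.Mod Scheme.fppfPrecoverage S) :
    Nonempty (colimit D ≅ (shfA S).obj (colimit (D ⋙ shfG S))) := by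
  haveI : PreservesColimitsOfShape J (shfA S) :=
    (shfAdj S).leftAdjoint_preservesColimits.preservesColimitsOfShape
  have e1 : (shfA S).obj (colimit (D ⋙ shfG S)) ≅ colimit ((D ⋙ shfG S) ⋙ shfA S) :=
    preservesColimitIso (shfA S) (D ⋙ shfG S)
  have e2 : (D ⋙ shfG S) ⋙ shfA S ≅ D :=
    Functor.associator _ _ _ ≪≫ Functor.isoWhiskerLeft D (asIso (shfAdj S).counit) ≪≫
      D.rightUnitor
  exact ⟨(e1 ≪≫ HasColimit.isoOfNatIso e2).symm⟩

theorem adequateMod_colimit_fppf {J : Type (u + 1)} [SmallCategory J]
    (D : J ⥤ BigSite.Mod Scheme.fppfPrecoverage S)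
    (hD : ∀ j, adequateMod Scheme.fppfPrecoverage S (D.obj j)) :
    adequateMod Scheme.fppfPrecoverage S (colimit D) := by
  obtain ⟨e⟩ := colimit_iso_shfA D
  refine (adequateMod Scheme.fppfPrecoverage S).prop_of_iso e.symm ?_
  apply adequateMod_shfA
  intro R a
  haveI := toMVFPre_preservesColimitsOfShape (K := Scheme.fppfPrecoverage) a J
  have e3 : (toMVFPre Scheme.fppfPrecoverage a).obj (colimit (D ⋙ shfG S)) ≅
      colimit ((D ⋙ shfG S) ⋙ toMVFPre Scheme.fppfPrecoverage a) :=
    preservesColimitIso (toMVFPre Scheme.fppfPrecoverage a) (D ⋙ shfG S)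
  refine (adequate R).prop_of_iso e3.symm ?_
  apply adequate_colimit
  intro j
  exact adequate_toMVF_fppf S (D.obj j) (hD j) R a

theorem adequateMod_cokernel_fppf {M N : BigSite.Mod Scheme.fppfPrecoverage S} (φ : M ⟶ N)
    (hM : adequateMod Scheme.fppfPrecoverage S M) (hN : adequateMod Scheme.fppfPrecoverage S N) :
    adequateMod Scheme.fppfPrecoverage S (cokernel φ) := by
  haveI : PreservesColimitsOfShape WalkingParallelPair (shfA S) :=
    (shfAdj S).leftAdjoint_preservesColimits.preservesColimitsOfShape
  -- `cokernel φ ≅ a (cokernel (G φ))`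
  have e1 : (shfA S).obj (cokernel ((shfG S).map φ)) ≅ cokernel ((shfA S).map ((shfG S).map φ)) :=
    PreservesCokernel.iso (shfA S) ((shfG S).map φ)
  have e2 : cokernel ((shfA S).map ((shfG S).map φ)) ≅ cokernel φ :=
    cokernel.mapIso _ _ (asIso ((shfAdj S).counit.app M)) (asIso ((shfAdj S).counit.app N))
      ((shfAdj S).counit.naturality φ)
  refine (adequateMod Scheme.fppfPrecoverage S).prop_of_iso (e1 ≪≫ e2) ?_
  apply adequateMod_shfA
  intro R a
  haveI := toMVFPre_preservesColimitsOfShape (K := Scheme.fppfPrecoverage) a WalkingParallelPair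
  have e3 : (toMVFPre Scheme.fppfPrecoverage a).obj (cokernel ((shfG S).map φ)) ≅
      cokernel ((toMVFPre Scheme.fppfPrecoverage a).map ((shfG S).map φ)) :=
    PreservesCokernel.iso (toMVFPre Scheme.fppfPrecoverage a) ((shfG S).map φ)
  refine (adequate R).prop_of_iso e3.symm ?_
  exact adequate_cokernel _ (adequate_toMVF_fppf S M hM R a) (adequate_toMVF_fppf S N hN R a)

end Shf
end Groth.Agent.H89.AQ
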