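import Groth.Agent.H89.AdeqExtB

/-!
# Extensions of adequate functors are adequate (Stacks 46.3)

For `0 → F → G → H → 0` with `F`, `H` adequate: cover `H` by `p : ∐ L_i ↠ H` (linearly adequate `L_i`), lift `p` to
`s : ∐ L_i ⟶ G` (core lifting theorem), and identify `G` with the cokernel of `ker p ⟶ F ⊞ ∐ L_i`.
-/

set_option autoImplicit false
set_option linter.style.haveILetI false
universe u v
open CategoryTheory Limits Opposite TensorProduct Adeq Groth.Agent.H89.AQ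

namespace Groth.Agent.H89.AQL
variable {A : Type u} [CommRing A]

theorem neg_app_apply {F G : MVF A} (τ : F ⟶ G) (B : Alg A) (x : F.obj (pt B)) :
    (-τ).app (pt B) x = -(τ.app (pt B) x) := rfl

section Biprod
variable (X Y : MVF A)

theorem biprod_total_apply (B : Alg A) (q : (X ⊞ Y).obj (pt B)) :
    q = (biprod.inl : X ⟶ X ⊞ Y).app (pt B) ((biprod.fst : X ⊞ Y ⟶ X).app (pt B) q) +
      (biprod.inr : Y ⟶ X ⊞ Y).app (pt B) ((biprod.snd : X ⊞ Y ⟶ Y).app (pt B) q) := by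
  have e := congrArg (fun τ => τ.app (pt B) q) (biprod.total (X := X) (Y := Y))
  exact e.symm

variable {X Y}

theorem biprod_desc_apply {Z : MVF A} (f : X ⟶ Z) (g : Y ⟶ Z) (B : Alg A)
    (q : (X ⊞ Y).obj (pt B)) :
    (biprod.desc f g).app (pt B) q = f.app (pt B) ((biprod.fst : X ⊞ Y ⟶ X).app (pt B) q) +
      g.app (pt B) ((biprod.snd : X ⊞ Y ⟶ Y).app (pt B) q) := by
  have e : biprod.desc f g = biprod.fst ≫ f + biprod.snd ≫ g := biprod.desc_eq
  rw [e]
  rfl

theorem biprod_lift_apply {Z : MVF A} (f : Z ⟶ X) (g : Z ⟶ Y) (B : Alg A)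
    (z : Z.obj (pt B)) :
    (biprod.lift f g).app (pt B) z = (biprod.inl : X ⟶ X ⊞ Y).app (pt B) (f.app (pt B) z) +
      (biprod.inr : Y ⟶ X ⊞ Y).app (pt B) (g.app (pt B) z) := by
  have e : biprod.lift f g = f ≫ biprod.inl + g ≫ biprod.inr := biprod.lift_eq
  rw [e]
  rfl

theorem biprod_desc_inl_add_inr {Z : MVF A} (f : X ⟶ Z) (g : Y ⟶ Z) (B : Alg A)
    (x : X.obj (pt B)) (y : Y.obj (pt B)) :
    (biprod.desc f g).app (pt B) ((biprod.inl : X ⟶ X ⊞ Y).app (pt B) x +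
      (biprod.inr : Y ⟶ X ⊞ Y).app (pt B) y) = f.app (pt B) x + g.app (pt B) y := by
  rw [map_add, ← comp_app_apply, ← comp_app_apply, biprod.inl_desc, biprod.inr_desc]

end Biprod

end Groth.Agent.H89.AQL

namespace Groth.Agent.H89.AQL
variable {A : Type u} [CommRing A]

/-- elementwise core of: `G ≅ coker (K ⟶ Q)` -/
theorem bijective_of_lift_data {F G H C K Q E : MVF A} (f : F ⟶ G) (π : G ⟶ H)
    (h1 : ∀ B : Alg A, Function.Injective (f.app (pt B)))
    (h3 : ∀ (B : Alg A) (x : F.obj (pt B)), π.app (pt B) (f.app (pt B) x) = 0)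
    (h4 : ∀ (B : Alg A) (g : G.obj (pt B)), π.app (pt B) g = 0 → ∃ x, f.app (pt B) x = g)
    (p : C ⟶ H) (hp : ∀ B : Alg A, Function.Surjective (p.app (pt B)))
    (s : C ⟶ G) (hs : ∀ (B : Alg A) (l : C.obj (pt B)), π.app (pt B) (s.app (pt B) l) = p.app (pt B) l)
    (ι : K ⟶ C)
    (hι : ∀ (B : Alg A) (l : C.obj (pt B)), p.app (pt B) l = 0 → ∃ l', ι.app (pt B) l' = l)
    (t : K ⟶ F)
    (ht : ∀ (B : Alg A) (l' : K.obj (pt B)),
      f.app (pt B) (t.app (pt B) l') = s.app (pt B) (ι.app (pt B) l'))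
    (fst : Q ⟶ F) (snd : Q ⟶ C) (inl : F ⟶ Q) (inr : C ⟶ Q)
    (htotal : ∀ (B : Alg A) (q : Q.obj (pt B)),
      q = inl.app (pt B) (fst.app (pt B) q) + inr.app (pt B) (snd.app (pt B) q))
    (k : K ⟶ Q)
    (hk : ∀ (B : Alg A) (l' : K.obj (pt B)), k.app (pt B) l' =
      inl.app (pt B) (-(t.app (pt B) l')) + inr.app (pt B) (ι.app (pt B) l'))
    (d : Q ⟶ G)
    (hd : ∀ (B : Alg A) (q : Q.obj (pt B)), d.app (pt B) q =
      f.app (pt B) (fst.app (pt B) q) + s.app (pt B) (snd.app (pt B) q))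
    (hdin : ∀ (B : Alg A) (x : F.obj (pt B)) (l : C.obj (pt B)),
      d.app (pt B) (inl.app (pt B) x + inr.app (pt B) l) = f.app (pt B) x + s.app (pt B) l)
    (πk : Q ⟶ E) (hπk : ∀ B : Alg A, Function.Surjective (πk.app (pt B)))
    (hπkk : ∀ (B : Alg A) (l' : K.obj (pt B)), πk.app (pt B) (k.app (pt B) l') = 0)
    (ψ : E ⟶ G)
    (hψ : ∀ (B : Alg A) (q : Q.obj (pt B)), ψ.app (pt B) (πk.app (pt B) q) = d.app (pt B) q)
    (B : Alg A) : Function.Bijective (ψ.app (pt B)) := by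
  constructor
  · intro w w' hww'
    obtain ⟨q, rfl⟩ := hπk B w
    obtain ⟨q', rfl⟩ := hπk B w'
    rw [hψ, hψ] at hww'
    have hd0 : d.app (pt B) (q - q') = 0 := by rw [map_sub, hww', sub_self]
    rw [hd] at hd0
    obtain ⟨x, hx⟩ : ∃ x, x = fst.app (pt B) (q - q') := ⟨_, rfl⟩
    obtain ⟨l, hl⟩ : ∃ l, l = snd.app (pt B) (q - q') := ⟨_, rfl⟩
    rw [← hx, ← hl] at hd0
    have hpl : p.app (pt B) l = 0 := by
      have e := congrArg (π.app (pt B)) hd0
      rw [map_add, h3, zero_add, map_zero, hs] at e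
      exact e
    obtain ⟨l', hl'⟩ := hι B l hpl
    have hxt : x = -(t.app (pt B) l') := by
      apply h1 B
      rw [map_neg, ht, hl']
      exact eq_neg_of_add_eq_zero_left hd0
    have hq : q - q' = k.app (pt B) l' := by
      rw [hk, ← hxt, hl', hx, hl]
      exact htotal B (q - q')
    have h0 : πk.app (pt B) (q - q') = 0 := by
      rw [hq]
      exact hπkk B l'
    rw [map_sub, sub_eq_zero] at h0
    exact h0
  · intro g
    obtain ⟨l, hl⟩ := hp B (π.app (pt B) g)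
    have hg0 : π.app (pt B) (g - s.app (pt B) l) = 0 := by
      rw [map_sub, hs, hl, sub_self]
    obtain ⟨x, hx⟩ := h4 B _ hg0
    refine ⟨πk.app (pt B) (inl.app (pt B) x + inr.app (pt B) l), ?_⟩
    rw [hψ, hdin, hx]
    abel

end Groth.Agent.H89.AQL

namespace Groth.Agent.H89.AQL
variable {A : Type u} [CommRing A]

/-- Stacks 46.3: an extension of adequate functors is adequate. -/
theorem adequate_of_shortExact (S : ShortComplex (MVF A)) (hS : S.ShortExact)
    (h₁ : adequate A S.X₁) (h₃ : adequate A S.X₃) : adequate A S.X₂ := by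
  obtain ⟨h1, h2, h3, h4⟩ := shortExact_elementwise S hS
  haveI := hS.mono_f
  obtain ⟨M, N, φ, iF, hiF⟩ := exists_isKer_of_adequate h₁
  obtain ⟨M₃, N₃, φ₃, i₃, hi₃⟩ := exists_isKer_of_adequate h₃
  obtain ⟨I, L, hL, c, hc, p, hp⟩ := exists_cover_of_isKer hi₃
  have hlift : ∀ i, ∃ s : L i ⟶ S.X₂, s ≫ S.g = c.inj i ≫ p := fun i =>
    exists_lift_of_linAdequate (hL i) hiF S.f S.g (c.inj i ≫ p) h1 h2 h3 h4
  choose si hsi using hlift
  obtain ⟨s, hs'⟩ : ∃ s : c.pt ⟶ S.X₂, ∀ i, c.inj i ≫ s = si i :=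
    ⟨Cofan.IsColimit.desc hc si, fun i => Cofan.IsColimit.fac hc si i⟩
  have hs : s ≫ S.g = p := by
    apply Cofan.IsColimit.hom_ext hc
    intro i
    rw [← Category.assoc, hs', hsi]
  have hcpt : adequate A c.pt :=
    (adequate A).prop_of_iso (hc.coconePointUniqueUpToIso (colimit.isColimit _)).symm
      (adequate_sigma L (fun i => adequate_of_linAdequate (hL i)))
  have hK : adequate A (kernel p) := adequate_kernel p hcpt h₃
  obtain ⟨t, ht⟩ : ∃ t : kernel p ⟶ S.X₁, t ≫ S.f = kernel.ι p ≫ s :=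
    ⟨hS.exact.lift (kernel.ι p ≫ s) (by rw [Category.assoc, hs, kernel.condition]),
      hS.exact.lift_f _ _⟩
  obtain ⟨k, hk⟩ : ∃ k : kernel p ⟶ S.X₁ ⊞ c.pt, k = biprod.lift (-t) (kernel.ι p) := ⟨_, rfl⟩
  obtain ⟨d, hd⟩ : ∃ d : S.X₁ ⊞ c.pt ⟶ S.X₂, d = biprod.desc S.f s := ⟨_, rfl⟩
  have hkd : k ≫ d = 0 := by
    rw [hk, hd, biprod.lift_desc, Preadditive.neg_comp, ht, neg_add_cancel]
  obtain ⟨ψ, hψ⟩ : ∃ ψ : cokernel k ⟶ S.X₂, cokernel.π k ≫ ψ = d :=
    ⟨cokernel.desc k d hkd, cokernel.π_desc _ _ _⟩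
  haveI : IsIso ψ := by
    apply isIso_of_bij
    intro B
    refine bijective_of_lift_data S.f S.g h1 h3 h4 p (fun B => surj_of_epi p B) s ?_
      (kernel.ι p) (fun B l hl => kernel_ι_exact p B l hl) t ?_
      biprod.fst biprod.snd biprod.inl biprod.inr (biprod_total_apply S.X₁ c.pt) k ?_ d ?_ ?_
      (cokernel.π k) (cokernel_π_surjective k) (cokernel_π_comp k) ψ ?_ B
    · intro B l
      rw [← comp_app_apply, hs]
    · intro B l'
      rw [← comp_app_apply, ht, comp_app_apply]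
    · intro B l'
      rw [hk, biprod_lift_apply, neg_app_apply]
    · intro B q
      rw [hd, biprod_desc_apply]
    · intro B x l
      rw [hd, biprod_desc_inl_add_inr]
    · intro B q
      rw [← comp_app_apply, hψ]
  exact (adequate A).prop_of_iso (asIso ψ) (adequate_cokernel k hK (adequate_biprod h₁ hcpt))

end Groth.Agent.H89.AQL
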