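import Groth.Agent.H89.AdeqShf

/-!
# Locally bijective maps from presheaves with adequate values, for a general big site

The argument of `H89/AdeqShf`, for a precoverage `K` finer than the Zariski one in which every covering
sieve of an affine object contains a finite flat jointly surjective family of affines (`RefProp`).
-/

set_option autoImplicit false
set_option linter.style.haveILetI false
universe u v
open CategoryTheory Limits Opposite TensorProduct Adeq AlgebraicGeometry

namespace Groth.Agent.H89.AQ

/-- every covering sieve of a base affine object contains a finite flat jointly surjective family of affines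
which is a `K`-covering -/
def RefProp (K : Precoverage Scheme.{u}) (S : Scheme.{u}) : Prop :=
  ∀ {R : CommRingCat.{u}} (a : Spec R ⟶ S) (T : Sieve ((specOver a).obj (op (algOf R R)))),
    T ∈ QuotSh.J K S ((specOver a).obj (op (algOf R R))) →
    ∃ (n : ℕ) (C : Fin n → Type u) (_ : ∀ j, CommRing (C j)) (_ : ∀ j, Algebra R (C j)),
      (∀ j, Module.Flat R (C j)) ∧
      (∀ p : PrimeSpectrum R, ∃ j, p ∈ Set.range (PrimeSpectrum.comap (algebraMap R (C j)))) ∧
      Presieve.ofArrows (fun j => Spec (CommRingCat.of (C j)))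
        (fun j => Spec.map (CommRingCat.ofHom (algebraMap R (C j)))) ∈ K.coverings (Spec R) ∧
      ∀ j, T.arrows ((specOver a).map (g0 R (C j)).op)

theorem refProp_fppf (S : Scheme.{u}) : RefProp Scheme.fppfPrecoverage S :=
  fun a T hT => exists_refinement_base a T hT

theorem pi_cover_mem_zariski {n : ℕ} (C : Fin n → Type u) [∀ j, CommRing (C j)] :
    Presieve.ofArrows (fun j => Spec (CommRingCat.of (C j)))
      (fun j => Spec.map (CommRingCat.ofHom (Pi.evalRingHom C j))) ∈
        Scheme.zariskiPrecoverage.coverings (Spec (CommRingCat.of (∀ j, C j))) := by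
  rw [Scheme.ofArrows_mem_precoverage_iff]
  refine ⟨fun x => ?_, fun j => inferInstance⟩
  obtain ⟨⟨j, q⟩, hq⟩ := (PrimeSpectrum.sigmaToPi_bijective C).2 x
  exact ⟨j, q, hq⟩

section LocBijG
variable {K : Precoverage Scheme.{u}} [BigSite.OSh K] {S : Scheme.{u}}
  {P : PresheafOfModules.{u + 1} (BigSite.ORing K S).obj}
  {M : BigSite.Mod K S} (η : P ⟶ M.val)

/-- the components of `η` as plain functions -/
noncomputable def etaFunG (X : Over S) (x : P.obj (op X)) : M.val.obj (op X) := (η.app (op X)).hom x

theorem etaFunG_nat {X Y : Over S} (f : Y ⟶ X) (x : P.obj (op X)) :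
    etaFunG η Y (P.map f.op x) = M.val.map f.op (etaFunG η X x) :=
  PresheafOfModules.naturality_apply η f.op x

theorem etaFunG_inj_of_iso {X X' : Over S} (i : X ≅ X') (h : Function.Injective (etaFunG η X)) :
    Function.Injective (etaFunG η X') := by
  intro x x' hxx'
  have h1 : P.map i.hom.op x = P.map i.hom.op x' := by
    apply h
    rw [etaFunG_nat, etaFunG_nat, hxx']
  have h2 : ∀ z : P.obj (op X'), P.map i.inv.op (P.map i.hom.op z) = z := by
    intro z
    rw [← PresheafOfModules.map_comp_apply, ← op_comp, i.inv_hom_id, op_id,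
      PresheafOfModules.map_id]
    rfl
  rw [← h2 x, ← h2 x', h1]

theorem etaFunG_surj_of_iso {X X' : Over S} (i : X ≅ X') (h : Function.Surjective (etaFunG η X)) :
    Function.Surjective (etaFunG η X') := by
  intro s
  obtain ⟨x, hx⟩ := h (M.val.map i.hom.op s)
  refine ⟨P.map i.inv.op x, ?_⟩
  rw [etaFunG_nat, hx, ← PresheafOfModules.map_comp_apply, ← op_comp, i.inv_hom_id, op_id,
    PresheafOfModules.map_id]
  rfl

variable (hz : Scheme.zariskiPrecoverage ≤ K) (href : RefProp K S)
  (hLI : Presheaf.IsLocallyInjective (QuotSh.J K S) ((PresheafOfModules.toPresheaf _).map η))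
  (hLS : Presheaf.IsLocallySurjective (QuotSh.J K S) ((PresheafOfModules.toPresheaf _).map η))
  (hP : ∀ (R : CommRingCat.{u}) (a : Spec R ⟶ S), adequate R ((toMVFPre K a).obj P))

include href hLI hP in
theorem locBijG_inj_base (R : CommRingCat.{u}) (a : Spec R ⟶ S) :
    Function.Injective (((toMVFPre K a).map η).app (pt (algOf R R))) := by
  intro x x' hxx'
  have hT := Presheaf.equalizerSieve_mem (QuotSh.J K S)
    ((PresheafOfModules.toPresheaf _).map η)
    (X := op ((specOver a).obj (op (algOf R R)))) x x' hxx'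
  obtain ⟨n, C, _, _, hflat, hsurj, hcov, hT'⟩ := href a _ hT
  haveI := hflat
  haveI : Module.FaithfullyFlat R (∀ j, C j) := faithfullyFlat_pi R C hsurj
  have h1 : ∀ j, tmap ((toMVFPre K a).obj P) (g0 R (C j)) x =
      tmap ((toMVFPre K a).obj P) (g0 R (C j)) x' := hT'
  have h2 : tmap ((toMVFPre K a).obj P) (g0 R (∀ j, C j)) x =
      tmap ((toMVFPre K a).obj P) (g0 R (∀ j, C j)) x' := by
    apply adequate_pi_injective R C _ (hP R a)
    intro j
    rw [tmap_comp, tmap_comp]
    exact h1 j
  exact (adequate_ff_exact R (∀ j, C j) _ (hP R a)).1 h2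

include href hLI hP in
theorem locBijG_inj (R : CommRingCat.{u}) (a : Spec R ⟶ S) (B : Alg R) :
    Function.Injective (((toMVFPre K a).map η).app (pt B)) := by
  have h0 := locBijG_inj_base η href hLI hP (CommRingCat.of B) ((specOver a).obj (op B)).hom
  exact etaFunG_inj_of_iso η (baseIso a B) h0

include hz href hLI hLS hP in
theorem locBijG_surj_base (R : CommRingCat.{u}) (a : Spec R ⟶ S) :
    Function.Surjective (((toMVFPre K a).map η).app (pt (algOf R R))) := by
  intro s
  have hT := Presheaf.imageSieve_mem (QuotSh.J K S)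
    ((PresheafOfModules.toPresheaf _).map η)
    (U := op ((specOver a).obj (op (algOf R R)))) s
  obtain ⟨n, C, _, _, hflat, hsurj, hcov, hT'⟩ := href a _ hT
  haveI := hflat
  haveI : Module.FaithfullyFlat R (∀ j, C j) := faithfullyFlat_pi R C hsurj
  choose y hy using hT'
  have hy' : ∀ j, ((toMVFPre K a).map η).app (pt (algOf R (C j))) (y j) =
      tmap ((toMVF K a).obj M) (g0 R (C j)) s := hy
  obtain ⟨yy, hyy⟩ := adequate_pi_surjective R C _ (hP R a) y
  have h3 : ((toMVFPre K a).map η).app (pt (algOf R (∀ j, C j))) yy =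
      tmap ((toMVF K a).obj M) (g0 R (∀ j, C j)) s := by
    refine sheaf_family_sep M (fun j => (specOver a).obj (op (algOf R (C j))))
      (fun j => (specOver a).map (piProj R C j).op) (hz _ (pi_cover_mem_zariski C)) _ _
      (fun j => ?_)
    change tmap ((toMVF K a).obj M) (piProj R C j) _ =
      tmap ((toMVF K a).obj M) (piProj R C j) _
    exact ((app_tmap ((toMVFPre K a).map η) (piProj R C j) yy).symm.trans
      ((congrArg _ (hyy j)).trans (hy' j))).trans
      (tmap_comp ((toMVF K a).obj M) (g0 R (∀ j, C j)) (piProj R C j) s).symm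
  have h4 : tmap ((toMVFPre K a).obj P) (gL R (∀ j, C j)) yy =
      tmap ((toMVFPre K a).obj P) (gR R (∀ j, C j)) yy := by
    apply locBijG_inj η href hLI hP R a
    have e0 : g0 R (∀ j, C j) ≫ gL R (∀ j, C j) = g0 R (∀ j, C j) ≫ gR R (∀ j, C j) := by
      ext r
    exact ((app_tmap ((toMVFPre K a).map η) (gL R (∀ j, C j)) yy).trans
      ((congrArg _ h3).trans
        (tmap_comp ((toMVF K a).obj M) (g0 R (∀ j, C j)) (gL R (∀ j, C j)) s))).trans
      ((congrArg (fun g => tmap ((toMVF K a).obj M) g s) e0).trans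
        ((app_tmap ((toMVFPre K a).map η) (gR R (∀ j, C j)) yy).trans
          ((congrArg _ h3).trans
            (tmap_comp ((toMVF K a).obj M) (g0 R (∀ j, C j))
              (gR R (∀ j, C j)) s))).symm)
  obtain ⟨x, hx⟩ := (adequate_ff_exact R (∀ j, C j) _ (hP R a)).2 yy h4
  refine ⟨x, ?_⟩
  refine sheaf_family_sep M (fun j => (specOver a).obj (op (algOf R (C j))))
    (fun j => (specOver a).map (g0 R (C j)).op) hcov _ _ (fun j => ?_)
  change tmap ((toMVF K a).obj M) (g0 R (C j)) _ =
    tmap ((toMVF K a).obj M) (g0 R (C j)) _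
  have e1 : tmap ((toMVFPre K a).obj P) (g0 R (C j)) x = y j :=
    ((tmap_comp ((toMVFPre K a).obj P) (g0 R (∀ j, C j)) (piProj R C j) x).symm.trans
      (congrArg _ hx)).trans (hyy j)
  exact ((app_tmap ((toMVFPre K a).map η) (g0 R (C j)) x).symm.trans
    (congrArg _ e1)).trans (hy' j)

include hz href hLI hLS hP in
theorem locBijG_surj (R : CommRingCat.{u}) (a : Spec R ⟶ S) (B : Alg R) :
    Function.Surjective (((toMVFPre K a).map η).app (pt B)) := by
  have h0 := locBijG_surj_base η hz href hLI hLS hP (CommRingCat.of B)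
    ((specOver a).obj (op B)).hom
  exact etaFunG_surj_of_iso η (baseIso a B) h0

/-- the base object of `Spec R → S` is isomorphic to `Spec R → S` -/
noncomputable def baseIso' {R : CommRingCat.{u}} (h : Spec R ⟶ S) :
    (specOver h).obj (op (algOf R R)) ≅ Over.mk h :=
  Over.isoMk (Iso.refl _) (by
    change 𝟙 _ ≫ h = Spec.map (CommRingCat.ofHom (algebraMap R R)) ≫ h
    rw [Algebra.algebraMap_self, CommRingCat.ofHom_id, Spec.map_id]
    rfl)

include hz href hLI hLS hP in
theorem locBijG_bij_affine {R : CommRingCat.{u}} (h : Spec R ⟶ S) :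
    Function.Bijective (etaFunG η (Over.mk h)) :=
  ⟨etaFunG_inj_of_iso η (baseIso' h) (locBijG_inj_base η href hLI hP R h),
    etaFunG_surj_of_iso η (baseIso' h) (locBijG_surj_base η hz href hLI hLS hP R h)⟩

end LocBijG
end Groth.Agent.H89.AQ
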