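import Mathlib

/-!
# Epimorphisms of sheaves of modules are locally surjective

For a sheaf of rings `R` on a site, `SheafOfModules.toSheaf R` preserves epimorphisms (the composite of sheafification of
presheaves of modules with `toSheaf` preserves finite colimits), hence an epimorphism of sheaves of modules is locally
surjective on sections.
-/

set_option autoImplicit false
universe v v' u u'
open CategoryTheory Limits

namespace Groth.Agent.H89.SME

variable {C : Type u'} [Category.{v'} C] {J : GrothendieckTopology C}
  (R : Sheaf J RingCat.{u}) [HasSheafify J AddCommGrpCat.{v}]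
  [J.WEqualsLocallyBijective AddCommGrpCat.{v}]

theorem preservesFiniteColimits_sheafification_comp_toSheaf :
    PreservesFiniteColimits (PresheafOfModules.sheafification.{v} (𝟙 R.obj) ⋙
      SheafOfModules.toSheaf.{v} R) := by
  haveI : PreservesFiniteColimits (PresheafOfModules.toPresheaf.{v} R.obj ⋙
      presheafToSheaf J AddCommGrpCat.{v}) := comp_preservesFiniteColimits _ _
  exact preservesFiniteColimits_of_natIso
    (PresheafOfModules.sheafificationCompToSheaf.{v} (𝟙 R.obj)).symm

/-- sheafification of presheaves of modules (for the identity of the underlying presheaf of rings) -/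
noncomputable abbrev shA : PresheafOfModules.{v} R.obj ⥤ SheafOfModules.{v} R :=
  PresheafOfModules.sheafification.{v} (𝟙 R.obj)

noncomputable abbrev shG : SheafOfModules.{v} R ⥤ PresheafOfModules.{v} R.obj :=
  SheafOfModules.forget.{v} R ⋙ PresheafOfModules.restrictScalars (𝟙 R.obj)

noncomputable abbrev shAdj : shA R ⊣ shG R :=
  PresheafOfModules.sheafificationAdjunction (𝟙 R.obj)

theorem epi_toSheaf_map {M N : SheafOfModules.{v} R} (g : M ⟶ N) [Epi g] :
    Epi ((SheafOfModules.toSheaf.{v} R).map g) := by
  have hc : (shA R).map ((shG R).map g) ≫ (shAdj R).counit.app N =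
      (shAdj R).counit.app M ≫ g := (shAdj R).counit.naturality g
  haveI : Epi ((shA R).map ((shG R).map g)) := by
    have h1 : (shA R).map ((shG R).map g) =
        ((shAdj R).counit.app M ≫ g) ≫ inv ((shAdj R).counit.app N) := by
      rw [← hc, Category.assoc, IsIso.hom_inv_id, Category.comp_id]
    rw [h1]
    infer_instance
  haveI := preservesFiniteColimits_sheafification_comp_toSheaf R
  haveI : PreservesColimitsOfShape WalkingParallelPair (shA R) :=
    (shAdj R).leftAdjoint_preservesColimits.preservesColimitsOfShape
  have hz : IsZero (cokernel ((shA R).map ((shG R).map g))) := isZero_cokernel_of_epi _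
  have hz2 : IsZero ((shA R).obj (cokernel ((shG R).map g))) :=
    hz.of_iso (PreservesCokernel.iso (shA R) ((shG R).map g))
  have hz3 : IsZero ((shA R ⋙ SheafOfModules.toSheaf.{v} R).obj (cokernel ((shG R).map g))) :=
    (SheafOfModules.toSheaf.{v} R).map_isZero hz2
  have hz4 : IsZero (cokernel ((shA R ⋙ SheafOfModules.toSheaf.{v} R).map ((shG R).map g))) :=
    hz3.of_iso (PreservesCokernel.iso (shA R ⋙ SheafOfModules.toSheaf.{v} R)
      ((shG R).map g)).symm
  haveI : Epi ((SheafOfModules.toSheaf.{v} R).map ((shA R).map ((shG R).map g))) :=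
    Preadditive.epi_of_isZero_cokernel _ hz4
  have h2 : (SheafOfModules.toSheaf.{v} R).map g =
      inv ((SheafOfModules.toSheaf.{v} R).map ((shAdj R).counit.app M)) ≫
        (SheafOfModules.toSheaf.{v} R).map ((shA R).map ((shG R).map g)) ≫
          (SheafOfModules.toSheaf.{v} R).map ((shAdj R).counit.app N) := by
    rw [← Functor.map_comp, hc, Functor.map_comp, IsIso.inv_hom_id_assoc]
  rw [h2]
  infer_instance

/-- an epimorphism of sheaves of modules is locally surjective -/
theorem isLocallySurjective_of_epi {M N : SheafOfModules.{v} R} (g : M ⟶ N) [Epi g] :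
    Presheaf.IsLocallySurjective J ((PresheafOfModules.toPresheaf R.obj).map g.val) := by
  haveI := epi_toSheaf_map R g
  exact (Sheaf.isLocallySurjective_iff_epi' (φ := (SheafOfModules.toSheaf.{v} R).map g)).mpr
    inferInstance

end Groth.Agent.H89.SME
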