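import Groth.Agent.H89.AdeqH1
import Groth.Agent.H89.AdeqShfGen
import Groth.Agent.H89.ShfModEpi
import Groth.Agent.H89.AdeqExt2B

/-!
# Extensions of adequate modules are adequate (Stacks 46.5.11 (3))
-/

set_option autoImplicit false
set_option linter.style.haveILetI false
universe u v
open CategoryTheory Limits Opposite TensorProduct Adeq AlgebraicGeometry

namespace Groth.Agent.H89.AQ

section Empty
variable {K : Precoverage Scheme.{u}} [BigSite.OSh K] {S : Scheme.{u}} (M : BigSite.Mod K S)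
  (hz : Scheme.zariskiPrecoverage ≤ K)

include hz in
theorem sheaf_subsingleton_of_isEmpty (Z : Over S) [IsEmpty Z.left] :
    Subsingleton (M.val.obj (op Z)) := by
  refine ⟨fun x y => sheaf_family_sep M (fun i : PEmpty.{1} => i.elim) (fun i => i.elim)
    (hz _ ?_) x y (fun i => i.elim)⟩
  rw [Scheme.ofArrows_mem_precoverage_iff]
  exact ⟨fun x => (IsEmpty.false x).elim, fun i => i.elim⟩

include hz in
theorem sheaf_pi_glue {R : CommRingCat.{u}} (a : Spec R ⟶ S) {n : ℕ} (C : Fin n → Type u)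
    [∀ j, CommRing (C j)] [∀ j, Algebra R (C j)]
    (y : ∀ j, ((toMVF K a).obj M).obj (pt (algOf R (C j)))) :
    ∃ yy : ((toMVF K a).obj M).obj (pt (algOf R (∀ j, C j))),
      ∀ j, tmap ((toMVF K a).obj M) (piProj R C j) yy = y j := by
  refine sheaf_family_glue M (fun j => (specOver a).obj (op (algOf R (C j))))
    (fun j => (specOver a).map (piProj R C j).op) (hz _ (pi_cover_mem_zariski C)) y ?_
  intro i j Z q₁ q₂ hq
  have h1 : q₁.left ≫ ((specOver a).map (piProj R C i).op).left =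
      q₂.left ≫ ((specOver a).map (piProj R C j).op).left := congrArg CommaMorphism.left hq
  by_cases hij : i = j
  · subst hij
    have hq' : q₁ = q₂ := by
      ext : 1
      haveI : Mono ((specOver a).map (piProj R C i).op).left := by
        change Mono (Spec.map (CommRingCat.ofHom (Pi.evalRingHom C i)))
        infer_instance
      exact (cancel_mono _).mp h1
    rw [hq']
  · haveI : IsEmpty Z.left := by
      refine ⟨fun z => hij ?_⟩
      have h2 : (Spec.map (CommRingCat.ofHom (Pi.evalRingHom C i))) (q₁.left z) =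
          (Spec.map (CommRingCat.ofHom (Pi.evalRingHom C j))) (q₂.left z) := by
        have := congrArg (fun f : Z.left ⟶ Spec (CommRingCat.of (∀ j, C j)) => f z) h1
        exact ((Scheme.Hom.comp_apply q₁.left
          ((specOver a).map (piProj R C i).op).left z).symm.trans this).trans
          (Scheme.Hom.comp_apply q₂.left ((specOver a).map (piProj R C j).op).left z)
      have h3 : PrimeSpectrum.sigmaToPi C ⟨i, q₁.left z⟩ = PrimeSpectrum.sigmaToPi C ⟨j, q₂.left z⟩ :=
        h2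
      exact congrArg Sigma.fst (PrimeSpectrum.sigmaToPi_injective C h3)
    have hs := sheaf_subsingleton_of_isEmpty M hz Z
    exact @Subsingleton.elim _ hs _ _

end Empty
end Groth.Agent.H89.AQ

namespace Groth.Agent.H89.AQ

section GlueBase
variable {K : Precoverage Scheme.{u}} [BigSite.OSh K] {S : Scheme.{u}} (M : BigSite.Mod K S)
  {R : CommRingCat.{u}} (a : Spec R ⟶ S) {J : Type v} (C : J → Type u) [∀ j, CommRing (C j)]
  [∀ j, Algebra R (C j)]

/-- `C_i → C_i ⊗ C_j` -/
noncomputable abbrev iL (i j : J) : algOf R (C i) ⟶ algOf R (C i ⊗[R] C j) :=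
  CommAlgCat.ofHom (Algebra.TensorProduct.includeLeft : C i →ₐ[R] C i ⊗[R] C j)

/-- `C_j → C_i ⊗ C_j` -/
noncomputable abbrev iR (i j : J) : algOf R (C j) ⟶ algOf R (C i ⊗[R] C j) :=
  CommAlgCat.ofHom (Algebra.TensorProduct.includeRight : C j →ₐ[R] C i ⊗[R] C j)

theorem toMVF_glue_base
    (hcov : Presieve.ofArrows (fun j => Spec (CommRingCat.of (C j)))
      (fun j => Spec.map (CommRingCat.ofHom (algebraMap R (C j)))) ∈ K.coverings (Spec R))
    (y : ∀ j, ((toMVF K a).obj M).obj (pt (algOf R (C j))))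
    (hy : ∀ i j, tmap ((toMVF K a).obj M) (iL C i j) (y i) =
      tmap ((toMVF K a).obj M) (iR C i j) (y j)) :
    ∃ x : ((toMVF K a).obj M).obj (pt (algOf R R)),
      ∀ j, tmap ((toMVF K a).obj M) (g0 R (C j)) x = y j := by
  refine sheaf_family_glue M (fun j => (specOver a).obj (op (algOf R (C j))))
    (fun j => (specOver a).map (g0 R (C j)).op) hcov y ?_
  intro i j Z q₁ q₂ hq
  have hpb := isPullback_SpecMap_of_isPushout _ _ _ _
    (CommRingCat.isPushout_tensorProduct R (C i) (C j))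
  have hq' : q₁.left ≫ Spec.map (CommRingCat.ofHom (algebraMap R (C i))) =
      q₂.left ≫ Spec.map (CommRingCat.ofHom (algebraMap R (C j))) :=
    congrArg CommaMorphism.left hq
  obtain ⟨r, hr₁, hr₂⟩ : ∃ r : Z ⟶ (specOver a).obj (op (algOf R (C i ⊗[R] C j))),
      r ≫ (specOver a).map (iL C i j).op = q₁ ∧ r ≫ (specOver a).map (iR C i j).op = q₂ := by
    have hw : hpb.lift q₁.left q₂.left hq' ≫
        ((specOver a).obj (op (algOf R (C i ⊗[R] C j)))).hom = Z.hom := by
      have h1 := hpb.lift_fst q₁.left q₂.left hq'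
      have h2 := Over.w ((specOver a).map (iL C i j).op)
      have h3 := Over.w q₁
      exact (congrArg (fun t => hpb.lift q₁.left q₂.left hq' ≫ t) h2.symm).trans
        ((Category.assoc _ _ _).symm.trans
          ((congrArg (fun t => t ≫ ((specOver a).obj (op (algOf R (C i)))).hom) h1).trans h3))
    refine ⟨Over.homMk (hpb.lift q₁.left q₂.left hq') hw, ?_, ?_⟩
    · ext : 1
      exact hpb.lift_fst q₁.left q₂.left hq'
    · ext : 1
      exact hpb.lift_snd q₁.left q₂.left hq'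
  subst hr₁ hr₂
  exact (PresheafOfModules.map_comp_apply M.val
      ((specOver a).map (iL C i j).op).op r.op (y i)).trans
    ((congrArg (M.val.map r.op) (hy i j)).trans
      (PresheafOfModules.map_comp_apply M.val
        ((specOver a).map (iR C i j).op).op r.op (y j)).symm)

end GlueBase

section SecExact
variable {K : Precoverage Scheme.{u}} [BigSite.OSh K] {S : Scheme.{u}}
  (C : ShortComplex (BigSite.Mod K S)) (hC : C.ShortExact)

include hC in
theorem shortExact_f_injective (X : Over S) : Function.Injective (C.f.val.app (op X)) := by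
  haveI := hC.mono_f
  haveI : Mono ((SheafOfModules.evaluation (BigSite.ORing K S) (op X)).map C.f) := inferInstance
  exact (ModuleCat.mono_iff_injective
    ((SheafOfModules.evaluation (BigSite.ORing K S) (op X)).map C.f)).mp inferInstance

include hC in
theorem shortExact_exact (X : Over S) (x : C.X₂.val.obj (op X))
    (hx : C.g.val.app (op X) x = 0) : ∃ z : C.X₁.val.obj (op X), C.f.val.app (op X) z = x := by
  haveI := hC.mono_f
  haveI : (SheafOfModules.evaluation (BigSite.ORing K S) (op X)).PreservesZeroMorphisms :=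
    ⟨fun _ _ => rfl⟩
  have hS' := hC.exact.map_of_mono_of_preservesKernel
    (SheafOfModules.evaluation (BigSite.ORing K S) (op X)) (by infer_instance)
    (by infer_instance)
  rw [ShortComplex.moduleCat_exact_iff] at hS'
  exact hS' x hx

theorem shortComplex_zero_apply (X : Over S) (z : C.X₁.val.obj (op X)) :
    C.g.val.app (op X) (C.f.val.app (op X) z) = 0 := by
  have h := C.zero
  have h2 := congrArg (fun ψ : C.X₁ ⟶ C.X₃ => ψ.val.app (op X) z) h
  exact h2

end SecExact
end Groth.Agent.H89.AQ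

namespace Groth.Agent.H89.AQ

section Ext
variable {K : Precoverage Scheme.{u}} [BigSite.OSh K] {S : Scheme.{u}}
  (hz : Scheme.zariskiPrecoverage ≤ K) (href : RefProp K S)
  (C : ShortComplex (BigSite.Mod K S)) (hC : C.ShortExact)

/-- `π_i ⊗ π_j : ∏C ⊗ ∏C → C_i ⊗ C_j` -/
noncomputable abbrev piPi {R : CommRingCat.{u}} {n : ℕ} (Cj : Fin n → Type u)
    [∀ j, CommRing (Cj j)] [∀ j, Algebra R (Cj j)] (i j : Fin n) :
    algOf R ((∀ j, Cj j) ⊗[R] (∀ j, Cj j)) ⟶ algOf R (Cj i ⊗[R] Cj j) :=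
  CommAlgCat.ofHom (Algebra.TensorProduct.map (Pi.evalAlgHom R Cj i) (Pi.evalAlgHom R Cj j))

include hz href hC in
theorem shortExact_g_surj_base (R : CommRingCat.{u}) (a : Spec R ⟶ S)
    (h₁ : adequate R ((toMVF K a).obj C.X₁)) :
    Function.Surjective (((toMVF K a).map C.g).app (pt (algOf R R))) := by
  intro s
  haveI := hC.epi_g
  have hLS := Groth.Agent.H89.SME.isLocallySurjective_of_epi (BigSite.ORing K S) C.g
  have hT := Presheaf.imageSieve_mem (QuotSh.J K S)
    ((PresheafOfModules.toPresheaf _).map C.g.val)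
    (U := op ((specOver a).obj (op (algOf R R)))) s
  obtain ⟨n, Cj, _, _, hflat, hsurj, hcov, hT'⟩ := href a _ hT
  haveI := hflat
  haveI : Module.FaithfullyFlat R (∀ j, Cj j) := faithfullyFlat_pi R Cj hsurj
  choose t ht using hT'
  have ht' : ∀ j, ((toMVF K a).map C.g).app (pt (algOf R (Cj j))) (t j) =
      tmap ((toMVF K a).obj C.X₃) (g0 R (Cj j)) s := ht
  obtain ⟨tt, htt⟩ := sheaf_pi_glue C.X₂ hz a Cj t
  -- `g tt = s|_C`
  have h3 : ((toMVF K a).map C.g).app (pt (algOf R (∀ j, Cj j))) tt =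
      tmap ((toMVF K a).obj C.X₃) (g0 R (∀ j, Cj j)) s := by
    refine sheaf_family_sep C.X₃ (fun j => (specOver a).obj (op (algOf R (Cj j))))
      (fun j => (specOver a).map (piProj R Cj j).op) (hz _ (pi_cover_mem_zariski Cj)) _ _
      (fun j => ?_)
    change tmap ((toMVF K a).obj C.X₃) (piProj R Cj j) _ =
      tmap ((toMVF K a).obj C.X₃) (piProj R Cj j) _
    exact ((app_tmap ((toMVF K a).map C.g) (piProj R Cj j) tt).symm.trans
      ((congrArg _ (htt j)).trans (ht' j))).trans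
      (tmap_comp ((toMVF K a).obj C.X₃) (g0 R (∀ j, Cj j)) (piProj R Cj j) s).symm
  -- the difference of the two pullbacks of `tt` comes from `X₁`
  have e0 : g0 R (∀ j, Cj j) ≫ gL R (∀ j, Cj j) = g0 R (∀ j, Cj j) ≫ gR R (∀ j, Cj j) := by
    ext r
  have hgd : ((toMVF K a).map C.g).app (pt (algOf R ((∀ j, Cj j) ⊗[R] (∀ j, Cj j))))
      (tmap ((toMVF K a).obj C.X₂) (gL R (∀ j, Cj j)) tt -
        tmap ((toMVF K a).obj C.X₂) (gR R (∀ j, Cj j)) tt) = 0 := by
    rw [map_sub]
    apply sub_eq_zero.mpr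
    exact ((app_tmap ((toMVF K a).map C.g) (gL R (∀ j, Cj j)) tt).trans
      ((congrArg _ h3).trans
        (tmap_comp ((toMVF K a).obj C.X₃) (g0 R (∀ j, Cj j)) (gL R (∀ j, Cj j)) s))).trans
      ((congrArg (fun g => tmap ((toMVF K a).obj C.X₃) g s) e0).trans
        ((app_tmap ((toMVF K a).map C.g) (gR R (∀ j, Cj j)) tt).trans
          ((congrArg _ h3).trans
            (tmap_comp ((toMVF K a).obj C.X₃) (g0 R (∀ j, Cj j))
              (gR R (∀ j, Cj j)) s))).symm)
  obtain ⟨d', hd'⟩ := shortExact_exact C hC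
    ((specOver a).obj (op (algOf R ((∀ j, Cj j) ⊗[R] (∀ j, Cj j))))) _ hgd
  have hd'' : ((toMVF K a).map C.f).app (pt (algOf R ((∀ j, Cj j) ⊗[R] (∀ j, Cj j)))) d' =
      tmap ((toMVF K a).obj C.X₂) (gL R (∀ j, Cj j)) tt -
        tmap ((toMVF K a).obj C.X₂) (gR R (∀ j, Cj j)) tt := hd'
  -- cocycle condition
  have c1 : gL R (∀ j, Cj j) ≫ gC0 R (∀ j, Cj j) = gR R (∀ j, Cj j) ≫ gC2 R (∀ j, Cj j) := by
    ext x
    simp [cof0, cof2]
  have c2 : gR R (∀ j, Cj j) ≫ gC0 R (∀ j, Cj j) = gR R (∀ j, Cj j) ≫ gC1 R (∀ j, Cj j) := by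
    ext x
    simp [cof0, cof1]
  have c3 : gL R (∀ j, Cj j) ≫ gC1 R (∀ j, Cj j) = gL R (∀ j, Cj j) ≫ gC2 R (∀ j, Cj j) := by
    ext x
    simp [cof1, cof2]
  have hk : ∀ k : algOf R ((∀ j, Cj j) ⊗[R] (∀ j, Cj j)) ⟶
      algOf R (((∀ j, Cj j) ⊗[R] (∀ j, Cj j)) ⊗[R] (∀ j, Cj j)),
      ((toMVF K a).map C.f).app _ (tmap ((toMVF K a).obj C.X₁) k d') =
        tmap ((toMVF K a).obj C.X₂) (gL R (∀ j, Cj j) ≫ k) tt -
          tmap ((toMVF K a).obj C.X₂) (gR R (∀ j, Cj j) ≫ k) tt := by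
    intro k
    exact (app_tmap ((toMVF K a).map C.f) k d').trans ((congrArg _ hd'').trans
      ((tmap_sub _ k _ _).trans (congrArg₂ (· - ·) (tmap_comp _ _ k tt) (tmap_comp _ _ k tt))))
  have hcoc : tmap ((toMVF K a).obj C.X₁) (gC0 R (∀ j, Cj j)) d' +
      tmap ((toMVF K a).obj C.X₁) (gC2 R (∀ j, Cj j)) d' =
      tmap ((toMVF K a).obj C.X₁) (gC1 R (∀ j, Cj j)) d' := by
    apply shortExact_f_injective C hC
      ((specOver a).obj (op (algOf R (((∀ j, Cj j) ⊗[R] (∀ j, Cj j)) ⊗[R] (∀ j, Cj j)))))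
    refine (map_add (((toMVF K a).map C.f).app _).hom _ _).trans ?_
    refine (congrArg₂ (· + ·) (hk _) (hk _)).trans ((hk _).symm ▸ ?_)
    rw [c1, c2, c3]
    abel
  obtain ⟨e, he⟩ := adequate_H1_vanish R (∀ j, Cj j) _ h₁ d' hcoc
  -- corrected lift
  obtain ⟨t', ht'def⟩ : ∃ t' : ((toMVF K a).obj C.X₂).obj (pt (algOf R (∀ j, Cj j))),
      t' = tt - ((toMVF K a).map C.f).app (pt (algOf R (∀ j, Cj j))) e := ⟨_, rfl⟩
  have h5 : tmap ((toMVF K a).obj C.X₂) (gL R (∀ j, Cj j)) t' =
      tmap ((toMVF K a).obj C.X₂) (gR R (∀ j, Cj j)) t' := by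
    have hfe : ((toMVF K a).map C.f).app _ (tmap ((toMVF K a).obj C.X₁) (gL R (∀ j, Cj j)) e) -
        ((toMVF K a).map C.f).app _ (tmap ((toMVF K a).obj C.X₁) (gR R (∀ j, Cj j)) e) =
        tmap ((toMVF K a).obj C.X₂) (gL R (∀ j, Cj j)) tt -
          tmap ((toMVF K a).obj C.X₂) (gR R (∀ j, Cj j)) tt := by
      rw [← hd'', he]
      exact (map_sub (((toMVF K a).map C.f).app _).hom _ _).symm
    rw [app_tmap, app_tmap] at hfe
    rw [ht'def, tmap_sub, tmap_sub]
    have h := sub_eq_sub_iff_add_eq_add.mp hfe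
    exact sub_eq_sub_iff_add_eq_add.mpr (h.symm.trans (add_comm _ _))
  -- descend along the family
  have hy : ∀ i j, tmap ((toMVF K a).obj C.X₂) (iL Cj i j)
      (tmap ((toMVF K a).obj C.X₂) (piProj R Cj i) t') =
      tmap ((toMVF K a).obj C.X₂) (iR Cj i j)
        (tmap ((toMVF K a).obj C.X₂) (piProj R Cj j) t') := by
    intro i j
    have cL : piProj R Cj i ≫ iL Cj i j = gL R (∀ j, Cj j) ≫ piPi Cj i j := by
      ext x
      simp
    have cR : piProj R Cj j ≫ iR Cj i j = gR R (∀ j, Cj j) ≫ piPi Cj i j := by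
      ext x
      simp
    rw [tmap_comp, tmap_comp, cL, cR, ← tmap_comp, ← tmap_comp, h5]
  obtain ⟨x, hx⟩ := toMVF_glue_base C.X₂ a Cj hcov
    (fun j => tmap ((toMVF K a).obj C.X₂) (piProj R Cj j) t') hy
  refine ⟨x, ?_⟩
  refine sheaf_family_sep C.X₃ (fun j => (specOver a).obj (op (algOf R (Cj j))))
    (fun j => (specOver a).map (g0 R (Cj j)).op) hcov _ _ (fun j => ?_)
  change tmap ((toMVF K a).obj C.X₃) (g0 R (Cj j)) _ =
    tmap ((toMVF K a).obj C.X₃) (g0 R (Cj j)) _
  have hgt' : ((toMVF K a).map C.g).app (pt (algOf R (∀ j, Cj j))) t' =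
      tmap ((toMVF K a).obj C.X₃) (g0 R (∀ j, Cj j)) s := by
    rw [ht'def, map_sub, h3]
    have : ((toMVF K a).map C.g).app (pt (algOf R (∀ j, Cj j)))
        (((toMVF K a).map C.f).app (pt (algOf R (∀ j, Cj j))) e) = 0 :=
      shortComplex_zero_apply C ((specOver a).obj (op (algOf R (∀ j, Cj j)))) e
    rw [this, sub_zero]
  exact ((app_tmap ((toMVF K a).map C.g) (g0 R (Cj j)) x).symm.trans
    ((congrArg _ (hx j)).trans ((app_tmap ((toMVF K a).map C.g) (piProj R Cj j) t').trans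
      ((congrArg _ hgt').trans
        (tmap_comp ((toMVF K a).obj C.X₃) (g0 R (∀ j, Cj j)) (piProj R Cj j) s)))))

end Ext
end Groth.Agent.H89.AQ

namespace Groth.Agent.H89.AQ

section Ext2
variable {K : Precoverage Scheme.{u}} [BigSite.OSh K] {S : Scheme.{u}}
  (hz : Scheme.zariskiPrecoverage ≤ K) (href : RefProp K S)
  (C : ShortComplex (BigSite.Mod K S)) (hC : C.ShortExact)
  (h₁ : ∀ (R : CommRingCat.{u}) (a : Spec R ⟶ S), adequate R ((toMVF K a).obj C.X₁))

include hz href hC h₁ in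
theorem shortExact_g_surj (R : CommRingCat.{u}) (a : Spec R ⟶ S) (B : Alg R) :
    Function.Surjective (((toMVF K a).map C.g).app (pt B)) := by
  have h0 := shortExact_g_surj_base hz href C hC (CommRingCat.of B)
    ((specOver a).obj (op B)).hom (h₁ _ _)
  exact etaFunG_surj_of_iso C.g.val (baseIso a B) h0

include hz href hC h₁ in
theorem shortExact_toMVF (R : CommRingCat.{u}) (a : Spec R ⟶ S) :
    (C.map (toMVF K a)).ShortExact := by
  have hmono : Mono ((toMVF K a).map C.f) :=
    mono_of_inj _ (fun B => shortExact_f_injective C hC ((specOver a).obj (op B)))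
  have hepi : Epi ((toMVF K a).map C.g) :=
    epi_of_surj _ (fun B => shortExact_g_surj hz href C hC h₁ R a B)
  have hex : (C.map (toMVF K a)).Exact := by
    rw [ShortComplex.exact_iff_epi_kernel_lift]
    apply epi_of_surj
    intro B y
    obtain ⟨x, hx⟩ : ∃ x, x = (kernel.ι (C.map (toMVF K a)).g).app (pt B) y := ⟨_, rfl⟩
    have hx0 : ((toMVF K a).map C.g).app (pt B) x = 0 := by
      rw [hx]
      exact kernel_ι_comp (C.map (toMVF K a)).g B y
    obtain ⟨z, hz'⟩ := shortExact_exact C hC ((specOver a).obj (op B)) x hx0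
    refine ⟨z, ?_⟩
    apply kernel_ι_injective (C.map (toMVF K a)).g B
    rw [← comp_app_apply, kernel.lift_ι, ← hx]
    exact hz'
  exact ShortComplex.ShortExact.mk' hex hmono hepi

include hz href hC h₁ in
theorem adequate_toMVF_of_shortExact
    (h₃ : ∀ (R : CommRingCat.{u}) (a : Spec R ⟶ S), adequate R ((toMVF K a).obj C.X₃))
    (R : CommRingCat.{u}) (a : Spec R ⟶ S) : adequate R ((toMVF K a).obj C.X₂) :=
  Groth.Agent.H89.AQL.adequate_of_shortExact (C.map (toMVF K a))
    (shortExact_toMVF hz href C hC h₁ R a) (h₁ R a) (h₃ R a)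

end Ext2

theorem adequateMod_of_shortExact_fppf {S : Scheme.{u}}
    (C : ShortComplex (BigSite.Mod Scheme.fppfPrecoverage S)) (hC : C.ShortExact)
    (h₁ : Adeq.adequateMod Scheme.fppfPrecoverage S C.X₁)
    (h₃ : Adeq.adequateMod Scheme.fppfPrecoverage S C.X₃) :
    Adeq.adequateMod Scheme.fppfPrecoverage S C.X₂ :=
  affineOpenCover_adequateMod_fppf S _ (fun R a =>
    adequate_toMVF_of_shortExact Scheme.zariskiPrecoverage_le_fppfPrecoverage (refProp_fppf S) C hC
      (fun R a => adequate_toMVF_fppf S C.X₁ h₁ R a)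
      (fun R a => adequate_toMVF_fppf S C.X₃ h₃ R a) R a)

end Groth.Agent.H89.AQ
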