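import Mathlib

/-!
# Faithfully flat descent for modules, first two degrees

For a faithfully flat `A`-algebra `B` and an `A`-module `M`, the sequence
`0 → M → B ⊗ M → (B ⊗ B) ⊗ M` is exact.
-/

set_option autoImplicit false
universe u v
open TensorProduct

namespace Groth.Agent.H89.AQ

section FF
variable (A : Type u) [CommRing A] (B : Type u) [CommRing B] [Algebra A B]
  (M : Type v) [AddCommGroup M] [Module A M]

/-- `m ↦ 1 ⊗ m` -/
noncomputable def eMap : M →ₗ[A] B ⊗[A] M := TensorProduct.mk A B M 1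

/-- `b ⊗ m ↦ (b ⊗ 1) ⊗ m - (1 ⊗ b) ⊗ m` -/
noncomputable def dMap : B ⊗[A] M →ₗ[A] (B ⊗[A] B) ⊗[A] M :=
  (Algebra.TensorProduct.includeLeft : B →ₐ[A] B ⊗[A] B).toLinearMap.rTensor M -
    (Algebra.TensorProduct.includeRight : B →ₐ[A] B ⊗[A] B).toLinearMap.rTensor M

/-- `t ⊗ (s ⊗ m) ↦ ts ⊗ m` -/
noncomputable def kMap : B ⊗[A] (B ⊗[A] M) →ₗ[A] B ⊗[A] M :=
  (LinearMap.mul' A B).rTensor M ∘ₗ (TensorProduct.assoc A B B M).symm.toLinearMap

/-- `t ⊗ ((s ⊗ s') ⊗ m) ↦ ts ⊗ (s' ⊗ m)` -/
noncomputable def hMap : B ⊗[A] ((B ⊗[A] B) ⊗[A] M) →ₗ[A] B ⊗[A] (B ⊗[A] M) :=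
  (TensorProduct.assoc A B B M).toLinearMap ∘ₗ
    (((LinearMap.mul' A B).rTensor B).rTensor M) ∘ₗ
      ((TensorProduct.assoc A B B B).symm.toLinearMap.rTensor M) ∘ₗ
        (TensorProduct.assoc A B (B ⊗[A] B) M).symm.toLinearMap

theorem hMap_dMap (z : B ⊗[A] (B ⊗[A] M)) :
    hMap A B M ((dMap A B M).lTensor B z) = (eMap A B M).lTensor B (kMap A B M z) - z := by
  induction z using TensorProduct.induction_on with
  | zero => simp
  | add x y hx hy => simp only [map_add, hx, hy]; abel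
  | tmul t w =>
    induction w using TensorProduct.induction_on with
    | zero => simp
    | add x y hx hy => simp only [tmul_add, map_add, hx, hy]; abel
    | tmul s m =>
      simp [hMap, dMap, eMap, kMap]

theorem dMap_comp_eMap : dMap A B M ∘ₗ eMap A B M = 0 := by
  ext m
  simp [dMap, eMap]

theorem ff_exact [Module.FaithfullyFlat A B] : Function.Exact (eMap A B M) (dMap A B M) := by
  apply Module.FaithfullyFlat.lTensor_reflects_exact A B
  intro z
  constructor
  · intro hz
    refine ⟨kMap A B M z, ?_⟩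
    have h := hMap_dMap A B M z
    rw [hz, map_zero] at h
    exact sub_eq_zero.mp h.symm
  · rintro ⟨w, rfl⟩
    rw [← LinearMap.comp_apply, ← LinearMap.lTensor_comp, dMap_comp_eMap, LinearMap.lTensor_zero,
      LinearMap.zero_apply]

theorem eMap_injective [Module.FaithfullyFlat A B] : Function.Injective (eMap A B M) :=
  Module.FaithfullyFlat.tensorProduct_mk_injective (A := A) (B := B) M

end FF
end Groth.Agent.H89.AQ

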