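import Groth.Agent.H89.AdeqSiteKer
import Groth.Agent.H89.AdeqFF

/-!
# Adequate functors satisfy faithfully flat descent in degrees 0, 1 (Stacks 46.3.5, first two terms)

For `F` adequate over `A` and a faithfully flat `A`-algebra `B`: `0 → F(A) → F(B) → F(B ⊗ B)` is exact.
Consequence for adequate modules on the big fppf site.
-/

set_option autoImplicit false
set_option linter.style.haveILetI false
universe u v
open CategoryTheory Limits Opposite TensorProduct Adeq AlgebraicGeometry

namespace Groth.Agent.H89.AQ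

section FFMVF
variable (A : Type u) [CommRing A] (B : Type u) [CommRing B] [Algebra A B]

/-- the structure map `A → B` as a morphism of `A`-algebras -/
noncomputable abbrev g0 : algOf A A ⟶ algOf A B := CommAlgCat.ofHom (Algebra.ofId A B)

noncomputable abbrev gL : algOf A B ⟶ algOf A (B ⊗[A] B) :=
  CommAlgCat.ofHom (Algebra.TensorProduct.includeLeft : B →ₐ[A] B ⊗[A] B)

noncomputable abbrev gR : algOf A B ⟶ algOf A (B ⊗[A] B) :=
  CommAlgCat.ofHom (Algebra.TensorProduct.includeRight : B →ₐ[A] B ⊗[A] B)

theorem g0_rTensor (M : Type v) [AddCommGroup M] [Module A M] (w : A ⊗[A] M) :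
    (g0 A B).hom.toLinearMap.rTensor M w = eMap A B M (TensorProduct.lid A M w) := by
  induction w using TensorProduct.induction_on with
  | zero => simp
  | add x y hx hy => simp only [map_add, hx, hy]
  | tmul a m =>
    simp [eMap, Algebra.ofId_apply, Algebra.algebraMap_eq_smul_one, smul_tmul]

theorem g0_rTensor_injective [Module.FaithfullyFlat A B] (M : Type v) [AddCommGroup M]
    [Module A M] : Function.Injective ((g0 A B).hom.toLinearMap.rTensor M) := by
  intro w w' h
  rw [g0_rTensor, g0_rTensor] at h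
  exact (TensorProduct.lid A M).injective (eMap_injective A B M h)

theorem adequate_ff_exact [Module.FaithfullyFlat A B] (F : MVF A) (hF : adequate A F) :
    Function.Injective (tmap F (g0 A B)) ∧
      ∀ y : F.obj (pt (algOf A B)), tmap F (gL A B) y = tmap F (gR A B) y →
        ∃ x : F.obj (pt (algOf A A)), tmap F (g0 A B) x = y := by
  obtain ⟨M, N, φ, i, hi⟩ := exists_isKer_of_adequate hF
  constructor
  · intro x x' hxx'
    apply hi.inj (algOf A A)
    apply g0_rTensor_injective A B M
    have e1 := (app_tmap i (g0 A B) x).trans (underline_tmap M (g0 A B) _)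
    have e2 := (app_tmap i (g0 A B) x').trans (underline_tmap M (g0 A B) _)
    rw [← e1, ← e2, hxx']
  · intro y hy
    obtain ⟨z, hz⟩ : ∃ z : B ⊗[A] M, z = i.app (pt (algOf A B)) y := ⟨_, rfl⟩
    have hdz : dMap A B M z = 0 := by
      have e1 := (app_tmap i (gL A B) y).trans (underline_tmap M (gL A B) _)
      have e2 := (app_tmap i (gR A B) y).trans (underline_tmap M (gR A B) _)
      rw [hy] at e1
      have e3 := e1.symm.trans e2
      rw [← hz] at e3
      simp only [dMap, LinearMap.sub_apply]
      exact sub_eq_zero.mpr e3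
    obtain ⟨m, hm⟩ := (ff_exact A B M z).mp hdz
    obtain ⟨w, hw⟩ : ∃ w : A ⊗[A] M, w = (TensorProduct.lid A M).symm m := ⟨_, rfl⟩
    have hwz : (g0 A B).hom.toLinearMap.rTensor M w = z := by
      rw [g0_rTensor, hw, LinearEquiv.apply_symm_apply, hm]
    have hφw : φ.hom.baseChange A w = 0 := by
      apply g0_rTensor_injective A B N
      rw [map_zero]
      have e4 : (g0 A B).hom.toLinearMap.rTensor N (φ.hom.baseChange A w) =
          φ.hom.baseChange B ((g0 A B).hom.toLinearMap.rTensor M w) :=
        (app_tmap ((underline A).map φ) (g0 A B) w).symm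
      rw [e4, hwz, hz]
      exact hi.comp (algOf A B) y
    obtain ⟨x, hx⟩ := hi.exact (algOf A A) w hφw
    refine ⟨x, ?_⟩
    apply hi.inj (algOf A B)
    have e5 := (app_tmap i (g0 A B) x).trans (underline_tmap M (g0 A B) _)
    rw [e5, hx, hwz, hz]

end FFMVF
end Groth.Agent.H89.AQ


namespace Groth.Agent.H89.AQ

theorem exact_cech_two_fppf (S : Scheme.{u}) (M : BigSite.Mod Scheme.fppfPrecoverage S)
    (hM : Adeq.adequateMod Scheme.fppfPrecoverage S M) (R : CommRingCat.{u}) (a : Spec R ⟶ S)
    (B : Type u) [CommRing B] [Algebra R B] [Module.FaithfullyFlat R B] :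
    Function.Injective (((Adeq.toMVF Scheme.fppfPrecoverage a).obj M).map
        (Adeq.ptHom (CommAlgCat.ofHom (Algebra.ofId R B) : Adeq.algOf R R ⟶ Adeq.algOf R B))) ∧
      ∀ y : ((Adeq.toMVF Scheme.fppfPrecoverage a).obj M).obj (Adeq.pt (Adeq.algOf R B)),
        ((Adeq.toMVF Scheme.fppfPrecoverage a).obj M).map (Adeq.ptHom (CommAlgCat.ofHom
            (Algebra.TensorProduct.includeLeft : B →ₐ[R] B ⊗[R] B) :
              Adeq.algOf R B ⟶ Adeq.algOf R (B ⊗[R] B))) y =
          ((Adeq.toMVF Scheme.fppfPrecoverage a).obj M).map (Adeq.ptHom (CommAlgCat.ofHom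
            (Algebra.TensorProduct.includeRight : B →ₐ[R] B ⊗[R] B) :
              Adeq.algOf R B ⟶ Adeq.algOf R (B ⊗[R] B))) y →
        y ∈ Set.range (((Adeq.toMVF Scheme.fppfPrecoverage a).obj M).map
          (Adeq.ptHom (CommAlgCat.ofHom (Algebra.ofId R B) :
            Adeq.algOf R R ⟶ Adeq.algOf R B))) := by
  obtain ⟨h1, h2⟩ := adequate_ff_exact R B _ (adequate_toMVF_fppf S M hM R a)
  exact ⟨h1, fun y hy => h2 y hy⟩

end Groth.Agent.H89.AQ
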