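import Groth.Agent.H89.AdeqSitePull

/-!
# Kernels of adequate modules on the big fppf site are adequate (Stacks 46.5.11, kernel part)

Sections of the kernel of a map of sheaves of modules are the kernel of the map on sections; `toMVF` of a kernel
is the kernel of `toMVF`, and kernels of adequate functors are adequate.
-/

set_option autoImplicit false
set_option linter.style.haveILetI false
universe u v
open CategoryTheory Limits Opposite TensorProduct Adeq AlgebraicGeometry

namespace Groth.Agent.H89.AQ

section Ker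
variable {K : Precoverage Scheme.{u}} [BigSite.OSh K] {S : Scheme.{u}}
  {M N : BigSite.Mod K S} (φ : M ⟶ N)

theorem sheafKernel_ι_injective (X : Over S) :
    Function.Injective ((kernel.ι φ).val.app (op X)) := by
  haveI : Mono ((SheafOfModules.evaluation (BigSite.ORing K S) (op X)).map (kernel.ι φ)) :=
    inferInstance
  exact (ModuleCat.mono_iff_injective
    ((SheafOfModules.evaluation (BigSite.ORing K S) (op X)).map (kernel.ι φ))).mp inferInstance

theorem sheafKernel_ι_comp (X : Over S) (z : (kernel φ).val.obj (op X)) :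
    φ.val.app (op X) ((kernel.ι φ).val.app (op X) z) = 0 := by
  have h := kernel.condition φ
  have h2 := congrArg (fun ψ : kernel φ ⟶ N => ψ.val.app (op X) z) h
  exact h2

theorem sheafKernel_ι_exact (X : Over S) (x : M.val.obj (op X))
    (hx : φ.val.app (op X) x = 0) : ∃ z : (kernel φ).val.obj (op X),
      (kernel.ι φ).val.app (op X) z = x := by
  have hS : (ShortComplex.mk (kernel.ι φ) φ (kernel.condition φ)).Exact :=
    ShortComplex.exact_of_f_is_kernel _ (kernelIsKernel φ)
  haveI : (SheafOfModules.evaluation (BigSite.ORing K S) (op X)).PreservesZeroMorphisms :=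
    ⟨fun _ _ => rfl⟩
  have hS' := hS.map_of_mono_of_preservesKernel
    (SheafOfModules.evaluation (BigSite.ORing K S) (op X)) (by dsimp; infer_instance)
    (by dsimp; infer_instance)
  rw [ShortComplex.moduleCat_exact_iff] at hS'
  exact hS' x hx

end Ker
end Groth.Agent.H89.AQ

namespace Groth.Agent.H89.AQ

section Ker2
variable {K : Precoverage Scheme.{u}} [BigSite.OSh K] {S : Scheme.{u}}
  {M N : BigSite.Mod K S} (φ : M ⟶ N)

theorem toMVF_map_app {R : CommRingCat.{u}} (c : Spec R ⟶ S) (B : Alg R)
    (x : ((toMVF K c).obj M).obj (pt B)) :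
    ((toMVF K c).map φ).app (pt B) x = φ.val.app (op ((specOver c).obj (op B))) x := rfl

theorem adequate_toMVF_kernel {R : CommRingCat.{u}} (c : Spec R ⟶ S)
    (hM : adequate R ((toMVF K c).obj M)) (hN : adequate R ((toMVF K c).obj N)) :
    adequate R ((toMVF K c).obj (kernel φ)) := by
  obtain ⟨τ, hτ⟩ : ∃ τ : (toMVF K c).obj M ⟶ (toMVF K c).obj N, τ = (toMVF K c).map φ := ⟨_, rfl⟩
  obtain ⟨i, hi⟩ : ∃ i : (toMVF K c).obj (kernel φ) ⟶ (toMVF K c).obj M,
    i = (toMVF K c).map (kernel.ι φ) := ⟨_, rfl⟩
  have w : i ≫ τ = 0 := by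
    rw [hi, hτ, ← Functor.map_comp, kernel.condition, Functor.map_zero]
  obtain ⟨l, hl⟩ : ∃ l : (toMVF K c).obj (kernel φ) ⟶ kernel τ, l ≫ kernel.ι τ = i :=
    ⟨kernel.lift _ i w, kernel.lift_ι _ _ _⟩
  haveI : IsIso l := by
    apply isIso_of_bij
    intro B
    constructor
    · intro z z' hzz'
      apply sheafKernel_ι_injective φ ((specOver c).obj (op B))
      have e := congrArg (fun t => (kernel.ι τ).app (pt B) t) hzz'
      simp only [] at e
      rw [← comp_app_apply, ← comp_app_apply, hl, hi] at e
      exact e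
    · intro y
      obtain ⟨x, hx⟩ : ∃ x, x = (kernel.ι τ).app (pt B) y := ⟨_, rfl⟩
      have hx0 : τ.app (pt B) x = 0 := by
        rw [hx]
        exact kernel_ι_comp τ B y
      rw [hτ] at hx0
      obtain ⟨z, hz⟩ : ∃ z : ((toMVF K c).obj (kernel φ)).obj (pt B), i.app (pt B) z = x := by
        obtain ⟨z, hz⟩ := sheafKernel_ι_exact φ ((specOver c).obj (op B)) x hx0
        refine ⟨z, ?_⟩
        rw [hi]
        exact hz
      refine ⟨z, ?_⟩
      apply kernel_ι_injective τ B
      rw [← comp_app_apply, hl, ← hx]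
      exact hz
  exact (adequate R).prop_of_iso (asIso l).symm (adequate_kernel τ hM hN)

end Ker2

theorem affineOpenCover_adequateMod_fppf (S : Scheme.{u}) (M : BigSite.Mod Scheme.fppfPrecoverage S)
    (h : ∀ (R : CommRingCat.{u}) (c : Spec R ⟶ S),
      adequate R ((toMVF Scheme.fppfPrecoverage c).obj M)) :
    Adeq.adequateMod Scheme.fppfPrecoverage S M :=
  ⟨S.affineOpenCover.I₀, S.affineOpenCover.X, S.affineOpenCover.f, affineOpenCover_mem_fppf S,
    fun _ => h _ _⟩

theorem adequateMod_kernel_fppf (S : Scheme.{u}) {M N : BigSite.Mod Scheme.fppfPrecoverage S}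
    (φ : M ⟶ N) (hM : Adeq.adequateMod Scheme.fppfPrecoverage S M)
    (hN : Adeq.adequateMod Scheme.fppfPrecoverage S N) :
    Adeq.adequateMod Scheme.fppfPrecoverage S (kernel φ) :=
  affineOpenCover_adequateMod_fppf S _ (fun R c =>
    adequate_toMVF_kernel φ c (adequate_toMVF_fppf S M hM R c) (adequate_toMVF_fppf S N hN R c))

end Groth.Agent.H89.AQ

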