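import Groth.Agent.H89.AdeqSiteFppf

/-!
# Adequate modules and pullback along a morphism of schemes (Stacks 46.5.3, 46.5.4)

`f_big^* M` has `F_{f^*M, R}` isomorphic to `F_{M, R}` (composite structure map), hence pullbacks of adequate
modules are adequate and adequacy can be checked fppf-locally on the base.
-/

set_option autoImplicit false
set_option linter.style.haveILetI false
universe u v
open CategoryTheory Limits Opposite TensorProduct Adeq AlgebraicGeometry

namespace Groth.Agent.H89.AQ

section Pull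
variable {K : Precoverage Scheme.{u}} [BigSite.OSh K] {S T : Scheme.{u}} (f : T ⟶ S)
  (M : BigSite.Mod K S) {R : CommRingCat.{u}} (c : Spec R ⟶ T)

theorem pull_w (B : Alg R) :
    Spec.map (CommRingCat.ofHom (RingHom.id B)) ≫
      (Spec.map (CommRingCat.ofHom (algebraMap R B)) ≫ c ≫ f) =
      (Spec.map (CommRingCat.ofHom (algebraMap R B)) ≫ c) ≫ f := by
  rw [CommRingCat.ofHom_id, Spec.map_id, Category.id_comp, Category.assoc]

theorem pull_w' {B B' : Alg R} (g : B ⟶ B') :
    Spec.map (CommRingCat.ofHom g.hom.toRingHom) ≫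
      ((Spec.map (CommRingCat.ofHom (algebraMap R B)) ≫ c) ≫ f) =
      (Spec.map (CommRingCat.ofHom (algebraMap R B')) ≫ c) ≫ f := by
  rw [← Category.assoc, ← Category.assoc]
  congr 1
  rw [Category.assoc]
  exact tmap_w c g

theorem adequate_toMVF_pullMod (h : adequate R ((toMVF K (c ≫ f)).obj M)) :
    adequate R ((toMVF K c).obj ((BigSite.pullMod K f).obj M)) := by
  refine adequate_of_equiv
    (F := (toMVF K (c ≫ f)).obj M)
    (G := (toMVF K c).obj ((BigSite.pullMod K f).obj M))
    (fun B x => secMap M (RingHom.id B) (pull_w f c B) x) ?_ ?_ ?_ ?_ h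
  · intro B
    exact secMap_id_bijective M _
  · intro B x y
    exact secMap_add M _ _ x y
  · intro B b x
    exact secMap_smul M (RingHom.id B) (pull_w f c B) b x
  · intro B B' g x
    exact ((secMap_comp M g.hom.toRingHom (tmap_w (c ≫ f) g) (RingHom.id B') (pull_w f c B') x).trans
      (secMap_congr M (by ext; rfl) _ _ _)).trans
      (secMap_comp M (RingHom.id B) (pull_w f c B) g.hom.toRingHom (pull_w' f c g) x).symm

end Pull
end Groth.Agent.H89.AQ

namespace Groth.Agent.H89.AQ

theorem affineOpenCover_mem_zariski (T : Scheme.{u}) :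
    Presieve.ofArrows (fun j => Spec (T.affineOpenCover.X j)) T.affineOpenCover.f ∈
      Scheme.zariskiPrecoverage.coverings T := by
  rw [Scheme.ofArrows_mem_precoverage_iff]
  exact ⟨fun x => ⟨_, T.affineOpenCover.covers x⟩, fun j => T.affineOpenCover.map_prop j⟩

theorem affineOpenCover_mem_fppf (T : Scheme.{u}) :
    Presieve.ofArrows (fun j => Spec (T.affineOpenCover.X j)) T.affineOpenCover.f ∈
      Scheme.fppfPrecoverage.coverings T :=
  Scheme.zariskiPrecoverage_le_fppfPrecoverage _ (affineOpenCover_mem_zariski T)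

theorem adequateMod_pullMod_fppf {S T : Scheme.{u}} (f : T ⟶ S)
    (M : BigSite.Mod Scheme.fppfPrecoverage S)
    (hM : Adeq.adequateMod Scheme.fppfPrecoverage S M) :
    Adeq.adequateMod Scheme.fppfPrecoverage T ((BigSite.pullMod Scheme.fppfPrecoverage f).obj M) :=
  ⟨T.affineOpenCover.I₀, T.affineOpenCover.X, T.affineOpenCover.f, affineOpenCover_mem_fppf T,
    fun _ => adequate_toMVF_pullMod f M _ (adequate_toMVF_fppf S M hM _ _)⟩

end Groth.Agent.H89.AQ

namespace Groth.Agent.H89.AQ

section Pull2
variable {K : Precoverage Scheme.{u}} [BigSite.OSh K] {S T : Scheme.{u}} (f : T ⟶ S)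
  (M : BigSite.Mod K S) {R : CommRingCat.{u}} (c : Spec R ⟶ T)

theorem pull_w_symm (B : Alg R) :
    Spec.map (CommRingCat.ofHom (RingHom.id B)) ≫
      ((Spec.map (CommRingCat.ofHom (algebraMap R B)) ≫ c) ≫ f) =
      Spec.map (CommRingCat.ofHom (algebraMap R B)) ≫ c ≫ f := by
  rw [CommRingCat.ofHom_id, Spec.map_id, Category.id_comp, Category.assoc]

theorem adequate_toMVF_of_pullMod
    (h : adequate R ((toMVF K c).obj ((BigSite.pullMod K f).obj M))) :
    adequate R ((toMVF K (c ≫ f)).obj M) := by
  refine adequate_of_equiv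
    (F := (toMVF K c).obj ((BigSite.pullMod K f).obj M))
    (G := (toMVF K (c ≫ f)).obj M)
    (fun B x => secMap M (RingHom.id B) (pull_w_symm f c B) x) ?_ ?_ ?_ ?_ h
  · intro B
    exact secMap_id_bijective M _
  · intro B x y
    exact secMap_add M _ _ x y
  · intro B b x
    exact secMap_smul M (RingHom.id B) (pull_w_symm f c B) b x
  · intro B B' g x
    exact ((secMap_comp M g.hom.toRingHom (pull_w' f c g) (RingHom.id B') (pull_w_symm f c B') x).trans
      (secMap_congr M (by ext; rfl) _ _ _)).trans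
      (secMap_comp M (RingHom.id B) (pull_w_symm f c B) g.hom.toRingHom (tmap_w (c ≫ f) g) x).symm

end Pull2

theorem adequateMod_of_cover_pullMod_fppf (S : Scheme.{u}) (M : BigSite.Mod Scheme.fppfPrecoverage S)
    (ι : Type u) (T : ι → Scheme.{u}) (f : ∀ i, T i ⟶ S)
    (hcov : Presieve.ofArrows T f ∈ Scheme.fppfPrecoverage.coverings S)
    (h : ∀ i, Adeq.adequateMod Scheme.fppfPrecoverage (T i)
      ((BigSite.pullMod Scheme.fppfPrecoverage (f i)).obj M)) :
    Adeq.adequateMod Scheme.fppfPrecoverage S M := by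
  choose κ Rk ck hck hadq using h
  refine ⟨Σ i, κ i, fun p => Rk p.1 p.2, fun p => ck p.1 p.2 ≫ f p.1, ?_, fun p => ?_⟩
  · exact Precoverage.comp_mem_coverings (J := Scheme.fppfPrecoverage) f hcov
      (fun i k => ck i k) hck
  · exact adequate_toMVF_of_pullMod (f p.1) M (ck p.1 p.2) (hadq p.1 p.2)

end Groth.Agent.H89.AQ

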