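import Groth.Agent.H89.CechOver
import Groth.Agent.H89.CechChase
import Groth.Agent.H89.AdeqPushE
import Groth.Agent.H89.AdeqShfExt
import Groth.Agent.H89.AdeqShfColim
import Groth.Agent.H89.AdeqSiteFF
import Groth.Agent.H89.AdeqSiteKer
import Groth.Agent.H89.AdeqSitePull

set_option autoImplicit false
set_option linter.style.haveILetI false
universe u
open CategoryTheory Limits Opposite Adeq AlgebraicGeometry Simplicial AlgebraicTopology

namespace Groth.Agent.H89.AQ

/-- the section presheaf of abelian groups of a module -/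
noncomputable abbrev secP {S : Scheme.{u}} (M : BigSite.Mod Scheme.fppfPrecoverage S) :
    (Over S)ᵒᵖ ⥤ AddCommGrpCat.{u + 1} :=
  ((BigSite.toAbMod Scheme.fppfPrecoverage S).obj M).obj

/-- the map of section presheaves of a map of modules -/
noncomputable abbrev secHom {S : Scheme.{u}} {M N : BigSite.Mod Scheme.fppfPrecoverage S}
    (φ : M ⟶ N) : secP M ⟶ secP N :=
  ((BigSite.toAbMod Scheme.fppfPrecoverage S).map φ).hom

theorem secHom_app {S : Scheme.{u}} {M N : BigSite.Mod Scheme.fppfPrecoverage S}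
    (φ : M ⟶ N) (V : Over S) (x : M.val.obj (op V)) :
    (secHom φ).app (op V) x = φ.val.app (op V) x := rfl

theorem secP_map {S : Scheme.{u}} (M : BigSite.Mod Scheme.fppfPrecoverage S) {V V' : Over S}
    (f : V ⟶ V') (x : M.val.obj (op V')) :
    (secP M).map f.op x = M.val.map f.op x := rfl

theorem secP_map_id {S : Scheme.{u}} (M : BigSite.Mod Scheme.fppfPrecoverage S) (V : Over S)
    (x : (secP M).obj (op V)) : (secP M).map (𝟙 V).op x = x := by
  rw [op_id, (secP M).map_id]
  rfl

theorem secP_map_comp {S : Scheme.{u}} (M : BigSite.Mod Scheme.fppfPrecoverage S) {V V' V'' : Over S}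
    (f : V ⟶ V') (g : V' ⟶ V'') (x : (secP M).obj (op V'')) :
    (secP M).map (f ≫ g).op x = (secP M).map f.op ((secP M).map g.op x) := by
  rw [op_comp, (secP M).map_comp]
  rfl

theorem secHom_nat {S : Scheme.{u}} {M N : BigSite.Mod Scheme.fppfPrecoverage S}
    (φ : M ⟶ N) {V V' : Over S} (f : V ⟶ V') (x : (secP M).obj (op V')) :
    (secHom φ).app (op V) ((secP M).map f.op x) = (secP N).map f.op ((secHom φ).app (op V') x) :=
  congrArg (fun ψ : (secP M).obj (op V') ⟶ (secP N).obj (op V) => ψ x)
    ((secHom φ).naturality f.op)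

theorem isAffine_pw_left {X : Scheme.{u}} [IsAffine X] (U : Over X) [IsAffine U.left]
    (α : Type) [Finite α] : IsAffine (Cech.pw U α).left := by
  let F : Discrete α ⥤ Over X := Discrete.functor fun _ => U
  have hc : IsLimit (limit.cone F) := limit.isLimit F
  have hc' := (IsLimit.ofConeEquiv (Over.ConstructProducts.conesEquiv X F).symm).symm hc
  haveI : ∀ i, IsAffine ((Over.ConstructProducts.widePullbackDiagramOfDiagramOver X F).obj i) := by
    intro i
    cases i with
    | none => exact inferInstanceAs (IsAffine X)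
    | some j => exact inferInstanceAs (IsAffine U.left)
  exact Scheme.isAffine_of_isLimit _ hc'

section SurjAffine
variable {S : Scheme.{u}} (C : ShortComplex (BigSite.Mod Scheme.fppfPrecoverage S))
  (hC : C.ShortExact) (h₁ : Adeq.adequateMod Scheme.fppfPrecoverage S C.X₁)

include hC h₁ in
theorem shortExact_g_surj_affine (V : Over S) [IsAffine V.left] :
    Function.Surjective (C.g.val.app (op V)) := by
  obtain ⟨h, hh⟩ : ∃ h : Spec Γ(V.left, ⊤) ⟶ S, h = V.left.isoSpec.inv ≫ V.hom := ⟨_, rfl⟩
  have h0 := shortExact_g_surj_base Scheme.zariskiPrecoverage_le_fppfPrecoverage (refProp_fppf S)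
    C hC Γ(V.left, ⊤) h (adequate_toMVF_fppf S C.X₁ h₁ _ _)
  have i : Over.mk h ≅ V := Over.isoMk V.left.isoSpec.symm (by
    rw [hh]
    rfl)
  exact etaFunG_surj_of_iso C.g.val (baseIso' h ≪≫ i) h0

end SurjAffine

section Abel
variable {A : Type*} [Category A] [Abelian A] {M N : A} (η : M ⟶ N)

/-- `0 → ker η → M → coim η → 0` -/
noncomputable def ses1 : ShortComplex A :=
  ShortComplex.mk (kernel.ι η) (cokernel.π (kernel.ι η)) (cokernel.condition _)

theorem ses1_shortExact : (ses1 η).ShortExact :=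
  ShortComplex.ShortExact.mk' (ShortComplex.exact_cokernel _) (by dsimp [ses1]; infer_instance)
    (by dsimp [ses1]; infer_instance)

/-- `0 → coim η → N → coker → 0` -/
noncomputable def ses2 : ShortComplex A :=
  ShortComplex.mk (Abelian.factorThruCoimage η) (cokernel.π (Abelian.factorThruCoimage η))
    (cokernel.condition _)

theorem ses2_shortExact : (ses2 η).ShortExact :=
  ShortComplex.ShortExact.mk' (ShortComplex.exact_cokernel _) (by dsimp [ses2]; infer_instance)
    (by dsimp [ses2]; infer_instance)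

theorem ses_fac : (ses1 η).g ≫ (ses2 η).f = η := Abelian.coimage.fac η

theorem ses_zero : η ≫ (ses2 η).g = 0 := by
  have h : ((ses1 η).g ≫ (ses2 η).f) ≫ (ses2 η).g = 0 :=
    (Category.assoc _ _ _).trans ((congrArg ((ses1 η).g ≫ ·) (ses2 η).zero).trans comp_zero)
  exact (congrArg (· ≫ (ses2 η).g) (ses_fac η)).symm.trans h

end Abel

section Unit
variable {X Y : Scheme.{u}} (g : Y ⟶ X) (N : BigSite.Mod Scheme.fppfPrecoverage X)

/-- `g_* g^* N` -/
noncomputable abbrev ppMod : BigSite.Mod Scheme.fppfPrecoverage X :=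
  (BigSite.pushMod Scheme.fppfPrecoverage g).obj ((BigSite.pullMod Scheme.fppfPrecoverage g).obj N)

/-- the unit `N → g_* g^* N` -/
noncomputable abbrev ppUnit : N ⟶ ppMod g N :=
  (BigSite.modAdj Scheme.fppfPrecoverage g).unit.app N

theorem ppUnit_app (V : Over X) (x : N.val.obj (op V)) :
    (ppUnit g N).val.app (op V) x = N.val.map ((Cech.Wp g).app V).op x := rfl

theorem secP_ppMod : secP (ppMod g N) = (Cech.Wf g).op ⋙ secP N := rfl

theorem exAt_ppMod (n : ℕ) : Cech.ExAt (Cech.KCos (Over.mk g) (secP (ppMod g N))) n := by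
  have h := Cech.coExtraW (Over.mk g) (Cech.Wf g) (Cech.Wp g) (Cech.Wq g) (Cech.Wq_nat g)
    (Cech.Wprod g) (secP N)
  exact (Cech.exAt_iff _ n).mp (h.exactAt n)

end Unit

end Groth.Agent.H89.AQ
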