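import Groth.Agent.H89.AdeqCech

/-!
# Čech exactness for adequate modules along a faithfully flat affine map: dimension shifting
-/

set_option autoImplicit false
set_option linter.style.haveILetI false
universe u
open CategoryTheory Limits Opposite Adeq AlgebraicGeometry Simplicial AlgebraicTopology

namespace Groth.Agent.H89.AQ

section Inj
variable {X Y : Scheme.{u}} (g : Y ⟶ X) (N : BigSite.Mod Scheme.fppfPrecoverage X)

/-- the unit `N(V) → N(V ×_X Y)` is injective when `V` maps to `Y` over `X` -/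
theorem ppUnit_injective_of_map (V : Over X) (t : V ⟶ Over.mk g) :
    Function.Injective ((ppUnit g N).val.app (op V)) := by
  obtain ⟨s, hs, -⟩ := BinaryFan.IsLimit.lift' (Cech.Wprod g V) (𝟙 V) t
  have hs' : s ≫ (Cech.Wp g).app V = 𝟙 V := hs
  intro x x' hxx'
  rw [ppUnit_app, ppUnit_app] at hxx'
  have h2 : ∀ z : N.val.obj (op V),
      N.val.map s.op (N.val.map ((Cech.Wp g).app V).op z) = z := by
    intro z
    have := secP_map_comp N s ((Cech.Wp g).app V) z
    rw [hs'] at this
    exact this.symm.trans (secP_map_id N V z)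
  rw [← h2 x, ← h2 x', hxx']

end Inj

section Term
variable {X Y : Scheme.{u}} [IsAffine X] [IsAffine Y] (g : Y ⟶ X)
  (N : BigSite.Mod Scheme.fppfPrecoverage X)
  (hN : Adeq.adequateMod Scheme.fppfPrecoverage X N)

include hN in
theorem adequateMod_ppMod : Adeq.adequateMod Scheme.fppfPrecoverage X (ppMod g N) :=
  adequateMod_pushMod_fppf g _ (adequateMod_pullMod_fppf g N hN)

include hN in
theorem adequateMod_ses1_X₁ :
    Adeq.adequateMod Scheme.fppfPrecoverage X (ses1 (ppUnit g N)).X₁ :=
  adequateMod_kernel_fppf X (ppUnit g N) hN (adequateMod_ppMod g N hN)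

include hN in
theorem adequateMod_ses2_X₁ :
    Adeq.adequateMod Scheme.fppfPrecoverage X (ses2 (ppUnit g N)).X₁ :=
  adequateMod_cokernel_fppf (kernel.ι (ppUnit g N)) (adequateMod_ses1_X₁ g N hN) hN

include hN in
theorem adequateMod_ses2_X₃ :
    Adeq.adequateMod Scheme.fppfPrecoverage X (ses2 (ppUnit g N)).X₃ :=
  adequateMod_cokernel_fppf (Abelian.factorThruCoimage (ppUnit g N)) (adequateMod_ses2_X₁ g N hN)
    (adequateMod_ppMod g N hN)

/-- the cokernel of the image of `N → g_* g^* N` -/
noncomputable abbrev ppCok : BigSite.Mod Scheme.fppfPrecoverage X := (ses2 (ppUnit g N)).X₃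

/-- the projection `g_* g^* N → ppCok` -/
noncomputable abbrev ppPi : ppMod g N ⟶ ppCok g N := (ses2 (ppUnit g N)).g

theorem ppPi_ppUnit_app (V : Over X) (x : N.val.obj (op V)) :
    (ppPi g N).val.app (op V) ((ppUnit g N).val.app (op V) x) = 0 :=
  congrArg (fun ψ : N ⟶ ppCok g N => ψ.val.app (op V) x) (ses_zero (ppUnit g N))

include hN in
theorem ppPi_surj_affine (V : Over X) [IsAffine V.left] :
    Function.Surjective ((ppPi g N).val.app (op V)) :=
  shortExact_g_surj_affine (ses2 (ppUnit g N)) (ses2_shortExact _) (adequateMod_ses2_X₁ g N hN) V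

include hN in
theorem pp_exact_affine (V : Over X) [IsAffine V.left] (y : (ppMod g N).val.obj (op V))
    (hy : (ppPi g N).val.app (op V) y = 0) :
    ∃ x : N.val.obj (op V), (ppUnit g N).val.app (op V) x = y := by
  obtain ⟨i, hi⟩ := shortExact_exact (ses2 (ppUnit g N)) (ses2_shortExact _) V y hy
  obtain ⟨x, hx⟩ := shortExact_g_surj_affine (ses1 (ppUnit g N)) (ses1_shortExact _)
    (adequateMod_ses1_X₁ g N hN) V i
  refine ⟨x, ?_⟩
  have h := congrArg (fun ψ : N ⟶ ppMod g N => ψ.val.app (op V) x) (ses_fac (ppUnit g N))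
  refine h.symm.trans ?_
  change (ses2 (ppUnit g N)).f.val.app (op V) ((ses1 (ppUnit g N)).g.val.app (op V) x) = y
  rw [hx, hi]

include hN in
theorem termSES_pp :
    Cech.TermSES (Cech.KCosMap (Over.mk g) (secHom (ppUnit g N)))
      (Cech.KCosMap (Over.mk g) (secHom (ppPi g N))) where
  inj n := ppUnit_injective_of_map g N _ (Pi.π (fun _ : ToType ⦋n⦌ => Over.mk g) (0 : Fin (n + 1)))
  zero n x := ppPi_ppUnit_app g N _ x
  exact n y hy := by
    haveI : IsAffine (Over.mk g).left := inferInstanceAs (IsAffine Y)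
    haveI := isAffine_pw_left (Over.mk g) (ToType ⦋n⦌)
    exact pp_exact_affine g N hN _ y hy
  surj n := by
    haveI : IsAffine (Over.mk g).left := inferInstanceAs (IsAffine Y)
    haveI := isAffine_pw_left (Over.mk g) (ToType ⦋n⦌)
    exact ppPi_surj_affine g N hN _

end Term

end Groth.Agent.H89.AQ
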