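import Groth.Agent.H89.AdeqCech2

/-!
# Čech exactness for adequate modules along a faithfully flat affine map: base case and induction
-/

set_option autoImplicit false
set_option linter.style.haveILetI false
universe u
open CategoryTheory Limits Opposite Adeq AlgebraicGeometry Simplicial AlgebraicTopology TensorProduct

namespace Groth.Agent.H89.AQ

theorem objD_zero_apply (X : CosimplicialObject AddCommGrpCat.{u}) (y : X.obj ⦋0⦌) :
    AlternatingCofaceMapComplex.objD X 0 y = X.δ 0 y - X.δ 1 y := by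
  have h : AlternatingCofaceMapComplex.objD X 0 = X.δ 0 - X.δ 1 := by
    simp [AlternatingCofaceMapComplex.objD, Fin.sum_univ_two, sub_eq_add_neg]
  rw [h]
  rfl

section Base
variable {R : CommRingCat.{u}} (B : Type u) [CommRing B] [Algebra R B]

/-- the covering map `Spec B → Spec R` -/
noncomputable abbrev gB : Spec (CommRingCat.of B) ⟶ Spec R :=
  Spec.map (CommRingCat.ofHom (algebraMap R B))

/-- the covering object of `Over (Spec R)` -/
noncomputable abbrev UB : Over (Spec R) := Over.mk (gB (R := R) B)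

/-- `Spec A → Spec R` via `specOver` -/
noncomputable abbrev UA (R : CommRingCat.{u}) (A : Type u) [CommRing A] [Algebra R A] :
    Over (Spec R) :=
  (specOver (𝟙 (Spec R))).obj (op (algOf R A))

theorem UA_hom_ext {V : Over (Spec R)} (f f' : V ⟶ UA R R) : f = f' := by
  have i := baseIso' (𝟙 (Spec R))
  rw [← cancel_mono i.hom]
  exact Over.mkIdTerminal.hom_ext _ _

/-- `UA R B ≅ UB B` -/
noncomputable def psi0 : UA R B ≅ UB (R := R) B :=
  Over.isoMk (Iso.refl _) (by
    change 𝟙 _ ≫ gB (R := R) B = gB (R := R) B ≫ 𝟙 _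
    rw [Category.id_comp, Category.comp_id])

/-- `UA R B → U^1` -/
noncomputable def psi1 : UA R B ⟶ Cech.pw (UB (R := R) B) (Fin 1) :=
  Pi.lift fun _ => (psi0 B).hom

/-- `U^1 → UA R B` -/
noncomputable def psi2 : Cech.pw (UB (R := R) B) (Fin 1) ⟶ UA R B :=
  Pi.π (fun _ : Fin 1 => UB (R := R) B) 0 ≫ (psi0 B).inv

theorem psi2_psi1 : psi2 (R := R) B ≫ psi1 B = 𝟙 _ := by
  apply Pi.hom_ext
  intro j
  rw [Fin.fin_one_eq_zero j]
  simp [psi1, psi2]

/-- `UA R (B ⊗ B) → U^2` -/
noncomputable def phi2 : UA R (B ⊗[R] B) ⟶ Cech.pw (UB (R := R) B) (Fin 2) :=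
  Pi.lift fun i : Fin 2 =>
    if i = 0 then (specOver (𝟙 (Spec R))).map (gL R B).op ≫ (psi0 B).hom
    else (specOver (𝟙 (Spec R))).map (gR R B).op ≫ (psi0 B).hom

theorem phi2_zero : phi2 (R := R) B ≫ Cech.pwMap (UB (R := R) B)
      ((0 : Fin 2).succAbove : Fin 1 → Fin 2) =
    (specOver (𝟙 (Spec R))).map (gR R B).op ≫ psi1 B := by
  apply Pi.hom_ext
  intro j
  rw [Fin.fin_one_eq_zero j]
  have h1 : (0 : Fin 2).succAbove (0 : Fin 1) = 1 := by decide
  have h2 : ¬ ((1 : Fin 2) = 0) := by decide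
  rw [Category.assoc, Cech.pwMap_π, h1, Category.assoc]
  unfold phi2 psi1
  rw [Pi.lift_π, Pi.lift_π, if_neg h2]

theorem phi2_one : phi2 (R := R) B ≫ Cech.pwMap (UB (R := R) B)
      ((1 : Fin 2).succAbove : Fin 1 → Fin 2) =
    (specOver (𝟙 (Spec R))).map (gL R B).op ≫ psi1 B := by
  apply Pi.hom_ext
  intro j
  rw [Fin.fin_one_eq_zero j]
  have h1 : (1 : Fin 2).succAbove (0 : Fin 1) = 0 := by decide
  rw [Category.assoc, Cech.pwMap_π, h1, Category.assoc]
  unfold phi2 psi1
  rw [Pi.lift_π, Pi.lift_π, if_pos rfl]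

variable (Q : BigSite.Mod Scheme.fppfPrecoverage (Spec R))

theorem cech_two_over [Module.FaithfullyFlat R B]
    (hQ : Adeq.adequateMod Scheme.fppfPrecoverage (Spec R) Q) (y : (secP Q).obj (op (UA R B)))
    (hy : (secP Q).map ((specOver (𝟙 (Spec R))).map (gL R B).op).op y =
      (secP Q).map ((specOver (𝟙 (Spec R))).map (gR R B).op).op y) :
    ∃ x : (secP Q).obj (op (UA R R)),
      (secP Q).map ((specOver (𝟙 (Spec R))).map (g0 R B).op).op x = y := by
  obtain ⟨-, h2⟩ := exact_cech_two_fppf (Spec R) Q hQ R (𝟙 _) B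
  obtain ⟨x, hx⟩ := h2 y hy
  exact ⟨x, hx⟩

end Base

end Groth.Agent.H89.AQ
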