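import Groth.Agent.H89.AdeqBasic

/-!
# Change of base ring for adequate functors: restriction and pushforward (Stacks 46.3)
-/

set_option autoImplicit false
set_option linter.style.haveILetI false
universe u
open CategoryTheory Limits Opposite TensorProduct Adeq

namespace Groth.Agent.H89.AQ
variable (A : Type u) [CommRing A] (A' : Type u) [CommRing A'] [Algebra A A']

/-- the `A`-algebra structure on an `A'`-algebra used by `Alg.restr` -/
abbrev algR (B' : Alg A') : Algebra A B' := ((algebraMap A' B').comp (algebraMap A A')).toAlgebra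

theorem restr_obj_eq (B' : Alg A') :
    (Alg.restr A A').obj B' = @CommAlgCat.of A _ B' _ (algR A A' B') := rfl

/-- comparison map `B' ⊗[A] M → B' ⊗[A'] (A' ⊗[A] M)` -/
noncomputable def thetaL (M : Type (u+1)) [AddCommGroup M] [Module A M] (B' : Alg A') :
    letI := algR A A' B'
    (B' : Type u) ⊗[A] M ≃ₗ[(B' : Type u)] (B' : Type u) ⊗[A'] (A' ⊗[A] M) :=
  letI := algR A A' B'
  haveI : IsScalarTower A A' B' := IsScalarTower.of_algebraMap_eq (fun _ => rfl)
  (TensorProduct.AlgebraTensorModule.cancelBaseChange A A' B' B' M).symm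

end Groth.Agent.H89.AQ

namespace Groth.Agent.H89.AQ
variable (A : Type u) [CommRing A] (A' : Type u) [CommRing A'] [Algebra A A']

theorem thetaL_tmul (M : Type (u+1)) [AddCommGroup M] [Module A M] (B' : Alg A') (b' : B') (m : M) :
    letI := algR A A' B'
    thetaL A A' M B' (b' ⊗ₜ[A] m) = b' ⊗ₜ[A'] ((1 : A') ⊗ₜ[A] m) := rfl

/-- the comparison `restr (underline M) ⟶ underline (A' ⊗ M)` -/
noncomputable def thetaHom (M : ModuleCat.{u+1} A) :
    (Adeq.restr A A').obj ((underline A).obj M) ⟶
      (underline A').obj (ModuleCat.of A' (A' ⊗[A] M)) where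
  app X := ModuleCat.ofHom
    (X := ((Adeq.restr A A').obj ((underline A).obj M)).obj X)
    (Y := ((underline A').obj (ModuleCat.of A' (A' ⊗[A] M))).obj X)
    (thetaL A A' M X.unop.unop).toLinearMap
  naturality {X Y} f := by
    ext x
    letI := algR A A' X.unop.unop
    letI := algR A A' Y.unop.unop
    change thetaL A A' M Y.unop.unop
        (((Alg.restr A A').map f.unop.unop).hom.toLinearMap.rTensor M x) =
      (f.unop.unop.hom.toLinearMap.rTensor (A' ⊗[A] M)) (thetaL A A' M X.unop.unop x)
    induction x using TensorProduct.induction_on with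
    | zero => simp
    | tmul b m =>
      rw [LinearMap.rTensor_tmul, thetaL_tmul, thetaL_tmul, LinearMap.rTensor_tmul]
      rfl
    | add x y hx hy => simp only [map_add, hx, hy]

end Groth.Agent.H89.AQ

namespace Groth.Agent.H89.AQ
variable (A : Type u) [CommRing A] (A' : Type u) [CommRing A'] [Algebra A A']

theorem thetaHom_app_apply (M : ModuleCat.{u+1} A) (B' : Alg A')
    (x : ((Adeq.restr A A').obj ((underline A).obj M)).obj (pt B')) :
    (thetaHom A A' M).app (pt B') x = thetaL A A' M B' x := rfl

theorem thetaL_natural {M N : Type (u+1)} [AddCommGroup M] [Module A M] [AddCommGroup N] [Module A N]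
    (φ : M →ₗ[A] N) (B' : Alg A') :
    letI := algR A A' B'
    ∀ x : (B' : Type u) ⊗[A] M, ((φ.baseChange A').baseChange B') (thetaL A A' M B' x) =
      thetaL A A' N B' (φ.baseChange B' x) := by
  letI := algR A A' B'
  intro x
  induction x using TensorProduct.induction_on with
  | zero => simp
  | tmul b m =>
    rw [thetaL_tmul, LinearMap.baseChange_tmul, LinearMap.baseChange_tmul, LinearMap.baseChange_tmul,
      thetaL_tmul]
  | add x y hx hy => simp only [map_add, hx, hy]

theorem isKer_restr {F : MVF A} {M : ModuleCat.{u+1} A} {i : F ⟶ (underline A).obj M}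
    {N : Type (u+1)} [AddCommGroup N] [Module A N] {φ : M →ₗ[A] N} (h : IsKer i φ) :
    IsKer (M := ModuleCat.of A' (A' ⊗[A] M)) ((Adeq.restr A A').map i ≫ thetaHom A A' M)
      (φ.baseChange A') where
  inj B' := by
    intro x y hxy
    rw [comp_app_apply, comp_app_apply, thetaHom_app_apply, thetaHom_app_apply] at hxy
    exact h.inj ((Alg.restr A A').obj B') ((thetaL A A' M B').injective hxy)
  comp B' x := by
    letI := algR A A' B'
    let x' : F.obj (pt ((Alg.restr A A').obj B')) := x
    have h2 : φ.baseChange (B' : Type u) (i.app (pt ((Alg.restr A A').obj B')) x') = 0 :=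
      h.comp ((Alg.restr A A').obj B') x'
    have h1 := thetaL_natural A A' φ B' (i.app (pt ((Alg.restr A A').obj B')) x')
    rw [h2, map_zero] at h1
    exact h1
  exact B' z hz := by
    letI := algR A A' B'
    obtain ⟨w, rfl⟩ := (thetaL A A' M B').surjective z
    have h1 := thetaL_natural A A' φ B' w
    have h2 : φ.baseChange (B' : Type u) w = 0 := by
      apply (thetaL A A' N B').injective
      rw [← h1, map_zero]
      exact hz
    obtain ⟨x, hx⟩ := h.exact ((Alg.restr A A').obj B') w h2
    refine ⟨x, ?_⟩
    change thetaL A A' M B' (i.app (pt ((Alg.restr A A').obj B')) x) = _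
    rw [hx]

end Groth.Agent.H89.AQ

namespace Groth.Agent.H89.AQ

section Unbundled
variable (A : Type u) [CommRing A] (A' : Type u) [CommRing A'] [Algebra A A']
variable (M' : Type (u+1)) [AddCommGroup M'] [Module A' M'] [Module A M'] [IsScalarTower A A' M']
variable (B : Type u) [CommRing B] [Algebra A B]

/-- `(A' ⊗[A] B) ⊗[A'] M' ≃ B ⊗[A] M'` -/
noncomputable def rhoL : (A' ⊗[A] B) ⊗[A'] M' ≃+ B ⊗[A] M' :=
  ((TensorProduct.comm A' (A' ⊗[A] B) M').toAddEquiv.trans
    (TensorProduct.AlgebraTensorModule.cancelBaseChange A A' A' M' B).toAddEquiv).trans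
    (TensorProduct.comm A M' B).toAddEquiv

theorem rhoL_tmul (a' : A') (b : B) (m' : M') :
    rhoL A A' M' B ((a' ⊗ₜ[A] b) ⊗ₜ[A'] m') = b ⊗ₜ[A] (a' • m') := rfl

theorem rhoL_smul (r : B) (t : (A' ⊗[A] B) ⊗[A'] M') :
    rhoL A A' M' B (((1 : A') ⊗ₜ[A] r) • t) = r • rhoL A A' M' B t := by
  induction t using TensorProduct.induction_on with
  | zero => simp
  | tmul x m' =>
    induction x using TensorProduct.induction_on with
    | zero => simp
    | tmul a' b =>
      rw [TensorProduct.smul_tmul', smul_eq_mul, Algebra.TensorProduct.tmul_mul_tmul, one_mul,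
        rhoL_tmul, rhoL_tmul, TensorProduct.smul_tmul', smul_eq_mul]
    | add x y hx hy => 
      rw [TensorProduct.add_tmul, smul_add, map_add, hx, hy, map_add, smul_add]
  | add x y hx hy => rw [smul_add, map_add, hx, hy, map_add, smul_add]

theorem rhoL_natural {C : Type u} [CommRing C] [Algebra A C] (f : B →ₐ[A] C)
    (t : (A' ⊗[A] B) ⊗[A'] M') :
    rhoL A A' M' C (((Algebra.TensorProduct.map (AlgHom.id A' A') f).toLinearMap.rTensor M') t) =
      (f.toLinearMap.rTensor M') (rhoL A A' M' B t) := by
  induction t using TensorProduct.induction_on with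
  | zero => simp
  | tmul x m' =>
    induction x using TensorProduct.induction_on with
    | zero => simp
    | tmul a' b =>
      rw [LinearMap.rTensor_tmul, rhoL_tmul]
      simp only [AlgHom.toLinearMap_apply, Algebra.TensorProduct.map_tmul, AlgHom.coe_id, id_eq]
      rw [rhoL_tmul, LinearMap.rTensor_tmul]
      rfl
    | add x y hx hy =>
      rw [TensorProduct.add_tmul, map_add, map_add, hx, hy, map_add, map_add]
  | add x y hx hy => rw [map_add, map_add, hx, hy, map_add, map_add]

theorem rhoL_natural_right {N' : Type (u+1)} [AddCommGroup N'] [Module A' N'] [Module A N']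
    [IsScalarTower A A' N'] (φ' : M' →ₗ[A'] N') (t : (A' ⊗[A] B) ⊗[A'] M') :
    rhoL A A' N' B (φ'.baseChange (A' ⊗[A] B) t) =
      ((φ'.restrictScalars A).baseChange B) (rhoL A A' M' B t) := by
  induction t using TensorProduct.induction_on with
  | zero => simp
  | tmul x m' =>
    induction x using TensorProduct.induction_on with
    | zero => simp
    | tmul a' b =>
      rw [LinearMap.baseChange_tmul, rhoL_tmul, rhoL_tmul, LinearMap.baseChange_tmul]
      simp
    | add x y hx hy =>
      rw [TensorProduct.add_tmul, map_add, map_add, hx, hy, map_add, map_add]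
  | add x y hx hy => rw [map_add, map_add, hx, hy, map_add, map_add]

end Unbundled

end Groth.Agent.H89.AQ

namespace Groth.Agent.H89.AQ
variable (A : Type u) [CommRing A] (A' : Type u) [CommRing A'] [Algebra A A']

/-- restriction of scalars of an `A'`-module to `A` -/
noncomputable abbrev resM (M' : ModuleCat.{u+1} A') : ModuleCat.{u+1} A :=
  (ModuleCat.restrictScalars (algebraMap A A')).obj M'

instance (M' : ModuleCat.{u+1} A') : Module A' (resM A A' M') := M'.isModule

instance (M' : ModuleCat.{u+1} A') : IsScalarTower A A' (resM A A' M') where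
  smul_assoc a a' m := by
    change (a • a') • (m : M') = algebraMap A A' a • (a' • (m : M'))
    rw [Algebra.smul_def, mul_smul]


/-- the comparison `push (underline M') ⟶ underline (M'|A)` -/
noncomputable def rhoHom (M' : ModuleCat.{u+1} A') :
    (Adeq.push A A').obj ((underline A').obj M') ⟶ (underline A).obj (resM A A' M') where
  app X := ModuleCat.ofHom
    (X := ((Adeq.push A A').obj ((underline A').obj M')).obj X)
    (Y := ((underline A).obj (resM A A' M')).obj X)
    { toFun := rhoL A A' (resM A A' M') X.unop.unop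
      map_add' := fun x y => map_add _ x y
      map_smul' := fun r t => rhoL_smul A A' (resM A A' M') X.unop.unop r t }
  naturality {X Y} f := by
    ext x
    exact rhoL_natural A A' (resM A A' M') X.unop.unop f.unop.unop.hom x

theorem rhoHom_app_apply (M' : ModuleCat.{u+1} A') (B : Alg A)
    (x : ((Adeq.push A A').obj ((underline A').obj M')).obj (pt B)) :
    (rhoHom A A' M').app (pt B) x = rhoL A A' (resM A A' M') B x := rfl


theorem isKer_push {F' : MVF A'} {M' N' : ModuleCat.{u+1} A'} {i' : F' ⟶ (underline A').obj M'}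
    {φ' : M' ⟶ N'} (h : IsKer i' φ'.hom) :
    IsKer (N := resM A A' N') ((Adeq.push A A').map i' ≫ rhoHom A A' M')
      ((ModuleCat.restrictScalars (algebraMap A A')).map φ').hom where
  inj B := by
    intro x y hxy
    rw [comp_app_apply, comp_app_apply, rhoHom_app_apply, rhoHom_app_apply] at hxy
    exact h.inj ((Alg.baseChange A A').obj B) ((rhoL A A' (resM A A' M') B).injective hxy)
  comp B x := by
    let x' : F'.obj (pt ((Alg.baseChange A A').obj B)) := x
    have h2 : φ'.hom.baseChange (A' ⊗[A] (B : Type u)) (i'.app (pt ((Alg.baseChange A A').obj B)) x') = 0 :=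
      h.comp ((Alg.baseChange A A').obj B) x'
    have h1 := rhoL_natural_right A A' (resM A A' M') B (N' := resM A A' N') φ'.hom
      (i'.app (pt ((Alg.baseChange A A').obj B)) x')
    have h3 := congrArg (rhoL A A' (resM A A' N') B) h2
    exact h1.symm.trans (h3.trans (map_zero _))
  exact B z hz := by
    obtain ⟨w, rfl⟩ := (rhoL A A' (resM A A' M') B).surjective z
    have h1 := rhoL_natural_right A A' (resM A A' M') B (N' := resM A A' N') φ'.hom w
    have h2 : φ'.hom.baseChange (A' ⊗[A] (B : Type u)) w = 0 := by
      apply (rhoL A A' (resM A A' N') B).injective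
      exact h1.trans (hz.trans (map_zero _).symm)
    obtain ⟨x, hx⟩ := h.exact ((Alg.baseChange A A').obj B) w h2
    refine ⟨x, ?_⟩
    change rhoL A A' (resM A A' M') B (i'.app (pt ((Alg.baseChange A A').obj B)) x) = _
    rw [hx]

end Groth.Agent.H89.AQ
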