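import Groth.Agent.H89.AdeqCokerPre

/-!
# Kernels and cokernels of maps of adequate functors are adequate (Stacks 46.3)
-/

set_option autoImplicit false
set_option linter.style.haveILetI false
universe u v
open CategoryTheory Limits Opposite TensorProduct Adeq

namespace Groth.Agent.H89.AQ

section Prod
variable {A : Type u} [CommRing A] {X Y Z : Type v} [AddCommGroup X] [Module A X]
  [AddCommGroup Y] [Module A Y] [AddCommGroup Z] [Module A Z]
  (B : Type u) [CommRing B] [Algebra A B]

theorem prod_baseChange_eq_zero_iff (f : X →ₗ[A] Y) (g : X →ₗ[A] Z) (z : B ⊗[A] X) :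
    (f.prod g).baseChange B z = 0 ↔ f.baseChange B z = 0 ∧ g.baseChange B z = 0 := by
  constructor
  · intro h
    constructor
    · have := congrArg ((LinearMap.fst A Y Z).baseChange B) h
      rwa [← LinearMap.comp_apply, ← LinearMap.baseChange_comp, LinearMap.fst_prod, map_zero] at this
    · have := congrArg ((LinearMap.snd A Y Z).baseChange B) h
      rwa [← LinearMap.comp_apply, ← LinearMap.baseChange_comp, LinearMap.snd_prod, map_zero] at this
  · rintro ⟨h1, h2⟩
    have hid : (LinearMap.inl A Y Z) ∘ₗ (LinearMap.fst A Y Z) +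
        (LinearMap.inr A Y Z) ∘ₗ (LinearMap.snd A Y Z) = LinearMap.id := by
      apply LinearMap.ext
      rintro ⟨y, z⟩
      simp
    have h3 : (f.prod g) = (LinearMap.inl A Y Z) ∘ₗ f + (LinearMap.inr A Y Z) ∘ₗ g := by
      apply LinearMap.ext
      intro x
      simp
    rw [h3, LinearMap.baseChange_add, LinearMap.add_apply, LinearMap.baseChange_comp,
      LinearMap.baseChange_comp, LinearMap.comp_apply, LinearMap.comp_apply, h1, h2, map_zero,
      map_zero, add_zero]

theorem fst_baseChange_inl_add_inr (u : B ⊗[A] X) (v : B ⊗[A] Y) :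
    (LinearMap.fst A X Y).baseChange B ((LinearMap.inl A X Y).baseChange B u +
      (LinearMap.inr A X Y).baseChange B v) = u := by
  have h1 : (LinearMap.fst A X Y).baseChange B ((LinearMap.inl A X Y).baseChange B u) = u := by
    rw [← LinearMap.comp_apply, ← LinearMap.baseChange_comp, LinearMap.fst_comp_inl,
      LinearMap.baseChange_id, LinearMap.id_apply]
  have h2 : (LinearMap.fst A X Y).baseChange B ((LinearMap.inr A X Y).baseChange B v) = 0 := by
    rw [← LinearMap.comp_apply, ← LinearMap.baseChange_comp, LinearMap.fst_comp_inr,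
      LinearMap.baseChange_zero, LinearMap.zero_apply]
  rw [map_add, h1, h2, add_zero]

theorem snd_baseChange_inl_add_inr (u : B ⊗[A] X) (v : B ⊗[A] Y) :
    (LinearMap.snd A X Y).baseChange B ((LinearMap.inl A X Y).baseChange B u +
      (LinearMap.inr A X Y).baseChange B v) = v := by
  have h1 : (LinearMap.snd A X Y).baseChange B ((LinearMap.inl A X Y).baseChange B u) = 0 := by
    rw [← LinearMap.comp_apply, ← LinearMap.baseChange_comp, LinearMap.snd_comp_inl,
      LinearMap.baseChange_zero, LinearMap.zero_apply]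
  have h2 : (LinearMap.snd A X Y).baseChange B ((LinearMap.inr A X Y).baseChange B v) = v := by
    rw [← LinearMap.comp_apply, ← LinearMap.baseChange_comp, LinearMap.snd_comp_inr,
      LinearMap.baseChange_id, LinearMap.id_apply]
  rw [map_add, h1, h2, zero_add]

theorem comp_sub_eq_zero {X' Y' Z' : Type*} [AddGroup X'] [AddGroup Y'] [AddGroup Z']
    (f : X' → Y') (g : Y' → Z') (hf : ∀ a b, f (a - b) = f a - f b)
    (hg : ∀ a b, g (a - b) = g a - g b) (x x' : X') (h : g (f x) = g (f x')) :
    g (f (x - x')) = 0 := by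
  rw [hf, hg, h, sub_self]

end Prod

variable {A : Type u} [CommRing A]

theorem add_app_apply {F G : MVF A} (σ τ : F ⟶ G) (B : Alg A) (x : F.obj (pt B)) :
    (σ + τ).app (pt B) x = σ.app (pt B) x + τ.app (pt B) x := rfl

theorem adequate_cokernel {F G : MVF A} (a : F ⟶ G) (hF : adequate A F) (hG : adequate A G) :
    adequate A (cokernel a) := by
  obtain ⟨M, N, φ, iF, hiF⟩ := exists_isKer_of_adequate hF
  obtain ⟨M', N', ψ, iG, hiG⟩ := exists_isKer_of_adequate hG
  obtain ⟨M'', _, _, q, hq⟩ := exists_coker_embedding hiF (a ≫ iG)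
  let qq : M' ⟶ ModuleCat.of A M'' := ModuleCat.ofHom q
  have w : a ≫ (iG ≫ (underline A).map qq) = 0 := by
    apply hom_ext'
    intro B x
    exact (hq B _).2 ⟨x, rfl⟩
  let j := cokernel.desc a (iG ≫ (underline A).map qq) w
  have hj : cokernel.π a ≫ j = iG ≫ (underline A).map qq := cokernel.π_desc _ _ _
  have hj' : ∀ (B : Alg A) (y : G.obj (pt B)),
      j.app (pt B) ((cokernel.π a).app (pt B) y) = q.baseChange B (iG.app (pt B) y) := by
    intro B y
    rw [← comp_app_apply, hj]
    rfl
  apply adequate_of_isKer (i := j) (φ := pushQ' q ψ.hom)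
  constructor
  · intro B c c' hcc'
    obtain ⟨y, rfl⟩ := cokernel_π_surjective a B c
    obtain ⟨y', rfl⟩ := cokernel_π_surjective a B c'
    rw [hj', hj'] at hcc'
    have h0 : q.baseChange B (iG.app (pt B) (y - y')) = 0 :=
      comp_sub_eq_zero (fun y => (iG.app (pt B) y : (B : Type u) ⊗[A] M')) (q.baseChange B)
        (fun a b => map_sub _ a b) (fun a b => map_sub _ a b) y y' hcc'
    obtain ⟨ξ, hξ⟩ := (hq B _).1 h0
    have h1 : a.app (pt B) ξ = y - y' := hiG.inj B hξ
    have h2 := cokernel_π_comp a B ξ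
    rw [h1, map_sub, sub_eq_zero] at h2
    exact h2
  · intro B c
    obtain ⟨y, rfl⟩ := cokernel_π_surjective a B c
    rw [hj']
    exact (pushQ'_baseChange_eq_zero_iff q ψ.hom B _).2 ⟨iG.app (pt B) y, hiG.comp B y, rfl⟩
  · intro B z hz
    obtain ⟨k, hk1, hk2⟩ := (pushQ'_baseChange_eq_zero_iff q ψ.hom B z).1 hz
    obtain ⟨y, hy⟩ := hiG.exact B k hk1
    refine ⟨(cokernel.π a).app (pt B) y, ?_⟩
    rw [hj', hy]
    exact hk2

theorem adequate_kernel {F G : MVF A} (a : F ⟶ G) (hF : adequate A F) (hG : adequate A G) :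
    adequate A (kernel a) := by
  obtain ⟨M, N, φ, iF, hiF⟩ := exists_isKer_of_adequate hF
  obtain ⟨M', N', ψ, iG, hiG⟩ := exists_isKer_of_adequate hG
  let MM : ModuleCat.{u+1} A := ModuleCat.of A (M × M')
  let τ : F ⟶ (underline A).obj MM :=
    iF ≫ (underline A).map (ModuleCat.ofHom (LinearMap.inl A M M')) +
      (a ≫ iG) ≫ (underline A).map (ModuleCat.ofHom (LinearMap.inr A M M'))
  have hτ : ∀ (B : Alg A) (x : F.obj (pt B)), τ.app (pt B) x =
      (LinearMap.inl A M M').baseChange B (iF.app (pt B) x) +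
        (LinearMap.inr A M M').baseChange B (iG.app (pt B) (a.app (pt B) x)) := fun B x => rfl
  have hfst : ∀ (B : Alg A) (x : F.obj (pt B)),
      (LinearMap.fst A M M').baseChange B (τ.app (pt B) x) = iF.app (pt B) x := by
    intro B x
    rw [hτ]
    exact fst_baseChange_inl_add_inr B (iF.app (pt B) x) (iG.app (pt B) (a.app (pt B) x))
  have hsnd : ∀ (B : Alg A) (x : F.obj (pt B)),
      (LinearMap.snd A M M').baseChange B (τ.app (pt B) x) = iG.app (pt B) (a.app (pt B) x) := by
    intro B x
    rw [hτ]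
    exact snd_baseChange_inl_add_inr B (iF.app (pt B) x) (iG.app (pt B) (a.app (pt B) x))
  obtain ⟨M'', _, _, q, hq⟩ := exists_coker_embedding hiF τ
  apply adequate_of_isKer (i := kernel.ι a ≫ τ) (φ := q.prod (LinearMap.snd A M M'))
  constructor
  · intro B y y' hyy'
    apply kernel_ι_injective a B
    apply hiF.inj B
    rw [comp_app_apply, comp_app_apply] at hyy'
    have := congrArg ((LinearMap.fst A M M').baseChange B) hyy'
    rw [hfst, hfst] at this
    exact this
  · intro B y
    rw [comp_app_apply]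
    apply (prod_baseChange_eq_zero_iff B q (LinearMap.snd A M M') _).2
    refine ⟨(hq B _).2 ⟨_, rfl⟩, ?_⟩
    rw [hsnd, kernel_ι_comp a B y, map_zero]
    rfl
  · intro B z hz
    obtain ⟨hz1, hz2⟩ := (prod_baseChange_eq_zero_iff B q (LinearMap.snd A M M') z).1 hz
    obtain ⟨ξ, hξ⟩ := (hq B z).1 hz1
    have h1 : iG.app (pt B) (a.app (pt B) ξ) = 0 := by
      rw [← hsnd, hξ]
      exact hz2
    have h2 : a.app (pt B) ξ = 0 := by
      apply hiG.inj B
      rw [h1, map_zero]
    obtain ⟨y, hy⟩ := kernel_ι_exact a B ξ h2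
    refine ⟨y, ?_⟩
    rw [comp_app_apply, hy, hξ]

end Groth.Agent.H89.AQ
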