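import Mathlib

/-!
# Direct sums and pushouts of modules under base change (for Stacks 46.3)

* `ds_ker_image`, `ds_image_ker`: for a block diagonal map `⊕κ_i : ⊕K_i → ⊕K'_i` and maps `g_i : K_i → M'`,
  the image of `ker (⊕κ_i)_B` under `(Σ g_i)_B` is the sum of the images of `ker (κ_i)_B` under `(g_i)_B`.
* `PushQ κ g`, `pushQ`, `pushQ'`: the pushout of `κ : K → K'` and `g : K → M'`, with
  `ker (pushQ)_B = g_B (ker κ_B)` and `ker (pushQ')_B = κ_B (ker g_B)`.
-/

set_option autoImplicit false
set_option linter.style.haveILetI false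
universe u v w v'
open TensorProduct DirectSum

namespace Groth.Agent.H89.AQ

section DS
variable {A : Type u} [CommRing A] {ι : Type w} [DecidableEq ι]
  (Kf : ι → Type v) [∀ i, AddCommGroup (Kf i)] [∀ i, Module A (Kf i)]
  (B : Type u) [CommRing B] [Algebra A B]

/-- every element of `B ⊗ ⨁ K_i` is the (finite) sum of its components -/
theorem ds_decomp (w : B ⊗[A] (⨁ i, Kf i)) :
    ∃ T : Finset ι, ∀ T' : Finset ι, T ⊆ T' →
      w = ∑ i ∈ T', (DirectSum.lof A ι Kf i).baseChange B
        ((DirectSum.component A ι Kf i).baseChange B w) := by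
  classical
  induction w using TensorProduct.induction_on with
  | zero => exact ⟨∅, fun T' _ => by simp⟩
  | tmul b x =>
    refine ⟨DFinsupp.support x, fun T' hT' => ?_⟩
    have hx : x = ∑ i ∈ T', DirectSum.lof A ι Kf i (DirectSum.component A ι Kf i x) := by
      conv_lhs => rw [← DirectSum.sum_support_of x]
      refine Finset.sum_subset hT' (fun i _ hi => ?_)
      rw [DFinsupp.notMem_support_iff] at hi
      rw [hi, map_zero]
    conv_lhs => rw [hx, TensorProduct.tmul_sum]
    refine Finset.sum_congr rfl (fun i _ => ?_)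
    rw [LinearMap.baseChange_tmul, LinearMap.baseChange_tmul]
  | add x y hx hy =>
    obtain ⟨T₁, h₁⟩ := hx
    obtain ⟨T₂, h₂⟩ := hy
    refine ⟨T₁ ∪ T₂, fun T' hT' => ?_⟩
    conv_lhs => rw [h₁ T' (Finset.union_subset_left hT'), h₂ T' (Finset.union_subset_right hT')]
    rw [← Finset.sum_add_distrib]
    refine Finset.sum_congr rfl (fun i _ => ?_)
    rw [map_add, map_add]

variable {Kf} {K'f : ι → Type v} [∀ i, AddCommGroup (K'f i)] [∀ i, Module A (K'f i)]
  (κ : ∀ i, Kf i →ₗ[A] K'f i) {M' : Type v'} [AddCommGroup M'] [Module A M']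
  (g : ∀ i, Kf i →ₗ[A] M')

theorem ds_ker_image (w : B ⊗[A] (⨁ i, Kf i)) (hw : (DirectSum.lmap κ).baseChange B w = 0) :
    ∃ (T : Finset ι) (w' : ∀ i, B ⊗[A] Kf i), (∀ i, (κ i).baseChange B (w' i) = 0) ∧
      (DirectSum.toModule A ι M' g).baseChange B w = ∑ i ∈ T, (g i).baseChange B (w' i) := by
  classical
  obtain ⟨T, hT⟩ := ds_decomp Kf B w
  refine ⟨T, fun i => (DirectSum.component A ι Kf i).baseChange B w, fun i => ?_, ?_⟩
  · have h1 : (κ i) ∘ₗ (DirectSum.component A ι Kf i) =
        (DirectSum.component A ι K'f i) ∘ₗ (DirectSum.lmap κ) := by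
      apply LinearMap.ext
      intro x
      rfl
    rw [← LinearMap.comp_apply, ← LinearMap.baseChange_comp, h1, LinearMap.baseChange_comp,
      LinearMap.comp_apply, hw, map_zero]
  · conv_lhs => rw [hT T (Finset.Subset.refl T), map_sum]
    refine Finset.sum_congr rfl (fun i _ => ?_)
    have h2 : (DirectSum.toModule A ι M' g) ∘ₗ (DirectSum.lof A ι Kf i) = g i := by
      apply LinearMap.ext
      intro x
      exact DirectSum.toModule_lof A i x
    rw [← LinearMap.comp_apply, ← LinearMap.baseChange_comp, h2]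

theorem ds_image_ker (i : ι) (w' : B ⊗[A] Kf i) (hw' : (κ i).baseChange B w' = 0) :
    (DirectSum.lmap κ).baseChange B ((DirectSum.lof A ι Kf i).baseChange B w') = 0 ∧
    (DirectSum.toModule A ι M' g).baseChange B ((DirectSum.lof A ι Kf i).baseChange B w') =
      (g i).baseChange B w' := by
  constructor
  · have h1 : (DirectSum.lmap κ) ∘ₗ (DirectSum.lof A ι Kf i) =
        (DirectSum.lof A ι K'f i) ∘ₗ (κ i) := by
      apply LinearMap.ext
      intro x
      exact DirectSum.lmap_lof κ i x
    rw [← LinearMap.comp_apply, ← LinearMap.baseChange_comp, h1, LinearMap.baseChange_comp,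
      LinearMap.comp_apply, hw', map_zero]
  · have h2 : (DirectSum.toModule A ι M' g) ∘ₗ (DirectSum.lof A ι Kf i) = g i := by
      apply LinearMap.ext
      intro x
      exact DirectSum.toModule_lof A i x
    rw [← LinearMap.comp_apply, ← LinearMap.baseChange_comp, h2]

end DS

section Q
variable {A : Type u} [CommRing A] {K : Type v} [AddCommGroup K] [Module A K]
  {K' : Type v} [AddCommGroup K'] [Module A K'] {M' : Type v} [AddCommGroup M'] [Module A M']
  (κ : K →ₗ[A] K') (g : K →ₗ[A] M')

/-- the pushout module `(K' × M') / K` -/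
abbrev PushQ : Type v := (K' × M') ⧸ LinearMap.range (κ.prod (-g))

/-- the map `M' → PushQ` -/
def pushQ : M' →ₗ[A] PushQ κ g :=
  (LinearMap.range (κ.prod (-g))).mkQ ∘ₗ LinearMap.inr A K' M'

/-- the map `K' → PushQ` -/
def pushQ' : K' →ₗ[A] PushQ κ g :=
  (LinearMap.range (κ.prod (-g))).mkQ ∘ₗ LinearMap.inl A K' M'

theorem pushQ_comm : pushQ κ g ∘ₗ g = pushQ' κ g ∘ₗ κ := by
  apply LinearMap.ext
  intro k
  simp only [pushQ, pushQ', LinearMap.comp_apply, LinearMap.inr_apply, LinearMap.inl_apply,
    Submodule.mkQ_apply]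
  symm
  rw [Submodule.Quotient.eq]
  refine ⟨k, ?_⟩
  simp

variable (B : Type u) [CommRing B] [Algebra A B]

theorem pushQ_baseChange_eq_zero_iff (m : B ⊗[A] M') :
    (pushQ κ g).baseChange B m = 0 ↔
      ∃ k : B ⊗[A] K, κ.baseChange B k = 0 ∧ g.baseChange B k = m := by
  constructor
  · intro h
    have hex : Function.Exact (κ.prod (-g)) (LinearMap.range (κ.prod (-g))).mkQ :=
      LinearMap.exact_map_mkQ_range _
    have hex' := lTensor_exact B hex (Submodule.mkQ_surjective _)
    have h' : ((LinearMap.range (κ.prod (-g))).mkQ.lTensor B)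
        ((LinearMap.inr A K' M').lTensor B m) = 0 := by
      rw [← LinearMap.comp_apply, ← LinearMap.lTensor_comp]
      exact h
    obtain ⟨k, hk⟩ := (hex' _).1 h'
    refine ⟨-k, ?_, ?_⟩
    · have h1 := congrArg ((LinearMap.fst A K' M').lTensor B) hk
      rw [← LinearMap.comp_apply, ← LinearMap.lTensor_comp, ← LinearMap.comp_apply,
        ← LinearMap.lTensor_comp, LinearMap.fst_prod, LinearMap.fst_comp_inr,
        LinearMap.lTensor_zero, LinearMap.zero_apply] at h1
      rw [map_neg]
      change -(κ.lTensor B k) = 0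
      rw [h1, neg_zero]
    · have h1 := congrArg ((LinearMap.snd A K' M').lTensor B) hk
      rw [← LinearMap.comp_apply, ← LinearMap.lTensor_comp, ← LinearMap.comp_apply,
        ← LinearMap.lTensor_comp, LinearMap.snd_prod, LinearMap.snd_comp_inr,
        LinearMap.lTensor_id, LinearMap.id_apply, LinearMap.lTensor_neg,
        LinearMap.neg_apply] at h1
      rw [map_neg]
      change -(g.lTensor B k) = m
      exact h1
  · rintro ⟨k, hk1, hk2⟩
    rw [← hk2, ← LinearMap.comp_apply, ← LinearMap.baseChange_comp, pushQ_comm,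
      LinearMap.baseChange_comp, LinearMap.comp_apply, hk1, map_zero]

theorem pushQ'_baseChange_eq_zero_iff (z : B ⊗[A] K') :
    (pushQ' κ g).baseChange B z = 0 ↔
      ∃ k : B ⊗[A] K, g.baseChange B k = 0 ∧ κ.baseChange B k = z := by
  constructor
  · intro h
    have hex : Function.Exact (κ.prod (-g)) (LinearMap.range (κ.prod (-g))).mkQ :=
      LinearMap.exact_map_mkQ_range _
    have hex' := lTensor_exact B hex (Submodule.mkQ_surjective _)
    have h' : ((LinearMap.range (κ.prod (-g))).mkQ.lTensor B)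
        ((LinearMap.inl A K' M').lTensor B z) = 0 := by
      rw [← LinearMap.comp_apply, ← LinearMap.lTensor_comp]
      exact h
    obtain ⟨k, hk⟩ := (hex' _).1 h'
    refine ⟨k, ?_, ?_⟩
    · have h1 := congrArg ((LinearMap.snd A K' M').lTensor B) hk
      rw [← LinearMap.comp_apply, ← LinearMap.lTensor_comp, ← LinearMap.comp_apply,
        ← LinearMap.lTensor_comp, LinearMap.snd_prod, LinearMap.snd_comp_inl,
        LinearMap.lTensor_zero, LinearMap.zero_apply, LinearMap.lTensor_neg,
        LinearMap.neg_apply, neg_eq_zero] at h1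
      exact h1
    · have h1 := congrArg ((LinearMap.fst A K' M').lTensor B) hk
      rw [← LinearMap.comp_apply, ← LinearMap.lTensor_comp, ← LinearMap.comp_apply,
        ← LinearMap.lTensor_comp, LinearMap.fst_prod, LinearMap.fst_comp_inl,
        LinearMap.lTensor_id, LinearMap.id_apply] at h1
      exact h1
  · rintro ⟨k, hk1, hk2⟩
    rw [← hk2, ← LinearMap.comp_apply, ← LinearMap.baseChange_comp, ← pushQ_comm,
      LinearMap.baseChange_comp, LinearMap.comp_apply, hk1, map_zero]

end Q

end Groth.Agent.H89.AQ
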