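import Groth.Agent.H89.AdeqCover
import Groth.Agent.H89.AdeqSum

/-!
# Cokernels of maps from adequate functors embed into `underline` (Stacks 46.3)

`exists_coker_embedding`: for `F` adequate and `τ : F ⟶ underline M'` there is `q : M' → M''`
with `ker q_B = τ (F B)` for all `B`.
-/

set_option autoImplicit false
set_option linter.style.haveILetI false
universe u
open CategoryTheory Limits Opposite TensorProduct Adeq

namespace Groth.Agent.H89.AQ
variable {A : Type u} [CommRing A]

theorem coker_embedding_of_data {F : MVF A} {M' : ModuleCat.{u+1} A}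
    (τ : F ⟶ (underline A).obj M')
    {I : Type (u+1)} (P P' : I → ModuleCat.{u+1} A) (κ : ∀ idx, P idx ⟶ P' idx)
    (g : ∀ idx, P idx ⟶ M') (lam : ∀ idx, kernel ((underline A).map (κ idx)) ⟶ F)
    (hg : ∀ idx, kernel.ι ((underline A).map (κ idx)) ≫ (underline A).map (g idx) = lam idx ≫ τ)
    (hsurj : ∀ (B : Alg A) (ξ : F.obj (pt B)),
      ∃ (idx : I) (y : (kernel ((underline A).map (κ idx))).obj (pt B)),
        (lam idx).app (pt B) y = ξ) :
    ∃ (M'' : Type (u+1)) (_ : AddCommGroup M'') (_ : Module A M'') (q : M' →ₗ[A] M''),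
      ∀ (B : Alg A) (m : (B : Type u) ⊗[A] M'),
        q.baseChange B m = 0 ↔ ∃ ξ : F.obj (pt B), τ.app (pt B) ξ = m := by
  classical
  let κB : (DirectSum I fun idx => (P idx : Type (u+1))) →ₗ[A]
      (DirectSum I fun idx => (P' idx : Type (u+1))) := DirectSum.lmap (fun idx => (κ idx).hom)
  let gB : (DirectSum I fun idx => (P idx : Type (u+1))) →ₗ[A] M' :=
    DirectSum.toModule A I M' (fun idx => (g idx).hom)
  refine ⟨PushQ κB gB, inferInstance, inferInstance, pushQ κB gB, fun B m => ?_⟩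
  rw [pushQ_baseChange_eq_zero_iff]
  constructor
  · rintro ⟨k, hk1, hk2⟩
    obtain ⟨T, w', hw', hsum⟩ := ds_ker_image B (fun idx => (κ idx).hom)
      (fun idx => (g idx).hom) k hk1
    have hex : ∀ idx, ∃ ξ : F.obj (pt B),
        τ.app (pt B) ξ = ((g idx).hom).baseChange B (w' idx) := by
      intro idx
      obtain ⟨y', hy'⟩ := kernel_ι_exact ((underline A).map (κ idx)) B (w' idx) (hw' idx)
      refine ⟨(lam idx).app (pt B) y', ?_⟩
      rw [← comp_app_apply, ← hg idx, comp_app_apply, hy']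
      rfl
    choose ξ hξ using hex
    refine ⟨∑ idx ∈ T, ξ idx, ?_⟩
    rw [map_sum, ← hk2]
    exact (Finset.sum_congr rfl (fun idx _ => hξ idx)).trans hsum.symm
  · rintro ⟨ξ, rfl⟩
    obtain ⟨idx, y, hy⟩ := hsurj B ξ
    let w' : (B : Type u) ⊗[A] (P idx) := (kernel.ι ((underline A).map (κ idx))).app (pt B) y
    have hw' : ((κ idx).hom).baseChange B w' = 0 := kernel_ι_comp ((underline A).map (κ idx)) B y
    obtain ⟨h1, h2⟩ := ds_image_ker B (fun idx => (κ idx).hom) (fun idx => (g idx).hom) idx w' hw'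
    refine ⟨_, h1, h2.trans ?_⟩
    rw [← hy, ← comp_app_apply, ← hg idx, comp_app_apply]
    rfl

end Groth.Agent.H89.AQ

namespace Groth.Agent.H89.AQ
variable {A : Type u} [CommRing A]

/-- Key corollary: for `F` adequate and any `τ : F ⟶ underline M'`, there is a module map
`q : M' → M''` such that `ker q_B = τ (F B)` for all `B` (i.e. `coker τ` embeds in `underline M''`). -/
theorem exists_coker_embedding {F : MVF A} {M : ModuleCat.{u+1} A} {i : F ⟶ (underline A).obj M}
    {N : Type (u+1)} [AddCommGroup N] [Module A N] {φ : M →ₗ[A] N} (h : IsKer i φ)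
    {M' : ModuleCat.{u+1} A} (τ : F ⟶ (underline A).obj M') :
    ∃ (M'' : Type (u+1)) (_ : AddCommGroup M'') (_ : Module A M'') (q : M' →ₗ[A] M''),
      ∀ (B : Alg A) (m : (B : Type u) ⊗[A] M'),
        q.baseChange B m = 0 ↔ ∃ ξ : F.obj (pt B), τ.app (pt B) ξ = m := by
  classical
  let I := Σ B : Alg A, F.obj (pt B)
  choose n l a p lam hlam y hy using (fun idx : I => local_cover h idx.1 idx.2)
  have hg : ∀ idx : I, ∃ g : stdFree A (n idx) ⟶ M',
      kernel.ι ((underline A).map (ModuleCat.ofHom (stdMat (a idx)))) ≫ (underline A).map g =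
        lam idx ≫ τ :=
    fun idx => extend_of_isKer_free (stdMat (a idx))
      (isKer_kernel_ι (ModuleCat.ofHom (stdMat (a idx)))) (lam idx ≫ τ)
  choose g hg using hg
  exact coker_embedding_of_data τ (fun idx : I => stdFree A (n idx)) (fun idx => stdFree A (l idx))
    (fun idx => ModuleCat.ofHom (stdMat (a idx))) g lam hg (fun B ξ => ⟨⟨B, ξ⟩, y ⟨B, ξ⟩, hy ⟨B, ξ⟩⟩)

end Groth.Agent.H89.AQ
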