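import Groth.Agent.H89.AdeqCoker

/-!
# Coproducts and colimits of adequate functors are adequate (Stacks 46.3)

* `moduleCat_cocone_exists_sum`: elements of a colimit in `ModuleCat` are finite sums of elements from the diagram;
* `sigma_exists_sum`: same for values of coproducts in `MVF A`;
* `adequate_sigma`: a coproduct of adequate functors is the kernel of `underline` of a direct sum of maps;
* `adequate_colimit`: colimit = cokernel of a map between coproducts.
-/

set_option autoImplicit false
set_option linter.style.haveILetI false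
universe u v w
open CategoryTheory Limits Opposite TensorProduct Adeq

namespace Groth.Agent.H89.AQ

section ModCocone
variable {R : Type u} [Ring R] {J : Type w} [Category J] {K : J ⥤ ModuleCat.{v} R}

/-- elements of a colimit in `ModuleCat` are finite sums of elements coming from the diagram -/
theorem moduleCat_cocone_exists_sum (c : Cocone K) (hc : IsColimit c) (x : c.pt) :
    ∃ (T : Finset J) (xs : ∀ j, K.obj j), x = ∑ j ∈ T, (c.ι.app j) (xs j) := by
  classical
  let S : Submodule R c.pt := ⨆ j, LinearMap.range (c.ι.app j).hom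
  have hS : S = ⊤ := by
    let Q : ModuleCat.{v} R := ModuleCat.of R (c.pt ⧸ S)
    let f : c.pt ⟶ Q := ModuleCat.ofHom S.mkQ
    have hf : f = 0 := by
      apply hc.hom_ext
      intro j
      rw [comp_zero]
      ext y
      change S.mkQ ((c.ι.app j).hom y) = 0
      rw [Submodule.mkQ_apply, Submodule.Quotient.mk_eq_zero]
      exact Submodule.mem_iSup_of_mem j ⟨y, rfl⟩
    rw [eq_top_iff]
    intro y _
    have : S.mkQ y = 0 := by
      change f.hom y = 0
      rw [hf]
      rfl
    rwa [Submodule.mkQ_apply, Submodule.Quotient.mk_eq_zero] at this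
  have hx : x ∈ S := by rw [hS]; trivial
  obtain ⟨f, hf1, hf2⟩ := (Submodule.mem_iSup_iff_exists_finsupp _ x).1 hx
  choose xs hxs using hf1
  refine ⟨f.support, xs, ?_⟩
  rw [← hf2, Finsupp.sum]
  exact Finset.sum_congr rfl (fun j _ => (hxs j).symm)

end ModCocone

end Groth.Agent.H89.AQ

namespace Groth.Agent.H89.AQ
variable {A : Type u} [CommRing A]

noncomputable instance evalPresColimShape (J : Type (u+1)) [SmallCategory J] (B : Alg A) :
    PreservesColimitsOfShape J (PresheafOfModules.evaluation.{u+1} (ringOf A) (pt B)) :=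
  PresheafOfModules.evaluation_preservesColimitsOfShape.{u+1, u, u+1, u+1, u+1, u} (ringOf A) J (pt B)

noncomputable instance evalPresSigma (ι : Type (u+1)) (B : Alg A) :
    PreservesColimitsOfShape (Discrete ι)
      (PresheafOfModules.evaluation.{u+1} (ringOf A) (pt B)) :=
  PresheafOfModules.evaluation_preservesColimitsOfShape.{u+1, u, u+1, u+1, u+1, u} (ringOf A) (Discrete ι) (pt B)

theorem sigma_exists_sum {ι : Type (u+1)} (F : ι → MVF A) (B : Alg A) (x : (∐ F).obj (pt B)) :
    ∃ (T : Finset ι) (xs : ∀ j, (F j).obj (pt B)),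
      x = ∑ j ∈ T, (Sigma.ι F j).app (pt B) (xs j) := by
  classical
  let c := (PresheafOfModules.evaluation.{u+1} (ringOf A) (pt B)).mapCocone
    (colimit.cocone (Discrete.functor F))
  have hc : IsColimit c :=
    isColimitOfPreserves (PresheafOfModules.evaluation.{u+1} (ringOf A) (pt B))
      (colimit.isColimit (Discrete.functor F))
  obtain ⟨T, xs, h⟩ := moduleCat_cocone_exists_sum c hc x
  refine ⟨T.map discreteEquiv.toEmbedding, fun j => xs ⟨j⟩, ?_⟩
  rw [Finset.sum_map]
  exact h

end Groth.Agent.H89.AQ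

namespace Groth.Agent.H89.AQ

section DS2
open DirectSum
variable {A : Type u} [CommRing A] {ι : Type w} [DecidableEq ι]
  {Kf : ι → Type v} [∀ i, AddCommGroup (Kf i)] [∀ i, Module A (Kf i)]
  (B : Type u) [CommRing B] [Algebra A B]
  {K'f : ι → Type v} [∀ i, AddCommGroup (K'f i)] [∀ i, Module A (K'f i)]
  (κ : ∀ i, Kf i →ₗ[A] K'f i)

theorem ds_component_ker (w : B ⊗[A] (⨁ i, Kf i)) (hw : (DirectSum.lmap κ).baseChange B w = 0)
    (i : ι) : (κ i).baseChange B ((DirectSum.component A ι Kf i).baseChange B w) = 0 := by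
  have h1 : (κ i) ∘ₗ (DirectSum.component A ι Kf i) =
      (DirectSum.component A ι K'f i) ∘ₗ (DirectSum.lmap κ) := by
    apply LinearMap.ext
    intro x
    rfl
  rw [← LinearMap.comp_apply, ← LinearMap.baseChange_comp, h1, LinearMap.baseChange_comp,
    LinearMap.comp_apply, hw, map_zero]

theorem ds_component_lof_same (i : ι) (w' : B ⊗[A] Kf i) :
    (DirectSum.component A ι Kf i).baseChange B ((DirectSum.lof A ι Kf i).baseChange B w') = w' := by
  rw [← LinearMap.comp_apply, ← LinearMap.baseChange_comp, DirectSum.component_comp_lof_same,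
    LinearMap.baseChange_id, LinearMap.id_apply]

theorem ds_component_lof_ne (i j : ι) (hij : j ≠ i) (w' : B ⊗[A] Kf j) :
    (DirectSum.component A ι Kf i).baseChange B ((DirectSum.lof A ι Kf j).baseChange B w') = 0 := by
  have h1 : (DirectSum.component A ι Kf i) ∘ₗ (DirectSum.lof A ι Kf j) = 0 := by
    apply LinearMap.ext
    intro x
    rw [LinearMap.comp_apply, DirectSum.component.of, dif_neg hij]
    rfl
  rw [← LinearMap.comp_apply, ← LinearMap.baseChange_comp, h1, LinearMap.baseChange_zero,
    LinearMap.zero_apply]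

theorem ds_component_sum (T : Finset ι) (w' : ∀ j, B ⊗[A] Kf j) (i : ι) (hi : i ∈ T) :
    (DirectSum.component A ι Kf i).baseChange B
      (∑ j ∈ T, (DirectSum.lof A ι Kf j).baseChange B (w' j)) = w' i := by
  rw [map_sum, Finset.sum_eq_single_of_mem i hi]
  · exact ds_component_lof_same B i (w' i)
  · intro j _ hji
    exact ds_component_lof_ne B i j hji (w' j)

end DS2

end Groth.Agent.H89.AQ

namespace Groth.Agent.H89.AQ

section DS3
open DirectSum
variable {A : Type u} [CommRing A] {ι : Type w} [DecidableEq ι]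
  {Kf : ι → Type v} [∀ i, AddCommGroup (Kf i)] [∀ i, Module A (Kf i)]
  (B : Type u) [CommRing B] [Algebra A B]
  {K'f : ι → Type v} [∀ i, AddCommGroup (K'f i)] [∀ i, Module A (K'f i)]
  (κ : ∀ i, Kf i →ₗ[A] K'f i)

theorem ds_lmap_lof (j : ι) (w' : B ⊗[A] Kf j) :
    (DirectSum.lmap κ).baseChange B ((DirectSum.lof A ι Kf j).baseChange B w') =
      (DirectSum.lof A ι K'f j).baseChange B ((κ j).baseChange B w') := by
  have h1 : (DirectSum.lmap κ) ∘ₗ (DirectSum.lof A ι Kf j) =
      (DirectSum.lof A ι K'f j) ∘ₗ (κ j) := by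
    apply LinearMap.ext
    intro x
    exact DirectSum.lmap_lof κ j x
  rw [← LinearMap.comp_apply, ← LinearMap.baseChange_comp, h1, LinearMap.baseChange_comp,
    LinearMap.comp_apply]

end DS3

variable {A : Type u} [CommRing A]

theorem adequate_sigma {ι : Type (u+1)} (F : ι → MVF A) (hF : ∀ j, adequate A (F j)) :
    adequate A (∐ F) := by
  classical
  choose M N φ i hi using fun j => exists_isKer_of_adequate (hF j)
  let Mb : ModuleCat.{u+1} A := ModuleCat.of A (DirectSum ι fun j => (M j : Type (u+1)))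
  let φb : (DirectSum ι fun j => (M j : Type (u+1))) →ₗ[A]
      (DirectSum ι fun j => (N j : Type (u+1))) := DirectSum.lmap (fun j => (φ j).hom)
  let lofM : ∀ j, M j ⟶ Mb := fun j =>
    ModuleCat.ofHom (DirectSum.lof A ι (fun j => (M j : Type (u+1))) j)
  let ib : ∐ F ⟶ (underline A).obj Mb := Sigma.desc (fun j => i j ≫ (underline A).map (lofM j))
  have hib : ∀ (B : Alg A) (j : ι) (x : (F j).obj (pt B)),
      ib.app (pt B) ((Sigma.ι F j).app (pt B) x) =
        (DirectSum.lof A ι (fun j => (M j : Type (u+1))) j).baseChange B ((i j).app (pt B) x) := by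
    intro B j x
    rw [← comp_app_apply, Sigma.ι_desc]
    rfl
  have hsum : ∀ (B : Alg A) (T : Finset ι) (xs : ∀ j, (F j).obj (pt B)),
      ib.app (pt B) (∑ j ∈ T, (Sigma.ι F j).app (pt B) (xs j)) =
        ∑ j ∈ T, (DirectSum.lof A ι (fun j => (M j : Type (u+1))) j).baseChange B
          ((i j).app (pt B) (xs j)) := by
    intro B T xs
    rw [map_sum]
    exact Finset.sum_congr rfl (fun j _ => hib B j (xs j))
  apply adequate_of_isKer (i := ib) (φ := φb)
  constructor
  · intro B x x' hxx'
    obtain ⟨T, xs, hx⟩ := sigma_exists_sum F B (x - x')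
    have h0 : ib.app (pt B) (x - x') = 0 := by rw [map_sub, hxx', sub_self]
    rw [hx, hsum] at h0
    have hz : ∀ j ∈ T, xs j = 0 := by
      intro j hj
      apply (hi j).inj B
      have h1 := congrArg
        ((DirectSum.component A ι (fun j => (M j : Type (u+1))) j).baseChange B) h0
      rw [ds_component_sum B T (fun j => (i j).app (pt B) (xs j)) j hj] at h1
      have e1 : (DirectSum.component A ι (fun j => (M j : Type (u+1))) j).baseChange B 0 = 0 :=
        map_zero _
      have e2 : (i j).app (pt B) 0 = 0 := map_zero _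
      exact h1.trans (e1.trans e2.symm)
    have h2 : x - x' = 0 := by
      rw [hx]
      exact Finset.sum_eq_zero (fun j hj => by rw [hz j hj, map_zero])
    exact sub_eq_zero.mp h2
  · intro B x
    obtain ⟨T, xs, hx⟩ := sigma_exists_sum F B x
    rw [hx, hsum, map_sum]
    refine Finset.sum_eq_zero (fun j _ => ?_)
    refine (ds_lmap_lof B (fun j => (φ j).hom) j ((i j).app (pt B) (xs j))).trans ?_
    rw [(hi j).comp B (xs j), map_zero]
  · intro B z hz
    obtain ⟨T, hT⟩ := ds_decomp (fun j => (M j : Type (u+1))) B z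
    have hex : ∀ j, ∃ x : (F j).obj (pt B), (i j).app (pt B) x =
        (DirectSum.component A ι (fun j => (M j : Type (u+1))) j).baseChange B z :=
      fun j => (hi j).exact B _ (ds_component_ker B (fun j => (φ j).hom) z hz j)
    choose xs hxs using hex
    refine ⟨∑ j ∈ T, (Sigma.ι F j).app (pt B) (xs j), ?_⟩
    rw [hsum]
    refine Eq.trans ?_ (hT T (Finset.Subset.refl T)).symm
    exact Finset.sum_congr rfl (fun j _ => by rw [hxs j])

end Groth.Agent.H89.AQ

namespace Groth.Agent.H89.AQ
variable {A : Type u} [CommRing A]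

theorem adequate_colimit {J : Type (u+1)} [SmallCategory J] (D : J ⥤ MVF A)
    (hD : ∀ j, adequate A (D.obj j)) : adequate A (colimit D) := by
  let F₁ : (Σ p : J × J, p.1 ⟶ p.2) → MVF A := fun f => D.obj f.1.1
  let c₁ : Cofan F₁ := Cofan.mk (∐ F₁) (Sigma.ι F₁)
  let c₂ : Cofan D.obj := Cofan.mk (∐ D.obj) (Sigma.ι D.obj)
  let s : c₁.pt ⟶ c₂.pt :=
    Sigma.desc (fun f : (Σ p : J × J, p.1 ⟶ p.2) => D.map f.2 ≫ Sigma.ι D.obj f.1.2)
  let t : c₁.pt ⟶ c₂.pt :=
    Sigma.desc (fun f : (Σ p : J × J, p.1 ⟶ p.2) => Sigma.ι D.obj f.1.1)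
  have hs : ∀ f : (Σ p : J × J, p.1 ⟶ p.2),
      c₁.ι.app ⟨f⟩ ≫ s = D.map f.2 ≫ c₂.ι.app ⟨f.1.2⟩ := fun f => Sigma.ι_desc _ _
  have ht : ∀ f : (Σ p : J × J, p.1 ⟶ p.2), c₁.ι.app ⟨f⟩ ≫ t = c₂.ι.app ⟨f.1.1⟩ :=
    fun f => Sigma.ι_desc _ _
  let ck : CokernelCofork (s - t) := CokernelCofork.ofπ (cokernel.π (s - t)) (cokernel.condition _)
  have hck : IsColimit ck := cokernelIsCokernel (s - t)
  have hcol := HasColimitOfHasCoproductsOfHasCoequalizers.buildIsColimit s t hs ht
    (i := Preadditive.coforkOfCokernelCofork ck) (coproductIsCoproduct F₁)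
    (coproductIsCoproduct D.obj) (Preadditive.isColimitCoforkOfCokernelCofork hck)
  have e : colimit D ≅ cokernel (s - t) := (colimit.isColimit D).coconePointUniqueUpToIso hcol
  exact (adequate A).prop_of_iso e.symm (adequate_cokernel (s - t)
    (adequate_sigma F₁ (fun f => hD _)) (adequate_sigma D.obj hD))

end Groth.Agent.H89.AQ
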