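import Groth.Agent.H89.AdeqLocal

/-!
# Covering adequate functors by linearly adequate ones (Stacks 46.3)

* `linFun a`: the linearly adequate functor attached to a matrix `a`;
* `local_cover`: each element of an adequate functor is hit by a map from some `linFun a`;
* `exists_cover_of_isKer`: an adequate functor is a quotient of a direct sum of linearly adequate functors.
-/

set_option autoImplicit false
set_option linter.style.haveILetI false
universe u
open CategoryTheory Limits Opposite TensorProduct Adeq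

namespace Groth.Agent.H89.AQ
variable {A : Type u} [CommRing A]

/-- the linearly adequate functor attached to a matrix -/
noncomputable abbrev linFun {n l : ℕ} (a : Fin l → Fin n → A) : MVF A :=
  kernel ((underline A).map (ModuleCat.ofHom (stdMat a)))

theorem linFun_linAdequate {n l : ℕ} (a : Fin l → Fin n → A) : linAdequate A (linFun a) :=
  ⟨stdFree A n, stdFree A l, ModuleCat.ofHom (stdMat a), inferInstance, inferInstance,
    inferInstance, inferInstance, ⟨Iso.refl _⟩⟩

/-- elements of `linFun a` over `B` from tuples satisfying the relations -/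
theorem linFun_exists_elt {n l : ℕ} (a : Fin l → Fin n → A) (B : Alg A) (c : Fin n → B)
    (hc : ∀ k, ∑ j, a k j • c j = 0) :
    ∃ y : (linFun a).obj (pt B), (kernel.ι ((underline A).map (ModuleCat.ofHom (stdMat a)))).app (pt B) y =
      stdElt n B c := by
  apply kernel_ι_exact
  change (stdMat a).baseChange B (stdElt n B c) = 0
  rw [stdMat_baseChange_stdElt]
  have : (fun k => ∑ j, a k j • c j) = fun _ => (0 : B) := funext hc
  rw [this, stdElt_zero]

/-- elements of `linFun a` over `B` are tuples satisfying the relations -/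
theorem linFun_elt_rel {n l : ℕ} (a : Fin l → Fin n → A) (B : Alg A) (y : (linFun a).obj (pt B)) :
    ∃ c : Fin n → B, (∀ k, ∑ j, a k j • c j = 0) ∧
      (kernel.ι ((underline A).map (ModuleCat.ofHom (stdMat a)))).app (pt B) y = stdElt n B c := by
  obtain ⟨c, hc⟩ := exists_stdElt n B
    ((kernel.ι ((underline A).map (ModuleCat.ofHom (stdMat a)))).app (pt B) y)
  refine ⟨c, ?_, hc.symm⟩
  have h0 : (stdMat a).baseChange B (stdElt n B c) = 0 := by
    rw [hc]
    exact kernel_ι_comp ((underline A).map (ModuleCat.ofHom (stdMat a))) B y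
  rw [stdMat_baseChange_stdElt] at h0
  have := stdElt_injective l B _ h0
  intro k
  exact congrFun this k

theorem local_cover {F : MVF A} {M : ModuleCat.{u+1} A} {i : F ⟶ (underline A).obj M}
    {N : Type (u+1)} [AddCommGroup N] [Module A N] {φ : M →ₗ[A] N} (h : IsKer i φ)
    (B : Alg A) (ξ : F.obj (pt B)) :
    ∃ (n l : ℕ) (a : Fin l → Fin n → A) (p : Fin n → M) (lam : linFun a ⟶ F),
      lam ≫ i = kernel.ι _ ≫ (underline A).map (ModuleCat.ofHom (stdLift n p)) ∧
      ∃ y : (linFun a).obj (pt B), lam.app (pt B) y = ξ := by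
  classical
  obtain ⟨T, l, a₀, p₀, q, h1, h2, h3⟩ := local_presentation φ B (i.app (pt B) ξ) (h.comp B ξ)
  let n := T.card
  let e : Fin n ≃ T := T.equivFin.symm
  let a : Fin l → Fin n → A := fun k j => a₀ k (e j)
  let p : Fin n → M := fun j => p₀ (e j)
  let c : Fin n → B := fun j => (e j : B)
  have hrel : ∀ k, ∑ j, a k j • c j = 0 := by
    intro k
    rw [← h2 k, ← Finset.sum_coe_sort T]
    exact Equiv.sum_comp e (fun t : T => a₀ k t • (t : B))
  have hz : i.app (pt B) ξ = ∑ j, c j ⊗ₜ[A] p j := by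
    rw [h3, ← Finset.sum_coe_sort T]
    exact (Equiv.sum_comp e (fun t : T => (t : B) ⊗ₜ[A] p₀ t)).symm
  have hφp : φ ∘ₗ (stdLift n p) = (stdLift l q) ∘ₗ (stdMat a) := by
    apply (stdBasis A n).ext
    intro j
    obtain ⟨j⟩ := j
    rw [LinearMap.comp_apply, LinearMap.comp_apply, stdLift_basis, stdMat, stdLift_basis, map_sum]
    rw [h1 (e j) (e j).2]
    refine Finset.sum_congr rfl (fun k _ => ?_)
    rw [map_smul, stdLift_basis]
  let θ : linFun a ⟶ (underline A).obj M :=
    kernel.ι _ ≫ (underline A).map (ModuleCat.ofHom (stdLift n p))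
  have hθ : ∀ (B' : Alg A) (x : (linFun a).obj (pt B')), φ.baseChange B' (θ.app (pt B') x) = 0 := by
    intro B' x
    have key : ∀ w : (B' : Type u) ⊗[A] stdFree A n, (stdMat a).baseChange B' w = 0 →
        φ.baseChange B' ((stdLift n p).baseChange B' w) = 0 := by
      intro w hw
      rw [← LinearMap.comp_apply, ← LinearMap.baseChange_comp, hφp, LinearMap.baseChange_comp,
        LinearMap.comp_apply, hw, map_zero]
    exact key _ (kernel_ι_comp ((underline A).map (ModuleCat.ofHom (stdMat a))) B' x)
  obtain ⟨lam, hlam⟩ := h.lift θ hθ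
  refine ⟨n, l, a, p, lam, hlam, ?_⟩
  obtain ⟨y, hy⟩ := linFun_exists_elt a B c hrel
  refine ⟨y, ?_⟩
  apply h.inj B
  rw [← comp_app_apply, hlam, hz]
  change (stdLift n p).baseChange B
      ((kernel.ι ((underline A).map (ModuleCat.ofHom (stdMat a)))).app (pt B) y) = _
  rw [hy, stdLift_baseChange_stdElt]

end Groth.Agent.H89.AQ

namespace Groth.Agent.H89.AQ
variable {A : Type u} [CommRing A]

theorem exists_cover_of_isKer {F : MVF A} {M : ModuleCat.{u+1} A} {i : F ⟶ (underline A).obj M}
    {N : Type (u+1)} [AddCommGroup N] [Module A N] {φ : M →ₗ[A] N} (h : IsKer i φ) :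
    ∃ (ι : Type (u + 1)) (L : ι → Adeq.MVF A), (∀ i, Adeq.linAdequate A (L i)) ∧
      ∃ (c : Cofan L) (_ : IsColimit c) (π : c.pt ⟶ F), Epi π := by
  let I := Σ B : Alg A, F.obj (pt B)
  choose n l a p lam hlam hy using (fun idx : I => local_cover h idx.1 idx.2)
  refine ⟨I, fun idx => linFun (a idx), fun idx => linFun_linAdequate (a idx), ?_⟩
  refine ⟨Cofan.mk (∐ fun idx => linFun (a idx)) (Sigma.ι fun idx => linFun (a idx)),
    coproductIsCoproduct _, Sigma.desc lam, ?_⟩
  apply epi_of_surj
  intro B ξ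
  obtain ⟨y, hy'⟩ := hy ⟨B, ξ⟩
  refine ⟨(Sigma.ι (fun idx => linFun (a idx)) ⟨B, ξ⟩).app (pt B) y, ?_⟩
  rw [← comp_app_apply, Sigma.ι_desc]
  exact hy'

end Groth.Agent.H89.AQ
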