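import Groth.Agent.H89.AdeqRep
import Groth.Agent.S8749
import Groth.Agent.S8750

/-!
# Descent of adequacy along `A → A'` (Stacks 46.3)

If the restriction of `F` to `A'`-algebras is adequate and `F(B) → F(A'⊗B) ⇉ F(A'⊗A'⊗B)` is exact for all `B`,
then `F = ker (T F ⇉ T T F)` with `T = push ∘ restr`, a kernel of a map of adequate functors.
(Does not import `AdeqLift`, whose `rhoHom` clashes with the one in `AdeqChange`.)
-/

set_option autoImplicit false
set_option linter.style.haveILetI false
universe u v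
open CategoryTheory Limits Opposite TensorProduct Adeq

namespace Groth.Agent.H89.AQ
variable (A : Type u) [CommRing A] (A' : Type u) [CommRing A'] [Algebra A A']

/-- `B ↦ A' ⊗ B` as an endofunctor of `A`-algebras -/
noncomputable abbrev bcR : Alg A ⥤ Alg A := Alg.baseChange A A' ⋙ Alg.restr A A'

/-- `Alg.unit` with target written through `bcR` -/
noncomputable abbrev unitR (B : Alg A) : B ⟶ (bcR A A').obj B := Alg.unit A A' B

theorem unit_naturality {B C : Alg A} (g : B ⟶ C) :
    unitR A A' B ≫ (bcR A A').map g = g ≫ unitR A A' C := by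
  apply CommAlgCat.hom_ext
  apply AlgHom.ext
  intro b
  change Algebra.TensorProduct.map (AlgHom.id A' A') g.hom ((1 : A') ⊗ₜ[A] b) = (1 : A') ⊗ₜ[A] g.hom b
  rw [Algebra.TensorProduct.map_tmul]
  rfl

/-- the functor `G ↦ (B ↦ G(A' ⊗ B))` -/
noncomputable abbrev TT : MVF A ⥤ MVF A := Adeq.restr A A' ⋙ Adeq.push A A'

end Groth.Agent.H89.AQ

namespace Groth.Agent.H89.AQ
variable (A : Type u) [CommRing A] (A' : Type u) [CommRing A'] [Algebra A A']

/-- the canonical map `G(B) → G(A' ⊗ B)`, as a morphism `G ⟶ push (restr G)` -/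
noncomputable def etaT (G : MVF A) : G ⟶ (TT A A').obj G where
  app X := ModuleCat.ofHom
    (X := G.obj X) (Y := ((TT A A').obj G).obj X)
    { toFun := fun x => G.map (ptHom (unitR A A' X.unop.unop)) x
      map_add' := fun x y => map_add _ x y
      map_smul' := fun r x => PresheafOfModules.map_smul G (ptHom (unitR A A' X.unop.unop)) r x }
  naturality {X Y} f := by
    ext x
    change tmap G (unitR A A' Y.unop.unop) (tmap G f.unop.unop x) =
      tmap G ((bcR A A').map f.unop.unop) (tmap G (unitR A A' X.unop.unop) x)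
    rw [tmap_comp, tmap_comp, unit_naturality]

end Groth.Agent.H89.AQ

namespace Groth.Agent.H89.AQ
variable (A : Type u) [CommRing A] (A' : Type u) [CommRing A'] [Algebra A A']

/-- identification of the values of `TT G` -/
def ofTT (G : MVF A) (B : Alg A) (y : ((TT A A').obj G).obj (pt B)) :
    G.obj (pt ((bcR A A').obj B)) := y

theorem ofTT_injective (G : MVF A) (B : Alg A) : Function.Injective (ofTT A A' G B) :=
  fun _ _ h => h

theorem ofTT_surjective (G : MVF A) (B : Alg A) : Function.Surjective (ofTT A A' G B) :=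
  fun y => ⟨y, rfl⟩

theorem ofTT_sub (G : MVF A) (B : Alg A) (y y' : ((TT A A').obj G).obj (pt B)) :
    ofTT A A' G B (y - y') = ofTT A A' G B y - ofTT A A' G B y' := rfl

theorem ofTT_zero (G : MVF A) (B : Alg A) : ofTT A A' G B 0 = 0 := rfl

theorem ofTT_etaT (G : MVF A) (B : Alg A) (x : G.obj (pt B)) :
    ofTT A A' G B ((etaT A A' G).app (pt B) x) = tmap G (unitR A A' B) x := rfl

theorem ofTT_map {G G' : MVF A} (τ : G ⟶ G') (B : Alg A) (y : ((TT A A').obj G).obj (pt B)) :
    ofTT A A' G' B (((TT A A').map τ).app (pt B) y) =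
      τ.app (pt ((bcR A A').obj B)) (ofTT A A' G B y) := rfl

theorem ofTT_tmap (G : MVF A) {B C : Alg A} (g : B ⟶ C) (y : ((TT A A').obj G).obj (pt B)) :
    ofTT A A' G C (tmap ((TT A A').obj G) g y) =
      tmap G ((bcR A A').map g) (ofTT A A' G B y) := rfl

end Groth.Agent.H89.AQ

namespace Groth.Agent.H89.AQ
variable (A : Type u) [CommRing A] (A' : Type u) [CommRing A'] [Algebra A A']

theorem adequate_of_descent (F : MVF A) (h₁ : adequate A' ((Adeq.restr A A').obj F))
    (h₂ : ∀ B : Alg A, Function.Injective (F.map (ptHom (Alg.unit A A' B))) ∧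
      ∀ y : F.obj (pt ((Alg.restr A A').obj ((Alg.baseChange A A').obj B))),
        F.map (ptHom (Alg.unit A A' ((Alg.restr A A').obj ((Alg.baseChange A A').obj B)))) y =
          F.map (ptHom ((Alg.restr A A').map ((Alg.baseChange A A').map (Alg.unit A A' B)))) y →
        y ∈ Set.range (F.map (ptHom (Alg.unit A A' B)))) :
    adequate A F := by
  have hG₁ : adequate A ((TT A A').obj F) := Groth.Agent.S8750.result A A' _ h₁
  have hG₂ : adequate A ((TT A A').obj ((TT A A').obj F)) :=
    Groth.Agent.S8750.result A A' _ (Groth.Agent.S8749.result A A' _ hG₁)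
  obtain ⟨α, hα⟩ : ∃ α : (TT A A').obj F ⟶ (TT A A').obj ((TT A A').obj F),
      α = (TT A A').map (etaT A A' F) := ⟨_, rfl⟩
  obtain ⟨β, hβ⟩ : ∃ β : (TT A A').obj F ⟶ (TT A A').obj ((TT A A').obj F),
      β = etaT A A' ((TT A A').obj F) := ⟨_, rfl⟩
  -- elementwise formulas, with values in `F (A' ⊗ A' ⊗ B)`
  have hαapp : ∀ (B : Alg A) (y : ((TT A A').obj F).obj (pt B)),
      ofTT A A' F _ (ofTT A A' _ B (α.app (pt B) y)) =
        tmap F (unitR A A' ((bcR A A').obj B)) (ofTT A A' F B y) := by
    intro B y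
    rw [hα, ofTT_map, ofTT_etaT]
  have hβapp : ∀ (B : Alg A) (y : ((TT A A').obj F).obj (pt B)),
      ofTT A A' F _ (ofTT A A' _ B (β.app (pt B) y)) =
        tmap F ((bcR A A').map (unitR A A' B)) (ofTT A A' F B y) := by
    intro B y
    rw [hβ, ofTT_etaT, ofTT_tmap]
  have hK : adequate A (kernel (α - β)) := adequate_kernel (α - β) hG₁ hG₂
  have hsub : ∀ (B : Alg A) (y : ((TT A A').obj F).obj (pt B)),
      ofTT A A' F _ (ofTT A A' _ B ((α - β).app (pt B) y)) =
        tmap F (unitR A A' ((bcR A A').obj B)) (ofTT A A' F B y) -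
          tmap F ((bcR A A').map (unitR A A' B)) (ofTT A A' F B y) := by
    intro B y
    rw [← hαapp, ← hβapp]
    rfl
  have w : etaT A A' F ≫ (α - β) = 0 := by
    apply hom_ext'
    intro B x
    apply ofTT_injective A A' _ B
    apply ofTT_injective A A' F _
    rw [comp_app_apply, hsub, ofTT_etaT, tmap_comp, tmap_comp, unit_naturality, sub_self]
    rfl
  obtain ⟨l, hl⟩ : ∃ l : F ⟶ kernel (α - β), l ≫ kernel.ι (α - β) = etaT A A' F :=
    ⟨kernel.lift _ (etaT A A' F) w, kernel.lift_ι _ _ _⟩
  haveI : IsIso l := by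
    apply isIso_of_bij
    intro B
    constructor
    · intro x x' hxx'
      apply (h₂ B).1
      have e := congrArg (fun z => ofTT A A' F B ((kernel.ι (α - β)).app (pt B) z)) hxx'
      simp only [] at e
      rw [← comp_app_apply, ← comp_app_apply, hl, ofTT_etaT, ofTT_etaT] at e
      exact e
    · intro z
      obtain ⟨y, hy⟩ : ∃ y, y = (kernel.ι (α - β)).app (pt B) z := ⟨_, rfl⟩
      have hy0 : (α - β).app (pt B) y = 0 := by
        rw [hy]
        exact kernel_ι_comp (α - β) B z
      have e := congrArg (fun t => ofTT A A' F _ (ofTT A A' _ B t)) hy0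
      simp only [] at e
      rw [hsub] at e
      have e' : tmap F (unitR A A' ((bcR A A').obj B)) (ofTT A A' F B y) =
          tmap F ((bcR A A').map (unitR A A' B)) (ofTT A A' F B y) := sub_eq_zero.mp e
      obtain ⟨x, hx⟩ := (h₂ B).2 (ofTT A A' F B y) e'
      refine ⟨x, ?_⟩
      apply kernel_ι_injective (α - β) B
      rw [← comp_app_apply, hl, ← hy]
      apply ofTT_injective A A' F B
      rw [ofTT_etaT]
      exact hx
  exact (adequate A).prop_of_iso (asIso l).symm hK

end Groth.Agent.H89.AQ
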