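import Groth.Agent.H89.AdeqDescent

/-!
# Descent of adequacy along a finite family `A → A'_j` (Stacks 46.3, family form of 46.3.19)

If each restriction of `F` to `A'_j`-algebras is adequate and
`F(B) → ∏_j F(A'_j ⊗ B) ⇉ ∏_{j,k} F(A'_k ⊗ A'_j ⊗ B)` is exact for all `B`,
then `F` is adequate: it is the kernel of a map between finite biproducts of adequate functors.
-/

set_option autoImplicit false
set_option linter.style.haveILetI false
universe u v
open CategoryTheory Limits Opposite TensorProduct Adeq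

namespace Groth.Agent.H89.AQ
variable {A : Type u} [CommRing A]

theorem zero_app_apply {F G : MVF A} (B : Alg A) (x : F.obj (pt B)) :
    (0 : F ⟶ G).app (pt B) x = 0 := rfl

theorem sub_app_apply {F G : MVF A} (σ τ : F ⟶ G) (B : Alg A) (x : F.obj (pt B)) :
    (σ - τ).app (pt B) x = σ.app (pt B) x - τ.app (pt B) x := rfl

theorem id_app_apply {F : MVF A} (B : Alg A) (x : F.obj (pt B)) :
    (𝟙 F : F ⟶ F).app (pt B) x = x := rfl

theorem sum_app_apply {F G : MVF A} {J : Type v} (s : Finset J) (σ : J → (F ⟶ G)) (B : Alg A)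
    (x : F.obj (pt B)) :
    (∑ j ∈ s, σ j).app (pt B) x = ∑ j ∈ s, (σ j).app (pt B) x := by
  classical
  induction s using Finset.induction_on with
  | empty => simp only [Finset.sum_empty]; rfl
  | insert a s ha ih =>
    rw [Finset.sum_insert ha, Finset.sum_insert ha, add_app_apply, ih]

section Biprod
variable {J : Type v} [Fintype J] (f : J → MVF A)

instance : HasFiniteBiproducts (MVF A) := HasFiniteBiproducts.of_hasFiniteProducts

theorem biproduct_total' : ∑ j, biproduct.π f j ≫ biproduct.ι f j = 𝟙 (⨁ f) := by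
  classical
  apply biproduct.hom_ext'
  intro j
  rw [Preadditive.comp_sum, Category.comp_id]
  rw [Finset.sum_eq_single j]
  · rw [biproduct.ι_π_self_assoc]
  · intro k _ hkj
    rw [biproduct.ι_π_ne_assoc _ hkj.symm, zero_comp]
  · intro h
    exact absurd (Finset.mem_univ j) h

theorem biproduct_ext_elt (B : Alg A) (x x' : (⨁ f).obj (pt B))
    (h : ∀ j, (biproduct.π f j).app (pt B) x = (biproduct.π f j).app (pt B) x') : x = x' := by
  classical
  have key : ∀ z : (⨁ f).obj (pt B),
      z = ∑ j, (biproduct.ι f j).app (pt B) ((biproduct.π f j).app (pt B) z) := by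
    intro z
    have h0 : ∑ j, biproduct.π f j ≫ biproduct.ι f j = 𝟙 (⨁ f) := biproduct_total' f
    have h1 : (∑ j, biproduct.π f j ≫ biproduct.ι f j).app (pt B) z = z := by
      rw [h0]
      rfl
    rw [sum_app_apply] at h1
    exact h1.symm
  rw [key x, key x']
  exact Finset.sum_congr rfl (fun j _ => by rw [h j])

theorem biproduct_lift_π_apply {F : MVF A} (τ : ∀ j, F ⟶ f j) (j : J) (B : Alg A)
    (x : F.obj (pt B)) :
    (biproduct.π f j).app (pt B) ((biproduct.lift τ).app (pt B) x) = (τ j).app (pt B) x := by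
  rw [← comp_app_apply, biproduct.lift_π]

theorem biproduct_exists_elt (B : Alg A) (y : ∀ j, (f j).obj (pt B)) :
    ∃ x : (⨁ f).obj (pt B), ∀ j, (biproduct.π f j).app (pt B) x = y j := by
  classical
  refine ⟨∑ j, (biproduct.ι f j).app (pt B) (y j), fun k => ?_⟩
  rw [map_sum]
  rw [Finset.sum_eq_single k]
  · rw [← comp_app_apply, biproduct.ι_π_self]
    rfl
  · intro j _ hjk
    rw [← comp_app_apply, biproduct.ι_π_ne _ hjk]
    rfl
  · intro hk
    exact absurd (Finset.mem_univ k) hk

theorem adequate_biproduct (hf : ∀ j, adequate A (f j)) : adequate A (⨁ f) :=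
  (adequate A).prop_of_isLimit_fan (biproduct.isLimit f) hf

end Biprod

end Groth.Agent.H89.AQ

namespace Groth.Agent.H89.AQ
variable (A : Type u) [CommRing A] {J : Type v} [Fintype J]
  (A' : J → Type u) [∀ j, CommRing (A' j)] [∀ j, Algebra A (A' j)]

theorem adequate_of_descent_family (F : MVF A)
    (h₁ : ∀ j, adequate (A' j) ((Adeq.restr A (A' j)).obj F))
    (hinj : ∀ (B : Alg A) (x x' : F.obj (pt B)),
      (∀ j, tmap F (unitR A (A' j) B) x = tmap F (unitR A (A' j) B) x') → x = x')
    (hglue : ∀ (B : Alg A) (y : ∀ j, F.obj (pt ((bcR A (A' j)).obj B))),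
      (∀ j k, tmap F (unitR A (A' k) ((bcR A (A' j)).obj B)) (y j) =
        tmap F ((bcR A (A' k)).map (unitR A (A' j) B)) (y k)) →
      ∃ x : F.obj (pt B), ∀ j, tmap F (unitR A (A' j) B) x = y j) :
    adequate A F := by
  classical
  have hT : ∀ j, adequate A ((TT A (A' j)).obj F) := fun j =>
    Groth.Agent.S8750.result A (A' j) _ (h₁ j)
  have hTT : ∀ p : J × J, adequate A ((TT A (A' p.1)).obj ((TT A (A' p.2)).obj F)) := fun p =>
    Groth.Agent.S8750.result A (A' p.1) _ (Groth.Agent.S8749.result A (A' p.1) _ (hT p.2))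
  obtain ⟨f₀, hf₀⟩ : ∃ f₀ : J → MVF A, f₀ = fun j => (TT A (A' j)).obj F := ⟨_, rfl⟩
  obtain ⟨f₁, hf₁⟩ : ∃ f₁ : J × J → MVF A,
      f₁ = fun p => (TT A (A' p.1)).obj ((TT A (A' p.2)).obj F) := ⟨_, rfl⟩
  subst hf₀ hf₁
  have hG₀ := adequate_biproduct (fun j => (TT A (A' j)).obj F) hT
  have hG₁ := adequate_biproduct (fun p : J × J => (TT A (A' p.1)).obj ((TT A (A' p.2)).obj F)) hTT
  obtain ⟨e, he⟩ : ∃ e : F ⟶ ⨁ (fun j => (TT A (A' j)).obj F),
      e = biproduct.lift (fun j => etaT A (A' j) F) := ⟨_, rfl⟩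
  obtain ⟨α, hα⟩ : ∃ α : (⨁ (fun j => (TT A (A' j)).obj F)) ⟶
        ⨁ (fun p : J × J => (TT A (A' p.1)).obj ((TT A (A' p.2)).obj F)),
      α = biproduct.lift (fun p : J × J =>
        biproduct.π (fun j => (TT A (A' j)).obj F) p.1 ≫
          (TT A (A' p.1)).map (etaT A (A' p.2) F)) := ⟨_, rfl⟩
  obtain ⟨β, hβ⟩ : ∃ β : (⨁ (fun j => (TT A (A' j)).obj F)) ⟶
        ⨁ (fun p : J × J => (TT A (A' p.1)).obj ((TT A (A' p.2)).obj F)),
      β = biproduct.lift (fun p : J × J =>
        biproduct.π (fun j => (TT A (A' j)).obj F) p.2 ≫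
          etaT A (A' p.1) ((TT A (A' p.2)).obj F)) := ⟨_, rfl⟩
  -- elementwise formulas
  have heapp : ∀ (B : Alg A) (x : F.obj (pt B)) (j : J),
      ofTT A (A' j) F B ((biproduct.π (fun j => (TT A (A' j)).obj F) j).app (pt B)
        (e.app (pt B) x)) = tmap F (unitR A (A' j) B) x := by
    intro B x j
    rw [he, biproduct_lift_π_apply, ofTT_etaT]
  have hαapp : ∀ (B : Alg A) (y : (⨁ (fun j => (TT A (A' j)).obj F)).obj (pt B)) (p : J × J),
      ofTT A (A' p.2) F _ (ofTT A (A' p.1) _ B
        ((biproduct.π (fun p : J × J => (TT A (A' p.1)).obj ((TT A (A' p.2)).obj F)) p).app (pt B)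
          (α.app (pt B) y))) =
        tmap F (unitR A (A' p.2) ((bcR A (A' p.1)).obj B))
          (ofTT A (A' p.1) F B
            ((biproduct.π (fun j => (TT A (A' j)).obj F) p.1).app (pt B) y)) := by
    intro B y p
    rw [hα, biproduct_lift_π_apply, comp_app_apply, ofTT_map, ofTT_etaT]
  have hβapp : ∀ (B : Alg A) (y : (⨁ (fun j => (TT A (A' j)).obj F)).obj (pt B)) (p : J × J),
      ofTT A (A' p.2) F _ (ofTT A (A' p.1) _ B
        ((biproduct.π (fun p : J × J => (TT A (A' p.1)).obj ((TT A (A' p.2)).obj F)) p).app (pt B)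
          (β.app (pt B) y))) =
        tmap F ((bcR A (A' p.2)).map (unitR A (A' p.1) B))
          (ofTT A (A' p.2) F B
            ((biproduct.π (fun j => (TT A (A' j)).obj F) p.2).app (pt B) y)) := by
    intro B y p
    rw [hβ, biproduct_lift_π_apply, comp_app_apply, ofTT_etaT, ofTT_tmap]
  have hK : adequate A (kernel (α - β)) := adequate_kernel (α - β) hG₀ hG₁
  have w : e ≫ (α - β) = 0 := by
    apply hom_ext'
    intro B x
    rw [comp_app_apply, sub_app_apply, zero_app_apply, sub_eq_zero]
    apply biproduct_ext_elt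
    intro p
    apply ofTT_injective A (A' p.1) _ B
    apply ofTT_injective A (A' p.2) F _
    rw [hαapp, hβapp, heapp, heapp, tmap_comp, tmap_comp, unit_naturality]
  obtain ⟨l, hl⟩ : ∃ l : F ⟶ kernel (α - β), l ≫ kernel.ι (α - β) = e :=
    ⟨kernel.lift _ e w, kernel.lift_ι _ _ _⟩
  haveI : IsIso l := by
    apply isIso_of_bij
    intro B
    constructor
    · intro x x' hxx'
      apply hinj B
      intro j
      have e1 := congrArg (fun z => (kernel.ι (α - β)).app (pt B) z) hxx'
      simp only [] at e1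
      rw [← comp_app_apply, ← comp_app_apply, hl] at e1
      rw [← heapp, ← heapp, e1]
    · intro z
      obtain ⟨y, hy⟩ : ∃ y, y = (kernel.ι (α - β)).app (pt B) z := ⟨_, rfl⟩
      have hy0 : (α - β).app (pt B) y = 0 := by
        rw [hy]
        exact kernel_ι_comp (α - β) B z
      have hy1 : α.app (pt B) y = β.app (pt B) y := by
        rw [sub_app_apply] at hy0
        exact sub_eq_zero.mp hy0
      obtain ⟨x, hx⟩ := hglue B
        (fun j => ofTT A (A' j) F B ((biproduct.π (fun j => (TT A (A' j)).obj F) j).app (pt B) y))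
        (fun j k => by
          have h1 := hαapp B y (j, k)
          have h2 := hβapp B y (j, k)
          rw [hy1] at h1
          exact h1.symm.trans h2)
      refine ⟨x, ?_⟩
      apply kernel_ι_injective (α - β) B
      rw [← comp_app_apply, hl, ← hy]
      apply biproduct_ext_elt
      intro j
      apply ofTT_injective A (A' j) F B
      rw [heapp]
      exact hx j
  exact (adequate A).prop_of_iso (asIso l).symm hK

end Groth.Agent.H89.AQ
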