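import Groth.Agent.H89.AdeqLift

/-!
# Extensions by linearly adequate functors split; extensions of adequate functors (Stacks 46.3)
-/

set_option autoImplicit false
set_option linter.style.haveILetI false
universe u v
open CategoryTheory Limits Opposite TensorProduct Adeq

namespace Groth.Agent.H89.AQ
variable {A : Type u} [CommRing A]

theorem exists_fin_basis (P : Type (u+1)) [AddCommGroup P] [Module A P] [Module.Finite A P]
    [Module.Free A P] : ∃ (ι : Type u) (_ : Fintype ι), Nonempty (Module.Basis ι A P) := by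
  rcases subsingleton_or_nontrivial A with hA | hA
  · haveI : Subsingleton P := Module.subsingleton A P
    exact ⟨PEmpty, inferInstance, ⟨Module.Basis.empty P⟩⟩
  · exact ⟨ULift.{u} (Fin (Module.finrank A P)), inferInstance,
      ⟨(Module.finBasis A P).reindex (Equiv.ulift.{u, 0}.symm)⟩⟩

theorem isKer_of_iso_underline {F : MVF A} {M : ModuleCat.{u+1} A}
    (e : F ≅ (underline A).obj M) : IsKer e.hom (0 : M →ₗ[A] PUnit.{u+2}) where
  inj B := (bij_of_isIso e.hom B).1
  comp B x := by
    rw [LinearMap.baseChange_zero]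
    rfl
  exact B z _ := (bij_of_isIso e.hom B).2 z

theorem shortExact_elementwise (S : ShortComplex (MVF A)) (hS : S.ShortExact) :
    (∀ B : Alg A, Function.Injective (S.f.app (pt B))) ∧
    (∀ B : Alg A, Function.Surjective (S.g.app (pt B))) ∧
    (∀ (B : Alg A) (x : S.X₁.obj (pt B)), S.g.app (pt B) (S.f.app (pt B) x) = 0) ∧
    (∀ (B : Alg A) (g : S.X₂.obj (pt B)), S.g.app (pt B) g = 0 →
      ∃ x, S.f.app (pt B) x = g) := by
  haveI := hS.mono_f
  haveI := hS.epi_g
  refine ⟨fun B => inj_of_mono S.f B, fun B => surj_of_epi S.g B, ?_, ?_⟩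
  · intro B x
    have h2 := congrArg (fun φ => (φ.app (pt B)) x) S.zero
    exact h2
  · intro B g hg
    have hS' := hS.exact.map (PresheafOfModules.evaluation.{u+1} (ringOf A) (pt B))
    rw [ShortComplex.moduleCat_exact_iff] at hS'
    exact hS' g hg

section
variable {F G H : MVF A} {M : ModuleCat.{u+1} A} {iF : F ⟶ (underline A).obj M}
  {N : Type (u+1)} [AddCommGroup N] [Module A N] {φF : M →ₗ[A] N}

theorem exists_lift_of_linAdequate {L : MVF A} (hL : linAdequate A L)
    (hF : IsKer iF φF) (f : F ⟶ G) (π : G ⟶ H) (lam : L ⟶ H)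
    (hf : ∀ B : Alg A, Function.Injective (f.app (pt B)))
    (hπ : ∀ B : Alg A, Function.Surjective (π.app (pt B)))
    (hfπ : ∀ (B : Alg A) (x : F.obj (pt B)), π.app (pt B) (f.app (pt B) x) = 0)
    (hex : ∀ (B : Alg A) (g : G.obj (pt B)), π.app (pt B) g = 0 → ∃ x, f.app (pt B) x = g) :
    ∃ s : L ⟶ G, s ≫ π = lam := by
  obtain ⟨P, P', φ, hP1, hP2, hP'1, hP'2, ⟨eL⟩⟩ := hL
  have hjL : IsKer (eL.hom ≫ kernel.ι ((underline A).map φ)) φ.hom := (isKer_kernel_ι φ).of_iso eL
  obtain ⟨ι, _, ⟨b⟩⟩ := exists_fin_basis (A := A) P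
  obtain ⟨κ, _, ⟨b'⟩⟩ := exists_fin_basis (A := A) P'
  exact exists_lift_of_isKer b b' φ.hom hjL hF f π lam hf hπ hfπ hex

end

end Groth.Agent.H89.AQ

namespace Groth.Agent.H89.AQ
variable {A : Type u} [CommRing A]

theorem adequate_underline (M : ModuleCat.{u+1} A) : adequate A ((underline A).obj M) :=
  adequate_of_isKer (isKer_of_iso_underline (Iso.refl _))

theorem adequate_biprod {X Y : MVF A} (hX : adequate A X) (hY : adequate A Y) :
    adequate A (X ⊞ Y) :=
  (adequate A).prop_of_iso (biprod.isoProd X Y).symm ((adequate A).prop_prod X Y hX hY)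

theorem adequate_of_linAdequate {L : MVF A} (hL : linAdequate A L) : adequate A L := by
  obtain ⟨P, P', φ, -, -, -, -, h⟩ := hL
  exact ⟨P, P', φ, h⟩

/-- Stacks 46.3: an extension of a linearly adequate functor by `underline M` splits. -/
theorem split_of_linAdequate (S : ShortComplex (MVF A)) (hS : S.ShortExact)
    (M : ModuleCat.{u+1} A) (e : S.X₁ ≅ (underline A).obj M) (hL : linAdequate A S.X₃) :
    Nonempty S.Splitting ∧ adequate A S.X₂ := by
  obtain ⟨h1, h2, h3, h4⟩ := shortExact_elementwise S hS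
  obtain ⟨s, hs⟩ := exists_lift_of_linAdequate hL (isKer_of_iso_underline e) S.f S.g (𝟙 S.X₃)
    h1 h2 h3 h4
  have spl : S.Splitting := ShortComplex.Splitting.ofExactOfSection S hS.exact s hs hS.mono_f
  refine ⟨⟨spl⟩, ?_⟩
  have hX₁ : adequate A S.X₁ := (adequate A).prop_of_iso e.symm (adequate_underline M)
  exact (adequate A).prop_of_iso spl.isoBinaryBiproduct.symm
    (adequate_biprod hX₁ (adequate_of_linAdequate hL))

end Groth.Agent.H89.AQ
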