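import Mathlib

/-!
# The universal algebra `A[x_i]/(Σ_i a_ki x_i)` and its degree-one projection
(used for Stacks 46.3, extension of morphisms from linearly adequate functors)
-/

set_option autoImplicit false
set_option linter.style.haveILetI false
universe u
open TensorProduct

namespace Groth.Agent.H89.AQ

section Uni
variable {A : Type u} [CommRing A] {ι κ : Type u} [Fintype ι]
variable (a : κ → ι → A)

/-- the linear forms `ℓ_k = Σ_i a k i x_i` -/
noncomputable def linForm (k : κ) : MvPolynomial ι A :=
  ∑ i, MvPolynomial.C (a k i) * MvPolynomial.X i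

/-- the ideal of relations -/
noncomputable def relIdeal : Ideal (MvPolynomial ι A) := Ideal.span (Set.range (linForm a))

/-- the universal algebra `A[x_i]/(Σ_i a_ki x_i)` -/
abbrev Uni : Type u := MvPolynomial ι A ⧸ relIdeal a

/-- the class of `x_i` -/
noncomputable def xbar (i : ι) : Uni a := Ideal.Quotient.mk (relIdeal a) (MvPolynomial.X i)

theorem sum_a_xbar (k : κ) : ∑ i, a k i • xbar a i = 0 := by
  have h : Ideal.Quotient.mk (relIdeal a) (linForm a k) = 0 :=
    Ideal.Quotient.eq_zero_iff_mem.mpr (Ideal.subset_span ⟨k, rfl⟩)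
  rw [linForm, map_sum] at h
  rw [← h]
  refine Finset.sum_congr rfl (fun i _ => ?_)
  rw [← MvPolynomial.smul_eq_C_mul]
  rfl

variable {B : Type u} [CommRing B] [Algebra A B]

/-- the universal property of `Uni a` -/
noncomputable def uniLift (y : ι → B) (hy : ∀ k, ∑ i, a k i • y i = 0) : Uni a →ₐ[A] B :=
  Ideal.Quotient.liftₐ (relIdeal a) (MvPolynomial.aeval y) (by
    intro p hp
    have : relIdeal a ≤ RingHom.ker (MvPolynomial.aeval y : MvPolynomial ι A →ₐ[A] B).toRingHom := by
      rw [relIdeal, Ideal.span_le]
      rintro _ ⟨k, rfl⟩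
      change MvPolynomial.aeval y (linForm a k) = 0
      rw [linForm, map_sum, ← hy k]
      refine Finset.sum_congr rfl (fun i _ => ?_)
      rw [map_mul, MvPolynomial.aeval_C, MvPolynomial.aeval_X, Algebra.smul_def]
    exact this hp)

theorem uniLift_xbar (y : ι → B) (hy : ∀ k, ∑ i, a k i • y i = 0) (i : ι) :
    uniLift a y hy (xbar a i) = y i := by
  change MvPolynomial.aeval y (MvPolynomial.X i) = y i
  rw [MvPolynomial.aeval_X]


theorem uniLift_mk (y : ι → B) (hy : ∀ k, ∑ i, a k i • y i = 0) (p : MvPolynomial ι A) :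
    uniLift a y hy (Ideal.Quotient.mk (relIdeal a) p) = MvPolynomial.aeval y p := rfl

/-- scaling map `x_i ↦ t x_i` -/
noncomputable def sigma : Uni a →ₐ[A] Polynomial (Uni a) :=
  uniLift a (fun i => Polynomial.X * Polynomial.C (xbar a i)) (by
    intro k
    have h := sum_a_xbar a k
    have h2 : ∑ i, a k i • (Polynomial.X * Polynomial.C (xbar a i) : Polynomial (Uni a)) =
        Polynomial.X * Polynomial.C (∑ i, a k i • xbar a i) := by
      rw [map_sum, Finset.mul_sum]
      refine Finset.sum_congr rfl (fun i _ => ?_)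
      rw [← Polynomial.smul_C, mul_smul_comm]
    rw [h2, h, map_zero, mul_zero])

theorem sigma_xbar (i : ι) : sigma a (xbar a i) = Polynomial.X * Polynomial.C (xbar a i) :=
  uniLift_xbar a _ _ i

/-- degree-one projection -/
noncomputable def deg1 : Uni a →ₗ[A] Uni a :=
  ((Polynomial.lcoeff (Uni a) 1).restrictScalars A) ∘ₗ (sigma a).toLinearMap

theorem deg1_apply (u : Uni a) : deg1 a u = (sigma a u).coeff 1 := rfl

theorem deg1_mk [DecidableEq ι] (p : MvPolynomial ι A) :
    deg1 a (Ideal.Quotient.mk (relIdeal a) p) =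
      ∑ i, p.coeff (Finsupp.single i 1) • xbar a i := by
  induction p using MvPolynomial.induction_on' with
  | monomial s r =>
    rw [deg1_apply]
    change (MvPolynomial.aeval (fun i => (Polynomial.X * Polynomial.C (xbar a i) :
      Polynomial (Uni a))) (MvPolynomial.monomial s r)).coeff 1 = _
    rw [MvPolynomial.aeval_monomial]
    have hprod : (s.prod fun i k => (Polynomial.X * Polynomial.C (xbar a i) : Polynomial (Uni a)) ^ k) =
        Polynomial.X ^ (s.sum fun _ k => k) * Polynomial.C (s.prod fun i k => xbar a i ^ k) := by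
      simp only [Finsupp.prod, Finsupp.sum]
      rw [Finset.prod_congr rfl (fun x _ => mul_pow (Polynomial.X : Polynomial (Uni a))
        (Polynomial.C (xbar a x)) (s x)), Finset.prod_mul_distrib, Finset.prod_pow_eq_pow_sum,
        map_prod]
      simp only [map_pow]
    rw [hprod, Polynomial.algebraMap_apply, ← mul_assoc,
      mul_comm (Polynomial.C ((algebraMap A (Uni a)) r)), mul_assoc,
      ← map_mul, Polynomial.coeff_X_pow_mul']
    by_cases hs : (s.sum fun _ k => k) = 1
    · obtain ⟨j, rfl⟩ := (Finsupp.sum_eq_one_iff s).mp hs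
      rw [if_pos (le_of_eq hs), hs, Nat.sub_self, Polynomial.coeff_C_zero]
      rw [Finsupp.prod_single_index (by simp), pow_one]
      rw [Finset.sum_eq_single j]
      · rw [MvPolynomial.coeff_monomial, if_pos rfl]
        exact (Algebra.smul_def r (xbar a j)).symm
      · intro i _ hij
        rw [MvPolynomial.coeff_monomial, if_neg, zero_smul]
        intro h
        exact hij ((Finsupp.single_left_injective one_ne_zero) h).symm
      · intro h; exact absurd (Finset.mem_univ j) h
    · have h0 : ∀ i, (MvPolynomial.monomial s r).coeff (Finsupp.single i 1) = 0 := by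
        intro i
        rw [MvPolynomial.coeff_monomial, if_neg]
        rintro rfl
        apply hs
        rw [Finsupp.sum_single_index rfl]
      simp only [h0, zero_smul, Finset.sum_const_zero]
      split_ifs with hle
      · rw [Polynomial.coeff_C, if_neg]
        omega
      · rfl
  | add p q hp hq =>
    rw [map_add, map_add, hp, hq, ← Finset.sum_add_distrib]
    refine Finset.sum_congr rfl (fun i _ => ?_)
    rw [MvPolynomial.coeff_add, add_smul]


variable (M : Type (u+1)) [AddCommGroup M] [Module A M]

/-- `m ↦ Σ_i x̄_i ⊗ m_i` -/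
noncomputable def PhiU : (ι → M) →ₗ[A] Uni a ⊗[A] M :=
  ∑ i, (TensorProduct.mk A (Uni a) M (xbar a i)) ∘ₗ (LinearMap.proj i)

theorem PhiU_apply (m : ι → M) : PhiU a M m = ∑ i, xbar a i ⊗ₜ[A] m i := by
  simp [PhiU]

theorem deg1_rTensor_mem_range [DecidableEq ι] (z : Uni a ⊗[A] M) :
    (deg1 a).rTensor M z ∈ LinearMap.range (PhiU a M) := by
  induction z using TensorProduct.induction_on with
  | zero => rw [map_zero]; exact zero_mem _
  | tmul w m =>
    obtain ⟨p, rfl⟩ := Ideal.Quotient.mk_surjective w
    rw [LinearMap.rTensor_tmul, deg1_mk]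
    refine ⟨fun i => p.coeff (Finsupp.single i 1) • m, ?_⟩
    rw [PhiU_apply, TensorProduct.sum_tmul]
    refine Finset.sum_congr rfl (fun i _ => ?_)
    rw [TensorProduct.smul_tmul]
  | add x y hx hy => rw [map_add]; exact add_mem hx hy

theorem lcoeff_one_X_smul (z : Uni a ⊗[A] M) :
    (((Polynomial.lcoeff (Uni a) 1).restrictScalars A).rTensor M)
      ((Polynomial.X : Polynomial (Uni a)) •
        ((Polynomial.CAlgHom (R := A) (A := Uni a)).toLinearMap.rTensor M z)) = z := by
  induction z using TensorProduct.induction_on with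
  | zero => simp
  | tmul w m =>
    rw [LinearMap.rTensor_tmul, TensorProduct.smul_tmul', LinearMap.rTensor_tmul]
    simp
  | add x y hx hy => rw [map_add, smul_add, map_add, hx, hy]

theorem deg1_rTensor_eq_self (z : Uni a ⊗[A] M)
    (hz : (sigma a).toLinearMap.rTensor M z = (Polynomial.X : Polynomial (Uni a)) •
        ((Polynomial.CAlgHom (R := A) (A := Uni a)).toLinearMap.rTensor M z)) :
    (deg1 a).rTensor M z = z := by
  have h := congrArg (((Polynomial.lcoeff (Uni a) 1).restrictScalars A).rTensor M) hz
  rw [lcoeff_one_X_smul, ← LinearMap.rTensor_comp_apply] at h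
  exact h

end Uni

end Groth.Agent.H89.AQ
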