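import Groth.Agent.H89.AdeqBasic
import Groth.Agent.H89.AdeqUniv

/-!
# Extension of morphisms from linearly adequate functors to `underline` (Stacks 46.3)
-/

set_option autoImplicit false
set_option linter.style.haveILetI false
universe u
open CategoryTheory Limits Opposite TensorProduct Adeq

namespace Groth.Agent.H89.AQ
variable {A : Type u} [CommRing A]

section Coord
variable {ι κ : Type u} [Fintype ι] [Fintype κ]
variable {P : Type (u+1)} [AddCommGroup P] [Module A P] (b : Module.Basis ι A P)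
variable {P' : Type (u+1)} [AddCommGroup P'] [Module A P'] (b' : Module.Basis κ A P')
variable (B : Type u) [CommRing B] [Algebra A B]

/-- coordinates of an element of `B ⊗ P` -/
noncomputable def coordB (y : B ⊗[A] P) (i : ι) : B := (Algebra.TensorProduct.basis B b).repr y i

theorem sum_coordB (y : B ⊗[A] P) : ∑ i, coordB b B y i ⊗ₜ[A] b i = y := by
  have h := (Algebra.TensorProduct.basis B b).sum_repr y
  refine Eq.trans ?_ h
  refine Finset.sum_congr rfl (fun i _ => ?_)
  rw [Algebra.TensorProduct.basis_apply, TensorProduct.smul_tmul', smul_eq_mul, mul_one]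
  rfl

theorem coordB_sum_tmul [DecidableEq ι] (c : ι → B) (i : ι) :
    coordB b B (∑ j, c j ⊗ₜ[A] b j) i = c i := by
  rw [coordB, map_sum, Finset.sum_apply']
  rw [Finset.sum_eq_single i]
  · rw [Algebra.TensorProduct.basis_repr_tmul]
    simp
  · intro j _ hji
    rw [Algebra.TensorProduct.basis_repr_tmul]
    simp [hji]
  · intro h; exact absurd (Finset.mem_univ i) h

/-- matrix of a linear map in bases -/
noncomputable def matOf (φ₀ : P →ₗ[A] P') (k : κ) (i : ι) : A := b'.repr (φ₀ (b i)) k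

omit [Fintype ι] in
theorem phi_b (φ₀ : P →ₗ[A] P') (i : ι) : φ₀ (b i) = ∑ k, matOf b b' φ₀ k i • b' k :=
  (b'.sum_repr (φ₀ (b i))).symm

theorem baseChange_sum_tmul (φ₀ : P →ₗ[A] P') (c : ι → B) :
    φ₀.baseChange B (∑ i, c i ⊗ₜ[A] b i) = ∑ k, (∑ i, matOf b b' φ₀ k i • c i) ⊗ₜ[A] b' k := by
  rw [map_sum]
  simp_rw [LinearMap.baseChange_tmul, phi_b b b' φ₀, TensorProduct.tmul_sum, TensorProduct.sum_tmul]
  rw [Finset.sum_comm]
  refine Finset.sum_congr rfl (fun k _ => Finset.sum_congr rfl (fun i _ => ?_))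
  rw [TensorProduct.tmul_smul, TensorProduct.smul_tmul']

theorem rel_of_baseChange_eq_zero [DecidableEq κ] (φ₀ : P →ₗ[A] P') (c : ι → B)
    (h : φ₀.baseChange B (∑ i, c i ⊗ₜ[A] b i) = 0) (k : κ) :
    ∑ i, matOf b b' φ₀ k i • c i = 0 := by
  rw [baseChange_sum_tmul b b'] at h
  have h2 : coordB b' B (∑ k, (∑ i, matOf b b' φ₀ k i • c i) ⊗ₜ[A] b' k) k = coordB b' B 0 k := by
    rw [h]
  rw [coordB_sum_tmul] at h2
  rw [h2, coordB, map_zero]
  rfl

end Coord

end Groth.Agent.H89.AQ

namespace Groth.Agent.H89.AQ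
variable {A : Type u} [CommRing A]

theorem app_smul {F G : MVF A} (τ : F ⟶ G) (B : Alg A) (r : B) (x : F.obj (pt B)) :
    τ.app (pt B) (r • x) = r • τ.app (pt B) x :=
  (τ.app (pt B)).hom.map_smul r x

theorem extend_of_isKer {ι κ : Type u} [Fintype ι] [Fintype κ]
    {P : ModuleCat.{u+1} A} (b : Module.Basis ι A P)
    {P' : Type (u+1)} [AddCommGroup P'] [Module A P'] (b' : Module.Basis κ A P')
    (φ₀ : P →ₗ[A] P') {F : MVF A} {i : F ⟶ (underline A).obj P} (h : IsKer i φ₀)
    {M : ModuleCat.{u+1} A} (ψ : F ⟶ (underline A).obj M) :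
    ∃ g : P ⟶ M, i ≫ (underline A).map g = ψ := by
  classical
  let a := matOf b b' φ₀
  let U : Alg A := algOf A (Uni a)
  let ξ₀ : (Uni a) ⊗[A] P := ∑ j, xbar a j ⊗ₜ[A] b j
  have hξ₀ : φ₀.baseChange (Uni a) ξ₀ = 0 := by
    rw [baseChange_sum_tmul b b']
    refine Finset.sum_eq_zero (fun k _ => ?_)
    rw [sum_a_xbar, TensorProduct.zero_tmul]
  obtain ⟨ξ, hξ⟩ := h.exact U ξ₀ hξ₀
  let z : (Uni a) ⊗[A] M := ψ.app (pt U) ξ
  have key : ∀ (B : Alg A) (y : F.obj (pt B)), ∃ f : U ⟶ B, F.map (ptHom f) ξ = y ∧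
      ∀ j, f.hom (xbar a j) = coordB b B (i.app (pt B) y) j := by
    intro B y
    let c := coordB b B (i.app (pt B) y)
    have hc : ∑ j, c j ⊗ₜ[A] b j = i.app (pt B) y := sum_coordB b B _
    have hrel : ∀ k, ∑ j, a k j • c j = 0 := by
      intro k
      apply rel_of_baseChange_eq_zero b b' B φ₀ c
      rw [hc]; exact h.comp B y
    let f : U ⟶ B := CommAlgCat.ofHom (uniLift a c hrel)
    refine ⟨f, ?_, fun j => uniLift_xbar a c hrel j⟩
    apply h.inj B
    rw [PresheafOfModules.naturality_apply, hξ, underline_obj_map_apply, map_sum, ← hc]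
    refine Finset.sum_congr rfl (fun j _ => ?_)
    rw [LinearMap.rTensor_tmul]
    congr 1
    exact uniLift_xbar a c hrel j
  -- scaling
  let V : Alg A := algOf A (Polynomial (Uni a))
  let cH : U ⟶ V := CommAlgCat.ofHom (Polynomial.CAlgHom (R := A) (A := Uni a))
  let σH : U ⟶ V := CommAlgCat.ofHom (sigma a)
  let ξc : F.obj (pt V) := F.map (ptHom cH) ξ
  let ξσ : F.obj (pt V) := F.map (ptHom σH) ξ
  have hic : i.app (pt V) ξc = ∑ j, (Polynomial.C (xbar a j) : Polynomial (Uni a)) ⊗ₜ[A] b j := by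
    change i.app (pt V) (F.map (ptHom cH) ξ) = _
    rw [PresheafOfModules.naturality_apply, hξ, underline_obj_map_apply, map_sum]
    refine Finset.sum_congr rfl (fun j _ => ?_)
    rw [LinearMap.rTensor_tmul]
    rfl
  have hiσ : i.app (pt V) ξσ =
      ∑ j, (Polynomial.X * Polynomial.C (xbar a j) : Polynomial (Uni a)) ⊗ₜ[A] b j := by
    change i.app (pt V) (F.map (ptHom σH) ξ) = _
    rw [PresheafOfModules.naturality_apply, hξ, underline_obj_map_apply, map_sum]
    refine Finset.sum_congr rfl (fun j _ => ?_)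
    rw [LinearMap.rTensor_tmul]
    congr 1
    exact sigma_xbar a j
  have hscale : ξσ = (Polynomial.X : Polynomial (Uni a)) • ξc := by
    apply h.inj V
    rw [app_smul, hic, hiσ]
    change (∑ j, (Polynomial.X * Polynomial.C (xbar a j) : Polynomial (Uni a)) ⊗ₜ[A] b j :
      Polynomial (Uni a) ⊗[A] P) = (Polynomial.X : Polynomial (Uni a)) •
        (∑ j, (Polynomial.C (xbar a j) : Polynomial (Uni a)) ⊗ₜ[A] b j : Polynomial (Uni a) ⊗[A] P)
    rw [Finset.smul_sum]
    refine Finset.sum_congr rfl (fun j _ => ?_)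
    rw [TensorProduct.smul_tmul', smul_eq_mul]
  have hz : (sigma a).toLinearMap.rTensor M z = (Polynomial.X : Polynomial (Uni a)) •
        ((Polynomial.CAlgHom (R := A) (A := Uni a)).toLinearMap.rTensor M z) := by
    have h1 : (sigma a).toLinearMap.rTensor M z = ψ.app (pt V) ξσ := by
      change _ = ψ.app (pt V) (F.map (ptHom σH) ξ)
      rw [PresheafOfModules.naturality_apply]; rfl
    have h2 : (Polynomial.CAlgHom (R := A) (A := Uni a)).toLinearMap.rTensor M z =
        ψ.app (pt V) ξc := by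
      change _ = ψ.app (pt V) (F.map (ptHom cH) ξ)
      rw [PresheafOfModules.naturality_apply]; rfl
    rw [h1, h2, hscale, app_smul]
    rfl
  have hz1 := deg1_rTensor_eq_self a M z hz
  obtain ⟨m', hm'⟩ := deg1_rTensor_mem_range a M z
  rw [hz1, PhiU_apply] at hm'
  refine ⟨ModuleCat.ofHom (b.constr A m'), ?_⟩
  apply hom_ext'
  intro B y
  obtain ⟨f, hf, hfx⟩ := key B y
  rw [comp_app_apply]
  have hc : ∑ j, coordB b B (i.app (pt B) y) j ⊗ₜ[A] b j = i.app (pt B) y := sum_coordB b B _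
  change ((b.constr A m').baseChange (B : Type u)) (i.app (pt B) y) = ψ.app (pt B) y
  rw [← hc, map_sum]
  have h3 : ψ.app (pt B) y = f.hom.toLinearMap.rTensor M z := by
    rw [← hf, PresheafOfModules.naturality_apply]; rfl
  rw [h3, ← hm', map_sum]
  refine Finset.sum_congr rfl (fun j _ => ?_)
  rw [LinearMap.baseChange_tmul, LinearMap.rTensor_tmul]
  simp only [Module.Basis.constr_basis, AlgHom.toLinearMap_apply, hfx]


/-- Stacks 46.3: any morphism from a kernel of finite free underlines into `underline M` extends. -/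
theorem extend_of_isKer_free {P : ModuleCat.{u+1} A} [Module.Finite A P] [Module.Free A P]
    {P' : Type (u+1)} [AddCommGroup P'] [Module A P'] [Module.Finite A P'] [Module.Free A P']
    (φ₀ : P →ₗ[A] P') {F : MVF A} {i : F ⟶ (underline A).obj P} (h : IsKer i φ₀)
    {M : ModuleCat.{u+1} A} (ψ : F ⟶ (underline A).obj M) :
    ∃ g : P ⟶ M, i ≫ (underline A).map g = ψ := by
  rcases subsingleton_or_nontrivial A with hA | hA
  · refine ⟨0, ?_⟩
    apply hom_ext'
    intro B x
    haveI : Subsingleton ((B : Type u) ⊗[A] M) := Module.subsingleton A _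
    exact Subsingleton.elim (α := (B : Type u) ⊗[A] M) _ _
  · let b := (Module.finBasis A P).reindex (Equiv.ulift.{u, 0}.symm)
    let b' := (Module.finBasis A P').reindex (Equiv.ulift.{u, 0}.symm)
    exact extend_of_isKer b b' φ₀ h ψ

end Groth.Agent.H89.AQ
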