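import Groth.Agent.H89.AdeqFF

/-!
# Faithfully flat descent for modules, degree one

For a faithfully flat `A`-algebra `B` and an `A`-module `M`, the sequence
`B ⊗ M → (B ⊗ B) ⊗ M → ((B ⊗ B) ⊗ B) ⊗ M` of the Amitsur complex is exact. (The last term is used in the
form `(B ⊗ B) ⊗ (B ⊗ M)` internally.)
-/

set_option autoImplicit false
universe u v
open TensorProduct

namespace Groth.Agent.H89.AQ

section FF1
variable (A : Type u) [CommRing A] (B : Type u) [CommRing B] [Algebra A B]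
  (M : Type v) [AddCommGroup M] [Module A M]

/-- `x ⊗ y ↦ (1 ⊗ x) ⊗ y` -/
noncomputable def cof0 : B ⊗[A] B →ₐ[A] (B ⊗[A] B) ⊗[A] B :=
  Algebra.TensorProduct.map (Algebra.TensorProduct.includeRight : B →ₐ[A] B ⊗[A] B) (AlgHom.id A B)

/-- `x ⊗ y ↦ (x ⊗ 1) ⊗ y` -/
noncomputable def cof1 : B ⊗[A] B →ₐ[A] (B ⊗[A] B) ⊗[A] B :=
  Algebra.TensorProduct.map (Algebra.TensorProduct.includeLeft : B →ₐ[A] B ⊗[A] B) (AlgHom.id A B)

/-- `x ⊗ y ↦ (x ⊗ y) ⊗ 1` -/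
noncomputable def cof2 : B ⊗[A] B →ₐ[A] (B ⊗[A] B) ⊗[A] B :=
  Algebra.TensorProduct.includeLeft

/-- the coface maps on `- ⊗ M`, with target rebracketed -/
noncomputable def cofM (c : B ⊗[A] B →ₐ[A] (B ⊗[A] B) ⊗[A] B) :
    (B ⊗[A] B) ⊗[A] M →ₗ[A] (B ⊗[A] B) ⊗[A] (B ⊗[A] M) :=
  (TensorProduct.assoc A (B ⊗[A] B) B M).toLinearMap ∘ₗ c.toLinearMap.rTensor M

theorem cofM_cof0 (s s' : B) (m : M) :
    cofM A B M (cof0 A B) ((s ⊗ₜ[A] s') ⊗ₜ[A] m) = ((1 : B) ⊗ₜ[A] s) ⊗ₜ[A] (s' ⊗ₜ[A] m) := by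
  simp [cofM, cof0]

theorem cofM_cof1 (s s' : B) (m : M) :
    cofM A B M (cof1 A B) ((s ⊗ₜ[A] s') ⊗ₜ[A] m) = (s ⊗ₜ[A] (1 : B)) ⊗ₜ[A] (s' ⊗ₜ[A] m) := by
  simp [cofM, cof1]

theorem cofM_cof2 (s s' : B) (m : M) :
    cofM A B M (cof2 A B) ((s ⊗ₜ[A] s') ⊗ₜ[A] m) = (s ⊗ₜ[A] s') ⊗ₜ[A] ((1 : B) ⊗ₜ[A] m) := by
  simp [cofM, cof2]

/-- the degree one differential of the Amitsur complex (target rebracketed) -/
noncomputable def d1Map : (B ⊗[A] B) ⊗[A] M →ₗ[A] (B ⊗[A] B) ⊗[A] (B ⊗[A] M) :=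
  cofM A B M (cof0 A B) - cofM A B M (cof1 A B) + cofM A B M (cof2 A B)

/-- `t ⊗ ((s ⊗ s') ⊗ s'') ↦ ts ⊗ (s' ⊗ s'')` -/
noncomputable def muMap : B ⊗[A] ((B ⊗[A] B) ⊗[A] B) →ₗ[A] B ⊗[A] (B ⊗[A] B) :=
  ((LinearMap.mul' A B).rTensor (B ⊗[A] B)) ∘ₗ
    (TensorProduct.assoc A B B (B ⊗[A] B)).symm.toLinearMap ∘ₗ
      ((TensorProduct.assoc A B B B).toLinearMap.lTensor B)

/-- `t ⊗ ((s ⊗ s') ⊗ (s'' ⊗ m)) ↦ ts ⊗ ((s' ⊗ s'') ⊗ m)` -/
noncomputable def h2Map :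
    B ⊗[A] ((B ⊗[A] B) ⊗[A] (B ⊗[A] M)) →ₗ[A] B ⊗[A] ((B ⊗[A] B) ⊗[A] M) :=
  (TensorProduct.assoc A B (B ⊗[A] B) M).toLinearMap ∘ₗ
    ((muMap A B).rTensor M) ∘ₗ
      (TensorProduct.assoc A B ((B ⊗[A] B) ⊗[A] B) M).symm.toLinearMap ∘ₗ
        ((TensorProduct.assoc A (B ⊗[A] B) B M).symm.toLinearMap.lTensor B)

theorem h2Map_tmul (t s s' s'' : B) (m : M) :
    h2Map A B M (t ⊗ₜ[A] ((s ⊗ₜ[A] s') ⊗ₜ[A] (s'' ⊗ₜ[A] m))) =
      (t * s) ⊗ₜ[A] ((s' ⊗ₜ[A] s'') ⊗ₜ[A] m) := by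
  simp [h2Map, muMap]

theorem hMap_tmul (t s s' : B) (m : M) :
    hMap A B M (t ⊗ₜ[A] ((s ⊗ₜ[A] s') ⊗ₜ[A] m)) = (t * s) ⊗ₜ[A] (s' ⊗ₜ[A] m) := by
  simp [hMap]

theorem h2Map_d1Map (z : B ⊗[A] ((B ⊗[A] B) ⊗[A] M)) :
    h2Map A B M ((d1Map A B M).lTensor B z) = z + (dMap A B M).lTensor B (hMap A B M z) := by
  induction z using TensorProduct.induction_on with
  | zero => simp
  | add x y hx hy => simp only [map_add, hx, hy]; abel
  | tmul t w =>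
    induction w using TensorProduct.induction_on with
    | zero => simp
    | add x y hx hy => simp only [tmul_add, map_add, hx, hy]; abel
    | tmul x m =>
      induction x using TensorProduct.induction_on with
      | zero => simp
      | add x y hx hy => simp only [tmul_add, add_tmul, map_add, hx, hy]; abel
      | tmul s s' =>
        have e3 : dMap A B M (s' ⊗ₜ[A] m) =
            (s' ⊗ₜ[A] (1 : B)) ⊗ₜ[A] m - ((1 : B) ⊗ₜ[A] s') ⊗ₜ[A] m := by simp [dMap]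
        rw [LinearMap.lTensor_tmul, hMap_tmul, LinearMap.lTensor_tmul, e3]
        simp only [d1Map, LinearMap.add_apply, LinearMap.sub_apply, cofM_cof0, cofM_cof1,
          cofM_cof2, tmul_add, tmul_sub, map_add, map_sub, h2Map_tmul, mul_one]
        abel

theorem d1Map_comp_dMap : d1Map A B M ∘ₗ dMap A B M = 0 := by
  ext b m
  have e3 : dMap A B M (b ⊗ₜ[A] m) =
      (b ⊗ₜ[A] (1 : B)) ⊗ₜ[A] m - ((1 : B) ⊗ₜ[A] b) ⊗ₜ[A] m := by simp [dMap]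
  simp only [AlgebraTensorModule.curry_apply, curry_apply, LinearMap.coe_restrictScalars,
    LinearMap.comp_apply, LinearMap.zero_apply, e3]
  simp only [d1Map, LinearMap.add_apply, LinearMap.sub_apply, map_sub, cofM_cof0, cofM_cof1,
    cofM_cof2]
  abel

theorem ff_exact1 [Module.FaithfullyFlat A B] :
    Function.Exact (dMap A B M) (d1Map A B M) := by
  apply Module.FaithfullyFlat.lTensor_reflects_exact A B
  intro z
  constructor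
  · intro hz
    refine ⟨-(hMap A B M z), ?_⟩
    have h := h2Map_d1Map A B M z
    rw [hz, map_zero] at h
    rw [map_neg]
    exact (eq_neg_of_add_eq_zero_left h.symm).symm
  · rintro ⟨w, rfl⟩
    rw [← LinearMap.comp_apply, ← LinearMap.lTensor_comp, d1Map_comp_dMap, LinearMap.lTensor_zero,
      LinearMap.zero_apply]

end FF1
end Groth.Agent.H89.AQ
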