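import Groth.Agent.H89.AdeqAbelian

/-!
# Linearly adequate functors are representable; homogeneous natural maps are linear (Stacks 46.3)

* `tmap`: transition maps of a module-valued functor as plain functions;
* `exists_universal_elt`, `exists_classify`, `classify_unique`: a linearly adequate functor
  `L = ker (P̲ → P'̲)` (finite free with bases) is represented by `Uni a`;
* `homogeneous_natural_eq`, `homogeneous_natural_add`: a natural family of maps `L(B) → B ⊗ M`
  which is homogeneous of degree one is given by a linear form, in particular it is additive.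
-/

set_option autoImplicit false
set_option linter.style.haveILetI false
universe u
open CategoryTheory Limits Opposite TensorProduct Adeq

namespace Groth.Agent.H89.AQ
variable {A : Type u} [CommRing A]

theorem coordB_add {ι : Type u} [Fintype ι] {P : Type (u+1)} [AddCommGroup P] [Module A P]
    (b : Module.Basis ι A P) (B : Type u) [CommRing B] [Algebra A B] (y y' : B ⊗[A] P) (i : ι) :
    coordB b B (y + y') i = coordB b B y i + coordB b B y' i := by
  simp only [coordB, map_add, Finsupp.coe_add, Pi.add_apply]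

theorem coordB_smul {ι : Type u} [Fintype ι] {P : Type (u+1)} [AddCommGroup P] [Module A P]
    (b : Module.Basis ι A P) (B : Type u) [CommRing B] [Algebra A B] (r : B) (y : B ⊗[A] P)
    (i : ι) : coordB b B (r • y) i = r * coordB b B y i := by
  simp only [coordB, map_smul, Finsupp.coe_smul, Pi.smul_apply, smul_eq_mul]

/-- the transition map of a module-valued functor, as a plain function between the values -/
noncomputable def tmap (F : MVF A) {B B' : Alg A} (g : B ⟶ B') (x : F.obj (pt B)) : F.obj (pt B') :=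
  F.map (ptHom g) x

theorem tmap_add (F : MVF A) {B B' : Alg A} (g : B ⟶ B') (x y : F.obj (pt B)) :
    tmap F g (x + y) = tmap F g x + tmap F g y := map_add _ x y

theorem tmap_sub (F : MVF A) {B B' : Alg A} (g : B ⟶ B') (x y : F.obj (pt B)) :
    tmap F g (x - y) = tmap F g x - tmap F g y := map_sub _ x y

theorem tmap_zero (F : MVF A) {B B' : Alg A} (g : B ⟶ B') : tmap F g 0 = 0 := map_zero _

theorem tmap_smul (F : MVF A) {B B' : Alg A} (g : B ⟶ B') (r : B) (x : F.obj (pt B)) :
    tmap F g (r • x) = g.hom r • tmap F g x :=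
  PresheafOfModules.map_smul F (ptHom g) r x

theorem tmap_comp (F : MVF A) {B B' B'' : Alg A} (g : B ⟶ B') (g' : B' ⟶ B'')
    (x : F.obj (pt B)) : tmap F g' (tmap F g x) = tmap F (g ≫ g') x := by
  have : ptHom (g ≫ g') = ptHom g ≫ ptHom g' := rfl
  unfold tmap
  rw [this, PresheafOfModules.map_comp]
  rfl

theorem app_tmap {F G : MVF A} (τ : F ⟶ G) {B B' : Alg A} (g : B ⟶ B') (x : F.obj (pt B)) :
    τ.app (pt B') (tmap F g x) = tmap G g (τ.app (pt B) x) :=
  PresheafOfModules.naturality_apply τ (ptHom g) x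

theorem underline_tmap (M : ModuleCat.{u+1} A) {B B' : Alg A} (g : B ⟶ B')
    (x : (B : Type u) ⊗[A] M) :
    tmap ((underline A).obj M) g x = g.hom.toLinearMap.rTensor M x := rfl

section Rep
variable {ι κ : Type u} [Fintype ι] [Fintype κ]
  {P : ModuleCat.{u+1} A} (b : Module.Basis ι A P)
  {P' : Type (u+1)} [AddCommGroup P'] [Module A P'] (b' : Module.Basis κ A P')
  (φ₀ : P →ₗ[A] P') {L : MVF A} {j : L ⟶ (underline A).obj P} (h : IsKer j φ₀)

include h in
/-- the universal element of a linearly adequate functor over `Uni a` -/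
theorem exists_universal_elt :
    ∃ ξ : L.obj (pt (algOf A (Uni (matOf b b' φ₀)))),
      j.app (pt (algOf A (Uni (matOf b b' φ₀)))) ξ =
        (∑ i, xbar (matOf b b' φ₀) i ⊗ₜ[A] b i : Uni (matOf b b' φ₀) ⊗[A] P) := by
  classical
  apply h.exact (algOf A (Uni (matOf b b' φ₀)))
  rw [baseChange_sum_tmul b b']
  refine Finset.sum_eq_zero (fun k _ => ?_)
  rw [sum_a_xbar, TensorProduct.zero_tmul]

include h in
theorem exists_classify (ξ : L.obj (pt (algOf A (Uni (matOf b b' φ₀)))))
    (hξ : j.app (pt (algOf A (Uni (matOf b b' φ₀)))) ξ =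
        (∑ i, xbar (matOf b b' φ₀) i ⊗ₜ[A] b i : Uni (matOf b b' φ₀) ⊗[A] P))
    (B : Alg A) (y : L.obj (pt B)) :
    ∃ f : algOf A (Uni (matOf b b' φ₀)) ⟶ B, tmap L f ξ = y ∧
      ∀ i, f.hom (xbar (matOf b b' φ₀) i) = coordB b B (j.app (pt B) y) i := by
  classical
  let a := matOf b b' φ₀
  let c := coordB b B (j.app (pt B) y)
  have hc : ∑ i, c i ⊗ₜ[A] b i = j.app (pt B) y := sum_coordB b B _
  have hrel : ∀ k, ∑ i, a k i • c i = 0 := by
    intro k
    apply rel_of_baseChange_eq_zero b b' B φ₀ c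
    rw [hc]; exact h.comp B y
  let f : algOf A (Uni a) ⟶ B := CommAlgCat.ofHom (uniLift a c hrel)
  refine ⟨f, ?_, fun i => uniLift_xbar a c hrel i⟩
  apply h.inj B
  rw [app_tmap, hξ, underline_tmap, map_sum, ← hc]
  refine Finset.sum_congr rfl (fun i _ => ?_)
  rw [LinearMap.rTensor_tmul]
  congr 1
  exact uniLift_xbar a c hrel i

omit [Fintype κ] in
theorem classify_unique (ξ : L.obj (pt (algOf A (Uni (matOf b b' φ₀)))))
    (hξ : j.app (pt (algOf A (Uni (matOf b b' φ₀)))) ξ =
        (∑ i, xbar (matOf b b' φ₀) i ⊗ₜ[A] b i : Uni (matOf b b' φ₀) ⊗[A] P))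
    (B : Alg A) (f g : algOf A (Uni (matOf b b' φ₀)) ⟶ B)
    (hfg : tmap L f ξ = tmap L g ξ) : f = g := by
  classical
  have h1 : ∀ (f : algOf A (Uni (matOf b b' φ₀)) ⟶ B),
      j.app (pt B) (tmap L f ξ) =
        (∑ i, f.hom (xbar (matOf b b' φ₀) i) ⊗ₜ[A] b i : (B : Type u) ⊗[A] P) := by
    intro f
    rw [app_tmap, hξ, underline_tmap, map_sum]
    refine Finset.sum_congr rfl (fun i _ => ?_)
    rw [LinearMap.rTensor_tmul]
    rfl
  have h2 : ∀ i, f.hom (xbar (matOf b b' φ₀) i) = g.hom (xbar (matOf b b' φ₀) i) := by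
    intro i
    have e := congrArg (fun w => coordB b B w i) ((h1 f).symm.trans ((congrArg _ hfg).trans (h1 g)))
    simp only [coordB_sum_tmul] at e
    exact e
  apply CommAlgCat.hom_ext
  apply Ideal.Quotient.algHom_ext
  apply MvPolynomial.algHom_ext
  intro i
  exact h2 i

include h b' in
/-- natural homogeneous maps from a linearly adequate functor to `underline M` are linear forms -/
theorem homogeneous_natural_eq {M : ModuleCat.{u+1} A}
    (θ : ∀ B : Alg A, L.obj (pt B) → (B : Type u) ⊗[A] M)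
    (hnat : ∀ (B B' : Alg A) (g : B ⟶ B') (y : L.obj (pt B)),
      θ B' (tmap L g y) = g.hom.toLinearMap.rTensor M (θ B y))
    (hhom : ∀ (B : Alg A) (r : B) (y : L.obj (pt B)), θ B (r • y) = r • θ B y) :
    ∃ m : ι → M, ∀ (B : Alg A) (y : L.obj (pt B)),
      θ B y = ∑ i, coordB b B (j.app (pt B) y) i ⊗ₜ[A] m i := by
  classical
  let a := matOf b b' φ₀
  let U : Alg A := algOf A (Uni a)
  obtain ⟨ξ, hξ⟩ := exists_universal_elt b b' φ₀ h
  let z : (Uni a) ⊗[A] M := θ U ξ
  let V : Alg A := algOf A (Polynomial (Uni a))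
  let cH : U ⟶ V := CommAlgCat.ofHom (Polynomial.CAlgHom (R := A) (A := Uni a))
  let σH : U ⟶ V := CommAlgCat.ofHom (sigma a)
  let ξc : L.obj (pt V) := tmap L cH ξ
  let ξσ : L.obj (pt V) := tmap L σH ξ
  have hic : j.app (pt V) ξc = ∑ i, (Polynomial.C (xbar a i) : Polynomial (Uni a)) ⊗ₜ[A] b i := by
    change j.app (pt V) (tmap L cH ξ) = _
    rw [app_tmap, hξ, underline_tmap, map_sum]
    refine Finset.sum_congr rfl (fun i _ => ?_)
    rw [LinearMap.rTensor_tmul]
    rfl
  have hiσ : j.app (pt V) ξσ =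
      ∑ i, (Polynomial.X * Polynomial.C (xbar a i) : Polynomial (Uni a)) ⊗ₜ[A] b i := by
    change j.app (pt V) (tmap L σH ξ) = _
    rw [app_tmap, hξ, underline_tmap, map_sum]
    refine Finset.sum_congr rfl (fun i _ => ?_)
    rw [LinearMap.rTensor_tmul]
    congr 1
    exact sigma_xbar a i
  have hscale : ξσ = (Polynomial.X : Polynomial (Uni a)) • ξc := by
    apply h.inj V
    rw [app_smul, hic, hiσ]
    change (∑ i, (Polynomial.X * Polynomial.C (xbar a i) : Polynomial (Uni a)) ⊗ₜ[A] b i :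
      Polynomial (Uni a) ⊗[A] P) = (Polynomial.X : Polynomial (Uni a)) •
        (∑ i, (Polynomial.C (xbar a i) : Polynomial (Uni a)) ⊗ₜ[A] b i : Polynomial (Uni a) ⊗[A] P)
    rw [Finset.smul_sum]
    refine Finset.sum_congr rfl (fun i _ => ?_)
    rw [TensorProduct.smul_tmul', smul_eq_mul]
  have hz : (sigma a).toLinearMap.rTensor M z = (Polynomial.X : Polynomial (Uni a)) •
        ((Polynomial.CAlgHom (R := A) (A := Uni a)).toLinearMap.rTensor M z) := by
    have h1 : (sigma a).toLinearMap.rTensor M z = θ V ξσ := (hnat _ _ σH ξ).symm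
    have h2 : (Polynomial.CAlgHom (R := A) (A := Uni a)).toLinearMap.rTensor M z = θ V ξc :=
      (hnat _ _ cH ξ).symm
    rw [h1, h2, hscale]
    exact hhom V _ _
  have hz1 := deg1_rTensor_eq_self a M z hz
  obtain ⟨m', hm'⟩ := deg1_rTensor_mem_range a M z
  rw [hz1, PhiU_apply] at hm'
  refine ⟨m', ?_⟩
  intro B y
  obtain ⟨f, hf, hfx⟩ := exists_classify b b' φ₀ h ξ hξ B y
  have h3 : θ B y = f.hom.toLinearMap.rTensor M z := by
    rw [← hf]; exact hnat _ _ f ξ
  rw [h3, ← hm', map_sum]
  refine Finset.sum_congr rfl (fun i _ => ?_)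
  rw [LinearMap.rTensor_tmul]
  exact congrArg (fun r => r ⊗ₜ[A] m' i) (hfx i)

include h b b' in
theorem homogeneous_natural_add {M : ModuleCat.{u+1} A}
    (θ : ∀ B : Alg A, L.obj (pt B) → (B : Type u) ⊗[A] M)
    (hnat : ∀ (B B' : Alg A) (g : B ⟶ B') (y : L.obj (pt B)),
      θ B' (tmap L g y) = g.hom.toLinearMap.rTensor M (θ B y))
    (hhom : ∀ (B : Alg A) (r : B) (y : L.obj (pt B)), θ B (r • y) = r • θ B y)
    (B : Alg A) (y y' : L.obj (pt B)) : θ B (y + y') = θ B y + θ B y' := by
  obtain ⟨m, hm⟩ := homogeneous_natural_eq b b' φ₀ h θ hnat hhom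
  rw [hm, hm, hm, ← Finset.sum_add_distrib]
  refine Finset.sum_congr rfl (fun i _ => ?_)
  rw [← TensorProduct.add_tmul]
  congr 1
  have e : j.app (pt B) (y + y') = j.app (pt B) y + j.app (pt B) y' := map_add _ _ _
  rw [e]
  exact coordB_add b B _ _ i

end Rep

end Groth.Agent.H89.AQ
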