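import Groth.Agent.H89.AdeqFiltTensor3
import Groth.Agent.H89.AdeqRep

/-!
# Adequate functors commute with filtered colimits (Stacks 46.3.?)
-/

set_option autoImplicit false
set_option linter.style.haveILetI false
universe u v
open CategoryTheory Limits Opposite TensorProduct Adeq

namespace Groth.Agent.H89.AQ

section AlgColim
variable {A : Type u} [CommRing A] {J : Type u} [SmallCategory J] [IsFiltered J]
  (D : J ⥤ Alg A) (c : Cocone D) (hc : IsColimit c)

/-- the underlying-set functor on `A`-algebras, through `Under` -/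
noncomputable abbrev algForget (A : Type u) [CommRing A] : Alg A ⥤ Type u :=
  (commAlgCatEquivUnder (CommRingCat.of A)).functor ⋙ Under.forget _ ⋙ forget CommRingCat

include hc in
theorem alg_colim_surj (b : c.pt) : ∃ (j : J) (x : D.obj j), (c.ι.app j).hom x = b := by
  haveI : IsConnected J := IsFiltered.isConnected J
  have h := isColimitOfPreserves (algForget A) hc
  obtain ⟨j, x, hx⟩ := Types.jointly_surjective_of_isColimit h b
  exact ⟨j, x, hx⟩

include hc in
theorem alg_colim_inj (j : J) (x y : D.obj j) (hxy : (c.ι.app j).hom x = (c.ι.app j).hom y) :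
    ∃ (k : J) (f : j ⟶ k), (D.map f).hom x = (D.map f).hom y := by
  haveI : IsConnected J := IsFiltered.isConnected J
  have h := isColimitOfPreserves (algForget A) hc
  exact (Types.FilteredColimit.isColimit_eq_iff' h x y).mp hxy

end AlgColim

end Groth.Agent.H89.AQ

namespace Groth.Agent.H89.AQ

section Main
variable {A : Type u} [CommRing A] {J : Type u} [SmallCategory J] [IsFiltered J]
  (D : J ⥤ Alg A) (c : Cocone D) (hc : IsColimit c)

/-- transition maps of the diagram, as linear maps -/
noncomputable def tL {j k : J} (f : j ⟶ k) : (D.obj j : Type u) →ₗ[A] (D.obj k : Type u) :=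
  (D.map f).hom.toLinearMap

/-- cocone maps, as linear maps -/
noncomputable def iL (j : J) : (D.obj j : Type u) →ₗ[A] (c.pt : Type u) :=
  AlgHom.toLinearMap (show (D.obj j : Type u) →ₐ[A] (c.pt : Type u) from (c.ι.app j).hom)

include hc in
theorem alg_filtCocone :
    FiltCocone A J (fun j => (D.obj j : Type u)) (fun f => tL D f) (c.pt : Type u)
      (fun j => iL D c j) where
  comp f g x := by
    change (D.map (f ≫ g)).hom x = (D.map g).hom ((D.map f).hom x)
    rw [D.map_comp]
    rfl
  w f x := by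
    change (c.ι.app _).hom ((D.map f).hom x) = (c.ι.app _).hom x
    rw [← c.w f]
    rfl
  surj := alg_colim_surj D c hc
  inj j x hx := by
    obtain ⟨k, f, hf⟩ := alg_colim_inj D c hc j x 0 (by rw [map_zero]; exact hx)
    exact ⟨k, f, by rw [map_zero] at hf; exact hf⟩

end Main

end Groth.Agent.H89.AQ

namespace Groth.Agent.H89.AQ

section Main2
variable {A : Type u} [CommRing A] {J : Type u} [SmallCategory J]
  (D : J ⥤ Alg A) (c : Cocone D) (hc : IsColimit c)
variable {F : MVF A} {M : ModuleCat.{u+1} A} {N : Type (u+1)} [AddCommGroup N] [Module A N]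
  {φ : M →ₗ[A] N} {i : F ⟶ (underline A).obj M}

theorem underline_tmap_iL (j : J) (z : (D.obj j : Type u) ⊗[A] M) :
    tmap ((underline A).obj M) (c.ι.app j) z = (iL D c j).rTensor M z := rfl

theorem underline_tmap_tL {j k : J} (f : j ⟶ k) (z : (D.obj j : Type u) ⊗[A] M) :
    tmap ((underline A).obj M) (D.map f) z = (tL D f).rTensor M z := rfl

variable [IsFiltered J]

include hc in
theorem adequate_colim_surj (hi : IsKer i φ) (x : F.obj (pt c.pt)) :
    ∃ (j : J) (y : F.obj (pt (D.obj j))), tmap F (c.ι.app j) y = x := by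
  have H := alg_filtCocone D c hc
  obtain ⟨k, zk, hzk, hzk'⟩ := H.ker_surj φ (i.app (pt c.pt) x) (hi.comp c.pt x)
  obtain ⟨y, hy⟩ := hi.exact (D.obj k) zk hzk
  refine ⟨k, y, hi.inj c.pt ?_⟩
  exact (app_tmap i (c.ι.app k) y).trans ((congrArg _ hy).trans hzk')

include hc in
theorem adequate_colim_inj (hi : IsKer i φ) (j : J) (x y : F.obj (pt (D.obj j)))
    (hxy : tmap F (c.ι.app j) x = tmap F (c.ι.app j) y) :
    ∃ (k : J) (f : j ⟶ k), tmap F (D.map f) x = tmap F (D.map f) y := by
  have H := alg_filtCocone D c hc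
  obtain ⟨a, ha⟩ : ∃ a : (D.obj j : Type u) ⊗[A] M, a = i.app (pt (D.obj j)) x := ⟨_, rfl⟩
  obtain ⟨b, hb⟩ : ∃ b : (D.obj j : Type u) ⊗[A] M, b = i.app (pt (D.obj j)) y := ⟨_, rfl⟩
  have e1 : (iL D c j).rTensor M a = (iL D c j).rTensor M b := by
    rw [ha, hb]
    exact ((app_tmap i (c.ι.app j) x).symm.trans (congrArg _ hxy)).trans
      (app_tmap i (c.ι.app j) y)
  have hw : (iL D c j).rTensor M (a - b) = 0 := by rw [map_sub, e1, sub_self]
  obtain ⟨k, f, hf⟩ := H.rTensor_inj M j _ hw
  rw [map_sub, sub_eq_zero] at hf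
  subst ha hb
  refine ⟨k, f, hi.inj (D.obj k) ?_⟩
  exact (app_tmap i (D.map f) x).trans (hf.trans (app_tmap i (D.map f) y).symm)

include hc in
theorem adequate_preserves_filtered (F : MVF A) (hF : adequate A F) :
    Nonempty (IsColimit (F.toAb.mapCocone c)) := by
  obtain ⟨M, N, φ, i, hi⟩ := exists_isKer_of_adequate hF
  haveI : PreservesFilteredColimitsOfSize.{u, u} (forget AddCommGrpCat.{u+1}) :=
    preservesFilteredColimitsOfSize_shrink.{u, u + 1, u, u + 1} _
  haveI : ReflectsColimit (D ⋙ F.toAb) (forget AddCommGrpCat.{u+1}) :=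
    reflectsColimit_of_reflectsIsomorphisms _ _
  refine ⟨isColimitOfReflects (forget AddCommGrpCat.{u+1})
    (Types.FilteredColimit.isColimitOf' _ _ ?_ ?_)⟩
  · intro x
    obtain ⟨j, y, hy⟩ := adequate_colim_surj D c hc hi x
    exact ⟨j, y, hy.symm⟩
  · intro j x y hxy
    exact adequate_colim_inj D c hc hi j x y hxy

end Main2
end Groth.Agent.H89.AQ
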