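import Mathlib

/-!
# Tensor products commute with filtered colimits, elementwise form

A `FiltCocone` is a cocone of modules over a (filtered) category, given by bare linear maps, which is
jointly surjective and such that elements dying in the cocone point die at a later stage.  The main
result `FiltCocone.rTensor` says that `− ⊗ M` preserves this.
-/

set_option autoImplicit false
set_option linter.style.haveILetI false
universe u v w
open CategoryTheory TensorProduct

namespace Groth.Agent.H89.AQ

/-- elementwise form of a filtered colimit cocone of modules -/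
structure FiltCocone (A : Type u) [CommRing A] (J : Type w) [Category.{w} J]
    (X : J → Type v) [∀ j, AddCommGroup (X j)] [∀ j, Module A (X j)]
    (t : ∀ {j k : J}, (j ⟶ k) → X j →ₗ[A] X k)
    (Y : Type v) [AddCommGroup Y] [Module A Y] (ι : ∀ j, X j →ₗ[A] Y) : Prop where
  comp : ∀ {j k l : J} (f : j ⟶ k) (g : k ⟶ l) (x : X j), t (f ≫ g) x = t g (t f x)
  w : ∀ {j k : J} (f : j ⟶ k) (x : X j), ι k (t f x) = ι j x
  surj : ∀ y : Y, ∃ (j : J) (x : X j), ι j x = y
  inj : ∀ (j : J) (x : X j), ι j x = 0 → ∃ (k : J) (f : j ⟶ k), t f x = 0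

namespace FiltCocone

variable {A : Type u} [CommRing A] {J : Type w} [Category.{w} J]
  {X : J → Type v} [∀ j, AddCommGroup (X j)] [∀ j, Module A (X j)]
  {t : ∀ {j k : J}, (j ⟶ k) → X j →ₗ[A] X k}
  {Y : Type v} [AddCommGroup Y] [Module A Y] {ι : ∀ j, X j →ₗ[A] Y}

/-- finitely many elements dying in the cocone point die at a common later stage -/
theorem kill_finset (h : FiltCocone A J X t Y ι) {I : Type*} (j : J) (v : I → X j)
    (s : Finset I) (hv : ∀ i ∈ s, ι j (v i) = 0) :
    ∃ (k : J) (f : j ⟶ k), ∀ i ∈ s, t f (v i) = 0 := by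
  classical
  induction s using Finset.induction_on with
  | empty => exact ⟨j, 𝟙 j, fun i hi => absurd hi (Finset.notMem_empty i)⟩
  | insert a s ha ih =>
    obtain ⟨k, f, hf⟩ := ih (fun i hi => hv i (Finset.mem_insert_of_mem hi))
    have h0 : ι k (t f (v a)) = 0 := by
      rw [h.w]
      exact hv a (Finset.mem_insert_self a s)
    obtain ⟨l, g, hg⟩ := h.inj k _ h0
    refine ⟨l, f ≫ g, fun i hi => ?_⟩
    rw [h.comp]
    rcases Finset.mem_insert.mp hi with rfl | hi
    · exact hg
    · rw [hf i hi, map_zero]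

variable (M : Type*) [AddCommGroup M] [Module A M]

/-- joint surjectivity after tensoring -/
theorem rTensor_surj [IsFiltered J] (h : FiltCocone A J X t Y ι) (z : Y ⊗[A] M) :
    ∃ (j : J) (x : X j ⊗[A] M), (ι j).rTensor M x = z := by
  induction z using TensorProduct.induction_on with
  | zero => exact ⟨IsFiltered.nonempty.some, 0, map_zero _⟩
  | tmul y m =>
    obtain ⟨j, x, rfl⟩ := h.surj y
    exact ⟨j, x ⊗ₜ m, rfl⟩
  | add z z' hz hz' =>
    obtain ⟨j, x, rfl⟩ := hz
    obtain ⟨j', x', rfl⟩ := hz'
    refine ⟨IsFiltered.max j j', (t (IsFiltered.leftToMax j j')).rTensor M x +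
      (t (IsFiltered.rightToMax j j')).rTensor M x', ?_⟩
    rw [map_add]
    congr 1
    · rw [← LinearMap.comp_apply, ← LinearMap.rTensor_comp]
      congr 2
      ext a
      exact h.w _ a
    · rw [← LinearMap.comp_apply, ← LinearMap.rTensor_comp]
      congr 2
      ext a
      exact h.w _ a

theorem rTensor_w (h : FiltCocone A J X t Y ι) {j k : J} (f : j ⟶ k) (x : X j ⊗[A] M) :
    (ι k).rTensor M ((t f).rTensor M x) = (ι j).rTensor M x := by
  rw [← LinearMap.comp_apply, ← LinearMap.rTensor_comp]
  congr 2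
  ext a
  exact h.w _ a

theorem rTensor_comp' (h : FiltCocone A J X t Y ι) {j k l : J} (f : j ⟶ k) (g : k ⟶ l)
    (x : X j ⊗[A] M) :
    (t (f ≫ g)).rTensor M x = (t g).rTensor M ((t f).rTensor M x) := by
  rw [← LinearMap.comp_apply, ← LinearMap.rTensor_comp]
  congr 2
  ext a
  exact h.comp _ _ a

end FiltCocone

end Groth.Agent.H89.AQ
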