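import Groth.Agent.H89.AdeqFiltTensor

/-!
# Tensor products commute with filtered colimits, elementwise form: injectivity part
-/

set_option autoImplicit false
set_option linter.style.haveILetI false
universe u v w
open CategoryTheory TensorProduct

namespace Groth.Agent.H89.AQ

section Aux
variable {A : Type u} [CommRing A]

theorem lr_comm {X X' : Type*} [AddCommGroup X] [Module A X] [AddCommGroup X'] [Module A X']
    {M N : Type*} [AddCommGroup M] [Module A M] [AddCommGroup N] [Module A N]
    (g : X →ₗ[A] X') (ψ : M →ₗ[A] N) (z : X ⊗[A] M) :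
    ψ.lTensor X' (g.rTensor M z) = g.rTensor N (ψ.lTensor X z) := by
  rw [← LinearMap.comp_apply, ← LinearMap.comp_apply, LinearMap.lTensor_comp_rTensor,
    LinearMap.rTensor_comp_lTensor]

theorem finsuppScalarRight_rTensor {X X' : Type*} [AddCommGroup X] [Module A X] [AddCommGroup X']
    [Module A X'] (I : Type*) [DecidableEq I] (g : X →ₗ[A] X') (z : X ⊗[A] (I →₀ A)) (i : I) :
    TensorProduct.finsuppScalarRight A A X' I (g.rTensor (I →₀ A) z) i =
      g (TensorProduct.finsuppScalarRight A A X I z i) := by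
  induction z using TensorProduct.induction_on with
  | zero => simp
  | tmul x p =>
    rw [LinearMap.rTensor_tmul, TensorProduct.finsuppScalarRight_apply_tmul_apply,
      TensorProduct.finsuppScalarRight_apply_tmul_apply, map_smul]
  | add z z' hz hz' => simp only [map_add, Finsupp.add_apply, hz, hz']

end Aux

namespace FiltCocone

variable {A : Type u} [CommRing A] {J : Type w} [Category.{w} J]
  {X : J → Type v} [∀ j, AddCommGroup (X j)] [∀ j, Module A (X j)]
  {t : ∀ {j k : J}, (j ⟶ k) → X j →ₗ[A] X k}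
  {Y : Type v} [AddCommGroup Y] [Module A Y] {ι : ∀ j, X j →ₗ[A] Y}

/-- injectivity part for a free module -/
theorem rTensor_inj_free (h : FiltCocone A J X t Y ι) (I : Type*) (j : J)
    (z : X j ⊗[A] (I →₀ A)) (hz : (ι j).rTensor (I →₀ A) z = 0) :
    ∃ (k : J) (f : j ⟶ k), (t f).rTensor (I →₀ A) z = 0 := by
  classical
  let v := TensorProduct.finsuppScalarRight A A (X j) I z
  have hv : ∀ i ∈ v.support, ι j (v i) = 0 := by
    intro i _
    rw [← finsuppScalarRight_rTensor I (ι j) z i, hz, map_zero, Finsupp.zero_apply]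
  obtain ⟨k, f, hf⟩ := h.kill_finset j (fun i => v i) v.support hv
  refine ⟨k, f, ?_⟩
  apply (TensorProduct.finsuppScalarRight A A (X k) I).injective
  rw [map_zero]
  ext i
  rw [finsuppScalarRight_rTensor I (t f) z i, Finsupp.zero_apply]
  by_cases hi : i ∈ v.support
  · exact hf i hi
  · have : v i = 0 := Finsupp.notMem_support_iff.mp hi
    change t f (v i) = 0
    rw [this, map_zero]

variable (M : Type*) [AddCommGroup M] [Module A M]

/-- injectivity part, from the injectivity part for the middle term of a presentation -/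
theorem rTensor_inj_of_presentation [IsFiltered J] (h : FiltCocone A J X t Y ι)
    {P : Type*} [AddCommGroup P] [Module A P]
    (π : P →ₗ[A] M) (hπ : Function.Surjective π)
    (hfree : ∀ (j : J) (z : X j ⊗[A] P), (ι j).rTensor P z = 0 →
      ∃ (k : J) (f : j ⟶ k), (t f).rTensor P z = 0)
    (j : J) (z : X j ⊗[A] M) (hz : (ι j).rTensor M z = 0) :
    ∃ (k : J) (f : j ⟶ k), (t f).rTensor M z = 0 := by
  obtain ⟨κ, hκ⟩ : ∃ κ : ↥(LinearMap.ker π) →ₗ[A] P, κ = (LinearMap.ker π).subtype := ⟨_, rfl⟩
  have hex : Function.Exact κ π := by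
    rw [hκ]
    exact LinearMap.exact_subtype_ker_map π
  have hπκ : ∀ (Z : Type v) [AddCommGroup Z] [Module A Z] (q : Z ⊗[A] ↥(LinearMap.ker π)),
      π.lTensor Z (κ.lTensor Z q) = 0 := by
    intro Z _ _ q
    rw [← LinearMap.comp_apply, ← LinearMap.lTensor_comp]
    have : π ∘ₗ κ = 0 := by
      ext q
      exact hex.apply_apply_eq_zero q
    rw [this, LinearMap.lTensor_zero, LinearMap.zero_apply]
  obtain ⟨z', hz'⟩ := LinearMap.lTensor_surjective (X j) hπ z
  have hu : π.lTensor Y ((ι j).rTensor P z') = 0 := by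
    rw [lr_comm, hz', hz]
  have hexY : Function.Exact (κ.lTensor Y) (π.lTensor Y) := lTensor_exact (M := ↥(LinearMap.ker π)) Y hex hπ
  obtain ⟨v, hv⟩ := (hexY _).1 hu
  obtain ⟨j', v', hv'⟩ := h.rTensor_surj ↥(LinearMap.ker π) v
  obtain ⟨d, hd'⟩ : ∃ d : X (IsFiltered.max j j') ⊗[A] P,
      d = (t (IsFiltered.leftToMax j j')).rTensor P z' -
        κ.lTensor (X (IsFiltered.max j j')) ((t (IsFiltered.rightToMax j j')).rTensor ↥(LinearMap.ker π) v') :=
    ⟨_, rfl⟩
  have hd : (ι (IsFiltered.max j j')).rTensor P d = 0 := by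
    rw [hd', map_sub, h.rTensor_w P, ← lr_comm (ι (IsFiltered.max j j')) κ, h.rTensor_w ↥(LinearMap.ker π), hv', hv,
      sub_self]
  obtain ⟨m, g, hg⟩ := hfree _ d hd
  refine ⟨m, IsFiltered.leftToMax j j' ≫ g, ?_⟩
  have e1 : (t (IsFiltered.leftToMax j j')).rTensor P z' =
      d + κ.lTensor (X (IsFiltered.max j j')) ((t (IsFiltered.rightToMax j j')).rTensor ↥(LinearMap.ker π) v') := by
    rw [hd', sub_add_cancel]
  rw [h.rTensor_comp' M, ← hz', ← lr_comm (t (IsFiltered.leftToMax j j')) π,
    ← lr_comm (t g) π, e1, map_add, hg, zero_add, ← lr_comm (t g) κ, hπκ]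

/-- injectivity part: an element dying in `Y ⊗ M` dies at a later stage -/
theorem rTensor_inj [IsFiltered J] (h : FiltCocone A J X t Y ι) (j : J)
    (z : X j ⊗[A] M) (hz : (ι j).rTensor M z = 0) :
    ∃ (k : J) (f : j ⟶ k), (t f).rTensor M z = 0 := by
  have hπ : Function.Surjective (Finsupp.linearCombination A (id : M → M)) :=
    fun m => ⟨Finsupp.single m 1, by rw [Finsupp.linearCombination_single, one_smul]; rfl⟩
  exact h.rTensor_inj_of_presentation M
    (Finsupp.linearCombination A (id : M → M)) hπ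
    (fun j z hz => h.rTensor_inj_free M j z hz) j z hz

end FiltCocone

end Groth.Agent.H89.AQ
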