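import Groth.Agent.H89.AdeqFiltTensor2

/-!
# Kernels of `− ⊗ φ` commute with filtered colimits, elementwise form
-/

set_option autoImplicit false
set_option linter.style.haveILetI false
universe u v w
open CategoryTheory TensorProduct

namespace Groth.Agent.H89.AQ

namespace FiltCocone

variable {A : Type u} [CommRing A] {J : Type w} [Category.{w} J]
  {X : J → Type v} [∀ j, AddCommGroup (X j)] [∀ j, Module A (X j)]
  {t : ∀ {j k : J}, (j ⟶ k) → X j →ₗ[A] X k}
  {Y : Type v} [AddCommGroup Y] [Module A Y] {ι : ∀ j, X j →ₗ[A] Y}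

/-- an element of `ker (Y ⊗ M → Y ⊗ N)` comes from `ker (X k ⊗ M → X k ⊗ N)` for some `k` -/
theorem ker_surj [IsFiltered J] (h : FiltCocone A J X t Y ι)
    {M N : Type*} [AddCommGroup M] [Module A M] [AddCommGroup N] [Module A N] (φ : M →ₗ[A] N)
    (z : Y ⊗[A] M) (hz : φ.lTensor Y z = 0) :
    ∃ (k : J) (zk : X k ⊗[A] M), φ.lTensor (X k) zk = 0 ∧ (ι k).rTensor M zk = z := by
  obtain ⟨j, zj, hzj⟩ := h.rTensor_surj M z
  have hw : (ι j).rTensor N (φ.lTensor (X j) zj) = 0 := by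
    rw [← lr_comm (ι j) φ zj, hzj, hz]
  obtain ⟨k, f, hf⟩ := h.rTensor_inj N j _ hw
  refine ⟨k, (t f).rTensor M zj, ?_, ?_⟩
  · rw [lr_comm (t f) φ zj, hf]
  · rw [h.rTensor_w M f zj, hzj]

end FiltCocone

end Groth.Agent.H89.AQ
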