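import Groth.Agent.H89.AdeqBasic
import Groth.Agent.H44.AdeqUnits

/-!
# Flat base change for adequate functors (Stacks 46.3, Lemma on flat base change)
-/

set_option autoImplicit false
set_option linter.style.haveILetI false
universe u
open CategoryTheory Limits Opposite TensorProduct Adeq

namespace Groth.Agent.H89.AQ
variable {A : Type u} [CommRing A]

open ChangeOfRings

set_option backward.isDefEq.respectTransparency false in
/-- induction principle for elements of an extension of scalars -/
theorem ext_induction {R S : Type u} [CommRing R] [CommRing S] (f : R →+* S)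
    {M : ModuleCat.{u+1} R} {motive : (ModuleCat.extendScalars.{u, u, u+1} f).obj M → Prop}
    (zero : motive 0) (tmul : ∀ (s : S) (m : M), motive (s ⊗ₜ[R,f] m))
    (add : ∀ x y, motive x → motive y → motive (x + y)) (t) : motive t := by
  letI := Module.compHom S f
  exact TensorProduct.induction_on (motive := motive) t zero tmul add

set_option backward.isDefEq.respectTransparency false in
theorem bc_tmul (F : MVF A) {B B' : Alg A} (f : B ⟶ B') (b' : B') (x : F.obj (pt B)) :
    F.bc f (b' ⊗ₜ[(B : Type u), f.hom.toRingHom] x) = b' • F.map (ptHom f) x := by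
  rw [Groth.Agent.H44.map_eq_bc]
  have h : (b' ⊗ₜ[(B : Type u), f.hom.toRingHom] x :
      (ModuleCat.extendScalars.{u, u, u + 1} f.hom.toRingHom).obj (F.obj (pt B))) =
      b' • ((1 : B') ⊗ₜ[(B : Type u), f.hom.toRingHom] x :
      (ModuleCat.extendScalars.{u, u, u + 1} f.hom.toRingHom).obj (F.obj (pt B))) := by
    rw [ModuleCat.ExtendScalars.smul_tmul, mul_one]
  rw [h]
  exact (F.bc f).hom.map_smul b' _

set_option backward.isDefEq.respectTransparency false in
theorem bc_underline_bijective (M : ModuleCat.{u+1} A) {B B' : Alg A} (f : B ⟶ B') :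
    Function.Bijective (((underline A).obj M).bc f) := by
  letI : Algebra B B' := f.hom.toRingHom.toAlgebra
  haveI : IsScalarTower A B B' := IsScalarTower.of_algebraMap_eq (fun a => (f.hom.commutes a).symm)
  let e := TensorProduct.AlgebraTensorModule.cancelBaseChange A B B' B' M
  have h : ∀ t, ((underline A).obj M).bc f t = e t := by
    intro t
    induction t using ext_induction with
    | zero => rw [map_zero]; exact (map_zero e).symm
    | tmul b' x =>
      rw [bc_tmul]
      induction x using TensorProduct.induction_on with
      | zero =>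
        rw [map_zero, smul_zero]
        change 0 = e (b' ⊗ₜ[(B : Type u)] (0 : (B : Type u) ⊗[A] M))
        rw [TensorProduct.tmul_zero, map_zero]
      | tmul b m =>
        rw [underline_obj_map_apply, LinearMap.rTensor_tmul]
        change b' • ((f.hom b) ⊗ₜ[A] m : (B' : Type u) ⊗[A] M) = e (b' ⊗ₜ[(B : Type u)] (b ⊗ₜ[A] m))
        rw [TensorProduct.AlgebraTensorModule.cancelBaseChange_tmul, TensorProduct.smul_tmul',
          smul_eq_mul, Algebra.smul_def, mul_comm]
        rfl
      | add x y hx hy =>
        rw [map_add, smul_add, hx, hy]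
        change e _ + e _ = e (b' ⊗ₜ[(B : Type u)] (x + y))
        rw [TensorProduct.tmul_add, map_add]
    | add s t hs ht => rw [map_add, hs, ht]; exact (map_add e _ _).symm
  constructor
  · intro s t hst
    rw [h, h] at hst
    exact e.injective hst
  · intro y
    obtain ⟨t, ht⟩ := e.surjective y
    exact ⟨t, by rw [h, ht]⟩

end Groth.Agent.H89.AQ

namespace Groth.Agent.H89.AQ
variable {A : Type u} [CommRing A]
open ChangeOfRings

set_option backward.isDefEq.respectTransparency false in
theorem bc_natural {F G : MVF A} (τ : F ⟶ G) {B B' : Alg A} (f : B ⟶ B')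
    (t : (ModuleCat.extendScalars.{u, u, u + 1} f.hom.toRingHom).obj (F.obj (pt B))) :
    G.bc f ((ModuleCat.extendScalars.{u, u, u + 1} f.hom.toRingHom).map (τ.app (pt B)) t) =
      τ.app (pt B') (F.bc f t) := by
  induction t using ext_induction with
  | zero => rw [map_zero, map_zero, map_zero, map_zero]
  | tmul b' x =>
    rw [ModuleCat.ExtendScalars.map_tmul, bc_tmul, bc_tmul, map_smul,
      PresheafOfModules.naturality_apply]
  | add s t hs ht => rw [map_add, map_add, hs, ht, map_add, map_add]

set_option backward.isDefEq.respectTransparency false in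
theorem ext_map_injective {R S : Type u} [CommRing R] [CommRing S] (f : R →+* S) (hf : f.Flat)
    {X Y : ModuleCat.{u+1} R} (g : X ⟶ Y) (hg : Function.Injective g) :
    Function.Injective ((ModuleCat.extendScalars.{u, u, u+1} f).map g) := by
  letI := Module.compHom S f
  haveI : Module.Flat R S := hf
  exact Module.Flat.lTensor_preserves_injective_linearMap (M := S) g.hom hg

set_option backward.isDefEq.respectTransparency false in
theorem ext_map_exact {R S : Type u} [CommRing R] [CommRing S] (f : R →+* S) (hf : f.Flat)
    {X Y Z : ModuleCat.{u+1} R} (g : X ⟶ Y) (h : Y ⟶ Z) (hex : Function.Exact g h) :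
    Function.Exact ((ModuleCat.extendScalars.{u, u, u+1} f).map g)
      ((ModuleCat.extendScalars.{u, u, u+1} f).map h) := by
  letI := Module.compHom S f
  haveI : Module.Flat R S := hf
  exact Module.Flat.lTensor_exact S (f := g.hom) (g := h.hom) hex

theorem bc_bijective_of_isKer {F : MVF A} {M : ModuleCat.{u+1} A} {i : F ⟶ (underline A).obj M}
    {N : Type (u+1)} [AddCommGroup N] [Module A N] {φ : M →ₗ[A] N} (h : IsKer i φ)
    {B B' : Alg A} (f : B ⟶ B') (hf : f.hom.toRingHom.Flat) :
    Function.Bijective (F.bc f) := by
  let φ' : M ⟶ ModuleCat.of A N := ModuleCat.ofHom φ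
  let Φ := (underline A).map φ'
  have hU := bc_underline_bijective M f
  have hV := bc_underline_bijective (ModuleCat.of A N) f
  constructor
  · intro s t hst
    have h1 := bc_natural i f s
    have h2 := bc_natural i f t
    rw [hst, ← h2] at h1
    exact ext_map_injective _ hf _ (h.inj B) (hU.1 h1)
  · intro y
    obtain ⟨s, hs⟩ := hU.2 (i.app (pt B') y)
    have h1 := bc_natural Φ f s
    rw [hs] at h1
    have h2 : Φ.app (pt B') (i.app (pt B') y) = 0 := h.comp B' y
    rw [h2] at h1
    have h3 : (ModuleCat.extendScalars.{u, u, u + 1} f.hom.toRingHom).map (Φ.app (pt B)) s = 0 := by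
      apply hV.1
      rw [h1, map_zero]
    have hex : Function.Exact (i.app (pt B)) (Φ.app (pt B)) := by
      intro z
      constructor
      · intro hz
        exact h.exact B z hz
      · rintro ⟨x, rfl⟩
        exact h.comp B x
    obtain ⟨t, ht⟩ := (ext_map_exact _ hf _ _ hex s).1 h3
    refine ⟨t, ?_⟩
    apply h.inj B'
    rw [← bc_natural i f t, ht, hs]

end Groth.Agent.H89.AQ
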