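import Groth.Agent.H89.AdeqFpqcRefine

/-!
# Adequate modules are sheaves for the fpqc topology (Stacks 46.5.? / 46.3.5)

A presheaf of modules on the big site of `S` which is a Zariski sheaf and all of whose `F_{P,R}` are adequate is a sheaf for
the fpqc topology: it agrees with its fpqc sheafification on affine objects (`locBijG_bij_affine`), hence everywhere.
-/

set_option autoImplicit false
set_option linter.style.haveILetI false
universe u v
open CategoryTheory Limits Opposite TensorProduct Adeq AlgebraicGeometry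

namespace Groth.Agent.H89.AQ

theorem zariski_le_fpqc : Scheme.zariskiPrecoverage.{u} ≤ Scheme.fpqcPrecoverage :=
  Scheme.zariskiPrecoverage_le_fpqcPrecoverage

section Fpqc
variable {S : Scheme.{u}}
  (P : PresheafOfModules.{u + 1} (BigSite.ORing Scheme.fpqcPrecoverage S).obj)

theorem isSheaf_fpqc_of_adequate_presheaf
    (hZar : Presheaf.IsSheaf (QuotSh.J Scheme.zariskiPrecoverage S) P.presheaf)
    (hP : ∀ (R : CommRingCat.{u}) (a : Spec R ⟶ S),
      adequate R ((toMVFPre Scheme.fpqcPrecoverage a).obj P)) :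
    Presheaf.IsSheaf (QuotSh.J Scheme.fpqcPrecoverage S) P.presheaf := by
  obtain ⟨N, hN⟩ : ∃ N : BigSite.Mod Scheme.fpqcPrecoverage S, N = (PresheafOfModules.sheafification
      (𝟙 (BigSite.ORing Scheme.fpqcPrecoverage S).obj)).obj P := ⟨_, rfl⟩
  obtain ⟨η, hη⟩ : ∃ η : P ⟶ N.val, (PresheafOfModules.toPresheaf _).map η =
      hN ▸ CategoryTheory.toSheafify (QuotSh.J Scheme.fpqcPrecoverage S) P.presheaf := by
    subst hN
    exact ⟨(PresheafOfModules.sheafificationAdjunction
      (𝟙 (BigSite.ORing Scheme.fpqcPrecoverage S).obj)).unit.app P, rfl⟩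
  have hLI : Presheaf.IsLocallyInjective (QuotSh.J Scheme.fpqcPrecoverage S)
      ((PresheafOfModules.toPresheaf _).map η) := by
    subst hN
    rw [hη]
    exact (inferInstance : Presheaf.IsLocallyInjective (QuotSh.J Scheme.fpqcPrecoverage S)
      (CategoryTheory.toSheafify (QuotSh.J Scheme.fpqcPrecoverage S) P.presheaf))
  have hLS : Presheaf.IsLocallySurjective (QuotSh.J Scheme.fpqcPrecoverage S)
      ((PresheafOfModules.toPresheaf _).map η) := by
    subst hN
    rw [hη]
    exact (inferInstance : Presheaf.IsLocallySurjective (QuotSh.J Scheme.fpqcPrecoverage S)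
      (CategoryTheory.toSheafify (QuotSh.J Scheme.fpqcPrecoverage S) P.presheaf))
  have hbij : ∀ {R : CommRingCat.{u}} (h : Spec R ⟶ S), Function.Bijective (etaFunG η (Over.mk h)) :=
    fun h => locBijG_bij_affine η zariski_le_fpqc (refProp_fpqc S) hLI hLS hP h
  have hNfpqc : Presheaf.IsSheaf (QuotSh.J Scheme.fpqcPrecoverage S) N.val.presheaf := N.isSheaf
  have hNZar : Presheaf.IsSheaf (QuotSh.J Scheme.zariskiPrecoverage S) N.val.presheaf :=
    fun E => Presieve.isSheaf_of_le _ (BigSite.J_mono zariski_le_fpqc S) (hNfpqc E)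
  -- the morphism of Zariski sheaves
  let Pz : Sheaf (QuotSh.J Scheme.zariskiPrecoverage S) AddCommGrpCat.{u + 1} := ⟨P.presheaf, hZar⟩
  let Nz : Sheaf (QuotSh.J Scheme.zariskiPrecoverage S) AddCommGrpCat.{u + 1} :=
    ⟨N.val.presheaf, hNZar⟩
  let f : Pz ⟶ Nz := ObjectProperty.homMk ((PresheafOfModules.toPresheaf _).map η)
  have hcovX : ∀ X : Over S, Sieve.ofArrows
      (fun i => Over.mk (X.left.affineOpenCover.f i ≫ X.hom))
      (fun i => (Over.homMk (X.left.affineOpenCover.f i) :
        Over.mk (X.left.affineOpenCover.f i ≫ X.hom) ⟶ X)) ∈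
        QuotSh.J Scheme.zariskiPrecoverage S X := fun X =>
    ofArrows_mem_J _ _ (affineOpenCover_mem_zariski X.left)
  have hfLI : Sheaf.IsLocallyInjective f := by
    refine ⟨fun {X} x y hxy => ?_⟩
    refine GrothendieckTopology.superset_covering _ ?_ (hcovX X.unop)
    rw [Sieve.ofArrows, Sieve.generate_le_iff]
    rintro Z g ⟨i⟩
    apply (hbij (X.unop.left.affineOpenCover.f i ≫ X.unop.hom)).1
    exact (etaFunG_nat η (Over.homMk (X.unop.left.affineOpenCover.f i) :
        Over.mk (X.unop.left.affineOpenCover.f i ≫ X.unop.hom) ⟶ X.unop) x).trans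
      ((congrArg _ hxy).trans (etaFunG_nat η (Over.homMk (X.unop.left.affineOpenCover.f i) :
        Over.mk (X.unop.left.affineOpenCover.f i ≫ X.unop.hom) ⟶ X.unop) y).symm)
  have hfLS : Sheaf.IsLocallySurjective f := by
    refine ⟨fun {X} s => ?_⟩
    refine GrothendieckTopology.superset_covering _ ?_ (hcovX X)
    rw [Sieve.ofArrows, Sieve.generate_le_iff]
    rintro Z g ⟨i⟩
    obtain ⟨t, ht⟩ := (hbij (X.left.affineOpenCover.f i ≫ X.hom)).2
      (N.val.map (Over.homMk (X.left.affineOpenCover.f i) :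
        Over.mk (X.left.affineOpenCover.f i ≫ X.hom) ⟶ X).op s)
    exact ⟨t, ht⟩
  haveI : IsIso f := (Sheaf.isLocallyBijective_iff_isIso f).mp ⟨hfLI, hfLS⟩
  have e : P.presheaf ≅ N.val.presheaf := (sheafToPresheaf _ _).mapIso (asIso f)
  exact (Presheaf.isSheaf_of_iso_iff e).mpr hNfpqc

end Fpqc
end Groth.Agent.H89.AQ
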