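import Groth.Agent.H89.AdeqShfGen

/-!
# Covering sieves of affine objects of the big fpqc site contain finite affine flat families
-/

set_option autoImplicit false
set_option linter.style.haveILetI false
universe u v
open CategoryTheory Limits Opposite TensorProduct Adeq AlgebraicGeometry

namespace Groth.Agent.H89.AQ

/-- a finite jointly surjective family of flat maps of affine schemes is an fpqc covering -/
theorem finite_affine_mem_fpqc {R : CommRingCat.{u}} {n : ℕ} (C : Fin n → CommRingCat.{u})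
    (φ : ∀ j, R ⟶ C j) (hflat : ∀ j, Flat (Spec.map (φ j)))
    (hsurj : ∀ x : Spec R, ∃ j, x ∈ Set.range (Spec.map (φ j))) :
    Presieve.ofArrows (fun j => Spec (C j)) (fun j => Spec.map (φ j)) ∈
      Scheme.fpqcPrecoverage.coverings (Spec R) := by
  have h2 : Presieve.ofArrows (fun j => Spec (C j)) (fun j => Spec.map (φ j)) ∈
      (Scheme.precoverage @Flat).coverings (Spec R) := by
    rw [Scheme.ofArrows_mem_precoverage_iff]
    exact ⟨hsurj, hflat⟩
  refine ⟨?_, h2⟩
  let 𝒰 : (Spec R).Cover (Scheme.precoverage @Flat) :=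
    ⟨⟨Fin n, fun j => Spec (C j), fun j => Spec.map (φ j)⟩, h2⟩
  have h3 : QuasiCompactCover 𝒰.toPreZeroHypercover := by
    haveI : ∀ i, QuasiCompact (𝒰.f i) := fun i => by
      change QuasiCompact (Spec.map (φ i))
      infer_instance
    haveI : Finite 𝒰.I₀ := inferInstanceAs (Finite (Fin n))
    exact QuasiCompactCover.of_finite
  exact Scheme.presieve₀_mem_qcPrecoverage_iff.mpr h3

end Groth.Agent.H89.AQ

namespace Groth.Agent.H89.AQ

theorem exists_affine_refinement_sieve_fpqc
    {S : Scheme.{u}} {R : CommRingCat.{u}} (h : Spec R ⟶ S)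
    (T : Sieve (Over.mk h)) (hT : T ∈ QuotSh.J Scheme.fpqcPrecoverage S (Over.mk h)) :
    ∃ (n : ℕ) (C : Fin n → CommRingCat.{u}) (φ : ∀ j, R ⟶ C j),
      (∀ j, Flat (Spec.map (φ j))) ∧
      (∀ x : Spec R, ∃ j, x ∈ Set.range (Spec.map (φ j))) ∧
      ∀ (j : Fin n) (Y : Over S) (f : Y ⟶ Over.mk h) (e : Y.left ⟶ Spec (C j)),
        f.left = e ≫ Spec.map (φ j) → T.arrows f := by
  rw [GrothendieckTopology.mem_over_iff,
    Precoverage.mem_toGrothendieck_iff_of_isStableUnderComposition] at hT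
  obtain ⟨Rp, hRp, hle⟩ := hT
  obtain ⟨E, rfl⟩ := Rp.exists_eq_preZeroHypercover
  have h1 : E.presieve₀ ∈ Scheme.qcPrecoverage.coverings (Spec R) := hRp.1
  have h2 : E.presieve₀ ∈ (Scheme.precoverage @Flat).coverings (Spec R) := hRp.2
  rw [Scheme.presieve₀_mem_qcPrecoverage_iff] at h1
  rw [Scheme.ofArrows_mem_precoverage_iff] at h2
  obtain ⟨hsurj, hflat⟩ := h2
  obtain ⟨n, f, V, hV, hU⟩ := QuasiCompactCover.exists_isAffineOpen_of_isCompact E
    (U := (⊤ : (Spec R).Opens)) (show IsCompact (Set.univ : Set (Spec R)) from isCompact_univ)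
  let g : ∀ j : Fin n, Spec Γ(E.X (f j), V j) ⟶ Spec R := fun j => (hV j).fromSpec ≫ E.f (f j)
  refine ⟨n, fun j => Γ(E.X (f j), V j), fun j => Spec.preimage (g j), ?_, ?_, ?_⟩
  · intro j
    rw [Spec.map_preimage]
    haveI : Flat (E.f (f j)) := hflat (f j)
    infer_instance
  · intro x
    have hx : x ∈ ⋃ i, (E.f (f i)) '' (V i) := by
      rw [hU]
      trivial
    obtain ⟨j, v, hv, hvx⟩ := Set.mem_iUnion.mp hx
    rw [← (hV j).range_fromSpec] at hv
    obtain ⟨w, hw⟩ := hv
    refine ⟨j, w, ?_⟩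
    rw [Spec.map_preimage]
    change ((hV j).fromSpec ≫ E.f (f j)) w = x
    rw [Scheme.Hom.comp_apply, hw, hvx]
  · intro j Y f' e' hf
    rw [Spec.map_preimage] at hf
    have h1 : (Sieve.overEquiv (Over.mk h) T).arrows (E.f (f j)) :=
      hle _ _ (Presieve.ofArrows.mk _)
    have h2 : (Sieve.overEquiv (Over.mk h) T).arrows f'.left := by
      rw [hf]
      change (Sieve.overEquiv (Over.mk h) T).arrows (e' ≫ (hV j).fromSpec ≫ E.f (f j))
      rw [← Category.assoc]
      exact Sieve.downward_closed _ h1 _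
    rw [Sieve.overEquiv_iff] at h2
    have hw : 𝟙 Y.left ≫ (Over.mk (f'.left ≫ (Over.mk h).hom)).hom = Y.hom := by
      rw [Category.id_comp]
      exact Over.w f'
    have h3 : (Over.homMk (𝟙 Y.left) hw : Y ⟶ Over.mk (f'.left ≫ (Over.mk h).hom)) ≫
        (Over.homMk f'.left : Over.mk (f'.left ≫ (Over.mk h).hom) ⟶ Over.mk h) = f' := by
      ext : 1
      simp
    rw [← h3]
    exact Sieve.downward_closed _ h2 _

theorem refProp_fpqc (S : Scheme.{u}) : RefProp Scheme.fpqcPrecoverage S := by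
  intro R a T hT
  obtain ⟨n, C, φ, hflat, hsurj, hT'⟩ := exists_affine_refinement_sieve_fpqc
    (R := CommRingCat.of R) ((specOver a).obj (op (algOf R R))).hom T hT
  letI : ∀ j, Algebra R (C j) := fun j => (φ j).hom.toAlgebra
  refine ⟨n, fun j => C j, inferInstance, inferInstance, ?_, ?_, ?_, ?_⟩
  · intro j
    exact Flat.SpecMap_iff.mp (hflat j)
  · intro p
    obtain ⟨j, q, hq⟩ := hsurj p
    exact ⟨j, q, hq⟩
  · exact finite_affine_mem_fpqc (R := CommRingCat.of R) C φ hflat hsurj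
  · intro j
    refine hT' j _ _ (𝟙 (Spec (C j))) ?_
    exact (Category.id_comp (Spec.map (φ j))).symm

end Groth.Agent.H89.AQ
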