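import Groth.Agent.H89.AdeqSiteFF
import Groth.Agent.H89.AdeqFF1

/-!
# Vanishing of the first Čech cohomology of an adequate functor for a faithfully flat algebra (Stacks 46.3.5, degree 1)
-/

set_option autoImplicit false
set_option linter.style.haveILetI false
universe u v
open CategoryTheory Limits Opposite TensorProduct Adeq AlgebraicGeometry

namespace Groth.Agent.H89.AQ

section H1
variable (A : Type u) [CommRing A] (B : Type u) [CommRing B] [Algebra A B]

noncomputable abbrev gC0 : algOf A (B ⊗[A] B) ⟶ algOf A ((B ⊗[A] B) ⊗[A] B) :=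
  CommAlgCat.ofHom (cof0 A B)

noncomputable abbrev gC1 : algOf A (B ⊗[A] B) ⟶ algOf A ((B ⊗[A] B) ⊗[A] B) :=
  CommAlgCat.ofHom (cof1 A B)

noncomputable abbrev gC2 : algOf A (B ⊗[A] B) ⟶ algOf A ((B ⊗[A] B) ⊗[A] B) :=
  CommAlgCat.ofHom (cof2 A B)

theorem adequate_H1_vanish [Module.FaithfullyFlat A B] (F : MVF A) (hF : adequate A F)
    (d : F.obj (pt (algOf A (B ⊗[A] B))))
    (hd : tmap F (gC0 A B) d + tmap F (gC2 A B) d = tmap F (gC1 A B) d) :
    ∃ e : F.obj (pt (algOf A B)), d = tmap F (gL A B) e - tmap F (gR A B) e := by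
  obtain ⟨M, N, φ, i, hi⟩ := exists_isKer_of_adequate hF
  obtain ⟨z, hz⟩ : ∃ z : (B ⊗[A] B) ⊗[A] M, z = i.app (pt (algOf A (B ⊗[A] B))) d := ⟨_, rfl⟩
  -- `z` is a cocycle
  have e0 := (app_tmap i (gC0 A B) d).trans (underline_tmap M (gC0 A B) _)
  have e1 := (app_tmap i (gC1 A B) d).trans (underline_tmap M (gC1 A B) _)
  have e2 := (app_tmap i (gC2 A B) d).trans (underline_tmap M (gC2 A B) _)
  have h' : (cof0 A B).toLinearMap.rTensor M z + (cof2 A B).toLinearMap.rTensor M z =
      (cof1 A B).toLinearMap.rTensor M z := by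
    rw [hz]
    exact ((congrArg₂ (· + ·) e0 e2).symm.trans
      ((map_add (i.app (pt (algOf A ((B ⊗[A] B) ⊗[A] B)))).hom _ _).symm.trans
        (congrArg _ hd))).trans e1
  have hz1 : d1Map A B M z = 0 := by
    have h'' := congrArg (TensorProduct.assoc A (B ⊗[A] B) B M) h'
    rw [map_add] at h''
    have : d1Map A B M z = cofM A B M (cof0 A B) z - cofM A B M (cof1 A B) z +
        cofM A B M (cof2 A B) z := rfl
    rw [this, sub_add_eq_add_sub]
    exact sub_eq_zero.mpr h''
  obtain ⟨m, hm⟩ := (ff_exact1 A B M z).mp hz1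
  -- the image of `m` in `B ⊗ N` descends
  obtain ⟨n', hn'⟩ : ∃ n' : B ⊗[A] N, n' = φ.hom.baseChange B m := ⟨_, rfl⟩
  have hdn : dMap A B N n' = 0 := by
    have eL : (gL A B).hom.toLinearMap.rTensor N (φ.hom.baseChange B m) =
        φ.hom.baseChange (B ⊗[A] B) ((gL A B).hom.toLinearMap.rTensor M m) :=
      (app_tmap ((underline A).map φ) (gL A B) m).symm
    have eR : (gR A B).hom.toLinearMap.rTensor N (φ.hom.baseChange B m) =
        φ.hom.baseChange (B ⊗[A] B) ((gR A B).hom.toLinearMap.rTensor M m) :=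
      (app_tmap ((underline A).map φ) (gR A B) m).symm
    have : dMap A B N n' = φ.hom.baseChange (B ⊗[A] B) (dMap A B M m) := by
      rw [hn']
      simp only [dMap, LinearMap.sub_apply, map_sub]
      exact congrArg₂ (· - ·) eL eR
    rw [this, hm, hz]
    exact hi.comp (algOf A (B ⊗[A] B)) d
  obtain ⟨n₀, hn₀⟩ := (ff_exact A B N n').mp hdn
  -- `n₀` is in the range of `φ`
  have hn₀r : n₀ ∈ LinearMap.range φ.hom := by
    rw [← Submodule.Quotient.mk_eq_zero, ← Submodule.mkQ_apply]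
    apply eMap_injective A B (N ⧸ LinearMap.range φ.hom)
    rw [map_zero]
    have h1 : eMap A B (N ⧸ LinearMap.range φ.hom) ((LinearMap.range φ.hom).mkQ n₀) =
        (LinearMap.range φ.hom).mkQ.baseChange B (eMap A B N n₀) := by
      simp [eMap]
    rw [h1, hn₀, hn', ← LinearMap.comp_apply, ← LinearMap.baseChange_comp,
      LinearMap.range_mkQ_comp, LinearMap.baseChange_zero, LinearMap.zero_apply]
  obtain ⟨m₀, hm₀⟩ := hn₀r
  have hφm' : φ.hom.baseChange B (m - eMap A B M m₀) = 0 := by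
    rw [map_sub, ← hn', ← hn₀, ← hm₀]
    simp [eMap]
  obtain ⟨e, he⟩ := hi.exact (algOf A B) _ hφm'
  refine ⟨e, ?_⟩
  apply hi.inj (algOf A (B ⊗[A] B))
  have eL := (app_tmap i (gL A B) e).trans (underline_tmap M (gL A B) _)
  have eR := (app_tmap i (gR A B) e).trans (underline_tmap M (gR A B) _)
  have h2 : dMap A B M (m - eMap A B M m₀) = z := by
    rw [map_sub, hm, ← LinearMap.comp_apply, dMap_comp_eMap, LinearMap.zero_apply, sub_zero]
  refine (hz.symm.trans h2.symm).trans ?_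
  rw [← he]
  exact ((congrArg₂ (· - ·) eL eR).symm.trans
    (map_sub (i.app (pt (algOf A (B ⊗[A] B)))).hom _ _).symm)

end H1
end Groth.Agent.H89.AQ
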