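import Groth.Agent.H89.AdeqDescentFam

/-!
# A functor that is elementwise an equalizer of finite families of adequate functors is adequate
-/

set_option autoImplicit false
set_option linter.style.haveILetI false
universe u v w
open CategoryTheory Limits Opposite TensorProduct Adeq

namespace Groth.Agent.H89.AQ
variable {A : Type u} [CommRing A] {J : Type v} [Fintype J] {Mm : Type w} [Fintype Mm]

theorem adequate_of_kernel_families (G : MVF A) (Gj : J → MVF A) (Hm : Mm → MVF A)
    (hGj : ∀ j, adequate A (Gj j)) (hHm : ∀ m, adequate A (Hm m))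
    (e : ∀ j, G ⟶ Gj j) (s t : Mm → J) (α : ∀ m, Gj (s m) ⟶ Hm m) (β : ∀ m, Gj (t m) ⟶ Hm m)
    (hcomp : ∀ m, e (s m) ≫ α m = e (t m) ≫ β m)
    (hsep : ∀ (B : Alg A) (x x' : G.obj (pt B)),
      (∀ j, (e j).app (pt B) x = (e j).app (pt B) x') → x = x')
    (hglue : ∀ (B : Alg A) (y : ∀ j, (Gj j).obj (pt B)),
      (∀ m, (α m).app (pt B) (y (s m)) = (β m).app (pt B) (y (t m))) →
      ∃ x : G.obj (pt B), ∀ j, (e j).app (pt B) x = y j) :
    adequate A G := by
  classical
  have hG₀ := adequate_biproduct Gj hGj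
  have hG₁ := adequate_biproduct Hm hHm
  obtain ⟨ε, hε⟩ : ∃ ε : G ⟶ ⨁ Gj, ε = biproduct.lift e := ⟨_, rfl⟩
  obtain ⟨a, ha⟩ : ∃ a : (⨁ Gj) ⟶ ⨁ Hm,
      a = biproduct.lift (fun m => biproduct.π Gj (s m) ≫ α m) := ⟨_, rfl⟩
  obtain ⟨b, hb⟩ : ∃ b : (⨁ Gj) ⟶ ⨁ Hm,
      b = biproduct.lift (fun m => biproduct.π Gj (t m) ≫ β m) := ⟨_, rfl⟩
  have hεapp : ∀ (B : Alg A) (x : G.obj (pt B)) (j : J),
      (biproduct.π Gj j).app (pt B) (ε.app (pt B) x) = (e j).app (pt B) x := by
    intro B x j
    rw [hε, biproduct_lift_π_apply]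
  have haapp : ∀ (B : Alg A) (y : (⨁ Gj).obj (pt B)) (m : Mm),
      (biproduct.π Hm m).app (pt B) (a.app (pt B) y) =
        (α m).app (pt B) ((biproduct.π Gj (s m)).app (pt B) y) := by
    intro B y m
    rw [ha, biproduct_lift_π_apply, comp_app_apply]
  have hbapp : ∀ (B : Alg A) (y : (⨁ Gj).obj (pt B)) (m : Mm),
      (biproduct.π Hm m).app (pt B) (b.app (pt B) y) =
        (β m).app (pt B) ((biproduct.π Gj (t m)).app (pt B) y) := by
    intro B y m
    rw [hb, biproduct_lift_π_apply, comp_app_apply]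
  have hK : adequate A (kernel (a - b)) := adequate_kernel (a - b) hG₀ hG₁
  have w : ε ≫ (a - b) = 0 := by
    apply hom_ext'
    intro B x
    rw [comp_app_apply, sub_app_apply, zero_app_apply, sub_eq_zero]
    apply biproduct_ext_elt
    intro m
    rw [haapp, hbapp, hεapp, hεapp, ← comp_app_apply, ← comp_app_apply, hcomp]
  obtain ⟨l, hl⟩ : ∃ l : G ⟶ kernel (a - b), l ≫ kernel.ι (a - b) = ε :=
    ⟨kernel.lift _ ε w, kernel.lift_ι _ _ _⟩
  haveI : IsIso l := by
    apply isIso_of_bij
    intro B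
    constructor
    · intro x x' hxx'
      apply hsep B
      intro j
      have e1 := congrArg (fun z => (kernel.ι (a - b)).app (pt B) z) hxx'
      simp only [] at e1
      rw [← comp_app_apply, ← comp_app_apply, hl] at e1
      rw [← hεapp, ← hεapp, e1]
    · intro z
      obtain ⟨y, hy⟩ : ∃ y, y = (kernel.ι (a - b)).app (pt B) z := ⟨_, rfl⟩
      have hy0 : (a - b).app (pt B) y = 0 := by
        rw [hy]
        exact kernel_ι_comp (a - b) B z
      have hy1 : a.app (pt B) y = b.app (pt B) y := by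
        rw [sub_app_apply] at hy0
        exact sub_eq_zero.mp hy0
      obtain ⟨x, hx⟩ := hglue B (fun j => (biproduct.π Gj j).app (pt B) y)
        (fun m => by
          have h1 := haapp B y m
          have h2 := hbapp B y m
          rw [hy1] at h1
          exact h1.symm.trans h2)
      refine ⟨x, ?_⟩
      apply kernel_ι_injective (a - b) B
      rw [← comp_app_apply, hl, ← hy]
      apply biproduct_ext_elt
      intro j
      rw [hεapp]
      exact hx j
  exact (adequate A).prop_of_iso (asIso l).symm hK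

end Groth.Agent.H89.AQ
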