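import Groth.Agent.H89.AdeqRep

/-!
# Lifting morphisms from linearly adequate functors along extensions (Stacks 46.3)

Core of Stacks 46.3 (extensions of adequate functors): if `0 → F → G → H → 0` is exact with `F` adequate
and `L` is linearly adequate, every morphism `L ⟶ H` lifts to `L ⟶ G` (`exists_lift_of_isKer`).

Method: `L` is representable by `U = Uni a`, so a set-theoretic natural lift `σ₀` exists (Yoneda).
Its failure of homogeneity `d(r,y) = σ₀(ry) - rσ₀(y)` takes values in `F`, satisfies a cocycle identity,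
and subtracting its "degree one coefficient" (computed in `F(B[t]) ⊆ B[t] ⊗ M`) makes `σ` homogeneous.
A natural homogeneous map is additive: the additivity defect is a natural homogeneous map from the functor
of pairs (again linearly adequate) to `underline M`, hence a linear form, which vanishes on `(y,0)` and `(0,y')`.
-/

set_option autoImplicit false
set_option linter.style.haveILetI false
universe u v
open CategoryTheory Limits Opposite TensorProduct Adeq

namespace Groth.Agent.H89.AQ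

section Poly
variable (A : Type u) [CommRing A] (B : Type u) [CommRing B] [Algebra A B]
  (M : Type v) [AddCommGroup M] [Module A M]

/-- coefficient of `t` as an `A`-linear map -/
noncomputable def lc1 : Polynomial B →ₗ[A] B := (Polynomial.lcoeff B 1).restrictScalars A

/-- the substitution `t ↦ r t` -/
noncomputable def rhoHom (r : B) : Polynomial B →ₐ[A] Polynomial B :=
  (Polynomial.aeval (R := B) (Polynomial.C r * Polynomial.X : Polynomial B)).restrictScalars A

theorem rhoHom_X (r : B) : rhoHom A B r Polynomial.X = Polynomial.C r * Polynomial.X := by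
  simp [rhoHom]

theorem rhoHom_C (r b : B) : rhoHom A B r (Polynomial.C b) = Polynomial.C b := by
  simp [rhoHom]

theorem lc1_rhoHom (r : B) (p : Polynomial B) : lc1 A B (rhoHom A B r p) = r * lc1 A B p := by
  simp only [lc1, rhoHom, LinearMap.coe_restrictScalars, Polynomial.lcoeff_apply,
    AlgHom.coe_restrictScalars']
  change (p.comp (Polynomial.C r * Polynomial.X)).coeff 1 = _
  rw [Polynomial.comp_C_mul_X_coeff, pow_one, mul_comm]

theorem lc1_X_mul_C (b : B) : lc1 A B (Polynomial.X * Polynomial.C b) = b := by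
  simp [lc1]

variable {B}
theorem lc1_rTensor_X_smul_C (z : B ⊗[A] M) :
    (lc1 A B).rTensor M ((Polynomial.X : Polynomial B) •
      ((Polynomial.CAlgHom (R := A) (A := B)).toLinearMap.rTensor M z)) = z := by
  induction z using TensorProduct.induction_on with
  | zero => simp
  | tmul w m =>
    rw [LinearMap.rTensor_tmul, TensorProduct.smul_tmul', LinearMap.rTensor_tmul]
    simp [lc1]
  | add x y hx hy => rw [map_add, smul_add, map_add, hx, hy]

theorem lc1_rTensor_rhoHom (r : B) (w : Polynomial B ⊗[A] M) :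
    (lc1 A B).rTensor M ((rhoHom A B r).toLinearMap.rTensor M w) =
      r • (lc1 A B).rTensor M w := by
  induction w using TensorProduct.induction_on with
  | zero => simp
  | tmul p m =>
    rw [LinearMap.rTensor_tmul, LinearMap.rTensor_tmul, LinearMap.rTensor_tmul,
      TensorProduct.smul_tmul', AlgHom.toLinearMap_apply, lc1_rhoHom, smul_eq_mul]
  | add x y hx hy => rw [map_add, map_add, map_add, smul_add, hx, hy]

theorem lc1_rTensor_map {B' : Type u} [CommRing B'] [Algebra A B'] (g : B →ₐ[A] B')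
    (w : Polynomial B ⊗[A] M) :
    (lc1 A B').rTensor M ((Polynomial.mapAlgHom g).toLinearMap.rTensor M w) =
      g.toLinearMap.rTensor M ((lc1 A B).rTensor M w) := by
  induction w using TensorProduct.induction_on with
  | zero => simp
  | tmul p m =>
    rw [LinearMap.rTensor_tmul, LinearMap.rTensor_tmul, LinearMap.rTensor_tmul,
      LinearMap.rTensor_tmul]
    congr 1
    simp [lc1, Polynomial.coeff_map]
  | add x y hx hy => simp only [map_add, hx, hy]

end Poly

end Groth.Agent.H89.AQ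

namespace Groth.Agent.H89.AQ
variable {A : Type u} [CommRing A]

/-- the polynomial algebra `B[t]` as an object of `Alg A` -/
noncomputable abbrev polyAlg (B : Alg A) : Alg A := algOf A (Polynomial B)

/-- constants `B → B[t]` -/
noncomputable abbrev polyC (B : Alg A) : B ⟶ polyAlg B :=
  CommAlgCat.ofHom (Polynomial.CAlgHom (R := A) (A := B))

/-- `B[t] → B'[t]` -/
noncomputable abbrev polyMap {B B' : Alg A} (g : B ⟶ B') : polyAlg B ⟶ polyAlg B' :=
  CommAlgCat.ofHom (Polynomial.mapAlgHom g.hom)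

/-- `t ↦ r t` -/
noncomputable abbrev polyRho (B : Alg A) (r : B) : polyAlg B ⟶ polyAlg B :=
  CommAlgCat.ofHom (rhoHom A B r)

theorem polyC_polyMap {B B' : Alg A} (g : B ⟶ B') : polyC B ≫ polyMap g = g ≫ polyC B' := by
  apply CommAlgCat.hom_ext
  apply AlgHom.ext
  intro x
  change Polynomial.map _ (Polynomial.C x) = Polynomial.C (g.hom x)
  rw [Polynomial.map_C]
  rfl

theorem polyC_polyRho (B : Alg A) (r : B) : polyC B ≫ polyRho B r = polyC B := by
  apply CommAlgCat.hom_ext
  apply AlgHom.ext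
  intro x
  exact rhoHom_C A B r x

/-- a morphism to `underline M`, as a plain function into the tensor product -/
noncomputable def uapp {F : MVF A} {M : ModuleCat.{u+1} A} (iF : F ⟶ (underline A).obj M)
    (B : Alg A) (x : F.obj (pt B)) : (B : Type u) ⊗[A] M := iF.app (pt B) x

section Uapp
variable {F : MVF A} {M : ModuleCat.{u+1} A} (iF : F ⟶ (underline A).obj M)

theorem uapp_add (B : Alg A) (x y : F.obj (pt B)) :
    uapp iF B (x + y) = uapp iF B x + uapp iF B y := map_add (iF.app (pt B)).hom x y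

theorem uapp_sub (B : Alg A) (x y : F.obj (pt B)) :
    uapp iF B (x - y) = uapp iF B x - uapp iF B y := map_sub (iF.app (pt B)).hom x y

theorem uapp_zero (B : Alg A) : uapp iF B 0 = 0 := map_zero (iF.app (pt B)).hom

theorem uapp_smul (B : Alg A) (r : B) (x : F.obj (pt B)) :
    uapp iF B (r • x) = r • uapp iF B x := app_smul iF B r x

theorem uapp_tmap {B B' : Alg A} (g : B ⟶ B') (x : F.obj (pt B)) :
    uapp iF B' (tmap F g x) = g.hom.toLinearMap.rTensor M (uapp iF B x) :=
  app_tmap iF g x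

end Uapp

section CoefF
variable {F : MVF A} {M : ModuleCat.{u+1} A} {iF : F ⟶ (underline A).obj M}
  {N : Type (u+1)} [AddCommGroup N] [Module A N] {φF : M →ₗ[A] N}

theorem uapp_injective (hF : IsKer iF φF) (B : Alg A) : Function.Injective (uapp iF B) :=
  hF.inj B

/-- the coefficient-of-`t` map `F(B[t]) → F(B)` for `F` adequate -/
theorem exists_coef (hF : IsKer iF φF) (B : Alg A) (x : F.obj (pt (polyAlg B))) :
    ∃ x₁ : F.obj (pt B), uapp iF B x₁ = (lc1 A B).rTensor M (uapp iF (polyAlg B) x) := by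
  apply hF.exact B
  have h1 : φF.baseChange B ((lc1 A B).rTensor M (uapp iF (polyAlg B) x)) =
      (lc1 A B).rTensor N (φF.baseChange (Polynomial B) (uapp iF (polyAlg B) x)) := by
    change ((φF.lTensor B) ∘ₗ ((lc1 A B).rTensor M)) _ = (((lc1 A B).rTensor N) ∘ₗ (φF.lTensor _)) _
    rw [LinearMap.lTensor_comp_rTensor, LinearMap.rTensor_comp_lTensor]
  rw [h1]
  have h2 : φF.baseChange (Polynomial B) (uapp iF (polyAlg B) x) = 0 := hF.comp (polyAlg B) x
  rw [h2, map_zero]

end CoefF

section Homog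
variable {F G H L : MVF A} {M : ModuleCat.{u+1} A} {iF : F ⟶ (underline A).obj M}
  {N : Type (u+1)} [AddCommGroup N] [Module A N] {φF : M →ₗ[A] N}

theorem homogenize (hF : IsKer iF φF) (f : F ⟶ G) (π : G ⟶ H) (lam : L ⟶ H)
    (hf : ∀ B : Alg A, Function.Injective (f.app (pt B)))
    (hex : ∀ (B : Alg A) (g : G.obj (pt B)), π.app (pt B) g = 0 → ∃ x, f.app (pt B) x = g)
    (hfπ : ∀ (B : Alg A) (x : F.obj (pt B)), π.app (pt B) (f.app (pt B) x) = 0)
    (σ₀ : ∀ B : Alg A, L.obj (pt B) → G.obj (pt B))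
    (hσ₀nat : ∀ (B B' : Alg A) (g : B ⟶ B') (y : L.obj (pt B)),
      σ₀ B' (tmap L g y) = tmap G g (σ₀ B y))
    (hσ₀π : ∀ (B : Alg A) (y : L.obj (pt B)), π.app (pt B) (σ₀ B y) = lam.app (pt B) y) :
    ∃ σ : ∀ B : Alg A, L.obj (pt B) → G.obj (pt B),
      (∀ (B B' : Alg A) (g : B ⟶ B') (y : L.obj (pt B)),
        σ B' (tmap L g y) = tmap G g (σ B y)) ∧
      (∀ (B : Alg A) (y : L.obj (pt B)), π.app (pt B) (σ B y) = lam.app (pt B) y) ∧
      (∀ (B : Alg A) (r : B) (y : L.obj (pt B)), σ B (r • y) = r • σ B y) := by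
  -- the defect of homogeneity
  have hd : ∀ (B : Alg A) (r : B) (y : L.obj (pt B)),
      ∃ x : F.obj (pt B), f.app (pt B) x = σ₀ B (r • y) - r • σ₀ B y := by
    intro B r y
    apply hex
    rw [map_sub, hσ₀π, app_smul π, hσ₀π, app_smul lam, sub_self]
  choose dm hdm using hd
  have hdmnat : ∀ (B B' : Alg A) (g : B ⟶ B') (r : B) (y : L.obj (pt B)),
      dm B' (g.hom r) (tmap L g y) = tmap F g (dm B r y) := by
    intro B B' g r y
    apply hf B'
    rw [hdm, app_tmap, hdm, tmap_sub, ← tmap_smul L, hσ₀nat, tmap_smul G, hσ₀nat]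
  have hcoc : ∀ (B : Alg A) (r₁ r₂ : B) (y : L.obj (pt B)),
      dm B (r₁ * r₂) y = r₁ • dm B r₂ y + dm B r₁ (r₂ • y) := by
    intro B r₁ r₂ y
    apply hf B
    rw [map_add, app_smul f, hdm, hdm, hdm, mul_smul, mul_smul, smul_sub]
    abel
  -- the degree one coefficient
  have hδ : ∀ (B : Alg A) (y : L.obj (pt B)), ∃ x₁ : F.obj (pt B), uapp iF B x₁ =
      (lc1 A B).rTensor M (uapp iF (polyAlg B)
        (dm (polyAlg B) (Polynomial.X : Polynomial B) (tmap L (polyC B) y))) :=
    fun B y => exists_coef hF B _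
  choose δ hδ using hδ
  have hδnat : ∀ (B B' : Alg A) (g : B ⟶ B') (y : L.obj (pt B)),
      δ B' (tmap L g y) = tmap F g (δ B y) := by
    intro B B' g y
    apply uapp_injective hF B'
    rw [hδ, uapp_tmap, hδ, ← lc1_rTensor_map A M g.hom]
    congr 1
    have e : (Polynomial.mapAlgHom g.hom).toLinearMap.rTensor M
        (uapp iF (polyAlg B) (dm (polyAlg B) (Polynomial.X : Polynomial B) (tmap L (polyC B) y))) =
        uapp iF (polyAlg B') (tmap F (polyMap g)
          (dm (polyAlg B) (Polynomial.X : Polynomial B) (tmap L (polyC B) y))) :=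
      (uapp_tmap iF (polyMap g) _).symm
    rw [e]
    congr 1
    rw [← hdmnat _ _ (polyMap g), tmap_comp, tmap_comp, polyC_polyMap]
    congr 1
    change (Polynomial.X : Polynomial B') = Polynomial.map _ Polynomial.X
    rw [Polynomial.map_X]
  have hkey : ∀ (B : Alg A) (r : B) (y : L.obj (pt B)),
      r • δ B y = dm B r y + δ B (r • y) := by
    intro B r y
    apply uapp_injective hF B
    have hc := hcoc (polyAlg B) (Polynomial.X : Polynomial B) (Polynomial.C r)
      (tmap L (polyC B) y)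
    have e1 : dm (polyAlg B) (Polynomial.C r) (tmap L (polyC B) y) =
        tmap F (polyC B) (dm B r y) := hdmnat B (polyAlg B) (polyC B) r y
    have e2 : (Polynomial.C r : Polynomial B) • tmap L (polyC B) y =
        tmap L (polyC B) (r • y) := (tmap_smul L (polyC B) r y).symm
    have e3 : dm (polyAlg B) ((Polynomial.X : Polynomial B) * Polynomial.C r)
        (tmap L (polyC B) y) = tmap F (polyRho B r)
          (dm (polyAlg B) (Polynomial.X : Polynomial B) (tmap L (polyC B) y)) := by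
      rw [← hdmnat _ _ (polyRho B r), tmap_comp, polyC_polyRho]
      congr 1
      change _ = rhoHom A B r Polynomial.X
      rw [rhoHom_X, mul_comm]
    rw [e1, e2, e3] at hc
    have hc' := congrArg (fun x => (lc1 A B).rTensor M (uapp iF (polyAlg B) x)) hc
    simp only [] at hc'
    rw [uapp_add, map_add, ← hδ B (r • y), uapp_tmap, uapp_smul, uapp_tmap] at hc'
    have e4 : (lc1 A B).rTensor M ((polyRho B r).hom.toLinearMap.rTensor M
        (uapp iF (polyAlg B) (dm (polyAlg B) (Polynomial.X : Polynomial B) (tmap L (polyC B) y)))) =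
        r • (lc1 A B).rTensor M
          (uapp iF (polyAlg B) (dm (polyAlg B) (Polynomial.X : Polynomial B) (tmap L (polyC B) y))) :=
      lc1_rTensor_rhoHom A M r _
    have e5 : (lc1 A B).rTensor M ((Polynomial.X : Polynomial B) •
        ((polyC B).hom.toLinearMap.rTensor M (uapp iF B (dm B r y)))) = uapp iF B (dm B r y) :=
      lc1_rTensor_X_smul_C A M _
    rw [e4, e5, ← hδ B y] at hc'
    rw [uapp_smul, uapp_add]
    exact hc'
  refine ⟨fun B y => σ₀ B y + f.app (pt B) (δ B y), ?_, ?_, ?_⟩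
  · intro B B' g y
    simp only []
    rw [hσ₀nat, hδnat, app_tmap, tmap_add]
  · intro B y
    simp only []
    rw [map_add, hσ₀π, hfπ, add_zero]
  · intro B r y
    simp only []
    have h1 : σ₀ B (r • y) = r • σ₀ B y + f.app (pt B) (dm B r y) := by
      rw [hdm]; abel
    have h2 : δ B (r • y) = r • δ B y - dm B r y := by
      rw [hkey]; abel
    rw [h1, h2, map_sub, app_smul f, smul_add]
    abel

end Homog

end Groth.Agent.H89.AQ

namespace Groth.Agent.H89.AQ
variable {A : Type u} [CommRing A]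

/-- a natural, additive, homogeneous family of maps is a morphism of module-valued functors -/
theorem exists_hom_of_family {L G : MVF A} (σ : ∀ B : Alg A, L.obj (pt B) → G.obj (pt B))
    (hnat : ∀ (B B' : Alg A) (g : B ⟶ B') (y : L.obj (pt B)),
      σ B' (tmap L g y) = tmap G g (σ B y))
    (hadd : ∀ (B : Alg A) (y y' : L.obj (pt B)), σ B (y + y') = σ B y + σ B y')
    (hsmul : ∀ (B : Alg A) (r : B) (y : L.obj (pt B)), σ B (r • y) = r • σ B y) :
    ∃ s : L ⟶ G, ∀ (B : Alg A) (y : L.obj (pt B)), s.app (pt B) y = σ B y := by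
  let s : L ⟶ G :=
    { app := fun X => ModuleCat.ofHom
        { toFun := σ X.unop.unop
          map_add' := hadd X.unop.unop
          map_smul' := hsmul X.unop.unop }
      naturality := fun {X Y} g => by
        ext x
        exact hnat X.unop.unop Y.unop.unop g.unop.unop x }
  exact ⟨s, fun B y => rfl⟩

end Groth.Agent.H89.AQ

namespace Groth.Agent.H89.AQ
variable {A : Type u} [CommRing A]

section Lift0
variable {ι κ : Type u} [Fintype ι] [Fintype κ]
  {P : ModuleCat.{u+1} A} (b : Module.Basis ι A P)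
  {P' : Type (u+1)} [AddCommGroup P'] [Module A P'] (b' : Module.Basis κ A P')
  (φ₀ : P →ₗ[A] P') {L : MVF A} {j : L ⟶ (underline A).obj P} (hL : IsKer j φ₀)

include hL b b' in
/-- a set-theoretic natural lift of `lam : L ⟶ H` along a surjection `π : G ⟶ H` -/
theorem exists_natural_lift {G H : MVF A} (π : G ⟶ H) (lam : L ⟶ H)
    (hπ : ∀ B : Alg A, Function.Surjective (π.app (pt B))) :
    ∃ σ₀ : ∀ B : Alg A, L.obj (pt B) → G.obj (pt B),
      (∀ (B B' : Alg A) (g : B ⟶ B') (y : L.obj (pt B)),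
        σ₀ B' (tmap L g y) = tmap G g (σ₀ B y)) ∧
      (∀ (B : Alg A) (y : L.obj (pt B)), π.app (pt B) (σ₀ B y) = lam.app (pt B) y) := by
  obtain ⟨ξ, hξ⟩ := exists_universal_elt b b' φ₀ hL
  obtain ⟨ζ₀, hζ₀⟩ := hπ _ (lam.app _ ξ)
  have hcl := exists_classify b b' φ₀ hL ξ hξ
  choose cl hcl1 hcl2 using hcl
  refine ⟨fun B y => tmap G (cl B y) ζ₀, ?_, ?_⟩
  · intro B B' g y
    simp only []
    rw [tmap_comp]
    congr 1
    apply classify_unique b b' φ₀ ξ hξ
    rw [hcl1, ← tmap_comp, hcl1]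
  · intro B y
    simp only []
    rw [app_tmap, hζ₀, ← app_tmap, hcl1]

end Lift0

end Groth.Agent.H89.AQ

namespace Groth.Agent.H89.AQ
variable {A : Type u} [CommRing A]

section ProdAlg
variable {X Y : Type v} [AddCommGroup X] [Module A X] [AddCommGroup Y] [Module A Y]
  (φ₀ : X →ₗ[A] Y) (B : Type u) [CommRing B] [Algebra A B]

theorem fst_snd_prodMap_baseChange (z : B ⊗[A] (X × X))
    (hz : (φ₀.prodMap φ₀).baseChange B z = 0) :
    φ₀.baseChange B ((LinearMap.fst A X X).baseChange B z) = 0 ∧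
      φ₀.baseChange B ((LinearMap.snd A X X).baseChange B z) = 0 := by
  constructor
  · have h1 := congrArg ((LinearMap.fst A Y Y).baseChange B) hz
    rw [map_zero, ← LinearMap.comp_apply, ← LinearMap.baseChange_comp] at h1
    have h2 : (LinearMap.fst A Y Y) ∘ₗ (φ₀.prodMap φ₀) = φ₀ ∘ₗ (LinearMap.fst A X X) := by
      apply LinearMap.ext
      intro x
      rfl
    rw [h2, LinearMap.baseChange_comp] at h1
    exact h1
  · have h1 := congrArg ((LinearMap.snd A Y Y).baseChange B) hz
    rw [map_zero, ← LinearMap.comp_apply, ← LinearMap.baseChange_comp] at h1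
    have h2 : (LinearMap.snd A Y Y) ∘ₗ (φ₀.prodMap φ₀) = φ₀ ∘ₗ (LinearMap.snd A X X) := by
      apply LinearMap.ext
      intro x
      rfl
    rw [h2, LinearMap.baseChange_comp] at h1
    exact h1

theorem prodMap_baseChange_inl_add_inr (u v : B ⊗[A] X) (hu : φ₀.baseChange B u = 0)
    (hv : φ₀.baseChange B v = 0) :
    (φ₀.prodMap φ₀).baseChange B ((LinearMap.inl A X X).baseChange B u +
      (LinearMap.inr A X X).baseChange B v) = 0 := by
  rw [map_add, ← LinearMap.comp_apply, ← LinearMap.baseChange_comp, ← LinearMap.comp_apply,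
    ← LinearMap.baseChange_comp]
  have h1 : (φ₀.prodMap φ₀) ∘ₗ (LinearMap.inl A X X) = (LinearMap.inl A Y Y) ∘ₗ φ₀ := by
    apply LinearMap.ext
    intro x
    simp
  have h2 : (φ₀.prodMap φ₀) ∘ₗ (LinearMap.inr A X X) = (LinearMap.inr A Y Y) ∘ₗ φ₀ := by
    apply LinearMap.ext
    intro x
    simp
  rw [h1, h2, LinearMap.baseChange_comp, LinearMap.baseChange_comp, LinearMap.comp_apply,
    LinearMap.comp_apply, hu, hv, map_zero, map_zero, add_zero]

end ProdAlg

section Pairs
variable {P : ModuleCat.{u+1} A} {P' : Type (u+1)} [AddCommGroup P'] [Module A P']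
  (φ₀ : P →ₗ[A] P') {L : MVF A} {j : L ⟶ (underline A).obj P} (hL : IsKer j φ₀)

/-- the module `P × P` -/
abbrev PP (P : ModuleCat.{u+1} A) : ModuleCat.{u+1} A := ModuleCat.of A (P × P)

/-- the functor of pairs of elements of `L`, as a kernel -/
noncomputable abbrev pairFun : MVF A :=
  kernel ((underline A).map (ModuleCat.ofHom (φ₀.prodMap φ₀) : PP P ⟶ ModuleCat.of A (P' × P')))

/-- the inclusion of `pairFun` -/
noncomputable abbrev pairι : pairFun φ₀ ⟶ (underline A).obj (PP P) :=
  kernel.ι ((underline A).map (ModuleCat.ofHom (φ₀.prodMap φ₀) : PP P ⟶ ModuleCat.of A (P' × P')))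

theorem isKer_pairFun : IsKer (pairι φ₀) (φ₀.prodMap φ₀) :=
  isKer_kernel_ι _

include hL in
theorem exists_proj₁ : ∃ p₁ : pairFun φ₀ ⟶ L, ∀ (B : Alg A) (w : (pairFun φ₀).obj (pt B)),
    uapp j B (p₁.app (pt B) w) = (LinearMap.fst A P P).baseChange B (uapp (pairι φ₀) B w) := by
  obtain ⟨p₁, hp₁⟩ := hL.lift (pairι φ₀ ≫
      (underline A).map (ModuleCat.ofHom (LinearMap.fst A P P) : PP P ⟶ P)) (by
    intro B w
    exact (fst_snd_prodMap_baseChange φ₀ B (uapp (pairι φ₀) B w)
      ((isKer_pairFun φ₀).comp B w)).1)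
  refine ⟨p₁, fun B w => ?_⟩
  have := congrArg (fun t => uapp t B w) hp₁
  exact this

include hL in
theorem exists_proj₂ : ∃ p₂ : pairFun φ₀ ⟶ L, ∀ (B : Alg A) (w : (pairFun φ₀).obj (pt B)),
    uapp j B (p₂.app (pt B) w) = (LinearMap.snd A P P).baseChange B (uapp (pairι φ₀) B w) := by
  obtain ⟨p₂, hp₂⟩ := hL.lift (pairι φ₀ ≫
      (underline A).map (ModuleCat.ofHom (LinearMap.snd A P P) : PP P ⟶ P)) (by
    intro B w
    exact (fst_snd_prodMap_baseChange φ₀ B (uapp (pairι φ₀) B w)
      ((isKer_pairFun φ₀).comp B w)).2)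
  refine ⟨p₂, fun B w => ?_⟩
  have := congrArg (fun t => uapp t B w) hp₂
  exact this

include hL in
theorem exists_pair (B : Alg A) (y y' : L.obj (pt B)) :
    ∃ w : (pairFun φ₀).obj (pt B), uapp (pairι φ₀) B w =
      (LinearMap.inl A P P).baseChange B (uapp j B y) +
        (LinearMap.inr A P P).baseChange B (uapp j B y') := by
  apply (isKer_pairFun φ₀).exact B
  exact prodMap_baseChange_inl_add_inr φ₀ B _ _ (hL.comp B y) (hL.comp B y')

end Pairs

end Groth.Agent.H89.AQ

namespace Groth.Agent.H89.AQ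
variable {A : Type u} [CommRing A]

section Additive
variable {ι κ : Type u} [Fintype ι] [Fintype κ]
  {P : ModuleCat.{u+1} A} (b : Module.Basis ι A P)
  {P' : Type (u+1)} [AddCommGroup P'] [Module A P'] (b' : Module.Basis κ A P')
  (φ₀ : P →ₗ[A] P') {L : MVF A} {j : L ⟶ (underline A).obj P} (hL : IsKer j φ₀)
  {F G H : MVF A} {M : ModuleCat.{u+1} A} {iF : F ⟶ (underline A).obj M}
  {N : Type (u+1)} [AddCommGroup N] [Module A N] {φF : M →ₗ[A] N}

include b b' hL in
theorem additive_of_homogeneous (hF : IsKer iF φF) (f : F ⟶ G) (π : G ⟶ H) (lam : L ⟶ H)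
    (hf : ∀ B : Alg A, Function.Injective (f.app (pt B)))
    (hex : ∀ (B : Alg A) (g : G.obj (pt B)), π.app (pt B) g = 0 → ∃ x, f.app (pt B) x = g)
    (σ : ∀ B : Alg A, L.obj (pt B) → G.obj (pt B))
    (hσnat : ∀ (B B' : Alg A) (g : B ⟶ B') (y : L.obj (pt B)),
      σ B' (tmap L g y) = tmap G g (σ B y))
    (hσπ : ∀ (B : Alg A) (y : L.obj (pt B)), π.app (pt B) (σ B y) = lam.app (pt B) y)
    (hσhom : ∀ (B : Alg A) (r : B) (y : L.obj (pt B)), σ B (r • y) = r • σ B y)
    (B : Alg A) (y y' : L.obj (pt B)) : σ B (y + y') = σ B y + σ B y' := by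
  classical
  have hc : ∀ (B : Alg A) (y y' : L.obj (pt B)), ∃ x : F.obj (pt B),
      f.app (pt B) x = σ B (y + y') - σ B y - σ B y' := by
    intro B y y'
    apply hex
    rw [map_sub, map_sub, hσπ, hσπ, hσπ, map_add]
    abel
  choose c₂ hc₂ using hc
  have hσ0 : ∀ B : Alg A, σ B 0 = 0 := by
    intro B
    have := hσhom B 0 0
    rwa [zero_smul, zero_smul] at this
  have hc₂0 : ∀ (B : Alg A) (y : L.obj (pt B)), c₂ B y 0 = 0 := by
    intro B y
    apply hf B
    rw [hc₂, add_zero, hσ0, map_zero]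
    abel
  have hc₂0' : ∀ (B : Alg A) (y' : L.obj (pt B)), c₂ B 0 y' = 0 := by
    intro B y'
    apply hf B
    rw [hc₂, zero_add, hσ0, map_zero]
    abel
  have hc₂nat : ∀ (B B' : Alg A) (g : B ⟶ B') (y y' : L.obj (pt B)),
      c₂ B' (tmap L g y) (tmap L g y') = tmap F g (c₂ B y y') := by
    intro B B' g y y'
    apply hf B'
    rw [hc₂, app_tmap, hc₂, ← tmap_add, hσnat, hσnat, hσnat, tmap_sub, tmap_sub]
  have hc₂hom : ∀ (B : Alg A) (r : B) (y y' : L.obj (pt B)),
      c₂ B (r • y) (r • y') = r • c₂ B y y' := by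
    intro B r y y'
    apply hf B
    rw [hc₂, app_smul f, hc₂, ← smul_add, hσhom, hσhom, hσhom, smul_sub, smul_sub]
  obtain ⟨p₁, hp₁⟩ := exists_proj₁ φ₀ hL
  obtain ⟨p₂, hp₂⟩ := exists_proj₂ φ₀ hL
  let θ : ∀ B : Alg A, (pairFun φ₀).obj (pt B) → (B : Type u) ⊗[A] M :=
    fun B w => uapp iF B (c₂ B (p₁.app (pt B) w) (p₂.app (pt B) w))
  have hθnat : ∀ (B B' : Alg A) (g : B ⟶ B') (w : (pairFun φ₀).obj (pt B)),
      θ B' (tmap (pairFun φ₀) g w) = g.hom.toLinearMap.rTensor M (θ B w) := by
    intro B B' g w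
    simp only [θ]
    rw [app_tmap p₁, app_tmap p₂, hc₂nat, uapp_tmap]
  have hθhom : ∀ (B : Alg A) (r : B) (w : (pairFun φ₀).obj (pt B)), θ B (r • w) = r • θ B w := by
    intro B r w
    simp only [θ]
    rw [app_smul p₁, app_smul p₂, hc₂hom, uapp_smul]
  have hθadd := homogeneous_natural_add (P := PP P) (b.prod b) (b'.prod b') (φ₀.prodMap φ₀)
    (isKer_pairFun φ₀) θ hθnat hθhom
  obtain ⟨w₁, hw₁⟩ := exists_pair φ₀ hL B y 0
  obtain ⟨w₂, hw₂⟩ := exists_pair φ₀ hL B 0 y'
  have e11 : p₁.app (pt B) w₁ = y := by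
    apply uapp_injective hL B
    rw [hp₁, hw₁, fst_baseChange_inl_add_inr]
  have e12 : p₂.app (pt B) w₁ = 0 := by
    apply uapp_injective hL B
    rw [hp₂, hw₁, snd_baseChange_inl_add_inr]
  have e21 : p₁.app (pt B) w₂ = 0 := by
    apply uapp_injective hL B
    rw [hp₁, hw₂, fst_baseChange_inl_add_inr]
  have e22 : p₂.app (pt B) w₂ = y' := by
    apply uapp_injective hL B
    rw [hp₂, hw₂, snd_baseChange_inl_add_inr]
  have h := hθadd B w₁ w₂
  simp only [θ] at h
  rw [map_add, map_add, e11, e12, e21, e22, add_zero, zero_add, hc₂0, hc₂0', uapp_zero,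
    add_zero] at h
  have h1 : c₂ B y y' = 0 := uapp_injective hF B (h.trans (uapp_zero iF B).symm)
  have h2 := hc₂ B y y'
  rw [h1, map_zero] at h2
  have h3 : σ B (y + y') - (σ B y + σ B y') = 0 := by
    rw [← sub_sub]
    exact h2.symm
  exact sub_eq_zero.mp h3

end Additive

end Groth.Agent.H89.AQ

namespace Groth.Agent.H89.AQ
variable {A : Type u} [CommRing A]

section CoreLift
variable {ι κ : Type u} [Fintype ι] [Fintype κ]
  {P : ModuleCat.{u+1} A} (b : Module.Basis ι A P)
  {P' : Type (u+1)} [AddCommGroup P'] [Module A P'] (b' : Module.Basis κ A P')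
  (φ₀ : P →ₗ[A] P') {L : MVF A} {j : L ⟶ (underline A).obj P} (hL : IsKer j φ₀)
  {F G H : MVF A} {M : ModuleCat.{u+1} A} {iF : F ⟶ (underline A).obj M}
  {N : Type (u+1)} [AddCommGroup N] [Module A N] {φF : M →ₗ[A] N}

include b b' hL in
/-- Core lifting theorem: morphisms from a linearly adequate functor lift along a surjection
with adequate kernel. -/
theorem exists_lift_of_isKer (hF : IsKer iF φF) (f : F ⟶ G) (π : G ⟶ H) (lam : L ⟶ H)
    (hf : ∀ B : Alg A, Function.Injective (f.app (pt B)))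
    (hπ : ∀ B : Alg A, Function.Surjective (π.app (pt B)))
    (hfπ : ∀ (B : Alg A) (x : F.obj (pt B)), π.app (pt B) (f.app (pt B) x) = 0)
    (hex : ∀ (B : Alg A) (g : G.obj (pt B)), π.app (pt B) g = 0 → ∃ x, f.app (pt B) x = g) :
    ∃ s : L ⟶ G, s ≫ π = lam := by
  obtain ⟨σ₀, hσ₀nat, hσ₀π⟩ := exists_natural_lift b b' φ₀ hL π lam hπ
  obtain ⟨σ, hσnat, hσπ, hσhom⟩ := homogenize hF f π lam hf hex hfπ σ₀ hσ₀nat hσ₀π
  have hσadd := additive_of_homogeneous b b' φ₀ hL hF f π lam hf hex σ hσnat hσπ hσhom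
  obtain ⟨s, hs⟩ := exists_hom_of_family σ hσnat hσadd hσhom
  refine ⟨s, ?_⟩
  apply hom_ext'
  intro B y
  rw [comp_app_apply, hs, hσπ]

end CoreLift

end Groth.Agent.H89.AQ

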