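import Groth.Agent.H89.AdeqExtend

/-!
# Local presentations of elements of adequate functors (Stacks 46.3)

* `local_presentation`: equational criterion for vanishing in `B ⊗ N`, in matrix form;
* `stdFree`, `stdBasis`, `stdLift`, `stdMat`, `stdElt`: standard finite free modules in `ModuleCat.{u+1} A`.
-/

set_option autoImplicit false
set_option linter.style.haveILetI false
universe u v
open TensorProduct

namespace Groth.Agent.H89.AQ

section LocalPres
variable {A : Type u} [CommRing A] {M : Type v} [AddCommGroup M] [Module A M]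
  {N : Type v} [AddCommGroup N] [Module A N] (φ : M →ₗ[A] N)
  (B : Type u) [CommRing B] [Algebra A B] [DecidableEq B]

theorem finsuppScalarLeft_lTensor (t : (B →₀ A) ⊗[A] M) (β : B) :
    TensorProduct.finsuppScalarLeft A N B ((φ.lTensor (B →₀ A)) t) β =
      φ (TensorProduct.finsuppScalarLeft A M B t β) := by
  induction t using TensorProduct.induction_on with
  | zero => simp
  | tmul c m =>
    rw [LinearMap.lTensor_tmul]
    simp only [TensorProduct.finsuppScalarLeft_apply_tmul_apply, map_smul]
  | add x y hx hy => simp only [map_add, Finsupp.add_apply, hx, hy]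

theorem rTensor_linearCombination_eq (t : (B →₀ A) ⊗[A] M) :
    ((Finsupp.linearCombination A (id : B → B)).rTensor M) t =
      (TensorProduct.finsuppScalarLeft A M B t).sum (fun β m => β ⊗ₜ[A] m) := by
  induction t using TensorProduct.induction_on with
  | zero => simp
  | tmul c m =>
    rw [LinearMap.rTensor_tmul, TensorProduct.finsuppScalarLeft_apply_tmul,
      Finsupp.linearCombination_apply]
    rw [Finsupp.sum_sum_index (by simp) (by intro β m1 m2; rw [TensorProduct.tmul_add])]
    rw [Finsupp.sum, Finsupp.sum, TensorProduct.sum_tmul]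
    refine Finset.sum_congr rfl (fun β _ => ?_)
    rw [Finsupp.sum_single_index (by simp), TensorProduct.smul_tmul]
    rfl
  | add x y hx hy =>
    rw [map_add, map_add, hx, hy, Finsupp.sum_add_index' (by simp)
      (by intro β m1 m2; rw [TensorProduct.tmul_add])]

omit [DecidableEq B] in
/-- Equational criterion, in the form needed for adequate functors: an element of
`ker (B ⊗ M → B ⊗ N)` is "explained" by a finite matrix of relations. -/
theorem local_presentation (z : B ⊗[A] M) (hz : φ.baseChange B z = 0) :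
    ∃ (T : Finset B) (l : ℕ) (a : Fin l → B → A) (p : B → M) (q : Fin l → N),
      (∀ β ∈ T, φ (p β) = ∑ k, a k β • q k) ∧ (∀ k, ∑ β ∈ T, a k β • β = 0) ∧
      z = ∑ β ∈ T, β ⊗ₜ[A] p β := by
  classical
  let G : (B →₀ A) →ₗ[A] B := Finsupp.linearCombination A id
  have hG1 : ∀ β : B, G (Finsupp.single β 1) = β := by
    intro β; simp [G]
  have hG : Function.Surjective G := fun β => ⟨Finsupp.single β 1, hG1 β⟩
  obtain ⟨z', hz'⟩ := LinearMap.rTensor_surjective M hG z
  let w := (φ.lTensor (B →₀ A)) z'
  have hw : (G.rTensor N) w = 0 := by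
    have h1 : (G.rTensor N) w = (φ.lTensor B) ((G.rTensor M) z') := by
      change ((G.rTensor N) ∘ₗ (φ.lTensor (B →₀ A))) z' = ((φ.lTensor B) ∘ₗ (G.rTensor M)) z'
      rw [LinearMap.rTensor_comp_lTensor, LinearMap.lTensor_comp_rTensor]
    rw [h1, hz']
    exact hz
  have hex := rTensor_exact (M := ↥(LinearMap.ker G)) N (LinearMap.exact_subtype_ker_map G) hG
  obtain ⟨v, hv⟩ := (hex w).1 hw
  obtain ⟨l, kk, y, rfl⟩ := TensorProduct.exists_sum_tmul_eq v
  let f : B →₀ M := TensorProduct.finsuppScalarLeft A M B z'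
  have hz1 : z = f.sum (fun β m => β ⊗ₜ[A] m) := by
    rw [← hz']; exact rTensor_linearCombination_eq B z'
  have hw1 : ∀ β, TensorProduct.finsuppScalarLeft A N B w β = φ (f β) :=
    finsuppScalarLeft_lTensor φ B z'
  have hw2 : ∀ β, TensorProduct.finsuppScalarLeft A N B w β =
      ∑ j, ((kk j : B →₀ A) β) • y j := by
    intro β
    rw [← hv, map_sum, map_sum, Finsupp.finsetSum_apply]
    refine Finset.sum_congr rfl (fun j _ => ?_)
    rw [LinearMap.rTensor_tmul, TensorProduct.finsuppScalarLeft_apply_tmul_apply]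
    rfl
  let T : Finset B := f.support ∪ Finset.univ.biUnion (fun j => (kk j : B →₀ A).support)
  refine ⟨T, l, fun j β => (kk j : B →₀ A) β, fun β => f β, y, ?_, ?_, ?_⟩
  · intro β _
    rw [← hw1, hw2]
  · intro j
    have h0 : G (kk j) = 0 := (kk j).2
    rw [Finsupp.linearCombination_apply, Finsupp.sum] at h0
    rw [← h0]
    symm
    apply Finset.sum_subset
    · intro β hβ
      exact Finset.mem_union_right _ (Finset.mem_biUnion.mpr ⟨j, Finset.mem_univ j, hβ⟩)
    · intro β _ hβ
      rw [Finsupp.notMem_support_iff.mp hβ, zero_smul]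
  · rw [hz1, Finsupp.sum]
    apply Finset.sum_subset
    · exact Finset.subset_union_left
    · intro β _ hβ
      rw [Finsupp.notMem_support_iff.mp hβ, TensorProduct.tmul_zero]

end LocalPres

end Groth.Agent.H89.AQ

open CategoryTheory Limits Opposite TensorProduct Adeq

namespace Groth.Agent.H89.AQ
variable {A : Type u} [CommRing A]

/-- standard finite free module of rank `n` in `ModuleCat.{u+1} A` -/
noncomputable abbrev stdFree (A : Type u) [CommRing A] (n : ℕ) : ModuleCat.{u+1} A :=
  ModuleCat.of A (ULift.{u+1} (Fin n) →₀ A)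

/-- its basis, indexed by a type in `Type u` -/
noncomputable def stdBasis (A : Type u) [CommRing A] (n : ℕ) :
    Module.Basis (ULift.{u} (Fin n)) A (stdFree A n) :=
  (Finsupp.basisSingleOne (R := A) (ι := ULift.{u+1} (Fin n))).reindex
    (Equiv.ulift.trans Equiv.ulift.symm)

instance (n : ℕ) : Module.Free A (stdFree A n) := Module.Free.of_basis (stdBasis A n)
instance (n : ℕ) : Module.Finite A (stdFree A n) := Module.Finite.of_basis (stdBasis A n)

/-- linear map out of `stdFree` given on the basis -/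
noncomputable def stdLift (n : ℕ) {X : Type (u+1)} [AddCommGroup X] [Module A X] (v : Fin n → X) :
    stdFree A n →ₗ[A] X :=
  (stdBasis A n).constr A (fun j => v j.down)

theorem stdLift_basis (n : ℕ) {X : Type (u+1)} [AddCommGroup X] [Module A X] (v : Fin n → X)
    (j : Fin n) : stdLift n v (stdBasis A n ⟨j⟩) = v j := by
  rw [stdLift, Module.Basis.constr_basis]

/-- the element `Σ_j c_j ⊗ e_j` of `B ⊗ stdFree n` -/
noncomputable def stdElt (n : ℕ) (B : Type u) [CommRing B] [Algebra A B] (c : Fin n → B) :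
    B ⊗[A] (stdFree A n) := ∑ j, c j ⊗ₜ[A] (stdBasis A n ⟨j⟩)

theorem stdLift_baseChange_stdElt (n : ℕ) {X : Type (u+1)} [AddCommGroup X] [Module A X]
    (v : Fin n → X) (B : Type u) [CommRing B] [Algebra A B] (c : Fin n → B) :
    (stdLift n v).baseChange B (stdElt n B c) = ∑ j, c j ⊗ₜ[A] v j := by
  rw [stdElt, map_sum]
  refine Finset.sum_congr rfl (fun j _ => ?_)
  rw [LinearMap.baseChange_tmul, stdLift_basis]

/-- matrix map `stdFree n → stdFree l` -/
noncomputable def stdMat {n l : ℕ} (a : Fin l → Fin n → A) : stdFree A n →ₗ[A] stdFree A l :=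
  stdLift n (fun j => ∑ k, a k j • stdBasis A l ⟨k⟩)

theorem stdMat_baseChange_stdElt {n l : ℕ} (a : Fin l → Fin n → A)
    (B : Type u) [CommRing B] [Algebra A B] (c : Fin n → B) :
    (stdMat a).baseChange B (stdElt n B c) = stdElt l B (fun k => ∑ j, a k j • c j) := by
  rw [stdMat, stdLift_baseChange_stdElt, stdElt]
  simp_rw [TensorProduct.tmul_sum, TensorProduct.sum_tmul]
  rw [Finset.sum_comm]
  refine Finset.sum_congr rfl (fun k _ => Finset.sum_congr rfl (fun j _ => ?_))
  rw [TensorProduct.tmul_smul, TensorProduct.smul_tmul']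

end Groth.Agent.H89.AQ

namespace Groth.Agent.H89.AQ
variable {A : Type u} [CommRing A]

theorem stdElt_zero (n : ℕ) (B : Type u) [CommRing B] [Algebra A B] :
    stdElt (A := A) n B (fun _ => 0) = 0 := by
  simp [stdElt]

theorem exists_stdElt (n : ℕ) (B : Type u) [CommRing B] [Algebra A B]
    (w : B ⊗[A] (stdFree A n)) : ∃ c : Fin n → B, stdElt n B c = w := by
  refine ⟨fun j => coordB (stdBasis A n) B w ⟨j⟩, ?_⟩
  have h := sum_coordB (stdBasis A n) B w
  refine Eq.trans ?_ h
  rw [stdElt]
  exact (Equiv.sum_comp (Equiv.ulift.{u, 0}) (fun j : Fin n =>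
    coordB (stdBasis A n) B w ⟨j⟩ ⊗ₜ[A] (stdBasis A n ⟨j⟩))).symm

theorem stdElt_injective (n : ℕ) (B : Type u) [CommRing B] [Algebra A B]
    (c : Fin n → B) (hc : stdElt (A := A) n B c = 0) : c = 0 := by
  classical
  funext j
  have h1 : stdElt (A := A) n B c = ∑ j' : ULift.{u} (Fin n), c j'.down ⊗ₜ[A] (stdBasis A n j') :=
    (Equiv.sum_comp (Equiv.ulift.{u, 0}) (fun j : Fin n => c j ⊗ₜ[A] (stdBasis A n ⟨j⟩))).symm
  have h2 := coordB_sum_tmul (stdBasis A n) B (fun j' => c j'.down) ⟨j⟩
  rw [← h1, hc] at h2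
  rw [← h2, coordB, map_zero]
  rfl

end Groth.Agent.H89.AQ
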