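import Groth.Agent.H89.AdeqSiteRefine

/-!
# Adequate modules on the big fppf and Zariski sites: adequacy over every affine object
-/

set_option autoImplicit false
set_option linter.style.haveILetI false
universe u v
open CategoryTheory Limits Opposite TensorProduct Adeq AlgebraicGeometry

namespace Groth.Agent.H89.AQ

set_option backward.isDefEq.respectTransparency.types false in
theorem fppf_stableBC : (@Flat ⊓ @LocallyOfFinitePresentation :
    MorphismProperty Scheme.{u}).IsStableUnderBaseChange := inferInstance

set_option backward.isDefEq.respectTransparency.types false in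
theorem fppf_stableComp : (@Flat ⊓ @LocallyOfFinitePresentation :
    MorphismProperty Scheme.{u}).IsStableUnderComposition := inferInstance

theorem adequate_toMVF_fppf (S : Scheme.{u}) (M : BigSite.Mod Scheme.fppfPrecoverage S)
    (hM : Adeq.adequateMod Scheme.fppfPrecoverage S M) (R : CommRingCat.{u}) (a : Spec R ⟶ S) :
    Adeq.adequate R ((Adeq.toMVF Scheme.fppfPrecoverage a).obj M) := by
  haveI := fppf_stableBC.{u}
  haveI := fppf_stableComp.{u}
  refine adequate_toMVF_of_adequateMod_gen
    (@Flat ⊓ @LocallyOfFinitePresentation) (fun f hf => ⟨inferInstance, inferInstance⟩)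
    (fun f hf => ?_) Scheme.fppfPrecoverage rfl S M hM R a
  have : Flat f := hf.1
  have : LocallyOfFinitePresentation f := hf.2
  exact f.isOpenMap

theorem adequate_toMVF_zariski (S : Scheme.{u}) (M : BigSite.Mod Scheme.zariskiPrecoverage S)
    (hM : Adeq.adequateMod Scheme.zariskiPrecoverage S M) (R : CommRingCat.{u}) (a : Spec R ⟶ S) :
    Adeq.adequate R ((Adeq.toMVF Scheme.zariskiPrecoverage a).obj M) := by
  refine adequate_toMVF_of_adequateMod_gen
    @IsOpenImmersion (fun f hf => hf)
    (fun f hf => ?_) Scheme.zariskiPrecoverage rfl S M hM R a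
  have : IsOpenImmersion f := hf
  exact f.isOpenEmbedding.isOpenMap

end Groth.Agent.H89.AQ
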