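import Groth.Agent.H89.AdeqParasitic
import Groth.Agent.H89.AdeqSiteFppf
import Groth.Agent.S8740

/-!
# Parasitic adequate modules (Stacks 46.8.?): vanishing on flat objects from vanishing on an affine open cover
-/

set_option autoImplicit false
set_option linter.style.haveILetI false
universe u v
open CategoryTheory Limits Opposite TensorProduct Adeq AlgebraicGeometry

namespace Groth.Agent.H89.AQ

section ParaTFAE
variable {K : Precoverage Scheme.{u}} [BigSite.OSh K] {S : Scheme.{u}} (M : BigSite.Mod K S)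

/-- vanishing of sections is transported along isomorphisms of objects -/
theorem subsingleton_sect_of_iso {X Y : Over S} (e : X ≅ Y)
    (h : Subsingleton (M.val.obj (op X))) : Subsingleton (M.val.obj (op Y)) := by
  refine ⟨fun x y => ?_⟩
  have h1 : M.val.map e.hom.op x = M.val.map e.hom.op y := h.elim _ _
  have h2 := congrArg (M.val.map e.inv.op) h1
  rw [← PresheafOfModules.map_comp_apply, ← PresheafOfModules.map_comp_apply, ← op_comp,
    e.inv_hom_id, op_id, PresheafOfModules.map_id] at h2
  exact h2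

/-- vanishing of sections over the members of a covering family gives vanishing over the object -/
theorem subsingleton_sect_of_family {X : Over S} {I : Type v} (Y : I → Over S) (p : ∀ i, Y i ⟶ X)
    (hcov : Presieve.ofArrows (fun i => (Y i).left) (fun i => (p i).left) ∈ K.coverings X.left)
    (h : ∀ i, Subsingleton (M.val.obj (op (Y i)))) : Subsingleton (M.val.obj (op X)) :=
  ⟨fun x x' => sheaf_family_sep M Y p hcov x x' (fun i => (h i).elim _ _)⟩

/-- for an adequate `F_{M,R}` with `M(Spec R → S) = 0`, flat `R → B` gives `M(Spec B → Spec R → S) = 0` -/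
theorem subsingleton_sect_of_flat {R : CommRingCat.{u}} (a : Spec R ⟶ S)
    (hF : adequate R ((toMVF K a).obj M))
    (h0 : Subsingleton (M.val.obj (op (Over.mk a))))
    {B : CommRingCat.{u}} (φ : R ⟶ B) (hφ : φ.hom.Flat) :
    Subsingleton (M.val.obj (op (Over.mk (Spec.map φ ≫ a)))) := by
  letI : Algebra R B := φ.hom.toAlgebra
  let F := (toMVF K a).obj M
  let B₀ : Alg R := algOf R R
  let B₁ : Alg R := algOf R B
  let f : B₀ ⟶ B₁ := CommAlgCat.ofHom (Algebra.ofId R B)
  have hf : f.hom.toRingHom.Flat := hφ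
  haveI : IsIso (F.bc f) := Groth.Agent.S8740.result R F hF f hf
  have hbij : Function.Bijective (F.bc f) := (ConcreteCategory.isIso_iff_bijective _).mp inferInstance
  have hw : Spec.map (CommRingCat.ofHom (algebraMap R R)) ≫ a = a := by
    change Spec.map (CommRingCat.ofHom (RingHom.id R)) ≫ a = a
    rw [CommRingCat.ofHom_id, Spec.map_id, Category.id_comp]
  haveI h0' : Subsingleton (F.obj (pt B₀)) := by
    change Subsingleton (M.val.obj (op (Over.mk (Spec.map (CommRingCat.ofHom (algebraMap R R)) ≫ a))))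
    rw [hw]
    exact h0
  haveI : Subsingleton ((ModuleCat.extendScalars.{u, u, u + 1} f.hom.toRingHom).obj (F.obj (pt B₀))) := by
    change Subsingleton (TensorProduct _ _ _)
    infer_instance
  have : Subsingleton (F.obj (pt B₁)) := hbij.surjective.subsingleton
  exact this

end ParaTFAE

end Groth.Agent.H89.AQ

namespace Groth.Agent.H89.AQ

theorem zarIncl_obj (S : Scheme.{u}) (U : S.Opens) :
    (BigSite.zarIncl S).obj U = Over.mk U.ι := rfl

/-- (4) ⇒ (1): an adequate module vanishing on the members of an affine open covering is parasitic -/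
theorem parasitic_of_affine_cover (S : Scheme.{u}) (M : BigSite.Mod Scheme.fppfPrecoverage S)
    (hM : adequateMod Scheme.fppfPrecoverage S M)
    (ι : Type u) (Uo : ι → S.Opens) (hA : ∀ i, IsAffineOpen (Uo i)) (hcov : (⨆ i, Uo i) = ⊤)
    (h0 : ∀ i, Subsingleton (M.val.obj (op (Over.mk (Uo i).ι)))) :
    parasitic Scheme.fppfPrecoverage S M := by
  intro U hU
  have key : ∀ x : U.left, ∃ (i : ι) (V : U.left.Opens), IsAffineOpen V ∧ x ∈ V ∧
      V ≤ U.hom ⁻¹ᵁ (Uo i) := by
    intro x
    have hx : U.hom x ∈ (⨆ i, Uo i) := by rw [hcov]; trivial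
    obtain ⟨i, hi⟩ := TopologicalSpace.Opens.mem_iSup.mp hx
    obtain ⟨V, hV, hxV, hle⟩ := (U.left.isBasis_affineOpens).exists_subset_of_mem_open
      (show x ∈ ((U.hom ⁻¹ᵁ (Uo i) : U.left.Opens) : Set U.left) from hi)
      (U.hom ⁻¹ᵁ (Uo i)).isOpen
    obtain ⟨W, hW, rfl⟩ := hV
    exact ⟨i, W, hW, hxV, hle⟩
  choose i V hV hxV hle using key
  refine subsingleton_sect_of_family M
    (fun x => Over.mk (Spec.map (U.hom.appLE (Uo (i x)) (V x) (hle x)) ≫ (hA (i x)).fromSpec))
    (fun x => Over.homMk ((hV x).fromSpec)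
      ((IsAffineOpen.SpecMap_appLE_fromSpec U.hom (hA (i x)) (hV x) (hle x)).symm)) ?_ ?_
  · apply Scheme.zariskiPrecoverage_le_fppfPrecoverage
    rw [Scheme.ofArrows_mem_precoverage_iff]
    refine ⟨fun x => ⟨x, ?_⟩, fun x => ?_⟩
    · change x ∈ Set.range (hV x).fromSpec
      rw [(hV x).range_fromSpec]
      exact hxV x
    · change IsOpenImmersion (hV x).fromSpec
      infer_instance
  · intro x
    refine subsingleton_sect_of_flat M _ (adequate_toMVF_fppf S M hM _ _) ?_ _
      (Scheme.Hom.flat_appLE U.hom (hA (i x)) (hV x) (hle x))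
    exact subsingleton_sect_of_iso M
      (Over.isoMk (hA (i x)).isoSpec (by
        change (hA (i x)).isoSpec.hom ≫ (hA (i x)).fromSpec = (Uo (i x)).ι
        rw [← IsAffineOpen.isoSpec_inv_ι, Iso.hom_inv_id_assoc])) (h0 (i x))

end Groth.Agent.H89.AQ
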