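import Groth.Agent.H89.AdeqShf
import Groth.Agent.H89.ShfModEpi

/-!
# Parasitic modules: extensions (Stacks 46.8.?)

If `M₁ → M₂ → M₃` is exact at `M₂` in the category of `O`-modules on the big fppf site and `M₁`, `M₃` are parasitic,
then `M₂` is parasitic.
-/

set_option autoImplicit false
set_option linter.style.haveILetI false
universe u v
open CategoryTheory Limits Opposite TensorProduct Adeq AlgebraicGeometry

namespace Groth.Agent.H89.AQ

/-- a covering sieve of the big fppf site contains an fppf covering family -/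
theorem exists_family_of_mem_J_fppf {S : Scheme.{u}} (U : Over S) (T : Sieve U)
    (hT : T ∈ QuotSh.J Scheme.fppfPrecoverage S U) :
    ∃ (ι : Type (u + 1)) (V : ι → Scheme.{u}) (f : ∀ i, V i ⟶ U.left),
      Presieve.ofArrows V f ∈ Scheme.fppfPrecoverage.coverings U.left ∧
      ∀ i, T.arrows (Over.homMk (f i) : Over.mk (f i ≫ U.hom) ⟶ U) := by
  haveI := fppf_stableBC.{u}
  haveI := fppf_stableComp.{u}
  haveI := fppf_containsId.{u}
  haveI := fppf_respectsIso.{u}
  have hT' : Sieve.overEquiv U T ∈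
      (Scheme.precoverage (@Flat ⊓ @LocallyOfFinitePresentation)).toGrothendieck U.left := hT
  rw [Precoverage.mem_toGrothendieck_iff_of_isStableUnderComposition] at hT'
  obtain ⟨Rp, hRp, hle⟩ := hT'
  obtain ⟨ι, V, f, rfl⟩ := Rp.exists_eq_ofArrows
  refine ⟨ι, V, f, hRp, fun i => ?_⟩
  have h1 : (Sieve.overEquiv U T).arrows (f i) := hle _ _ (Presieve.ofArrows.mk i)
  rwa [Sieve.overEquiv_iff] at h1

end Groth.Agent.H89.AQ

namespace Groth.Agent.H89.AQ

section Par
variable {S : Scheme.{u}}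

theorem fppf_mem_flat {X : Scheme.{u}} {ι : Type v} {V : ι → Scheme.{u}} {f : ∀ i, V i ⟶ X}
    (h : Presieve.ofArrows V f ∈ Scheme.fppfPrecoverage.coverings X) (i : ι) : Flat (f i) := by
  have h1 : Presieve.ofArrows V f ∈
      (Scheme.precoverage (@Flat ⊓ @LocallyOfFinitePresentation)).coverings X := h
  rw [Scheme.ofArrows_mem_precoverage_iff] at h1
  exact (h1.2 i).1

theorem parasitic_of_exact (C : ShortComplex (BigSite.Mod Scheme.fppfPrecoverage S))
    (hC : C.Exact) (p₁ : Adeq.parasitic Scheme.fppfPrecoverage S C.X₁)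
    (p₃ : Adeq.parasitic Scheme.fppfPrecoverage S C.X₃) :
    Adeq.parasitic Scheme.fppfPrecoverage S C.X₂ := by
  intro U hU
  suffices h : ∀ x : C.X₂.val.obj (op U), x = 0 from ⟨fun x y => (h x).trans (h y).symm⟩
  intro x
  haveI := p₃ U hU
  have hx0 : C.g.val.app (op U) x = 0 := Subsingleton.elim _ _
  obtain ⟨z, hz⟩ := sheafKernel_ι_exact C.g U x hx0
  haveI : Epi (kernel.lift C.g C.f C.zero) := (ShortComplex.exact_iff_epi_kernel_lift C).mp hC
  have hLS := Groth.Agent.H89.SME.isLocallySurjective_of_epi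
    (BigSite.ORing Scheme.fppfPrecoverage S) (kernel.lift C.g C.f C.zero)
  have hT := Presheaf.imageSieve_mem (QuotSh.J Scheme.fppfPrecoverage S)
    ((PresheafOfModules.toPresheaf _).map (kernel.lift C.g C.f C.zero).val) (U := op U) z
  obtain ⟨ι, V, f, hcov, hT'⟩ := exists_family_of_mem_J_fppf U _ hT
  refine sheaf_family_sep C.X₂ (fun i => Over.mk (f i ≫ U.hom))
    (fun i => (Over.homMk (f i) : Over.mk (f i ≫ U.hom) ⟶ U)) hcov x 0 (fun i => ?_)
  obtain ⟨t, ht⟩ := hT' i
  haveI : Flat (f i) := fppf_mem_flat hcov i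
  haveI : Flat U.hom := hU
  haveI : Subsingleton (C.X₁.val.obj (op (Over.mk (f i ≫ U.hom)))) :=
    p₁ (Over.mk (f i ≫ U.hom)) (inferInstanceAs (Flat (f i ≫ U.hom)))
  have ht0 : t = 0 :=
    Subsingleton.elim (α := C.X₁.val.obj (op (Over.mk (f i ≫ U.hom)))) t 0
  rw [map_zero]
  -- `x|_{V_i} = ι (z|_{V_i}) = ι (l t) = 0`
  have e1 : C.X₂.val.map (Over.homMk (f i) : Over.mk (f i ≫ U.hom) ⟶ U).op x =
      (kernel.ι C.g).val.app (op (Over.mk (f i ≫ U.hom)))
        ((kernel C.g).val.map (Over.homMk (f i) : Over.mk (f i ≫ U.hom) ⟶ U).op z) := by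
    rw [← hz]
    exact (PresheafOfModules.naturality_apply (kernel.ι C.g).val
      (Over.homMk (f i) : Over.mk (f i ≫ U.hom) ⟶ U).op z).symm
  have e2 : (kernel C.g).val.map (Over.homMk (f i) : Over.mk (f i ≫ U.hom) ⟶ U).op z = 0 := by
    have := ht.symm
    rw [ht0] at this
    exact this.trans (map_zero _)
  rw [e1, e2]
  exact map_zero _

end Par
end Groth.Agent.H89.AQ
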