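import Groth.Agent.H89.AdeqSiteFF

/-!
# Adequate functors commute with finite products of algebras (Stacks 46.3, consequence of 46.3.5)

* `adequate_pi_injective`, `adequate_pi_surjective`: for `F` adequate over `A` and a finite family of
  `A`-algebras `C j`, the map `F(∏ C_j) → ∏ F(C_j)` is bijective;
* `faithfullyFlat_pi`: a finite product of flat algebras which are jointly surjective on spectra
  is faithfully flat.
-/

set_option autoImplicit false
set_option linter.style.haveILetI false
universe u v
open CategoryTheory Limits Opposite TensorProduct Adeq AlgebraicGeometry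

namespace Groth.Agent.H89.AQ

section Pi
variable (A : Type u) [CommRing A] {J : Type} [Fintype J] [DecidableEq J]
  (C : J → Type u) [∀ j, CommRing (C j)] [∀ j, Algebra A (C j)]

/-- the projection `∏ C_j → C_j` as a morphism of `A`-algebras -/
noncomputable abbrev piProj (j : J) : algOf A (∀ j, C j) ⟶ algOf A (C j) :=
  CommAlgCat.ofHom (Pi.evalAlgHom A C j)

theorem piLeft_apply (M : Type v) [AddCommGroup M] [Module A M] (z : (∀ j, C j) ⊗[A] M) (j : J) :
    TensorProduct.piLeft A M C z j = (piProj A C j).hom.toLinearMap.rTensor M z := by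
  induction z using TensorProduct.induction_on with
  | zero => simp
  | add x y hx hy =>
    rw [map_add, map_add, Pi.add_apply, hx, hy]
  | tmul c m => simp

theorem piProj_rTensor_injective (M : Type v) [AddCommGroup M] [Module A M]
    (z z' : (∀ j, C j) ⊗[A] M)
    (h : ∀ j, (piProj A C j).hom.toLinearMap.rTensor M z =
      (piProj A C j).hom.toLinearMap.rTensor M z') : z = z' := by
  apply (TensorProduct.piLeft A M C).injective
  funext j
  rw [piLeft_apply, piLeft_apply, h j]

theorem piProj_rTensor_surjective (M : Type v) [AddCommGroup M] [Module A M]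
    (m : ∀ j, C j ⊗[A] M) :
    ∃ z : (∀ j, C j) ⊗[A] M, ∀ j, (piProj A C j).hom.toLinearMap.rTensor M z = m j := by
  refine ⟨(TensorProduct.piLeft A M C).symm m, fun j => ?_⟩
  rw [← piLeft_apply, LinearEquiv.apply_symm_apply]

theorem adequate_pi_injective (F : MVF A) (hF : adequate A F)
    (x x' : F.obj (pt (algOf A (∀ j, C j))))
    (h : ∀ j, tmap F (piProj A C j) x = tmap F (piProj A C j) x') : x = x' := by
  obtain ⟨M, N, φ, i, hi⟩ := exists_isKer_of_adequate hF
  apply hi.inj (algOf A (∀ j, C j))
  apply piProj_rTensor_injective A C M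
  intro j
  have e1 := (app_tmap i (piProj A C j) x).trans (underline_tmap M (piProj A C j) _)
  have e2 := (app_tmap i (piProj A C j) x').trans (underline_tmap M (piProj A C j) _)
  rw [← e1, ← e2, h j]

theorem adequate_pi_surjective (F : MVF A) (hF : adequate A F)
    (y : ∀ j, F.obj (pt (algOf A (C j)))) :
    ∃ x : F.obj (pt (algOf A (∀ j, C j))), ∀ j, tmap F (piProj A C j) x = y j := by
  obtain ⟨M, N, φ, i, hi⟩ := exists_isKer_of_adequate hF
  obtain ⟨z, hz⟩ := piProj_rTensor_surjective A C M (fun j => i.app (pt (algOf A (C j))) (y j))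
  have hφz : φ.hom.baseChange (∀ j, C j) z = 0 := by
    apply piProj_rTensor_injective A C N
    intro j
    rw [map_zero]
    have e4 : (piProj A C j).hom.toLinearMap.rTensor N (φ.hom.baseChange (∀ j, C j) z) =
        φ.hom.baseChange (C j) ((piProj A C j).hom.toLinearMap.rTensor M z) :=
      (app_tmap ((underline A).map φ) (piProj A C j) z).symm
    rw [e4, hz j]
    exact hi.comp (algOf A (C j)) (y j)
  obtain ⟨x, hx⟩ := hi.exact (algOf A (∀ j, C j)) z hφz
  refine ⟨x, fun j => ?_⟩
  apply hi.inj (algOf A (C j))
  have e5 := (app_tmap i (piProj A C j) x).trans (underline_tmap M (piProj A C j) _)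
  rw [e5, hx, hz j]

end Pi

section FF
variable (A : Type u) [CommRing A] {J : Type} [Fintype J] [DecidableEq J]
  (C : J → Type u) [∀ j, CommRing (C j)] [∀ j, Algebra A (C j)]

theorem flat_pi [∀ j, Module.Flat A (C j)] : Module.Flat A (∀ j, C j) :=
  Module.Flat.of_linearEquiv (DirectSum.linearEquivFunOnFintype A J C).symm

theorem faithfullyFlat_pi [∀ j, Module.Flat A (C j)]
    (hsurj : ∀ p : PrimeSpectrum A, ∃ j, p ∈ Set.range (PrimeSpectrum.comap (algebraMap A (C j)))) :
    Module.FaithfullyFlat A (∀ j, C j) := by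
  haveI := flat_pi A C
  apply Module.FaithfullyFlat.of_comap_surjective
  intro p
  obtain ⟨j, q, hq⟩ := hsurj p
  refine ⟨PrimeSpectrum.comap (Pi.evalRingHom C j) q, ?_⟩
  rw [← hq]
  rfl

end FF

end Groth.Agent.H89.AQ
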