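import Groth.Agent.H89.AdeqSiteFF
import Groth.Agent.H89.AdeqKerFam

/-!
# Site-level lemmas for pushforward of adequate modules (Stacks 46.5.12)

* `sgp`, `map_smul_sgp`: the action of `B` on sections over an object `Z → T` equipped with `Z → Spec B`,
  and semilinearity of restriction maps;
* `sheaf_hyper_glue`: gluing for a covering family when compatibility is only known locally
  (the sheaf condition for a 1-hypercover).
-/

set_option autoImplicit false
set_option linter.style.haveILetI false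
universe u v w
open CategoryTheory Limits Opposite TensorProduct Adeq AlgebraicGeometry

namespace Groth.Agent.H89.AQ

section SiteA
variable {K : Precoverage Scheme.{u}} [BigSite.OSh K] {T : Scheme.{u}} (M : BigSite.Mod K T)

/-- the ring map from `B` to the sections of `O` over an object `Z` equipped with `π : Z → Spec B` -/
noncomputable def sgp (B : Type u) [CommRing B] (Z : Over T)
    (π : Z.left ⟶ Spec (CommRingCat.of B)) : B →+* (BigSite.ORing K T).obj.obj (op Z) :=
  (ULift.ringEquiv.symm : Γ(Z.left, ⊤) ≃+* ULift.{u + 1} Γ(Z.left, ⊤)).toRingHom.comp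
    (π.appTop.hom.comp (Scheme.ΓSpecIso (CommRingCat.of B)).inv.hom)

theorem sg_eq_sgp (B : Type u) [CommRing B] (h : Spec (CommRingCat.of B) ⟶ T) (b : B) :
    sg (K := K) B h b = sgp (K := K) B (Over.mk h) (𝟙 _) b := by
  apply ULift.ext
  change (Scheme.ΓSpecIso (CommRingCat.of B)).inv b =
    (𝟙 (Spec (CommRingCat.of B)) : _ ⟶ _).appTop ((Scheme.ΓSpecIso (CommRingCat.of B)).inv b)
  rw [Scheme.Hom.id_appTop]
  rfl

/-- general semilinearity of restriction maps of `M` -/
theorem map_smul_sgp {B B' : Type u} [CommRing B] [CommRing B'] (g : B →+* B')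
    {Z Z' : Over T} (h : Z' ⟶ Z) (π : Z.left ⟶ Spec (CommRingCat.of B))
    (π' : Z'.left ⟶ Spec (CommRingCat.of B'))
    (w : π' ≫ Spec.map (CommRingCat.ofHom g) = h.left ≫ π) (b : B) (m : M.val.obj (op Z)) :
    M.val.map h.op (sgp (K := K) B Z π b • m) =
      sgp (K := K) B' Z' π' (g b) • M.val.map h.op m := by
  have e := M.val.map_smul h.op (sgp (K := K) B Z π b) m
  refine e.trans ?_
  congr 1
  apply ULift.ext
  change h.left.appTop (π.appTop ((Scheme.ΓSpecIso (CommRingCat.of B)).inv b)) =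
    π'.appTop ((Scheme.ΓSpecIso (CommRingCat.of B')).inv (g b))
  have hmor : (Scheme.ΓSpecIso (CommRingCat.of B)).inv ≫ π.appTop ≫ h.left.appTop =
      CommRingCat.ofHom g ≫ (Scheme.ΓSpecIso (CommRingCat.of B')).inv ≫ π'.appTop := by
    rw [← Scheme.Hom.comp_appTop, ← w, Scheme.Hom.comp_appTop, ← Category.assoc,
      ← Category.assoc, Scheme.ΓSpecIso_inv_naturality]
  exact ConcreteCategory.congr_hom hmor b

end SiteA
end Groth.Agent.H89.AQ

namespace Groth.Agent.H89.AQ

section SiteB
variable {K : Precoverage Scheme.{u}} [BigSite.OSh K] {T : Scheme.{u}} (M : BigSite.Mod K T)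

theorem sheaf_hyper_glue {X₀ : Over T} {I : Type v} (Y : I → Over T) (p : ∀ i, Y i ⟶ X₀)
    (hcov : Presieve.ofArrows (fun i => (Y i).left) (fun i => (p i).left) ∈ K.coverings X₀.left)
    (y : ∀ i, M.val.obj (op (Y i)))
    (h : ∀ (i j : I) (W : Over T) (q₁ : W ⟶ Y i) (q₂ : W ⟶ Y j), q₁ ≫ p i = q₂ ≫ p j →
      ∃ (L : Type w) (Wl : L → Over T) (t : ∀ l, Wl l ⟶ W),
        Presieve.ofArrows (fun l => (Wl l).left) (fun l => (t l).left) ∈ K.coverings W.left ∧
        ∀ l, M.val.map (t l ≫ q₁).op (y i) = M.val.map (t l ≫ q₂).op (y j)) :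
    ∃ x : M.val.obj (op X₀), ∀ i, M.val.map (p i).op x = y i := by
  refine sheaf_family_glue M Y p hcov y ?_
  intro i j W q₁ q₂ hq
  obtain ⟨L, Wl, t, ht, hyl⟩ := h i j W q₁ q₂ hq
  refine sheaf_family_sep M Wl t ht _ _ (fun l => ?_)
  have e1 := PresheafOfModules.map_comp_apply M.val q₁.op (t l).op (y i)
  have e2 := PresheafOfModules.map_comp_apply M.val q₂.op (t l).op (y j)
  exact e1.symm.trans ((hyl l).trans e2)

end SiteB
end Groth.Agent.H89.AQ

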