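import Groth.Agent.H89.AdeqPushA

/-!
# Objects and maps for the pushforward of adequate modules (Stacks 46.5.12)

For `f : T ⟶ S`, `a : Spec R ⟶ S`, an `R`-algebra `C` with `c : Spec C ⟶ T` over `a`:
* `affObj C c B = (Spec (C ⊗ B) → Spec C → T)`, a fibre product `Spec C ×_{Spec R} Spec B` (`affLift`, `aff_hom_ext`);
* `pushObj f a B = (Spec B ×_S T → T)` (`pushLift`, `push_hom_ext`);
* `pushF M C c = push (toMVF c M)`, the functor `B ↦ M(Spec (C ⊗ B))`;
* `eHom : toMVF a (f_* M) ⟶ pushF M C c` and `pushMapHom ψ : pushF M C c ⟶ pushF M D d`, with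
  `eHom_comp_pushMapHom`.
-/

set_option autoImplicit false
set_option linter.style.haveILetI false
universe u v w
open CategoryTheory Limits Opposite TensorProduct Adeq AlgebraicGeometry

namespace Groth.Agent.H89.AQ

section AffObj
variable {T : Scheme.{u}} {R : CommRingCat.{u}} (C : Type u) [CommRing C] [Algebra R C]
  (c : Spec (CommRingCat.of C) ⟶ T) (B : Alg R)

/-- the object `Spec (C ⊗ B) → Spec C → T` of the big site of `T` -/
noncomputable abbrev affObj : Over T :=
  (specOver c).obj (op ((Alg.baseChange R C).obj B))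

/-- projection `Spec (C ⊗ B) → Spec C` -/
noncomputable abbrev affL : (affObj C c B).left ⟶ Spec (CommRingCat.of C) :=
  Spec.map (CommRingCat.ofHom (Algebra.TensorProduct.includeLeftRingHom : C →+* C ⊗[R] B))

/-- projection `Spec (C ⊗ B) → Spec B` -/
noncomputable abbrev affR : (affObj C c B).left ⟶ Spec (CommRingCat.of B) :=
  Spec.map (CommRingCat.ofHom
    (Algebra.TensorProduct.includeRight : B →ₐ[R] C ⊗[R] B).toRingHom)

theorem affObj_hom : (affObj C c B).hom = affL C c B ≫ c := rfl

theorem aff_isPullback : IsPullback (affL C c B) (affR C c B)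
    (Spec.map (CommRingCat.ofHom (algebraMap R C)))
    (Spec.map (CommRingCat.ofHom (algebraMap R B))) :=
  isPullback_SpecMap_of_isPushout _ _ _ _ (CommRingCat.isPushout_tensorProduct R C B)

variable {C c B}

/-- morphisms into `affObj` from a pair of compatible morphisms -/
noncomputable def affLift {Z : Over T} (z₁ : Z.left ⟶ Spec (CommRingCat.of C))
    (z₂ : Z.left ⟶ Spec (CommRingCat.of B))
    (h₁ : z₁ ≫ Spec.map (CommRingCat.ofHom (algebraMap R C)) =
      z₂ ≫ Spec.map (CommRingCat.ofHom (algebraMap R B)))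
    (h₂ : z₁ ≫ c = Z.hom) : Z ⟶ affObj C c B :=
  Over.homMk ((aff_isPullback C c B).lift z₁ z₂ h₁) (by
    rw [affObj_hom, ← Category.assoc, IsPullback.lift_fst, h₂])

theorem affLift_left_L {Z : Over T} (z₁ : Z.left ⟶ Spec (CommRingCat.of C))
    (z₂ : Z.left ⟶ Spec (CommRingCat.of B)) (h₁) (h₂ : z₁ ≫ c = Z.hom) :
    (affLift z₁ z₂ h₁ h₂).left ≫ affL C c B = z₁ :=
  (aff_isPullback C c B).lift_fst z₁ z₂ h₁

theorem affLift_left_R {Z : Over T} (z₁ : Z.left ⟶ Spec (CommRingCat.of C))
    (z₂ : Z.left ⟶ Spec (CommRingCat.of B)) (h₁) (h₂ : z₁ ≫ c = Z.hom) :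
    (affLift z₁ z₂ h₁ h₂).left ≫ affR C c B = z₂ :=
  (aff_isPullback C c B).lift_snd z₁ z₂ h₁

theorem aff_hom_ext {Z : Over T} {g g' : Z ⟶ affObj C c B}
    (hL : g.left ≫ affL C c B = g'.left ≫ affL C c B)
    (hR : g.left ≫ affR C c B = g'.left ≫ affR C c B) : g = g' := by
  ext : 1
  exact (aff_isPullback C c B).hom_ext hL hR

end AffObj
end Groth.Agent.H89.AQ

namespace Groth.Agent.H89.AQ

section PushObj
variable {S T : Scheme.{u}} (f : T ⟶ S) {R : CommRingCat.{u}} (a : Spec R ⟶ S) (B : Alg R)

/-- the object `Spec B ×_S T → T` of the big site of `T` -/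
noncomputable abbrev pushObj : Over T := (Over.pullback f).obj ((specOver a).obj (op B))

noncomputable abbrev pushFst : (pushObj f a B).left ⟶ Spec (CommRingCat.of B) :=
  pullback.fst _ _

variable {f a B}

noncomputable def pushLift {Z : Over T} (z : Z.left ⟶ Spec (CommRingCat.of B))
    (h : z ≫ ((specOver a).obj (op B)).hom = Z.hom ≫ f) : Z ⟶ pushObj f a B :=
  Over.homMk (pullback.lift z Z.hom h) (pullback.lift_snd _ _ _)

theorem pushLift_left_fst {Z : Over T} (z : Z.left ⟶ Spec (CommRingCat.of B))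
    (h : z ≫ ((specOver a).obj (op B)).hom = Z.hom ≫ f) :
    (pushLift z h).left ≫ pushFst f a B = z := pullback.lift_fst _ _ _

theorem push_hom_ext {Z : Over T} {g g' : Z ⟶ pushObj f a B}
    (h : g.left ≫ pushFst f a B = g'.left ≫ pushFst f a B) : g = g' := by
  ext : 1
  apply pullback.hom_ext h
  exact (Over.w g).trans (Over.w g').symm

variable (f a)

/-- transition maps of `B ↦ Spec B ×_S T` -/
noncomputable abbrev pushTrans {B B' : Alg R} (g : B ⟶ B') : pushObj f a B' ⟶ pushObj f a B :=
  (Over.pullback f).map ((specOver a).map g.op)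

theorem pushTrans_left_fst {B B' : Alg R} (g : B ⟶ B') :
    (pushTrans f a g).left ≫ pushFst f a B =
      pushFst f a B' ≫ Spec.map (CommRingCat.ofHom g.hom.toRingHom) :=
  pullback.lift_fst _ _ _

end PushObj

section Values
variable {K : Precoverage Scheme.{u}} [BigSite.OSh K] {S T : Scheme.{u}} (f : T ⟶ S)
  (M : BigSite.Mod K T) {R : CommRingCat.{u}} (a : Spec R ⟶ S)

theorem pushMod_smul (B : Alg R) (b : B)
    (x : ((toMVF K a).obj ((BigSite.pushMod K f).obj M)).obj (pt B)) :
    b • x = sgp (K := K) B (pushObj f a B) (pushFst f a B) b •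
      (show M.val.obj (op (pushObj f a B)) from x) := rfl

theorem pushMod_tmap {B B' : Alg R} (g : B ⟶ B')
    (x : ((toMVF K a).obj ((BigSite.pushMod K f).obj M)).obj (pt B)) :
    tmap ((toMVF K a).obj ((BigSite.pushMod K f).obj M)) g x =
      M.val.map (pushTrans f a g).op (show M.val.obj (op (pushObj f a B)) from x) := rfl

end Values
end Groth.Agent.H89.AQ

namespace Groth.Agent.H89.AQ

section PushVal
variable {K : Precoverage Scheme.{u}} [BigSite.OSh K] {T : Scheme.{u}}
  (M : BigSite.Mod K T) {R : CommRingCat.{u}} (C : Type u) [CommRing C] [Algebra R C]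
  (c : Spec (CommRingCat.of C) ⟶ T)

/-- the functor `B ↦ M(Spec (C ⊗ B) → Spec C → T)` -/
noncomputable abbrev pushF : MVF R := (Adeq.push R C).obj ((toMVF K c).obj M)

/-- transition maps of `B ↦ Spec (C ⊗ B)` -/
noncomputable abbrev affTrans {B B' : Alg R} (g : B ⟶ B') : affObj C c B' ⟶ affObj C c B :=
  (specOver c).map ((Alg.baseChange R C).map g).op

theorem affTrans_left_L {B B' : Alg R} (g : B ⟶ B') :
    (affTrans C c g).left ≫ affL C c B = affL C c B' := by
  change Spec.map _ ≫ Spec.map _ = Spec.map _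
  rw [← Spec.map_comp]
  congr 1
  ext x
  change Algebra.TensorProduct.map (AlgHom.id C C) g.hom (x ⊗ₜ[R] (1 : B)) = x ⊗ₜ[R] (1 : B')
  rw [Algebra.TensorProduct.map_tmul, map_one]
  rfl

theorem affTrans_left_R {B B' : Alg R} (g : B ⟶ B') :
    (affTrans C c g).left ≫ affR C c B =
      affR C c B' ≫ Spec.map (CommRingCat.ofHom g.hom.toRingHom) := by
  change Spec.map _ ≫ Spec.map _ = Spec.map _ ≫ Spec.map _
  rw [← Spec.map_comp, ← Spec.map_comp]
  congr 1

theorem pushF_tmap {B B' : Alg R} (g : B ⟶ B') (x : (pushF M C c).obj (pt B)) :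
    tmap (pushF M C c) g x =
      M.val.map (affTrans C c g).op (show M.val.obj (op (affObj C c B)) from x) := rfl

theorem pushF_smul (B : Alg R) (b : B) (x : (pushF M C c).obj (pt B)) :
    b • x = sgp (K := K) B (affObj C c B) (affR C c B) b •
      (show M.val.obj (op (affObj C c B)) from x) := by
  have h1 : b • x = toSect K c ((Alg.baseChange R C).obj B)
      ((Algebra.TensorProduct.includeRight : B →ₐ[R] C ⊗[R] B) b) •
      (show M.val.obj (op (affObj C c B)) from x) := rfl
  rw [h1]
  congr 1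
  apply ULift.ext
  change (Scheme.ΓSpecIso (CommRingCat.of (C ⊗[R] B))).inv
      ((Algebra.TensorProduct.includeRight : B →ₐ[R] C ⊗[R] B) b) =
    (affR C c B).appTop ((Scheme.ΓSpecIso (CommRingCat.of B)).inv b)
  have := Scheme.ΓSpecIso_inv_naturality (CommRingCat.ofHom
    (Algebra.TensorProduct.includeRight : B →ₐ[R] C ⊗[R] B).toRingHom)
  exact ConcreteCategory.congr_hom this b

end PushVal
end Groth.Agent.H89.AQ

namespace Groth.Agent.H89.AQ

section SmulId
variable {K : Precoverage Scheme.{u}} [BigSite.OSh K] {T : Scheme.{u}} (M : BigSite.Mod K T)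

theorem map_smul_sgp' {B : Type u} [CommRing B] {Z Z' : Over T} (h : Z' ⟶ Z)
    (π : Z.left ⟶ Spec (CommRingCat.of B)) (π' : Z'.left ⟶ Spec (CommRingCat.of B))
    (w : π' = h.left ≫ π) (b : B) (m : M.val.obj (op Z)) :
    M.val.map h.op (sgp (K := K) B Z π b • m) = sgp (K := K) B Z' π' b • M.val.map h.op m := by
  refine map_smul_sgp M (RingHom.id B) h π π' ?_ b m
  rw [CommRingCat.ofHom_id, Spec.map_id, Category.comp_id, w]

end SmulId

section Homs
variable {K : Precoverage Scheme.{u}} [BigSite.OSh K] {S T : Scheme.{u}} (f : T ⟶ S)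
  (M : BigSite.Mod K T) {R : CommRingCat.{u}} (a : Spec R ⟶ S)
  (C : Type u) [CommRing C] [Algebra R C] (c : Spec (CommRingCat.of C) ⟶ T)
  (hc : c ≫ f = Spec.map (CommRingCat.ofHom (algebraMap R C)) ≫ a)

include hc in
theorem affToPush_w (B : Alg R) :
    affR C c B ≫ ((specOver a).obj (op B)).hom = (affObj C c B).hom ≫ f := by
  change affR C c B ≫ Spec.map (CommRingCat.ofHom (algebraMap R B)) ≫ a = (affL C c B ≫ c) ≫ f
  rw [Category.assoc, hc, ← Category.assoc, ← Category.assoc, (aff_isPullback C c B).w]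

/-- `Spec (C ⊗ B) → Spec B ×_S T` over `T` -/
noncomputable def affToPush (B : Alg R) : affObj C c B ⟶ pushObj f a B :=
  pushLift (affR C c B) (affToPush_w f a C c hc B)

theorem affToPush_left_fst (B : Alg R) :
    (affToPush f a C c hc B).left ≫ pushFst f a B = affR C c B :=
  pushLift_left_fst _ _

theorem affToPush_natural {B B' : Alg R} (g : B ⟶ B') :
    affToPush f a C c hc B' ≫ pushTrans f a g = affTrans C c g ≫ affToPush f a C c hc B := by
  apply push_hom_ext
  rw [Over.comp_left, Over.comp_left, Category.assoc, Category.assoc, pushTrans_left_fst,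
    affToPush_left_fst, ← Category.assoc, affToPush_left_fst, affTrans_left_R]

/-- restriction `M(Spec B ×_S T) → M(Spec (C ⊗ B))`, elementwise -/
noncomputable def eFun (B : Alg R) (x : M.val.obj (op (pushObj f a B))) :
    M.val.obj (op (affObj C c B)) :=
  M.val.map (affToPush f a C c hc B).op x

theorem eFun_natural {B B' : Alg R} (g : B ⟶ B') (x : M.val.obj (op (pushObj f a B))) :
    eFun f M a C c hc B' (M.val.map (pushTrans f a g).op x) =
      M.val.map (affTrans C c g).op (eFun f M a C c hc B x) := by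
  unfold eFun
  rw [← PresheafOfModules.map_comp_apply, ← PresheafOfModules.map_comp_apply, ← op_comp,
    ← op_comp, affToPush_natural]

theorem eFun_smul (B : Alg R) (b : B) (x : M.val.obj (op (pushObj f a B))) :
    eFun f M a C c hc B (sgp (K := K) B (pushObj f a B) (pushFst f a B) b • x) =
      sgp (K := K) B (affObj C c B) (affR C c B) b • eFun f M a C c hc B x :=
  map_smul_sgp' M (affToPush f a C c hc B) (pushFst f a B) (affR C c B)
    (affToPush_left_fst f a C c hc B).symm b x

/-- restriction `M(Spec B ×_S T) → M(Spec (C ⊗ B))` as a morphism of module-valued functors -/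
noncomputable def eHom : (toMVF K a).obj ((BigSite.pushMod K f).obj M) ⟶ pushF M C c :=
  homOfElt (F := (toMVF K a).obj ((BigSite.pushMod K f).obj M)) (G := pushF M C c)
    (fun B x => eFun f M a C c hc B x)
    (fun _ x y => map_add _ x y)
    (fun B b x =>
      (congrArg (eFun f M a C c hc B) (pushMod_smul f M a B b x)).trans
        ((eFun_smul f M a C c hc B b x).trans
          (pushF_smul M C c B b (eFun f M a C c hc B x)).symm))
    (fun g x => eFun_natural f M a C c hc g x)

theorem eHom_app (B : Alg R) (x : ((toMVF K a).obj ((BigSite.pushMod K f).obj M)).obj (pt B)) :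
    (eHom f M a C c hc).app (pt B) x = eFun f M a C c hc B x := rfl

end Homs
end Groth.Agent.H89.AQ

namespace Groth.Agent.H89.AQ

section PushMap
variable {K : Precoverage Scheme.{u}} [BigSite.OSh K] {T : Scheme.{u}}
  (M : BigSite.Mod K T) {R : CommRingCat.{u}}
  (C : Type u) [CommRing C] [Algebra R C] (c : Spec (CommRingCat.of C) ⟶ T)
  (D : Type u) [CommRing D] [Algebra R D] (d : Spec (CommRingCat.of D) ⟶ T)
  (ψ : C →ₐ[R] D) (hd : Spec.map (CommRingCat.ofHom ψ.toRingHom) ≫ c = d)

theorem affMap_w1 (B : Alg R) :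
    (affL D d B ≫ Spec.map (CommRingCat.ofHom ψ.toRingHom)) ≫
      Spec.map (CommRingCat.ofHom (algebraMap R C)) =
      affR D d B ≫ Spec.map (CommRingCat.ofHom (algebraMap R B)) := by
  rw [Category.assoc, ← Spec.map_comp, ← (aff_isPullback D d B).w]
  congr 2
  ext r
  exact ψ.commutes r

include hd in
theorem affMap_w2 (B : Alg R) :
    (affL D d B ≫ Spec.map (CommRingCat.ofHom ψ.toRingHom)) ≫ c = (affObj D d B).hom := by
  rw [Category.assoc, hd]
  rfl

/-- `Spec (D ⊗ B) → Spec (C ⊗ B)` over `T` induced by `ψ : C → D` -/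
noncomputable def affMap (B : Alg R) : affObj D d B ⟶ affObj C c B :=
  affLift (affL D d B ≫ Spec.map (CommRingCat.ofHom ψ.toRingHom)) (affR D d B)
    (affMap_w1 C D d ψ B) (affMap_w2 C c D d ψ hd B)

theorem affMap_left_L (B : Alg R) :
    (affMap C c D d ψ hd B).left ≫ affL C c B =
      affL D d B ≫ Spec.map (CommRingCat.ofHom ψ.toRingHom) :=
  affLift_left_L _ _ _ _

theorem affMap_left_R (B : Alg R) :
    (affMap C c D d ψ hd B).left ≫ affR C c B = affR D d B :=
  affLift_left_R _ _ _ _

theorem affMap_natural {B B' : Alg R} (g : B ⟶ B') :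
    affMap C c D d ψ hd B' ≫ affTrans C c g = affTrans D d g ≫ affMap C c D d ψ hd B := by
  apply aff_hom_ext
  · rw [Over.comp_left, Over.comp_left, Category.assoc, Category.assoc, affTrans_left_L,
      affMap_left_L, affMap_left_L, ← Category.assoc, affTrans_left_L]
  · rw [Over.comp_left, Over.comp_left, Category.assoc, Category.assoc, affTrans_left_R,
      affMap_left_R, ← Category.assoc, affMap_left_R, affTrans_left_R]

noncomputable def pFun (B : Alg R) (x : M.val.obj (op (affObj C c B))) :
    M.val.obj (op (affObj D d B)) :=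
  M.val.map (affMap C c D d ψ hd B).op x

theorem pFun_natural {B B' : Alg R} (g : B ⟶ B') (x : M.val.obj (op (affObj C c B))) :
    pFun M C c D d ψ hd B' (M.val.map (affTrans C c g).op x) =
      M.val.map (affTrans D d g).op (pFun M C c D d ψ hd B x) := by
  unfold pFun
  rw [← PresheafOfModules.map_comp_apply, ← PresheafOfModules.map_comp_apply, ← op_comp,
    ← op_comp, affMap_natural]

theorem pFun_smul (B : Alg R) (b : B) (x : M.val.obj (op (affObj C c B))) :
    pFun M C c D d ψ hd B (sgp (K := K) B (affObj C c B) (affR C c B) b • x) =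
      sgp (K := K) B (affObj D d B) (affR D d B) b • pFun M C c D d ψ hd B x :=
  map_smul_sgp' M (affMap C c D d ψ hd B) (affR C c B) (affR D d B)
    (affMap_left_R C c D d ψ hd B).symm b x

/-- the morphism `M(Spec (C ⊗ -)) → M(Spec (D ⊗ -))` of module-valued functors induced by `ψ` -/
noncomputable def pushMapHom : pushF (R := R) M C c ⟶ pushF (R := R) M D d :=
  homOfElt (F := pushF (R := R) M C c) (G := pushF (R := R) M D d)
    (fun B x => pFun M C c D d ψ hd B x)
    (fun _ x y => map_add _ x y)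
    (fun B b x =>
      (congrArg (pFun M C c D d ψ hd B) (pushF_smul (R := R) M C c B b x)).trans
        ((pFun_smul M C c D d ψ hd B b x).trans
          (pushF_smul (R := R) M D d B b (pFun M C c D d ψ hd B x)).symm))
    (fun g x => pFun_natural M C c D d ψ hd g x)

theorem pushMapHom_app (B : Alg R) (x : (pushF (R := R) M C c).obj (pt B)) :
    (pushMapHom M C c D d ψ hd).app (pt B) x = pFun M C c D d ψ hd B x := rfl

end PushMap
end Groth.Agent.H89.AQ

namespace Groth.Agent.H89.AQ

section Comp
variable {K : Precoverage Scheme.{u}} [BigSite.OSh K] {S T : Scheme.{u}} (f : T ⟶ S)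
  (M : BigSite.Mod K T) {R : CommRingCat.{u}} (a : Spec R ⟶ S)
  (C : Type u) [CommRing C] [Algebra R C] (c : Spec (CommRingCat.of C) ⟶ T)
  (hc : c ≫ f = Spec.map (CommRingCat.ofHom (algebraMap R C)) ≫ a)
  (D : Type u) [CommRing D] [Algebra R D] (d : Spec (CommRingCat.of D) ⟶ T)
  (hdf : d ≫ f = Spec.map (CommRingCat.ofHom (algebraMap R D)) ≫ a)
  (ψ : C →ₐ[R] D) (hd : Spec.map (CommRingCat.ofHom ψ.toRingHom) ≫ c = d)

theorem affMap_comp_affToPush (B : Alg R) :
    affMap C c D d ψ hd B ≫ affToPush f a C c hc B = affToPush f a D d hdf B := by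
  apply push_hom_ext
  rw [Over.comp_left, Category.assoc, affToPush_left_fst, affToPush_left_fst, affMap_left_R]

theorem pFun_eFun (B : Alg R) (x : M.val.obj (op (pushObj f a B))) :
    pFun M C c D d ψ hd B (eFun f M a C c hc B x) = eFun f M a D d hdf B x := by
  unfold pFun eFun
  rw [← PresheafOfModules.map_comp_apply, ← op_comp, affMap_comp_affToPush f a C c hc D d hdf]

theorem eHom_comp_pushMapHom :
    eHom f M a C c hc ≫ pushMapHom M C c D d ψ hd = eHom f M a D d hdf := by
  apply hom_ext'
  intro B x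
  exact pFun_eFun f M a C c hc D d hdf ψ hd B x

end Comp
end Groth.Agent.H89.AQ

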