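import Groth.Agent.H89.AdeqPushB

/-!
# Geometry for the pushforward of adequate modules (Stacks 46.5.12)

* `Piece f a`: an affine scheme mapping to `X = Spec R ×_S T`, with its `R`-algebra structure and map to `T`;
* `rho_isPullback`, `affToPush_isPullback`: `Spec B ×_S T = Spec B ×_{Spec R} X` and
  `Spec (C ⊗ B) = Spec C ×_X (Spec B ×_S T)`;
* `cover_at_push`: base change of a Zariski covering of `X` by pieces to `Spec B ×_S T`;
* `hyper_geom`: two maps `W → Spec (C₁ ⊗ B)`, `W → Spec (C₂ ⊗ B)` agreeing in `Spec B ×_S T` factor, locally on `W`,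
  through `Spec (D_l ⊗ B)` for a covering `{Spec D_l}` of `Spec C₁ ×_X Spec C₂`.
-/

set_option autoImplicit false
set_option linter.style.haveILetI false
universe u v w
open CategoryTheory Limits Opposite TensorProduct Adeq AlgebraicGeometry

namespace Groth.Agent.H89.AQ

section Piece
variable {S T : Scheme.{u}} (f : T ⟶ S) {R : CommRingCat.{u}} (a : Spec R ⟶ S)

/-- an affine scheme mapping to `Spec R ×_S T` -/
structure Piece where
  C : CommRingCat.{u}
  v : Spec C ⟶ pullback a f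

variable {f a}

noncomputable instance Piece.algebra (P : Piece f a) : Algebra R P.C :=
  (Spec.preimage (P.v ≫ pullback.fst a f)).hom.toAlgebra

theorem Piece.specMap_algebraMap (P : Piece f a) :
    Spec.map (CommRingCat.ofHom (algebraMap R P.C)) = P.v ≫ pullback.fst a f :=
  Spec.map_preimage _

/-- the structure map to `T` -/
noncomputable def Piece.c (P : Piece f a) : Spec (CommRingCat.of P.C) ⟶ T :=
  P.v ≫ pullback.snd a f

theorem Piece.hc (P : Piece f a) :
    P.c ≫ f = Spec.map (CommRingCat.ofHom (algebraMap R P.C)) ≫ a := by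
  rw [P.specMap_algebraMap, Piece.c, Category.assoc, Category.assoc, pullback.condition]

end Piece

section Geom
variable {S T : Scheme.{u}} (f : T ⟶ S) {R : CommRingCat.{u}} (a : Spec R ⟶ S) (B : Alg R)

/-- `Spec B ×_S T → Spec R ×_S T` -/
noncomputable def rho : (pushObj f a B).left ⟶ pullback a f :=
  pullback.lift (pushFst f a B ≫ Spec.map (CommRingCat.ofHom (algebraMap R B)))
    (pushObj f a B).hom (by
      rw [Category.assoc]
      exact pullback.condition)

theorem rho_fst : rho f a B ≫ pullback.fst a f =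
    pushFst f a B ≫ Spec.map (CommRingCat.ofHom (algebraMap R B)) := pullback.lift_fst _ _ _

theorem rho_snd : rho f a B ≫ pullback.snd a f = (pushObj f a B).hom := pullback.lift_snd _ _ _

theorem rho_isPullback : IsPullback (rho f a B) (pushFst f a B) (pullback.fst a f)
    (Spec.map (CommRingCat.ofHom (algebraMap R B))) := by
  have t : IsPullback (pullback.snd a f) (pullback.fst a f) f a :=
    (IsPullback.of_hasPullback a f).flip
  have s0 : IsPullback (pullback.snd ((specOver a).obj (op B)).hom f)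
      (pullback.fst ((specOver a).obj (op B)).hom f) f ((specOver a).obj (op B)).hom :=
    (IsPullback.of_hasPullback _ f).flip
  have s : IsPullback (rho f a B ≫ pullback.snd a f) (pushFst f a B) f
      (Spec.map (CommRingCat.ofHom (algebraMap R B)) ≫ a) := by
    rw [rho_snd]
    exact s0
  exact IsPullback.of_right s (rho_fst f a B) t

variable {f a}

theorem affToPush_rho (P : Piece f a) :
    (affToPush f a P.C P.c P.hc B).left ≫ rho f a B = affL P.C P.c B ≫ P.v := by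
  apply pullback.hom_ext
  · rw [Category.assoc, rho_fst, ← Category.assoc, affToPush_left_fst, Category.assoc,
      ← P.specMap_algebraMap]
    exact ((aff_isPullback P.C P.c B).w).symm
  · rw [Category.assoc, rho_snd]
    exact Over.w (affToPush f a P.C P.c P.hc B)

theorem affToPush_isPullback (P : Piece f a) :
    IsPullback (affToPush f a P.C P.c P.hc B).left (affL P.C P.c B) (rho f a B) P.v := by
  have t := rho_isPullback f a B
  have s : IsPullback (affL P.C P.c B) ((affToPush f a P.C P.c P.hc B).left ≫ pushFst f a B)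
      (P.v ≫ pullback.fst a f) (Spec.map (CommRingCat.ofHom (algebraMap R B))) := by
    rw [affToPush_left_fst, ← P.specMap_algebraMap]
    exact aff_isPullback P.C P.c B
  exact (IsPullback.of_bot s (affToPush_rho B P).symm t).flip

end Geom
end Groth.Agent.H89.AQ

namespace Groth.Agent.H89.AQ

section PieceHom
variable {S T : Scheme.{u}} {f : T ⟶ S} {R : CommRingCat.{u}} {a : Spec R ⟶ S}

/-- a map of pieces over `Spec R ×_S T` as an `R`-algebra map -/
noncomputable def Piece.algHom {P Q : Piece f a} (ψ : P.C ⟶ Q.C) (h : Spec.map ψ ≫ P.v = Q.v) :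
    P.C →ₐ[R] Q.C :=
  { ψ.hom with
    commutes' := fun r => by
      have e : CommRingCat.ofHom (algebraMap R P.C) ≫ ψ = CommRingCat.ofHom (algebraMap R Q.C) := by
        apply Spec.map_injective
        rw [Spec.map_comp, P.specMap_algebraMap, Q.specMap_algebraMap, ← Category.assoc, h]
      exact ConcreteCategory.congr_hom e r }

theorem Piece.algHom_hd {P Q : Piece f a} (ψ : P.C ⟶ Q.C) (h : Spec.map ψ ≫ P.v = Q.v) :
    Spec.map (CommRingCat.ofHom (Piece.algHom ψ h).toRingHom) ≫ P.c = Q.c := by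
  change Spec.map ψ ≫ P.v ≫ pullback.snd a f = Q.v ≫ pullback.snd a f
  rw [← Category.assoc, h]

theorem Piece.specMap_algHom {P Q : Piece f a} (ψ : P.C ⟶ Q.C) (h : Spec.map ψ ≫ P.v = Q.v) :
    Spec.map (CommRingCat.ofHom (Piece.algHom ψ h).toRingHom) = Spec.map ψ := rfl

end PieceHom

section Cover
variable {S T : Scheme.{u}} {f : T ⟶ S} {R : CommRingCat.{u}} {a : Spec R ⟶ S}

theorem cover_at_push {J : Type v} (P : J → Piece f a)
    (hcov : Presieve.ofArrows (fun j => Spec (P j).C) (fun j => (P j).v) ∈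
      Scheme.zariskiPrecoverage.coverings (pullback a f)) (B : Alg R) :
    Presieve.ofArrows (fun j => (affObj (P j).C (P j).c B).left)
      (fun j => (affToPush f a (P j).C (P j).c (P j).hc B).left) ∈
        Scheme.zariskiPrecoverage.coverings (pushObj f a B).left :=
  Precoverage.mem_coverings_of_isPullback (fun j => (P j).v) hcov (rho f a B)
    (fun j => (affToPush f a (P j).C (P j).c (P j).hc B).left)
    (fun j => affL (P j).C (P j).c B) (fun j => affToPush_isPullback B (P j))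

end Cover
end Groth.Agent.H89.AQ

namespace Groth.Agent.H89.AQ

section Hyper
variable {S T : Scheme.{u}} {f : T ⟶ S} {R : CommRingCat.{u}} {a : Spec R ⟶ S}
  (P₁ P₂ : Piece f a) {L : Type v} (Q : L → Piece f a)
  (ψ₁ : ∀ l, P₁.C ⟶ (Q l).C) (ψ₂ : ∀ l, P₂.C ⟶ (Q l).C)
  (h₁ : ∀ l, Spec.map (ψ₁ l) ≫ P₁.v = (Q l).v) (h₂ : ∀ l, Spec.map (ψ₂ l) ≫ P₂.v = (Q l).v)

/-- the map `Spec Q_l → Spec P₁ ×_X Spec P₂` -/
noncomputable def omega (l : L) : Spec (Q l).C ⟶ pullback P₁.v P₂.v :=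
  pullback.lift (Spec.map (ψ₁ l)) (Spec.map (ψ₂ l)) ((h₁ l).trans (h₂ l).symm)

theorem hyper_geom
    (hcov : Presieve.ofArrows (fun l => Spec (Q l).C) (omega P₁ P₂ Q ψ₁ ψ₂ h₁ h₂) ∈
      Scheme.zariskiPrecoverage.coverings (pullback P₁.v P₂.v))
    (B : Alg R) (W : Over T) (q₁ : W ⟶ affObj P₁.C P₁.c B) (q₂ : W ⟶ affObj P₂.C P₂.c B)
    (hq : q₁ ≫ affToPush f a P₁.C P₁.c P₁.hc B = q₂ ≫ affToPush f a P₂.C P₂.c P₂.hc B) :
    ∃ (Wl : L → Over T) (t : ∀ l, Wl l ⟶ W) (s : ∀ l, Wl l ⟶ affObj (Q l).C (Q l).c B),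
      Presieve.ofArrows (fun l => (Wl l).left) (fun l => (t l).left) ∈
        Scheme.zariskiPrecoverage.coverings W.left ∧
      ∀ l, s l ≫ affMap P₁.C P₁.c (Q l).C (Q l).c (Piece.algHom (ψ₁ l) (h₁ l))
            (Piece.algHom_hd (ψ₁ l) (h₁ l)) B = t l ≫ q₁ ∧
          s l ≫ affMap P₂.C P₂.c (Q l).C (Q l).c (Piece.algHom (ψ₂ l) (h₂ l))
            (Piece.algHom_hd (ψ₂ l) (h₂ l)) B = t l ≫ q₂ := by
  -- the two maps to the pieces
  obtain ⟨w₁, hw₁⟩ : ∃ w₁ : W.left ⟶ Spec P₁.C, w₁ = q₁.left ≫ affL P₁.C P₁.c B := ⟨_, rfl⟩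
  obtain ⟨w₂, hw₂⟩ : ∃ w₂ : W.left ⟶ Spec P₂.C, w₂ = q₂.left ≫ affL P₂.C P₂.c B := ⟨_, rfl⟩
  have hqleft : q₁.left ≫ (affToPush f a P₁.C P₁.c P₁.hc B).left =
      q₂.left ≫ (affToPush f a P₂.C P₂.c P₂.hc B).left := congrArg CommaMorphism.left hq
  have hw : w₁ ≫ P₁.v = w₂ ≫ P₂.v := by
    rw [hw₁, hw₂, Category.assoc, Category.assoc, ← affToPush_rho B P₁, ← affToPush_rho B P₂,
      ← Category.assoc, ← Category.assoc, hqleft]
  have hR : q₁.left ≫ affR P₁.C P₁.c B = q₂.left ≫ affR P₂.C P₂.c B := by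
    rw [← affToPush_left_fst f a P₁.C P₁.c P₁.hc B, ← affToPush_left_fst f a P₂.C P₂.c P₂.hc B,
      ← Category.assoc, ← Category.assoc, hqleft]
  obtain ⟨θ, hθ₁, hθ₂⟩ : ∃ θ : W.left ⟶ pullback P₁.v P₂.v,
      θ ≫ pullback.fst P₁.v P₂.v = w₁ ∧ θ ≫ pullback.snd P₁.v P₂.v = w₂ :=
    ⟨pullback.lift w₁ w₂ hw, pullback.lift_fst _ _ _, pullback.lift_snd _ _ _⟩
  have hω₁ : ∀ l, omega P₁ P₂ Q ψ₁ ψ₂ h₁ h₂ l ≫ pullback.fst P₁.v P₂.v = Spec.map (ψ₁ l) :=
    fun l => pullback.lift_fst _ _ _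
  have hω₂ : ∀ l, omega P₁ P₂ Q ψ₁ ψ₂ h₁ h₂ l ≫ pullback.snd P₁.v P₂.v = Spec.map (ψ₂ l) :=
    fun l => pullback.lift_snd _ _ _
  -- the pulled back covering
  obtain ⟨tl, htl⟩ : ∃ tl : ∀ l, pullback θ (omega P₁ P₂ Q ψ₁ ψ₂ h₁ h₂ l) ⟶ W.left,
      tl = fun l => pullback.fst θ (omega P₁ P₂ Q ψ₁ ψ₂ h₁ h₂ l) := ⟨_, rfl⟩
  obtain ⟨sl, hsl⟩ : ∃ sl : ∀ l, pullback θ (omega P₁ P₂ Q ψ₁ ψ₂ h₁ h₂ l) ⟶ Spec (Q l).C,
      sl = fun l => pullback.snd θ (omega P₁ P₂ Q ψ₁ ψ₂ h₁ h₂ l) := ⟨_, rfl⟩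
  have hcond : ∀ l, tl l ≫ θ = sl l ≫ omega P₁ P₂ Q ψ₁ ψ₂ h₁ h₂ l := by
    intro l
    rw [htl, hsl]
    exact pullback.condition
  have hcovW : Presieve.ofArrows (fun l => pullback θ (omega P₁ P₂ Q ψ₁ ψ₂ h₁ h₂ l)) tl ∈
      Scheme.zariskiPrecoverage.coverings W.left := by
    rw [htl]
    exact Precoverage.mem_coverings_of_isPullback (omega P₁ P₂ Q ψ₁ ψ₂ h₁ h₂) hcov θ _
      (fun l => pullback.snd θ (omega P₁ P₂ Q ψ₁ ψ₂ h₁ h₂ l))
      (fun l => IsPullback.of_hasPullback θ (omega P₁ P₂ Q ψ₁ ψ₂ h₁ h₂ l))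
  -- key identities
  have k₁ : ∀ l, sl l ≫ Spec.map (ψ₁ l) = tl l ≫ w₁ := by
    intro l
    rw [← hω₁, ← Category.assoc, ← hcond, Category.assoc, hθ₁]
  have k₂ : ∀ l, sl l ≫ Spec.map (ψ₂ l) = tl l ≫ w₂ := by
    intro l
    rw [← hω₂, ← Category.assoc, ← hcond, Category.assoc, hθ₂]
  have kv : ∀ l, sl l ≫ (Q l).v = tl l ≫ w₁ ≫ P₁.v := by
    intro l
    rw [← h₁ l, ← Category.assoc, k₁, Category.assoc]
  -- the lifts
  have hz₁ : ∀ l, sl l ≫ Spec.map (CommRingCat.ofHom (algebraMap R (Q l).C)) =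
      (tl l ≫ q₁.left ≫ affR P₁.C P₁.c B) ≫ Spec.map (CommRingCat.ofHom (algebraMap R B)) := by
    intro l
    rw [(Q l).specMap_algebraMap, ← Category.assoc, kv, hw₁, Category.assoc, Category.assoc,
      Category.assoc, Category.assoc, Category.assoc, ← P₁.specMap_algebraMap,
      (aff_isPullback P₁.C P₁.c B).w]
  have hz₂ : ∀ l, sl l ≫ (Q l).c = (Over.mk (tl l ≫ W.hom)).hom := by
    intro l
    change sl l ≫ (Q l).v ≫ pullback.snd a f = tl l ≫ W.hom
    rw [← Category.assoc, kv, hw₁, ← Over.w q₁, Category.assoc, Category.assoc, Category.assoc]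
    rfl
  refine ⟨fun l => Over.mk (tl l ≫ W.hom), fun l => Over.homMk (tl l) rfl,
    fun l => affLift (sl l) (tl l ≫ q₁.left ≫ affR P₁.C P₁.c B) (hz₁ l) (hz₂ l), hcovW, fun l => ⟨?_, ?_⟩⟩
  · apply aff_hom_ext
    · rw [Over.comp_left, Over.comp_left, Category.assoc, affMap_left_L, ← Category.assoc,
        affLift_left_L, Piece.specMap_algHom, k₁, hw₁]
      exact (Category.assoc _ _ _).symm
    · rw [Over.comp_left, Over.comp_left, Category.assoc, affMap_left_R, affLift_left_R]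
      exact (Category.assoc _ _ _).symm
  · apply aff_hom_ext
    · rw [Over.comp_left, Over.comp_left, Category.assoc, affMap_left_L, ← Category.assoc,
        affLift_left_L, Piece.specMap_algHom, k₂, hw₂]
      exact (Category.assoc _ _ _).symm
    · rw [Over.comp_left, Over.comp_left, Category.assoc, affMap_left_R, affLift_left_R, hR]
      exact (Category.assoc _ _ _).symm

end Hyper
end Groth.Agent.H89.AQ

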