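import Groth.Agent.H89.AdeqPushC

/-!
# Finite affine covering data for `Spec R ×_S T` when `T → S` is quasi-compact and quasi-separated
-/

set_option autoImplicit false
set_option linter.style.haveILetI false
set_option linter.unusedSectionVars false
universe u v w
open CategoryTheory Limits Opposite TensorProduct Adeq AlgebraicGeometry

namespace Groth.Agent.H89.AQ

theorem exists_finite_affine_zariski_cover (Y : Scheme.{u}) [CompactSpace Y] :
    ∃ (n : ℕ) (C : Fin n → CommRingCat.{u}) (v : ∀ j, Spec (C j) ⟶ Y),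
      Presieve.ofArrows (fun j => Spec (C j)) v ∈ Scheme.zariskiPrecoverage.coverings Y := by
  classical
  have hopen : ∀ i : Y.affineOpenCover.I₀, IsOpen (Set.range (Y.affineOpenCover.f i)) := fun i =>
    (Y.affineOpenCover.f i).isOpenEmbedding.isOpenMap.isOpen_range
  obtain ⟨t, ht⟩ := isCompact_univ.elim_finite_subcover
    (fun i : Y.affineOpenCover.I₀ => Set.range (Y.affineOpenCover.f i)) hopen
    (fun x _ => Set.mem_iUnion.mpr ⟨_, Y.affineOpenCover.covers x⟩)
  let e := t.equivFin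
  refine ⟨t.card, fun j => Y.affineOpenCover.X (e.symm j).1,
    fun j => Y.affineOpenCover.f (e.symm j).1, ?_⟩
  rw [Scheme.ofArrows_mem_precoverage_iff]
  refine ⟨fun x => ?_, fun j => Y.affineOpenCover.map_prop _⟩
  have hx := ht (Set.mem_univ x)
  simp only [Set.mem_iUnion] at hx
  obtain ⟨p, hp, hxp⟩ := hx
  refine ⟨e ⟨p, hp⟩, ?_⟩
  change x ∈ Set.range (Y.affineOpenCover.f (e.symm (e ⟨p, hp⟩)).1)
  rw [Equiv.symm_apply_apply]
  exact hxp

section Data
variable {S T : Scheme.{u}} (f : T ⟶ S) [QuasiCompact f] [QuasiSeparated f]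
  {R : CommRingCat.{u}} (a : Spec R ⟶ S)

instance : CompactSpace ↑(pullback a f) := inferInstance

instance pullback_qs : QuasiSeparatedSpace ↑(pullback a f) :=
  quasiSeparatedSpace_of_quasiSeparated (pullback.fst a f)

theorem exists_pieces :
    ∃ (n : ℕ) (P : Fin n → Piece f a),
      Presieve.ofArrows (fun j => Spec (P j).C) (fun j => (P j).v) ∈
        Scheme.zariskiPrecoverage.coverings (pullback a f) := by
  obtain ⟨n, C, v, hv⟩ := exists_finite_affine_zariski_cover (pullback a f)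
  exact ⟨n, fun j => ⟨C j, v j⟩, hv⟩

theorem exists_pair_pieces (P₁ P₂ : Piece f a) :
    ∃ (m : ℕ) (Q : Fin m → Piece f a) (ψ₁ : ∀ l, P₁.C ⟶ (Q l).C) (ψ₂ : ∀ l, P₂.C ⟶ (Q l).C)
      (h₁ : ∀ l, Spec.map (ψ₁ l) ≫ P₁.v = (Q l).v) (h₂ : ∀ l, Spec.map (ψ₂ l) ≫ P₂.v = (Q l).v),
      Presieve.ofArrows (fun l => Spec (Q l).C) (omega P₁ P₂ Q ψ₁ ψ₂ h₁ h₂) ∈
        Scheme.zariskiPrecoverage.coverings (pullback P₁.v P₂.v) := by
  haveI : QuasiCompact P₁.v := quasiCompact_of_compactSpace P₁.v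
  haveI : CompactSpace ↑(pullback P₁.v P₂.v) := inferInstance
  obtain ⟨m, D, ω, hω⟩ := exists_finite_affine_zariski_cover (pullback P₁.v P₂.v)
  refine ⟨m, fun l => ⟨D l, ω l ≫ pullback.fst P₁.v P₂.v ≫ P₁.v⟩,
    fun l => Spec.preimage (ω l ≫ pullback.fst P₁.v P₂.v),
    fun l => Spec.preimage (ω l ≫ pullback.snd P₁.v P₂.v),
    fun l => by rw [Spec.map_preimage, Category.assoc],
    fun l => by rw [Spec.map_preimage, Category.assoc, pullback.condition], ?_⟩
  have : omega P₁ P₂ (fun l => (⟨D l, ω l ≫ pullback.fst P₁.v P₂.v ≫ P₁.v⟩ : Piece f a))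
      (fun l => Spec.preimage (ω l ≫ pullback.fst P₁.v P₂.v))
      (fun l => Spec.preimage (ω l ≫ pullback.snd P₁.v P₂.v))
      (fun l => by rw [Spec.map_preimage, Category.assoc])
      (fun l => by rw [Spec.map_preimage, Category.assoc, pullback.condition]) = ω := by
    funext l
    apply pullback.hom_ext
    · rw [omega, pullback.lift_fst, Spec.map_preimage]
    · rw [omega, pullback.lift_snd, Spec.map_preimage]
  rw [this]
  exact hω

end Data
end Groth.Agent.H89.AQ

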