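import Groth.Agent.H89.AdeqShfRefine

/-!
# Presheaves of modules with adequate values are sheaves on affine objects (Stacks 46.5.10)

Let `P` be a presheaf of modules on the big fppf site of `S` all of whose module-valued functors `F_{P,R}`
are adequate, `M` a sheaf of modules and `η : P ⟶ M` a locally bijective morphism. Then `η` is
bijective on sections over every affine object; hence `M` is adequate.
-/

set_option autoImplicit false
set_option linter.style.haveILetI false
universe u v
open CategoryTheory Limits Opposite TensorProduct Adeq AlgebraicGeometry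

namespace Groth.Agent.H89.AQ

theorem pi_cover_mem_fppf {n : ℕ} (C : Fin n → Type u) [∀ j, CommRing (C j)] :
    Presieve.ofArrows (fun j => Spec (CommRingCat.of (C j)))
      (fun j => Spec.map (CommRingCat.ofHom (Pi.evalRingHom C j))) ∈
        Scheme.fppfPrecoverage.coverings (Spec (CommRingCat.of (∀ j, C j))) := by
  apply Scheme.zariskiPrecoverage_le_fppfPrecoverage
  rw [Scheme.ofArrows_mem_precoverage_iff]
  refine ⟨fun x => ?_, fun j => inferInstance⟩
  obtain ⟨⟨j, q⟩, hq⟩ := (PrimeSpectrum.sigmaToPi_bijective C).2 x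
  exact ⟨j, q, hq⟩

section LocBij
variable {S : Scheme.{u}} {P : PresheafOfModules.{u + 1} (BigSite.ORing Scheme.fppfPrecoverage S).obj}
  {M : BigSite.Mod Scheme.fppfPrecoverage S} (η : P ⟶ M.val)

/-- the components of `η` as plain functions -/
noncomputable def etaFun (X : Over S) (x : P.obj (op X)) : M.val.obj (op X) := (η.app (op X)).hom x

theorem etaFun_nat {X Y : Over S} (f : Y ⟶ X) (x : P.obj (op X)) :
    etaFun η Y (P.map f.op x) = M.val.map f.op (etaFun η X x) :=
  PresheafOfModules.naturality_apply η f.op x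

theorem etaFun_inj_of_iso {X X' : Over S} (i : X ≅ X') (h : Function.Injective (etaFun η X)) :
    Function.Injective (etaFun η X') := by
  intro x x' hxx'
  have h1 : P.map i.hom.op x = P.map i.hom.op x' := by
    apply h
    rw [etaFun_nat, etaFun_nat, hxx']
  have h2 : ∀ z : P.obj (op X'), P.map i.inv.op (P.map i.hom.op z) = z := by
    intro z
    rw [← PresheafOfModules.map_comp_apply, ← op_comp, i.inv_hom_id, op_id,
      PresheafOfModules.map_id]
    rfl
  rw [← h2 x, ← h2 x', h1]

theorem etaFun_surj_of_iso {X X' : Over S} (i : X ≅ X') (h : Function.Surjective (etaFun η X)) :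
    Function.Surjective (etaFun η X') := by
  intro s
  obtain ⟨x, hx⟩ := h (M.val.map i.hom.op s)
  refine ⟨P.map i.inv.op x, ?_⟩
  rw [etaFun_nat, hx, ← PresheafOfModules.map_comp_apply, ← op_comp, i.inv_hom_id, op_id,
    PresheafOfModules.map_id]
  rfl

theorem toMVFPre_map_app {R : CommRingCat.{u}} (a : Spec R ⟶ S) (B : Alg R)
    (x : ((toMVFPre Scheme.fppfPrecoverage a).obj P).obj (pt B)) :
    ((toMVFPre Scheme.fppfPrecoverage a).map η).app (pt B) x =
      etaFun η ((specOver a).obj (op B)) x := rfl

/-- the canonical isomorphism of `Spec B → Spec R → S` with the base object of `Spec B → S` -/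
noncomputable def baseIso {R : CommRingCat.{u}} (a : Spec R ⟶ S) (B : Alg R) :
    (specOver (R := CommRingCat.of B) ((specOver a).obj (op B)).hom).obj
      (op (algOf B B)) ≅ (specOver a).obj (op B) :=
  Over.isoMk (Iso.refl _) (by
    change 𝟙 _ ≫ ((specOver a).obj (op B)).hom =
      Spec.map (CommRingCat.ofHom (algebraMap B B)) ≫ ((specOver a).obj (op B)).hom
    rw [Algebra.algebraMap_self, CommRingCat.ofHom_id, Spec.map_id]
    rfl)


variable
  (hLI : Presheaf.IsLocallyInjective (QuotSh.J Scheme.fppfPrecoverage S)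
    ((PresheafOfModules.toPresheaf _).map η))
  (hLS : Presheaf.IsLocallySurjective (QuotSh.J Scheme.fppfPrecoverage S)
    ((PresheafOfModules.toPresheaf _).map η))
  (hP : ∀ (R : CommRingCat.{u}) (a : Spec R ⟶ S),
    adequate R ((toMVFPre Scheme.fppfPrecoverage a).obj P))

include hLI hP in
theorem locBij_inj_base (R : CommRingCat.{u}) (a : Spec R ⟶ S) :
    Function.Injective (((toMVFPre Scheme.fppfPrecoverage a).map η).app (pt (algOf R R))) := by
  intro x x' hxx'
  have hT := Presheaf.equalizerSieve_mem (QuotSh.J Scheme.fppfPrecoverage S)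
    ((PresheafOfModules.toPresheaf _).map η)
    (X := op ((specOver a).obj (op (algOf R R)))) x x' hxx'
  obtain ⟨n, C, _, _, hflat, hsurj, hcov, hT'⟩ := exists_refinement_base a _ hT
  haveI := hflat
  haveI : Module.FaithfullyFlat R (∀ j, C j) := faithfullyFlat_pi R C hsurj
  have h1 : ∀ j, tmap ((toMVFPre Scheme.fppfPrecoverage a).obj P) (g0 R (C j)) x =
      tmap ((toMVFPre Scheme.fppfPrecoverage a).obj P) (g0 R (C j)) x' := hT'
  have h2 : tmap ((toMVFPre Scheme.fppfPrecoverage a).obj P) (g0 R (∀ j, C j)) x =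
      tmap ((toMVFPre Scheme.fppfPrecoverage a).obj P) (g0 R (∀ j, C j)) x' := by
    apply adequate_pi_injective R C _ (hP R a)
    intro j
    rw [tmap_comp, tmap_comp]
    exact h1 j
  exact (adequate_ff_exact R (∀ j, C j) _ (hP R a)).1 h2


include hLI hP in
theorem locBij_inj (R : CommRingCat.{u}) (a : Spec R ⟶ S) (B : Alg R) :
    Function.Injective (((toMVFPre Scheme.fppfPrecoverage a).map η).app (pt B)) := by
  have h0 := locBij_inj_base η hLI hP (CommRingCat.of B) ((specOver a).obj (op B)).hom
  exact etaFun_inj_of_iso η (baseIso a B) h0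

include hLI hLS hP in
theorem locBij_surj_base (R : CommRingCat.{u}) (a : Spec R ⟶ S) :
    Function.Surjective (((toMVFPre Scheme.fppfPrecoverage a).map η).app (pt (algOf R R))) := by
  intro s
  have hT := Presheaf.imageSieve_mem (QuotSh.J Scheme.fppfPrecoverage S)
    ((PresheafOfModules.toPresheaf _).map η)
    (U := op ((specOver a).obj (op (algOf R R)))) s
  obtain ⟨n, C, _, _, hflat, hsurj, hcov, hT'⟩ := exists_refinement_base a _ hT
  haveI := hflat
  haveI : Module.FaithfullyFlat R (∀ j, C j) := faithfullyFlat_pi R C hsurj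
  choose y hy using hT'
  have hy' : ∀ j, ((toMVFPre Scheme.fppfPrecoverage a).map η).app (pt (algOf R (C j))) (y j) =
      tmap ((toMVF Scheme.fppfPrecoverage a).obj M) (g0 R (C j)) s := hy
  obtain ⟨yy, hyy⟩ := adequate_pi_surjective R C _ (hP R a) y
  have h3 : ((toMVFPre Scheme.fppfPrecoverage a).map η).app (pt (algOf R (∀ j, C j))) yy =
      tmap ((toMVF Scheme.fppfPrecoverage a).obj M) (g0 R (∀ j, C j)) s := by
    refine sheaf_family_sep M (fun j => (specOver a).obj (op (algOf R (C j))))
      (fun j => (specOver a).map (piProj R C j).op) (pi_cover_mem_fppf C) _ _ (fun j => ?_)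
    change tmap ((toMVF Scheme.fppfPrecoverage a).obj M) (piProj R C j) _ =
      tmap ((toMVF Scheme.fppfPrecoverage a).obj M) (piProj R C j) _
    exact ((app_tmap ((toMVFPre Scheme.fppfPrecoverage a).map η) (piProj R C j) yy).symm.trans
      ((congrArg _ (hyy j)).trans (hy' j))).trans
      (tmap_comp ((toMVF Scheme.fppfPrecoverage a).obj M) (g0 R (∀ j, C j)) (piProj R C j) s).symm
  have h4 : tmap ((toMVFPre Scheme.fppfPrecoverage a).obj P) (gL R (∀ j, C j)) yy =
      tmap ((toMVFPre Scheme.fppfPrecoverage a).obj P) (gR R (∀ j, C j)) yy := by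
    apply locBij_inj η hLI hP R a
    have e0 : g0 R (∀ j, C j) ≫ gL R (∀ j, C j) = g0 R (∀ j, C j) ≫ gR R (∀ j, C j) := by
      ext r
    exact ((app_tmap ((toMVFPre Scheme.fppfPrecoverage a).map η) (gL R (∀ j, C j)) yy).trans
      ((congrArg _ h3).trans
        (tmap_comp ((toMVF Scheme.fppfPrecoverage a).obj M) (g0 R (∀ j, C j)) (gL R (∀ j, C j)) s))).trans
      ((congrArg (fun g => tmap ((toMVF Scheme.fppfPrecoverage a).obj M) g s) e0).trans
        ((app_tmap ((toMVFPre Scheme.fppfPrecoverage a).map η) (gR R (∀ j, C j)) yy).trans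
          ((congrArg _ h3).trans
            (tmap_comp ((toMVF Scheme.fppfPrecoverage a).obj M) (g0 R (∀ j, C j))
              (gR R (∀ j, C j)) s))).symm)
  obtain ⟨x, hx⟩ := (adequate_ff_exact R (∀ j, C j) _ (hP R a)).2 yy h4
  refine ⟨x, ?_⟩
  refine sheaf_family_sep M (fun j => (specOver a).obj (op (algOf R (C j))))
    (fun j => (specOver a).map (g0 R (C j)).op) hcov _ _ (fun j => ?_)
  change tmap ((toMVF Scheme.fppfPrecoverage a).obj M) (g0 R (C j)) _ =
    tmap ((toMVF Scheme.fppfPrecoverage a).obj M) (g0 R (C j)) _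
  have e1 : tmap ((toMVFPre Scheme.fppfPrecoverage a).obj P) (g0 R (C j)) x = y j :=
    ((tmap_comp ((toMVFPre Scheme.fppfPrecoverage a).obj P) (g0 R (∀ j, C j)) (piProj R C j) x).symm.trans
      (congrArg _ hx)).trans (hyy j)
  exact ((app_tmap ((toMVFPre Scheme.fppfPrecoverage a).map η) (g0 R (C j)) x).symm.trans
    (congrArg _ e1)).trans (hy' j)


include hLI hLS hP in
theorem locBij_surj (R : CommRingCat.{u}) (a : Spec R ⟶ S) (B : Alg R) :
    Function.Surjective (((toMVFPre Scheme.fppfPrecoverage a).map η).app (pt B)) := by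
  have h0 := locBij_surj_base η hLI hLS hP (CommRingCat.of B) ((specOver a).obj (op B)).hom
  exact etaFun_surj_of_iso η (baseIso a B) h0

include hLI hLS hP in
theorem locBij_isIso (R : CommRingCat.{u}) (a : Spec R ⟶ S) :
    IsIso ((toMVFPre Scheme.fppfPrecoverage a).map η) :=
  isIso_of_bij _ (fun B => ⟨locBij_inj η hLI hP R a B, locBij_surj η hLI hLS hP R a B⟩)

include hLI hLS hP in
theorem adequate_toMVF_of_locBij (R : CommRingCat.{u}) (a : Spec R ⟶ S) :
    adequate R ((toMVF Scheme.fppfPrecoverage a).obj M) := by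
  have h1 := locBij_isIso η hLI hLS hP R a
  exact (adequate R).prop_of_iso (@asIso _ _ _ _ ((toMVFPre Scheme.fppfPrecoverage a).map η) h1)
    (hP R a)

include hLI hLS hP in
theorem adequateMod_of_locBij : adequateMod Scheme.fppfPrecoverage S M :=
  affineOpenCover_adequateMod_fppf S M (fun R a => adequate_toMVF_of_locBij η hLI hLS hP R a)

end LocBij
end Groth.Agent.H89.AQ
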