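import Groth.Agent.H89.AdeqPi
import Groth.Agent.H89.AdeqSiteFppf

/-!
# Covering sieves of affine objects of the big fppf site contain finite affine fppf families
-/

set_option autoImplicit false
set_option linter.style.haveILetI false
universe u v
open CategoryTheory Limits Opposite TensorProduct Adeq AlgebraicGeometry

namespace Groth.Agent.H89.AQ

section Refine
variable (Pm : MorphismProperty Scheme.{u}) [Pm.IsStableUnderBaseChange] [Pm.IsStableUnderComposition]
  [Pm.ContainsIdentities] [Pm.RespectsIso] [Scheme.IsJointlySurjectivePreserving Pm]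

theorem exists_affine_refinement_sieve_gen
    (hOI : ∀ {X Y : Scheme.{u}} (f : X ⟶ Y), IsOpenImmersion f → Pm f)
    (hopen : ∀ {X Y : Scheme.{u}} (f : X ⟶ Y), Pm f → IsOpenMap f)
    {S : Scheme.{u}} {R : CommRingCat.{u}} (h : Spec R ⟶ S)
    (T : Sieve (Over.mk h)) (hT : T ∈ QuotSh.J (Scheme.precoverage Pm) S (Over.mk h)) :
    ∃ (n : ℕ) (C : Fin n → CommRingCat.{u}) (φ : ∀ j, R ⟶ C j),
      Presieve.ofArrows (fun j => Spec (C j)) (fun j => Spec.map (φ j)) ∈
        (Scheme.precoverage Pm).coverings (Spec R) ∧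
      ∀ (j : Fin n) (Y : Over S) (f : Y ⟶ Over.mk h) (e : Y.left ⟶ Spec (C j)),
        f.left = e ≫ Spec.map (φ j) → T.arrows f := by
  classical
  rw [GrothendieckTopology.mem_over_iff,
    Precoverage.mem_toGrothendieck_iff_of_isStableUnderComposition] at hT
  obtain ⟨Rp, hRp, hle⟩ := hT
  obtain ⟨ι, U, g₀, rfl⟩ := Rp.exists_eq_ofArrows
  rw [Scheme.ofArrows_mem_precoverage_iff] at hRp
  obtain ⟨hsurj, hP⟩ := hRp
  let I := Σ i, (U i).affineOpenCover.I₀
  let W : I → CommRingCat.{u} := fun p => (U p.1).affineOpenCover.X p.2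
  let g : ∀ p : I, Spec (W p) ⟶ Spec R := fun p => (U p.1).affineOpenCover.f p.2 ≫ g₀ p.1
  have hg : ∀ p, Pm (g p) := fun p =>
    Pm.comp_mem _ _ (hOI _ ((U p.1).affineOpenCover.map_prop p.2)) (hP p.1)
  have hcover : ∀ x : Spec R, ∃ p : I, x ∈ Set.range (g p) := by
    intro x
    obtain ⟨i, y, hy⟩ := hsurj x
    obtain ⟨w, hw⟩ := (U i).affineOpenCover.covers y
    refine ⟨⟨i, (U i).affineOpenCover.idx y⟩, w, ?_⟩
    change ((U i).affineOpenCover.f _ ≫ g₀ i) w = x
    rw [Scheme.Hom.comp_apply, hw, hy]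
  have hopen' : ∀ p : I, IsOpen (Set.range (g p)) := fun p => (hopen (g p) (hg p)).isOpen_range
  obtain ⟨t, ht⟩ := isCompact_univ.elim_finite_subcover (fun p : I => Set.range (g p)) hopen'
    (fun x _ => by
      obtain ⟨p, hp⟩ := hcover x
      exact Set.mem_iUnion.mpr ⟨p, hp⟩)
  let e := t.equivFin
  refine ⟨t.card, fun j => W (e.symm j).1, fun j => Spec.preimage (g (e.symm j).1), ?_, ?_⟩
  · rw [Scheme.ofArrows_mem_precoverage_iff]
    refine ⟨fun x => ?_, fun j => ?_⟩
    · have hx := ht (Set.mem_univ x)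
      simp only [Set.mem_iUnion] at hx
      obtain ⟨p, hp, hxp⟩ := hx
      refine ⟨e ⟨p, hp⟩, ?_⟩
      rw [Spec.map_preimage]
      change x ∈ Set.range (g (e.symm (e ⟨p, hp⟩)).1)
      rw [Equiv.symm_apply_apply]
      exact hxp
    · rw [Spec.map_preimage]
      exact hg _
  · intro j Y f e' hf
    rw [Spec.map_preimage] at hf
    have h1 : (Sieve.overEquiv (Over.mk h) T).arrows (g₀ (e.symm j).1.1) :=
      hle _ _ (Presieve.ofArrows.mk _)
    have h2 : (Sieve.overEquiv (Over.mk h) T).arrows f.left := by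
      rw [hf]
      change (Sieve.overEquiv (Over.mk h) T).arrows
        (e' ≫ (U (e.symm j).1.1).affineOpenCover.f (e.symm j).1.2 ≫ g₀ (e.symm j).1.1)
      rw [← Category.assoc]
      exact Sieve.downward_closed _ h1 _
    rw [Sieve.overEquiv_iff] at h2
    have hw : 𝟙 Y.left ≫ (Over.mk (f.left ≫ (Over.mk h).hom)).hom = Y.hom := by
      rw [Category.id_comp]
      exact Over.w f
    have h3 : (Over.homMk (𝟙 Y.left) hw : Y ⟶ Over.mk (f.left ≫ (Over.mk h).hom)) ≫
        (Over.homMk f.left : Over.mk (f.left ≫ (Over.mk h).hom) ⟶ Over.mk h) = f := by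
      ext : 1
      simp
    rw [← h3]
    exact Sieve.downward_closed _ h2 _

end Refine
end Groth.Agent.H89.AQ

namespace Groth.Agent.H89.AQ

set_option backward.isDefEq.respectTransparency.types false in
theorem fppf_containsId : (@Flat ⊓ @LocallyOfFinitePresentation :
    MorphismProperty Scheme.{u}).ContainsIdentities :=
  ⟨fun _ => ⟨inferInstance, inferInstance⟩⟩

set_option backward.isDefEq.respectTransparency.types false in
theorem fppf_respectsIso : (@Flat ⊓ @LocallyOfFinitePresentation :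
    MorphismProperty Scheme.{u}).RespectsIso := inferInstance

theorem exists_affine_refinement_sieve_fppf
    {S : Scheme.{u}} {R : CommRingCat.{u}} (h : Spec R ⟶ S)
    (T : Sieve (Over.mk h)) (hT : T ∈ QuotSh.J Scheme.fppfPrecoverage S (Over.mk h)) :
    ∃ (n : ℕ) (C : Fin n → CommRingCat.{u}) (φ : ∀ j, R ⟶ C j),
      Presieve.ofArrows (fun j => Spec (C j)) (fun j => Spec.map (φ j)) ∈
        Scheme.fppfPrecoverage.coverings (Spec R) ∧
      ∀ (j : Fin n) (Y : Over S) (f : Y ⟶ Over.mk h) (e : Y.left ⟶ Spec (C j)),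
        f.left = e ≫ Spec.map (φ j) → T.arrows f := by
  haveI := fppf_stableBC.{u}
  haveI := fppf_stableComp.{u}
  haveI := fppf_containsId.{u}
  haveI := fppf_respectsIso.{u}
  refine exists_affine_refinement_sieve_gen
    (@Flat ⊓ @LocallyOfFinitePresentation) (fun f hf => ⟨inferInstance, inferInstance⟩)
    (fun f hf => ?_) h T hT
  have : Flat f := hf.1
  have : LocallyOfFinitePresentation f := hf.2
  exact f.isOpenMap

/-- a finite affine fppf family inside a covering sieve of the base object `Spec R → S`, in terms of algebras -/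
theorem exists_refinement_base {S : Scheme.{u}} {R : CommRingCat.{u}} (a : Spec R ⟶ S)
    (T : Sieve ((specOver a).obj (op (algOf R R))))
    (hT : T ∈ QuotSh.J Scheme.fppfPrecoverage S ((specOver a).obj (op (algOf R R)))) :
    ∃ (n : ℕ) (C : Fin n → Type u) (_ : ∀ j, CommRing (C j)) (_ : ∀ j, Algebra R (C j)),
      (∀ j, Module.Flat R (C j)) ∧
      (∀ p : PrimeSpectrum R, ∃ j, p ∈ Set.range (PrimeSpectrum.comap (algebraMap R (C j)))) ∧
      Presieve.ofArrows (fun j => Spec (CommRingCat.of (C j)))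
        (fun j => Spec.map (CommRingCat.ofHom (algebraMap R (C j)))) ∈
          Scheme.fppfPrecoverage.coverings (Spec R) ∧
      ∀ j, T.arrows ((specOver a).map (g0 R (C j)).op) := by
  obtain ⟨n, C, φ, hcov, hT'⟩ := exists_affine_refinement_sieve_fppf
    (R := CommRingCat.of R) ((specOver a).obj (op (algOf R R))).hom T hT
  letI : ∀ j, Algebra R (C j) := fun j => (φ j).hom.toAlgebra
  refine ⟨n, fun j => C j, inferInstance, inferInstance, ?_, ?_, hcov, ?_⟩
  · intro j
    have h1 : Scheme.fppfPrecoverage.coverings (Spec (CommRingCat.of R)) = 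
        (Scheme.precoverage (@Flat ⊓ @LocallyOfFinitePresentation)).coverings (Spec (CommRingCat.of R)) := rfl
    rw [h1, Scheme.ofArrows_mem_precoverage_iff] at hcov
    have h2 : Flat (Spec.map (φ j)) := (hcov.2 j).1
    exact Flat.SpecMap_iff.mp h2
  · intro p
    have h1 : Scheme.fppfPrecoverage.coverings (Spec (CommRingCat.of R)) = 
        (Scheme.precoverage (@Flat ⊓ @LocallyOfFinitePresentation)).coverings (Spec (CommRingCat.of R)) := rfl
    rw [h1, Scheme.ofArrows_mem_precoverage_iff] at hcov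
    obtain ⟨j, q, hq⟩ := hcov.1 p
    exact ⟨j, q, hq⟩
  · intro j
    refine hT' j _ _ (𝟙 (Spec (C j))) ?_
    exact (Category.id_comp (Spec.map (φ j))).symm

end Groth.Agent.H89.AQ
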