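import Groth.Prelude.Def_Adeq2
import Groth.Agent.H89.AdeqDescentFam

/-!
# Sections of big-site modules over affine objects (Stacks 46.5): basic API

* `sheaf_family`: the sheaf condition of a module on the big site of `S` for a family of morphisms
  in `Over S` whose underlying family of schemes is a `K`-covering;
* `adequate_of_equiv`: module-valued functors with naturally and linearly isomorphic values
  are adequate together.
-/

set_option autoImplicit false
set_option linter.style.haveILetI false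
universe u v
open CategoryTheory Limits Opposite TensorProduct Adeq AlgebraicGeometry

namespace Groth.Agent.H89.AQ

section Sheaf
variable {K : Precoverage Scheme.{u}} [BigSite.OSh K] {S : Scheme.{u}} (M : BigSite.Mod K S)

theorem ofArrows_mem_J {X : Over S} {I : Type v} (Y : I → Over S) (p : ∀ i, Y i ⟶ X)
    (hcov : Presieve.ofArrows (fun i => (Y i).left) (fun i => (p i).left) ∈ K.coverings X.left) :
    Sieve.ofArrows Y p ∈ QuotSh.J K S X := by
  rw [GrothendieckTopology.mem_over_iff, Sieve.overEquiv_ofArrows]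
  exact Precoverage.generate_mem_toGrothendieck hcov

theorem isSheafFor_family {X : Over S} {I : Type v} (Y : I → Over S) (p : ∀ i, Y i ⟶ X)
    (hcov : Presieve.ofArrows (fun i => (Y i).left) (fun i => (p i).left) ∈ K.coverings X.left) :
    Presieve.IsSheafFor (M.val.presheaf ⋙ forget _) (Presieve.ofArrows Y p) := by
  have h1 := (Presheaf.isSheaf_iff_isSheaf_forget (QuotSh.J K S) M.val.presheaf (forget _)).mp
    M.isSheaf
  rw [isSheaf_iff_isSheaf_of_type] at h1
  exact h1.isSheafFor _ (ofArrows_mem_J Y p hcov)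

theorem sheaf_family_sep {X : Over S} {I : Type v} (Y : I → Over S) (p : ∀ i, Y i ⟶ X)
    (hcov : Presieve.ofArrows (fun i => (Y i).left) (fun i => (p i).left) ∈ K.coverings X.left)
    (x x' : M.val.obj (op X))
    (h : ∀ i, M.val.map (p i).op x = M.val.map (p i).op x') : x = x' := by
  have hs := isSheafFor_family M Y p hcov
  rw [Presieve.isSheafFor_arrows_iff] at hs
  have hc : Presieve.Arrows.Compatible (M.val.presheaf ⋙ forget _) p
      (fun i => M.val.map (p i).op x) := by
    intro i j Z gi gj hij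
    change M.val.map gi.op (M.val.map (p i).op x) = M.val.map gj.op (M.val.map (p j).op x)
    rw [← PresheafOfModules.map_comp_apply, ← PresheafOfModules.map_comp_apply, ← op_comp,
      ← op_comp, hij]
  obtain ⟨t, _, ht⟩ := hs _ hc
  rw [ht x (fun i => rfl), ht x' (fun i => (h i).symm)]

theorem sheaf_family_glue {X : Over S} {I : Type v} (Y : I → Over S) (p : ∀ i, Y i ⟶ X)
    (hcov : Presieve.ofArrows (fun i => (Y i).left) (fun i => (p i).left) ∈ K.coverings X.left)
    (y : ∀ i, M.val.obj (op (Y i)))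
    (h : ∀ (i j : I) (Z : Over S) (q₁ : Z ⟶ Y i) (q₂ : Z ⟶ Y j), q₁ ≫ p i = q₂ ≫ p j →
      M.val.map q₁.op (y i) = M.val.map q₂.op (y j)) :
    ∃ x : M.val.obj (op X), ∀ i, M.val.map (p i).op x = y i := by
  have hs := isSheafFor_family M Y p hcov
  rw [Presieve.isSheafFor_arrows_iff] at hs
  obtain ⟨t, ht, _⟩ := hs y (fun i j Z gi gj hij => h i j Z gi gj hij)
  exact ⟨t, ht⟩

end Sheaf

end Groth.Agent.H89.AQ

namespace Groth.Agent.H89.AQ

section Equiv
variable {A : Type u} [CommRing A]

/-- a morphism of module-valued functors from elementwise data -/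
noncomputable def homOfElt {F G : MVF A} (e : ∀ B : Alg A, F.obj (pt B) → G.obj (pt B))
    (he_add : ∀ B x y, e B (x + y) = e B x + e B y)
    (he_smul : ∀ (B : Alg A) (b : B) x, e B (b • x) = b • e B x)
    (he_nat : ∀ {B B' : Alg A} (g : B ⟶ B') x, e B' (tmap F g x) = tmap G g (e B x)) :
    F ⟶ G where
  app X := ModuleCat.ofHom (X := F.obj X) (Y := G.obj X)
    { toFun := fun x => e X.unop.unop x
      map_add' := fun x y => he_add _ x y
      map_smul' := fun r x => he_smul X.unop.unop r x }
  naturality {X Y} f := by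
    ext x
    exact he_nat f.unop.unop x

theorem homOfElt_app {F G : MVF A} (e : ∀ B : Alg A, F.obj (pt B) → G.obj (pt B))
    (he_add : ∀ B x y, e B (x + y) = e B x + e B y)
    (he_smul : ∀ (B : Alg A) (b : B) x, e B (b • x) = b • e B x)
    (he_nat : ∀ {B B' : Alg A} (g : B ⟶ B') x, e B' (tmap F g x) = tmap G g (e B x))
    (B : Alg A) (x : F.obj (pt B)) :
    (homOfElt e he_add he_smul he_nat).app (pt B) x = e B x := rfl

theorem adequate_of_equiv {F G : MVF A} (e : ∀ B : Alg A, F.obj (pt B) → G.obj (pt B))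
    (he_bij : ∀ B, Function.Bijective (e B))
    (he_add : ∀ B x y, e B (x + y) = e B x + e B y)
    (he_smul : ∀ (B : Alg A) (b : B) x, e B (b • x) = b • e B x)
    (he_nat : ∀ {B B' : Alg A} (g : B ⟶ B') x, e B' (tmap F g x) = tmap G g (e B x))
    (hF : adequate A F) : adequate A G := by
  haveI : IsIso (homOfElt e he_add he_smul he_nat) := isIso_of_bij _ (fun B => he_bij B)
  exact (adequate A).prop_of_iso (asIso (homOfElt e he_add he_smul he_nat)) hF

end Equiv

end Groth.Agent.H89.AQ

namespace Groth.Agent.H89.AQ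

section Sec
variable {K : Precoverage Scheme.{u}} [BigSite.OSh K] {S : Scheme.{u}} (M : BigSite.Mod K S)

/-- the ring map from `B` to the sections of `O` over an object `Spec B → S` -/
noncomputable def sg (B : Type u) [CommRing B] (h : Spec (CommRingCat.of B) ⟶ S) :
    B →+* (BigSite.ORing K S).obj.obj (op (Over.mk h)) :=
  (ULift.ringEquiv.symm : Γ(Spec (CommRingCat.of B), ⊤) ≃+* ULift.{u + 1} Γ(Spec (CommRingCat.of B), ⊤)).toRingHom.comp
    (Scheme.ΓSpecIso (CommRingCat.of B)).inv.hom

theorem toSect_eq_sg {R : CommRingCat.{u}} (a : Spec R ⟶ S) (B : Alg R) :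
    toSect K a B = sg (K := K) B ((specOver a).obj (op B)).hom := rfl

/-- transition maps between sections over affine objects -/
noncomputable def secMap {B B' : Type u} [CommRing B] [CommRing B'] (g : B →+* B')
    {h : Spec (CommRingCat.of B) ⟶ S} {h' : Spec (CommRingCat.of B') ⟶ S}
    (w : Spec.map (CommRingCat.ofHom g) ≫ h = h') (m : M.val.obj (op (Over.mk h))) :
    M.val.obj (op (Over.mk h')) :=
  M.val.map (Over.homMk (Spec.map (CommRingCat.ofHom g)) w : Over.mk h' ⟶ Over.mk h).op m

variable {B B' B'' : Type u} [CommRing B] [CommRing B'] [CommRing B'']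
  {h : Spec (CommRingCat.of B) ⟶ S} {h' : Spec (CommRingCat.of B') ⟶ S}
  {h'' : Spec (CommRingCat.of B'') ⟶ S}

theorem secMap_add (g : B →+* B') (w : Spec.map (CommRingCat.ofHom g) ≫ h = h')
    (m m' : M.val.obj (op (Over.mk h))) :
    secMap M g w (m + m') = secMap M g w m + secMap M g w m' := map_add _ m m'

theorem secMap_smul (g : B →+* B') (w : Spec.map (CommRingCat.ofHom g) ≫ h = h') (b : B)
    (m : M.val.obj (op (Over.mk h))) :
    secMap M g w (sg (K := K) B h b • m) = sg (K := K) B' h' (g b) • secMap M g w m := by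
  have e := M.val.map_smul (Over.homMk (Spec.map (CommRingCat.ofHom g)) w :
    Over.mk h' ⟶ Over.mk h).op (sg (K := K) B h b) m
  refine e.trans ?_
  congr 1
  apply ULift.ext
  change ((Scheme.ΓSpecIso (CommRingCat.of B)).inv ≫
      (Spec.map (CommRingCat.ofHom g)).appTop) b =
    (CommRingCat.ofHom g ≫ (Scheme.ΓSpecIso (CommRingCat.of B')).inv) b
  rw [Scheme.ΓSpecIso_inv_naturality]

theorem w_comp {g : B →+* B'} (w : Spec.map (CommRingCat.ofHom g) ≫ h = h')
    {g' : B' →+* B''} (w' : Spec.map (CommRingCat.ofHom g') ≫ h' = h'') :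
    Spec.map (CommRingCat.ofHom (g'.comp g)) ≫ h = h'' := by
  rw [CommRingCat.ofHom_comp, Spec.map_comp, Category.assoc, w, w']

theorem secMap_comp (g : B →+* B') (w : Spec.map (CommRingCat.ofHom g) ≫ h = h')
    (g' : B' →+* B'') (w' : Spec.map (CommRingCat.ofHom g') ≫ h' = h'')
    (m : M.val.obj (op (Over.mk h))) :
    secMap M g' w' (secMap M g w m) =
      secMap M (g'.comp g) (w_comp w w') m := by
  unfold secMap
  have e : (Over.homMk (Spec.map (CommRingCat.ofHom g')) w' : Over.mk h'' ⟶ Over.mk h') ≫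
      (Over.homMk (Spec.map (CommRingCat.ofHom g)) w : Over.mk h' ⟶ Over.mk h) =
      Over.homMk (Spec.map (CommRingCat.ofHom (g'.comp g))) (w_comp w w') := by
    ext : 1
    simp only [Over.comp_left, Over.homMk_left, CommRingCat.ofHom_comp, Spec.map_comp]
  rw [← e, op_comp, PresheafOfModules.map_comp_apply]

theorem secMap_congr {g g' : B →+* B'} (e : g = g') (w : Spec.map (CommRingCat.ofHom g) ≫ h = h')
    (w' : Spec.map (CommRingCat.ofHom g') ≫ h = h') (m : M.val.obj (op (Over.mk h))) :
    secMap M g w m = secMap M g' w' m := by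
  subst e
  rfl

theorem secMap_id (w : Spec.map (CommRingCat.ofHom (RingHom.id B)) ≫ h = h)
    (m : M.val.obj (op (Over.mk h))) : secMap M (RingHom.id B) w m = m := by
  unfold secMap
  have : (Over.homMk (Spec.map (CommRingCat.ofHom (RingHom.id B))) w : Over.mk h ⟶ Over.mk h) =
      𝟙 _ := by
    ext : 1
    simp only [Over.homMk_left, CommRingCat.ofHom_id, Spec.map_id, Over.id_left]
    rfl
  rw [this, op_id, PresheafOfModules.map_id]
  rfl

end Sec
end Groth.Agent.H89.AQ

namespace Groth.Agent.H89.AQ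

section Transfer
variable {K : Precoverage Scheme.{u}} [BigSite.OSh K] {S : Scheme.{u}} (M : BigSite.Mod K S)
  {R₁ R₂ : CommRingCat.{u}} (a₁ : Spec R₁ ⟶ S) (a₂ : Spec R₂ ⟶ S)
  (C : Type u) [CommRing C] [Algebra R₁ C] [Algebra R₂ C]

/-- value of `toMVF` as sections over the affine object -/
def toSec {R : CommRingCat.{u}} (a : Spec R ⟶ S) (B : Alg R) (x : ((toMVF K a).obj M).obj (pt B)) :
    M.val.obj (op (Over.mk (Spec.map (CommRingCat.ofHom (algebraMap R B)) ≫ a))) := x

theorem secMap_id_bijective {B : Type u} [CommRing B] {h h' : Spec (CommRingCat.of B) ⟶ S}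
    (w : Spec.map (CommRingCat.ofHom (RingHom.id B)) ≫ h = h') :
    Function.Bijective (secMap M (RingHom.id B) w) := by
  have hh : h = h' := by rw [← w, CommRingCat.ofHom_id, Spec.map_id, Category.id_comp]
  subst hh
  have : secMap M (RingHom.id B) w = id := funext (fun m => secMap_id M w m)
  rw [this]
  exact Function.bijective_id

theorem tmap_w {R : CommRingCat.{u}} (a : Spec R ⟶ S) {B B' : Alg R} (g : B ⟶ B') :
    Spec.map (CommRingCat.ofHom g.hom.toRingHom) ≫
      (Spec.map (CommRingCat.ofHom (algebraMap R B)) ≫ a) =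
      Spec.map (CommRingCat.ofHom (algebraMap R B')) ≫ a :=
  Over.w ((specOver a).map g.op)

theorem tmap_toMVF {R : CommRingCat.{u}} (a : Spec R ⟶ S) {B B' : Alg R} (g : B ⟶ B')
    (x : ((toMVF K a).obj M).obj (pt B)) :
    tmap ((toMVF K a).obj M) g x = secMap M g.hom.toRingHom (tmap_w a g) x := rfl

theorem transfer_w
    (hw : Spec.map (CommRingCat.ofHom (algebraMap R₁ C)) ≫ a₁ =
      Spec.map (CommRingCat.ofHom (algebraMap R₂ C)) ≫ a₂) (B' : Alg C) :
    Spec.map (CommRingCat.ofHom (RingHom.id B')) ≫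
      (Spec.map (CommRingCat.ofHom (algebraMap R₁ ((Alg.restr R₁ C).obj B'))) ≫ a₁) =
      Spec.map (CommRingCat.ofHom (algebraMap R₂ ((Alg.restr R₂ C).obj B'))) ≫ a₂ := by
  rw [CommRingCat.ofHom_id, Spec.map_id, Category.id_comp]
  change Spec.map (CommRingCat.ofHom ((algebraMap C B').comp (algebraMap R₁ C))) ≫ a₁ =
    Spec.map (CommRingCat.ofHom ((algebraMap C B').comp (algebraMap R₂ C))) ≫ a₂
  rw [CommRingCat.ofHom_comp, CommRingCat.ofHom_comp, Spec.map_comp, Spec.map_comp,
    Category.assoc, Category.assoc, hw]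

theorem adequate_restr_transfer
    (hw : Spec.map (CommRingCat.ofHom (algebraMap R₁ C)) ≫ a₁ =
      Spec.map (CommRingCat.ofHom (algebraMap R₂ C)) ≫ a₂)
    (h : adequate C ((Adeq.restr R₁ C).obj ((toMVF K a₁).obj M))) :
    adequate C ((Adeq.restr R₂ C).obj ((toMVF K a₂).obj M)) := by
  refine adequate_of_equiv
    (F := (Adeq.restr R₁ C).obj ((toMVF K a₁).obj M))
    (G := (Adeq.restr R₂ C).obj ((toMVF K a₂).obj M))
    (fun B' x => secMap M (RingHom.id B') (transfer_w a₁ a₂ C hw B') x) ?_ ?_ ?_ ?_ h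
  · intro B'
    exact secMap_id_bijective M _
  · intro B' x y
    exact secMap_add M _ _ x y
  · intro B' b x
    exact secMap_smul M (RingHom.id B') (transfer_w a₁ a₂ C hw B') b x
  · intro B' B'' g x
    exact ((secMap_comp M ((Alg.restr R₁ C).map g).hom.toRingHom
        (tmap_w a₁ ((Alg.restr R₁ C).map g)) (RingHom.id B'') (transfer_w a₁ a₂ C hw B'') x).trans
      (secMap_congr M (by ext; rfl) _ _ _)).trans
      (secMap_comp M (RingHom.id B') (transfer_w a₁ a₂ C hw B')
        ((Alg.restr R₂ C).map g).hom.toRingHom (tmap_w a₂ ((Alg.restr R₂ C).map g)) x).symm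

end Transfer
end Groth.Agent.H89.AQ
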