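import Groth.Agent.H89.AdeqSite

/-!
# Coverings of affine objects by base change, and the sheaf sequence for `toMVF` (Stacks 46.5)

* `cover_at`: base change of a covering family `{Spec C_j → Spec R}` to an `R`-algebra `B`;
* `isPushout_glue`: `C_k ⊗ (C_j ⊗ B)` is the pushout of `C_j ⊗ B` and `C_k ⊗ B` over `B`;
* `toMVF_sep`, `toMVF_glue`: the sheaf condition of a module `M` on the big site, in the form used by
  `adequate_of_descent_family`.
-/

set_option autoImplicit false
set_option linter.style.haveILetI false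
universe u v
open CategoryTheory Limits Opposite TensorProduct Adeq AlgebraicGeometry

namespace Groth.Agent.H89.AQ

section Cover
variable {K : Precoverage Scheme.{u}} {R : CommRingCat.{u}}

theorem cover_at [K.IsStableUnderBaseChange] {J : Type v} (C : J → Type u) [∀ j, CommRing (C j)]
    [∀ j, Algebra R (C j)]
    (hcov : Presieve.ofArrows (fun j => Spec (CommRingCat.of (C j)))
      (fun j => Spec.map (CommRingCat.ofHom (algebraMap R (C j)))) ∈ K.coverings (Spec R))
    (B : Alg R) :
    Presieve.ofArrows (fun j => Spec (CommRingCat.of ((bcR R (C j)).obj B)))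
      (fun j => Spec.map (CommRingCat.ofHom (unitR R (C j) B).hom.toRingHom)) ∈
        K.coverings (Spec (CommRingCat.of B)) := by
  refine Precoverage.mem_coverings_of_isPullback
    (fun j => Spec.map (CommRingCat.ofHom (algebraMap R (C j)))) hcov
    (Spec.map (CommRingCat.ofHom (algebraMap R B)))
    (fun j => Spec.map (CommRingCat.ofHom (unitR R (C j) B).hom.toRingHom))
    (fun j => Spec.map (CommRingCat.ofHom
      (Algebra.TensorProduct.includeLeftRingHom : C j →+* C j ⊗[R] B))) (fun j => ?_)
  exact (isPullback_SpecMap_of_isPushout _ _ _ _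
    (CommRingCat.isPushout_tensorProduct R (C j) B)).flip

variable (R) in
theorem isPushout_glue (C₁ C₂ : Type u) [CommRing C₁] [CommRing C₂] [Algebra R C₁] [Algebra R C₂]
    (B : Alg R) :
    IsPushout (CommRingCat.ofHom (unitR R C₁ B).hom.toRingHom)
      (CommRingCat.ofHom (unitR R C₂ B).hom.toRingHom)
      (CommRingCat.ofHom (unitR R C₂ ((bcR R C₁).obj B)).hom.toRingHom)
      (CommRingCat.ofHom ((bcR R C₂).map (unitR R C₁ B)).hom.toRingHom) := by
  have t := (CommRingCat.isPushout_tensorProduct R C₂ B).flip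
  have s := (CommRingCat.isPushout_tensorProduct R C₂ ((bcR R C₁).obj B)).flip
  have e1 : CommRingCat.ofHom (algebraMap R ((bcR R C₁).obj B)) =
      CommRingCat.ofHom (algebraMap R B) ≫ CommRingCat.ofHom (unitR R C₁ B).hom.toRingHom := by
    ext r
    exact ((unitR R C₁ B).hom.commutes r).symm
  have e2 : CommRingCat.ofHom (Algebra.TensorProduct.includeLeftRingHom :
        C₂ →+* C₂ ⊗[R] ((bcR R C₁).obj B)) =
      CommRingCat.ofHom (Algebra.TensorProduct.includeLeftRingHom : C₂ →+* C₂ ⊗[R] B) ≫
        CommRingCat.ofHom ((bcR R C₂).map (unitR R C₁ B)).hom.toRingHom := by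
    ext c
    change c ⊗ₜ[R] (1 : (bcR R C₁).obj B) =
      Algebra.TensorProduct.map (AlgHom.id C₂ C₂) (unitR R C₁ B).hom (c ⊗ₜ[R] (1 : B))
    rw [Algebra.TensorProduct.map_tmul, map_one]
    rfl
  rw [e1, e2] at s
  refine IsPushout.of_left s ?_ t
  ext b
  change (1 : C₂) ⊗ₜ[R] ((unitR R C₁ B).hom b) =
    Algebra.TensorProduct.map (AlgHom.id C₂ C₂) (unitR R C₁ B).hom ((1 : C₂) ⊗ₜ[R] b)
  rw [Algebra.TensorProduct.map_tmul]
  rfl

end Cover
end Groth.Agent.H89.AQ

namespace Groth.Agent.H89.AQ

section Exact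
variable {K : Precoverage Scheme.{u}} [BigSite.OSh K] [K.IsStableUnderBaseChange] {S : Scheme.{u}}
  (M : BigSite.Mod K S) {R : CommRingCat.{u}} (a : Spec R ⟶ S)
  {J : Type v} (C : J → Type u) [∀ j, CommRing (C j)] [∀ j, Algebra R (C j)]
  (hcov : Presieve.ofArrows (fun j => Spec (CommRingCat.of (C j)))
      (fun j => Spec.map (CommRingCat.ofHom (algebraMap R (C j)))) ∈ K.coverings (Spec R))

include hcov in
theorem toMVF_sep (B : Alg R) (x x' : ((toMVF K a).obj M).obj (pt B))
    (h : ∀ j, tmap ((toMVF K a).obj M) (unitR R (C j) B) x =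
      tmap ((toMVF K a).obj M) (unitR R (C j) B) x') : x = x' :=
  sheaf_family_sep M (fun j => (specOver a).obj (op ((bcR R (C j)).obj B)))
    (fun j => (specOver a).map (unitR R (C j) B).op) (cover_at C hcov B) x x' h

include hcov in
theorem toMVF_glue (B : Alg R) (y : ∀ j, ((toMVF K a).obj M).obj (pt ((bcR R (C j)).obj B)))
    (hy : ∀ j k, tmap ((toMVF K a).obj M) (unitR R (C k) ((bcR R (C j)).obj B)) (y j) =
      tmap ((toMVF K a).obj M) ((bcR R (C k)).map (unitR R (C j) B)) (y k)) :
    ∃ x : ((toMVF K a).obj M).obj (pt B),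
      ∀ j, tmap ((toMVF K a).obj M) (unitR R (C j) B) x = y j := by
  refine sheaf_family_glue M (fun j => (specOver a).obj (op ((bcR R (C j)).obj B)))
    (fun j => (specOver a).map (unitR R (C j) B).op) (cover_at C hcov B) y ?_
  intro j k Z q₁ q₂ hq
  have hpb := isPullback_SpecMap_of_isPushout _ _ _ _ (isPushout_glue R (C j) (C k) B)
  have hq' : q₁.left ≫ Spec.map (CommRingCat.ofHom (unitR R (C j) B).hom.toRingHom) =
      q₂.left ≫ Spec.map (CommRingCat.ofHom (unitR R (C k) B).hom.toRingHom) :=
    congrArg CommaMorphism.left hq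
  obtain ⟨r, hr₁, hr₂⟩ : ∃ r : Z ⟶ (specOver a).obj (op ((bcR R (C k)).obj ((bcR R (C j)).obj B))),
      r ≫ (specOver a).map (unitR R (C k) ((bcR R (C j)).obj B)).op = q₁ ∧
      r ≫ (specOver a).map ((bcR R (C k)).map (unitR R (C j) B)).op = q₂ := by
    have hw : hpb.lift q₁.left q₂.left hq' ≫
        ((specOver a).obj (op ((bcR R (C k)).obj ((bcR R (C j)).obj B)))).hom = Z.hom := by
      have h1 := hpb.lift_fst q₁.left q₂.left hq'
      have h2 := Over.w ((specOver a).map (unitR R (C k) ((bcR R (C j)).obj B)).op)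
      have h3 := Over.w q₁
      exact (congrArg (fun t => hpb.lift q₁.left q₂.left hq' ≫ t) h2.symm).trans
        ((Category.assoc _ _ _).symm.trans
          ((congrArg (fun t => t ≫ ((specOver a).obj (op ((bcR R (C j)).obj B))).hom) h1).trans h3))
    refine ⟨Over.homMk (hpb.lift q₁.left q₂.left hq') hw, ?_, ?_⟩
    · ext : 1
      exact hpb.lift_fst q₁.left q₂.left hq'
    · ext : 1
      exact hpb.lift_snd q₁.left q₂.left hq'
  subst hr₁ hr₂
  exact (PresheafOfModules.map_comp_apply M.val
      ((specOver a).map (unitR R (C k) ((bcR R (C j)).obj B)).op).op r.op (y j)).trans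
    ((congrArg (M.val.map r.op) (hy j k)).trans
      (PresheafOfModules.map_comp_apply M.val
        ((specOver a).map ((bcR R (C k)).map (unitR R (C j) B)).op).op r.op (y k)).symm)

end Exact
end Groth.Agent.H89.AQ

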