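import Groth.Agent.H89.AdeqSiteCover

/-!
# Adequate modules on big sites are adequate over every affine object (Stacks 46.5.2)

* `exists_affine_refinement`: a covering family `{Spec R_i → S}` pulled back to `Spec R → S`
  is refined by a finite covering family `{Spec C_j → Spec R}` of affines, each factoring through some `Spec R_i`;
* `adequate_toMVF_of_adequateMod_gen`: for the precoverage of a morphism property `P` containing open
  immersions whose members are open maps, `F_{M,R}` is adequate for every `Spec R → S` if `M` is adequate.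
-/

set_option autoImplicit false
set_option linter.style.haveILetI false
universe u v
open CategoryTheory Limits Opposite TensorProduct Adeq AlgebraicGeometry

namespace Groth.Agent.H89.AQ

section Refine
variable (P : MorphismProperty Scheme.{u}) [P.IsStableUnderBaseChange] [P.IsStableUnderComposition]

theorem exists_affine_refinement (hOI : ∀ {X Y : Scheme.{u}} (f : X ⟶ Y), IsOpenImmersion f → P f)
    (hopen : ∀ {X Y : Scheme.{u}} (f : X ⟶ Y), P f → IsOpenMap f)
    {S : Scheme.{u}} {ι : Type u} (Ri : ι → CommRingCat.{u}) (ai : ∀ i, Spec (Ri i) ⟶ S)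
    (hcov : Presieve.ofArrows (fun i => Spec (Ri i)) ai ∈ (Scheme.precoverage P).coverings S)
    (R : CommRingCat.{u}) (a : Spec R ⟶ S) :
    ∃ (n : ℕ) (C : Fin n → CommRingCat.{u}) (φ : ∀ j, R ⟶ C j) (i : Fin n → ι)
      (ψ : ∀ j, Ri (i j) ⟶ C j),
      (∀ j, Spec.map (ψ j) ≫ ai (i j) = Spec.map (φ j) ≫ a) ∧
      Presieve.ofArrows (fun j => Spec (C j)) (fun j => Spec.map (φ j)) ∈
        (Scheme.precoverage P).coverings (Spec R) := by
  classical
  rw [Scheme.ofArrows_mem_precoverage_iff] at hcov
  obtain ⟨hsurj, hP⟩ := hcov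
  -- the family of affine pieces of the pullbacks
  let U : ι → Scheme.{u} := fun i => pullback (ai i) a
  let I := Σ i, (U i).affineOpenCover.I₀
  let W : I → CommRingCat.{u} := fun p => (U p.1).affineOpenCover.X p.2
  let g : ∀ p : I, Spec (W p) ⟶ Spec R := fun p =>
    (U p.1).affineOpenCover.f p.2 ≫ pullback.snd (ai p.1) a
  have hg : ∀ p, P (g p) := fun p =>
    P.comp_mem _ _ (hOI _ ((U p.1).affineOpenCover.map_prop p.2))
      (P.pullback_snd _ _ (hP p.1))
  have hcover : ∀ x : Spec R, ∃ p : I, x ∈ Set.range (g p) := by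
    intro x
    obtain ⟨i, y, hy⟩ := hsurj (a x)
    obtain ⟨z, -, hz⟩ := Scheme.Pullback.exists_preimage_pullback (f := ai i) (g := a) y x hy
    obtain ⟨w, hw⟩ := (U i).affineOpenCover.covers z
    refine ⟨⟨i, (U i).affineOpenCover.idx z⟩, w, ?_⟩
    change ((U i).affineOpenCover.f _ ≫ pullback.snd (ai i) a) w = x
    rw [Scheme.Hom.comp_apply, hw, hz]
  have hopen' : ∀ p : I, IsOpen (Set.range (g p)) := fun p => (hopen (g p) (hg p)).isOpen_range
  obtain ⟨t, ht⟩ := isCompact_univ.elim_finite_subcover (fun p : I => Set.range (g p)) hopen'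
    (fun x _ => by
      obtain ⟨p, hp⟩ := hcover x
      exact Set.mem_iUnion.mpr ⟨p, hp⟩)
  let e := t.equivFin
  refine ⟨t.card, fun j => W (e.symm j).1, fun j => Spec.preimage (g (e.symm j).1),
    fun j => (e.symm j).1.1,
    fun j => Spec.preimage ((U (e.symm j).1.1).affineOpenCover.f (e.symm j).1.2 ≫
      pullback.fst (ai (e.symm j).1.1) a), ?_, ?_⟩
  · intro j
    rw [Spec.map_preimage, Spec.map_preimage, Category.assoc, Category.assoc, pullback.condition]
  · rw [Scheme.ofArrows_mem_precoverage_iff]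
    refine ⟨fun x => ?_, fun j => ?_⟩
    · have hx := ht (Set.mem_univ x)
      simp only [Set.mem_iUnion] at hx
      obtain ⟨p, hp, hxp⟩ := hx
      refine ⟨e ⟨p, hp⟩, ?_⟩
      rw [Spec.map_preimage]
      change x ∈ Set.range (g (e.symm (e ⟨p, hp⟩)).1)
      rw [Equiv.symm_apply_apply]
      exact hxp
    · rw [Spec.map_preimage]
      exact hg _

end Refine
end Groth.Agent.H89.AQ

namespace Groth.Agent.H89.AQ

section Main
variable (P : MorphismProperty Scheme.{u}) [P.IsStableUnderBaseChange] [P.IsStableUnderComposition]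

theorem adequate_toMVF_of_adequateMod_gen
    (hOI : ∀ {X Y : Scheme.{u}} (f : X ⟶ Y), IsOpenImmersion f → P f)
    (hopen : ∀ {X Y : Scheme.{u}} (f : X ⟶ Y), P f → IsOpenMap f)
    (K : Precoverage Scheme.{u}) (hK : K = Scheme.precoverage P) [BigSite.OSh K]
    (S : Scheme.{u}) (M : BigSite.Mod K S) (hM : adequateMod K S M)
    (R : CommRingCat.{u}) (a : Spec R ⟶ S) :
    adequate R ((toMVF K a).obj M) := by
  subst hK
  obtain ⟨ι, Ri, ai, hcov, hadq⟩ := hM
  obtain ⟨n, C, φ, i, ψ, hψ, hcovR⟩ := exists_affine_refinement P hOI hopen Ri ai hcov R a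
  letI : ∀ j, Algebra R (C j) := fun j => (φ j).hom.toAlgebra
  have hcovR' : Presieve.ofArrows (fun j => Spec (CommRingCat.of (C j)))
      (fun j => Spec.map (CommRingCat.ofHom (algebraMap R (C j)))) ∈
        (Scheme.precoverage P).coverings (Spec R) := hcovR
  refine adequate_of_descent_family R (fun j => (C j : Type u)) _ ?_ ?_ ?_
  · intro j
    letI : Algebra (Ri (i j)) (C j) := (ψ j).hom.toAlgebra
    have h1 := Groth.Agent.S8749.result (Ri (i j)) (C j) _ (hadq (i j))
    exact adequate_restr_transfer M (ai (i j)) a (C j) (hψ j) h1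
  · exact toMVF_sep M a (fun j => (C j : Type u)) hcovR'
  · exact toMVF_glue M a (fun j => (C j : Type u)) hcovR'

end Main
end Groth.Agent.H89.AQ

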