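import Mathlib

/-!
# Injective presheaves of abelian groups are Čech-acyclic (abstract form)

For an injective object `E` of the category of presheaves of abelian groups on `D`, objects
`W₂ → W₁ → W₀` with face maps, and a contraction of the Hom-sets `Hom(Z, W_•)` for every `Z`, every
cocycle in `E(W₁)` is a coboundary.
-/

set_option autoImplicit false
set_option linter.style.haveILetI false
universe u
open CategoryTheory Limits Opposite

namespace Groth.Agent.H89.CechInj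

variable {D : Type (u + 1)} [Category.{u} D]

/-- the free abelian presheaf on a representable presheaf -/
noncomputable def freeYo (W : D) : Dᵒᵖ ⥤ AddCommGrpCat.{u + 1} :=
  yoneda.obj W ⋙ uliftFunctor.{u + 1} ⋙ AddCommGrpCat.free

/-- the generator of `freeYo W` at `Z` attached to `e : Z ⟶ W` -/
noncomputable def gen {W Z : D} (e : Z ⟶ W) : (freeYo W).obj (op Z) :=
  FreeAbelianGroup.of (ULift.up e)

theorem freeYo_map_gen {W Z Z' : D} (f : Z' ⟶ Z) (e : Z ⟶ W) :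
    (freeYo W).map f.op (gen e) = gen (f ≫ e) := by
  change FreeAbelianGroup.map _ (FreeAbelianGroup.of _) = _
  rw [FreeAbelianGroup.map_of_apply]
  rfl

/-- functoriality of `freeYo` -/
noncomputable def freeYoMap {W W' : D} (δ : W ⟶ W') : freeYo W ⟶ freeYo W' :=
  Functor.whiskerRight (yoneda.map δ) (uliftFunctor.{u + 1} ⋙ AddCommGrpCat.free)

theorem freeYoMap_gen {W W' Z : D} (δ : W ⟶ W') (e : Z ⟶ W) :
    (freeYoMap δ).app (op Z) (gen e) = gen (e ≫ δ) := by
  change FreeAbelianGroup.map _ (FreeAbelianGroup.of _) = _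
  rw [FreeAbelianGroup.map_of_apply]
  rfl

/-- two additive maps out of `freeYo W` at `Z` agree if they agree on generators -/
theorem hom_ext_gen {W Z : D} {A : Type (u + 1)} [AddCommGroup A]
    (φ ψ : (freeYo W).obj (op Z) →+ A) (h : ∀ e : Z ⟶ W, φ (gen e) = ψ (gen e)) : φ = ψ :=
  FreeAbelianGroup.lift_ext φ ψ (fun x => h x.down)

variable (E : Dᵒᵖ ⥤ AddCommGrpCat.{u + 1})

/-- the map `freeYo W ⟶ E` attached to a section `x ∈ E(W)` -/
noncomputable def ofSec {W : D} (x : E.obj (op W)) : freeYo W ⟶ E where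
  app Z := AddCommGrpCat.ofHom
    (FreeAbelianGroup.lift (fun g : ULift.{u + 1} (Z.unop ⟶ W) => E.map g.down.op x))
  naturality Z Z' f := by
    ext : 1
    apply hom_ext_gen (W := W) (Z := Z.unop)
    intro e
    change FreeAbelianGroup.lift _ ((freeYo W).map f.unop.op (gen e)) =
      E.map f (FreeAbelianGroup.lift _ (FreeAbelianGroup.of (ULift.up e)))
    rw [freeYo_map_gen]
    change FreeAbelianGroup.lift _ (FreeAbelianGroup.of _) = _
    rw [FreeAbelianGroup.lift_apply_of, FreeAbelianGroup.lift_apply_of]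
    change E.map (f.unop ≫ e).op x = E.map f (E.map e.op x)
    rw [op_comp, E.map_comp]
    rfl

theorem ofSec_gen {W Z : D} (x : E.obj (op W)) (e : Z ⟶ W) :
    (ofSec E x).app (op Z) (gen e) = E.map e.op x := by
  change FreeAbelianGroup.lift _ (FreeAbelianGroup.of _) = _
  rw [FreeAbelianGroup.lift_apply_of]

end Groth.Agent.H89.CechInj

namespace Groth.Agent.H89.CechInj

variable {D : Type (u + 1)} [Category.{u} D]

/-- extension along a map whose kernel is killed, into an injective object -/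
theorem exists_extension_of_kernel {𝒜 : Type*} [Category 𝒜] [Abelian 𝒜] {E P' P : 𝒜} [Injective E]
    (d : P' ⟶ P) (ξ : P' ⟶ E) (h : kernel.ι d ≫ ξ = 0) : ∃ ψ : P ⟶ E, d ≫ ψ = ξ := by
  refine ⟨Injective.factorThru (cokernel.desc (kernel.ι d) ξ h) (Abelian.factorThruCoimage d), ?_⟩
  have h1 : d = Abelian.coimage.π d ≫ Abelian.factorThruCoimage d := (Abelian.coimage.fac d).symm
  calc d ≫ Injective.factorThru (cokernel.desc (kernel.ι d) ξ h) (Abelian.factorThruCoimage d)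
      = Abelian.coimage.π d ≫ (Abelian.factorThruCoimage d ≫
          Injective.factorThru (cokernel.desc (kernel.ι d) ξ h) (Abelian.factorThruCoimage d)) := by
        rw [← Category.assoc, ← h1]
    _ = ξ := by
        rw [Injective.comp_factorThru]
        exact cokernel.π_desc _ _ _

/-- extension in a presheaf category, elementwise criterion -/
theorem exists_extension {E P' P : Dᵒᵖ ⥤ AddCommGrpCat.{u + 1}} [Injective E]
    (d : P' ⟶ P) (ξ : P' ⟶ E)
    (h : ∀ (Z : Dᵒᵖ) (x : P'.obj Z), d.app Z x = 0 → ξ.app Z x = 0) :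
    ∃ ψ : P ⟶ E, d ≫ ψ = ξ := by
  apply exists_extension_of_kernel
  ext Z k
  have h1 : d.app Z ((kernel.ι d).app Z k) = 0 := by
    have := congrArg (fun φ : kernel d ⟶ P => φ.app Z k) (kernel.condition d)
    exact this
  exact h Z _ h1

end Groth.Agent.H89.CechInj

namespace Groth.Agent.H89.CechInj

variable {D : Type (u + 1)} [Category.{u} D]

theorem ab_sum_apply {M N : AddCommGrpCat.{u + 1}} {ι : Type*} (s : Finset ι) (φ : ι → (M ⟶ N))
    (x : M) : (∑ i ∈ s, φ i) x = ∑ i ∈ s, φ i x := by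
  classical
  induction s using Finset.induction_on with
  | empty => rfl
  | insert a s ha ih =>
    rw [Finset.sum_insert ha, Finset.sum_insert ha, AddCommGrpCat.hom_add_apply, ih]

/-- alternating sum of face maps on free presheaves -/
noncomputable def altFree {W W' : D} {m : ℕ} (δ : Fin m → (W ⟶ W')) : freeYo W ⟶ freeYo W' :=
  ∑ i : Fin m, (-1 : ℤ) ^ (i : ℕ) • freeYoMap (δ i)

theorem altFree_gen {W W' Z : D} {m : ℕ} (δ : Fin m → (W ⟶ W')) (e : Z ⟶ W) :
    (altFree δ).app (op Z) (gen e) = ∑ i : Fin m, (-1 : ℤ) ^ (i : ℕ) • gen (e ≫ δ i) := by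
  unfold altFree
  rw [NatTrans.app_sum, ab_sum_apply]
  refine Finset.sum_congr rfl fun i _ => ?_
  rw [NatTrans.app_zsmul]
  change (-1 : ℤ) ^ (i : ℕ) • (freeYoMap (δ i)).app (op Z) (gen e) = _
  rw [freeYoMap_gen]

variable (E : Dᵒᵖ ⥤ AddCommGrpCat.{u + 1})

theorem altFree_comp_ofSec {W W' : D} {m : ℕ} (δ : Fin m → (W ⟶ W')) (x : E.obj (op W')) :
    altFree δ ≫ ofSec E x = ofSec E (∑ i : Fin m, (-1 : ℤ) ^ (i : ℕ) • E.map (δ i).op x) := by
  ext Z : 3
  apply hom_ext_gen (W := W) (Z := Z.unop)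
  intro e
  change (ofSec E x).app (op Z.unop) ((altFree δ).app (op Z.unop) (gen e)) =
    (ofSec E _).app (op Z.unop) (gen e)
  rw [altFree_gen, ofSec_gen, map_sum, map_sum]
  refine Finset.sum_congr rfl fun i _ => ?_
  rw [map_zsmul, map_zsmul, ofSec_gen, op_comp, E.map_comp]
  rfl

theorem ofSec_zero {W : D} : ofSec E (0 : E.obj (op W)) = 0 := by
  ext Z : 3
  apply hom_ext_gen (W := W) (Z := Z.unop)
  intro e
  change (ofSec E 0).app (op Z.unop) (gen e) = 0
  rw [ofSec_gen, map_zero]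

theorem exists_of_contraction [Injective E] {W₀ W₁ W₂ : D} {m : ℕ}
    (δa : Fin (m + 2) → (W₁ ⟶ W₀)) (δb : Fin (m + 3) → (W₂ ⟶ W₁))
    (s₀ : ∀ Z : D, (Z ⟶ W₀) → (Z ⟶ W₁)) (s₁ : ∀ Z : D, (Z ⟶ W₁) → (Z ⟶ W₂))
    (h0 : ∀ (Z : D) (e : Z ⟶ W₁), s₁ Z e ≫ δb 0 = e)
    (hs : ∀ (Z : D) (e : Z ⟶ W₁) (i : Fin (m + 2)), s₁ Z e ≫ δb i.succ = s₀ Z (e ≫ δa i))
    (x : E.obj (op W₁))
    (hx : ∑ i : Fin (m + 3), (-1 : ℤ) ^ (i : ℕ) • E.map (δb i).op x = 0) :
    ∃ y : E.obj (op W₀), ∑ i : Fin (m + 2), (-1 : ℤ) ^ (i : ℕ) • E.map (δa i).op y = x := by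
  have key : ∀ (Z : Dᵒᵖ) (c : (freeYo W₁).obj Z), (altFree δa).app Z c = 0 →
      (ofSec E x).app Z c = 0 := by
    intro Z c hc
    obtain ⟨Z₀, rfl⟩ : ∃ Z₀ : D, Z = op Z₀ := ⟨Z.unop, rfl⟩
    obtain ⟨S₁, hS₁⟩ : ∃ S₁ : (freeYo W₁).obj (op Z₀) →+ (freeYo W₂).obj (op Z₀),
        ∀ e : Z₀ ⟶ W₁, S₁ (gen e) = gen (s₁ Z₀ e) :=
      ⟨FreeAbelianGroup.map (fun g => ULift.up (s₁ Z₀ g.down)), fun e =>
        FreeAbelianGroup.map_of_apply _⟩
    obtain ⟨S₀, hS₀⟩ : ∃ S₀ : (freeYo W₀).obj (op Z₀) →+ (freeYo W₁).obj (op Z₀),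
        ∀ e : Z₀ ⟶ W₀, S₀ (gen e) = gen (s₀ Z₀ e) :=
      ⟨FreeAbelianGroup.map (fun g => ULift.up (s₀ Z₀ g.down)), fun e =>
        FreeAbelianGroup.map_of_apply _⟩
    have hhom : ((altFree δb).app (op Z₀)).hom.comp S₁ + S₀.comp ((altFree δa).app (op Z₀)).hom =
        AddMonoidHom.id _ := by
      apply hom_ext_gen (W := W₁) (Z := Z₀)
      intro e
      change (altFree δb).app (op Z₀) (S₁ (gen e)) + S₀ ((altFree δa).app (op Z₀) (gen e)) = gen e
      rw [hS₁, altFree_gen, altFree_gen, Fin.sum_univ_succ, map_sum]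
      simp only [Fin.val_zero, pow_zero, one_smul, Fin.val_succ, pow_succ, h0, hs, map_zsmul, hS₀]
      rw [add_assoc, ← Finset.sum_add_distrib]
      have : ∀ i : Fin (m + 2), ((-1 : ℤ) ^ (i : ℕ) * -1) • gen (s₀ Z₀ (e ≫ δa i)) +
          (-1 : ℤ) ^ (i : ℕ) • gen (s₀ Z₀ (e ≫ δa i)) = 0 := by
        intro i
        rw [← add_smul]
        simp
      simp only [this, Finset.sum_const_zero, add_zero]
    have h1 := congrArg (fun φ : (freeYo W₁).obj (op Z₀) →+ (freeYo W₁).obj (op Z₀) => φ c) hhom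
    have h2 : (altFree δb).app (op Z₀) (S₁ c) + S₀ ((altFree δa).app (op Z₀) c) = c := h1
    rw [hc, map_zero, add_zero] at h2
    rw [← h2]
    have h3 := congrArg (fun φ : freeYo W₂ ⟶ E => φ.app (op Z₀) (S₁ c)) (altFree_comp_ofSec E δb x)
    refine Eq.trans h3 ?_
    rw [hx, ofSec_zero]
    rfl
  obtain ⟨ψ, hψ⟩ := exists_extension (altFree δa) (ofSec E x) key
  refine ⟨ψ.app (op W₀) (gen (𝟙 W₀)), ?_⟩
  have h4 := congrArg (fun φ : freeYo W₁ ⟶ E => φ.app (op W₁) (gen (𝟙 W₁))) hψ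
  have h5 : ψ.app (op W₁) ((altFree δa).app (op W₁) (gen (𝟙 W₁))) =
      (ofSec E x).app (op W₁) (gen (𝟙 W₁)) := h4
  rw [ofSec_gen, altFree_gen, map_sum] at h5
  have h6 : E.map (𝟙 W₁).op x = x := by
    rw [op_id, E.map_id]
    rfl
  rw [h6] at h5
  rw [← h5]
  refine Finset.sum_congr rfl fun i _ => ?_
  rw [map_zsmul]
  congr 1
  rw [Category.id_comp]
  have h7 := congrArg (fun φ : (freeYo W₀).obj (op W₀) ⟶ E.obj (op W₁) => φ (gen (𝟙 W₀)))
    (ψ.naturality (δa i).op)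
  have h8 : ψ.app (op W₁) ((freeYo W₀).map (δa i).op (gen (𝟙 W₀))) =
      E.map (δa i).op (ψ.app (op W₀) (gen (𝟙 W₀))) := h7
  rw [freeYo_map_gen, Category.comp_id] at h8
  exact h8.symm

end Groth.Agent.H89.CechInj
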