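import Groth.Agent.H89.CechSimple

/-!
# The functor `V ↦ V ×_X Y` on `Over X` as a product with `Y → X`
-/

set_option autoImplicit false
set_option linter.style.haveILetI false
universe v u
open CategoryTheory Limits Opposite

namespace Groth.Agent.H89.Cech

section OverProd
variable {D : Type u} [Category.{v} D] [HasPullbacks D] {X Y : D} (g : Y ⟶ X)

/-- `V ↦ V ×_X Y → Y → X` -/
noncomputable abbrev Wf : Over X ⥤ Over X := Over.pullback g ⋙ Over.map g

/-- the projection `V ×_X Y → V` -/
noncomputable def Wp : Wf g ⟶ 𝟭 (Over X) := (Over.mapPullbackAdj g).counit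

/-- the projection `V ×_X Y → Y` -/
noncomputable def Wq (V : Over X) : (Wf g).obj V ⟶ Over.mk g :=
  Over.homMk (pullback.snd V.hom g) rfl

theorem Wp_left (V : Over X) : ((Wp g).app V).left = pullback.fst V.hom g := by
  simp [Wp]

theorem Wq_left (V : Over X) : (Wq g V).left = pullback.snd V.hom g := rfl

theorem Wq_nat {V V' : Over X} (f : V ⟶ V') : (Wf g).map f ≫ Wq g V' = Wq g V := by
  ext
  simp only [Functor.comp_obj, Over.map_obj_left, Over.pullback_obj_left, Wq, Functor.comp_map,
    Over.comp_left, Over.map_map_left, Over.pullback_map_left, Over.homMk_left]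
  exact pullback.lift_snd _ _ _

/-- `V ×_X Y` is the product of `V` and `Y` in `Over X` -/
noncomputable def Wprod (V : Over X) : IsLimit (BinaryFan.mk ((Wp g).app V) (Wq g V)) :=
  BinaryFan.isLimitMk
    (fun s => Over.homMk (pullback.lift s.fst.left s.snd.left
        ((Over.w s.fst).trans (Over.w s.snd).symm)) (by
      change pullback.lift _ _ _ ≫ pullback.snd V.hom g ≫ g = _
      rw [pullback.lift_snd_assoc]
      exact Over.w s.snd))
    (fun s => by
      ext
      simp only [Over.comp_left, Over.homMk_left, Wp_left]
      exact pullback.lift_fst _ _ _)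
    (fun s => by
      ext
      simp only [Over.comp_left, Over.homMk_left, Wq_left]
      exact pullback.lift_snd _ _ _)
    (fun s m h₁ h₂ => by
      ext
      apply pullback.hom_ext
      · have := congrArg CommaMorphism.left h₁
        simp only [Over.comp_left, Wp_left] at this
        simp only [Over.homMk_left]
        exact this.trans (pullback.lift_fst _ _ _).symm
      · have := congrArg CommaMorphism.left h₂
        simp only [Over.comp_left, Wq_left] at this
        simp only [Over.homMk_left]
        exact this.trans (pullback.lift_snd _ _ _).symm)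

end OverProd

end Groth.Agent.H89.Cech
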