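import Mathlib

/-!
# The Čech complex of a single object, in simplified form

For an object `U` of a category `C` with finite products and a presheaf `P : Cᵒᵖ ⥤ A`, Mathlib's
`cechComplexFunctor (fun _ : PUnit => U)` has in degree `n` a product over the one-element type
`Fin (n+1) → PUnit` of copies of `P(U^(n+1))`.  We identify it with the alternating coface map complex of the
cosimplicial object `n ↦ P(U^(n+1))`.
-/

set_option autoImplicit false
set_option linter.style.haveILetI false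
universe w v v' u u'
open CategoryTheory Limits Opposite Simplicial AlgebraicTopology

namespace Groth.Agent.H89.Cech

variable {C : Type u} [Category.{v} C] [HasFiniteProducts C] {A : Type u'} [Category.{v'} A]

/-- the power `U^α` -/
noncomputable abbrev pw (U : C) (α : Type) [Finite α] : C := ∏ᶜ fun _ : α => U

/-- reindexing of powers -/
noncomputable def pwMap (U : C) {α β : Type} [Finite α] [Finite β] (f : α → β) :
    pw U β ⟶ pw U α := Pi.lift fun a => Pi.π (fun _ : β => U) (f a)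

@[reassoc (attr := simp)]
theorem pwMap_π (U : C) {α β : Type} [Finite α] [Finite β] (f : α → β) (a : α) :
    pwMap U f ≫ Pi.π (fun _ : α => U) a = Pi.π (fun _ : β => U) (f a) := by
  simp [pwMap]

theorem pwMap_id (U : C) (α : Type) [Finite α] : pwMap U (id : α → α) = 𝟙 _ := by
  apply Pi.hom_ext
  intro a
  simp

theorem pwMap_comp (U : C) {α β γ : Type} [Finite α] [Finite β] [Finite γ] (f : α → β)
    (g : β → γ) : pwMap U (g ∘ f) = pwMap U g ≫ pwMap U f := by
  apply Pi.hom_ext
  intro a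
  simp

/-- the cosimplicial object `n ↦ P(U^(n+1))` -/
noncomputable def KCos (U : C) (P : Cᵒᵖ ⥤ A) : CosimplicialObject A where
  obj Δ := P.obj (op (pw U (ToType Δ)))
  map f := P.map (pwMap U f.toOrderHom).op
  map_id Δ := by
    have : pwMap U (SimplexCategory.Hom.toOrderHom (𝟙 Δ)) = 𝟙 _ := pwMap_id U _
    rw [this, op_id, P.map_id]
  map_comp f g := by
    have : pwMap U (SimplexCategory.Hom.toOrderHom (f ≫ g)) =
        pwMap U g.toOrderHom ≫ pwMap U f.toOrderHom :=
      pwMap_comp U (f.toOrderHom : _ → _) (g.toOrderHom : _ → _)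
    rw [this, op_comp, P.map_comp]

/-- functoriality of `KCos` in the presheaf -/
noncomputable def KCosMap (U : C) {P Q : Cᵒᵖ ⥤ A} (φ : P ⟶ Q) : KCos U P ⟶ KCos U Q where
  app Δ := φ.app (op (pw U (ToType Δ)))
  naturality _ _ f := φ.naturality _

end Groth.Agent.H89.Cech

namespace Groth.Agent.H89.Cech

variable {C : Type u} [Category.{v} C] [HasFiniteProducts C] {A : Type u'} [Category.{v'} A]
  [HasProducts.{w} A]

/-- Mathlib's Čech cosimplicial object for the one-element family -/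
noncomputable abbrev CCos (U : C) (P : Cᵒᵖ ⥤ A) : CosimplicialObject A :=
  (FormalCoproduct.cosimplicialObjectFunctor
    (FormalCoproduct.mk PUnit.{w + 1} (fun _ => U)).cech).obj P

/-- the family whose product is the degree-`Δ` term of `CCos` -/
noncomputable abbrev fam (U : C) (P : Cᵒᵖ ⥤ A) (Δ : SimplexCategory) :
    (ToType Δ → PUnit.{w + 1}) → A :=
  fun i => P.obj (op (∏ᶜ ((fun _ : PUnit.{w + 1} => U) ∘ i)))

noncomputable def ccosIsoApp (U : C) (P : Cᵒᵖ ⥤ A) (Δ : SimplexCategory) :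
    (∏ᶜ fam.{w} U P Δ) ≅ P.obj (op (pw U (ToType Δ))) where
  hom := Pi.π (fam.{w} U P Δ) (fun _ => PUnit.unit)
  inv := Pi.lift (f := fam.{w} U P Δ) (fun _ => 𝟙 _)
  hom_inv_id := by
    apply Pi.hom_ext (f := fam.{w} U P Δ)
    intro i
    rw [Category.assoc, Pi.lift_π, Category.comp_id, Category.id_comp]
  inv_hom_id := Pi.lift_π _ _

/-- the comparison isomorphism of cosimplicial objects -/
noncomputable def ccosIso (U : C) (P : Cᵒᵖ ⥤ A) : CCos.{w} U P ≅ KCos U P :=
  NatIso.ofComponents (fun Δ => ccosIsoApp.{w} U P Δ) (by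
    intro Δ Δ' f
    change (Pi.lift (f := fam.{w} U P Δ') fun i => Pi.π (fam.{w} U P Δ) (i ∘ f.toOrderHom) ≫
      P.map (Pi.lift fun a => Pi.π _ (f.toOrderHom a)).op) ≫ Pi.π (fam.{w} U P Δ') (fun _ => PUnit.unit) =
      Pi.π (fam.{w} U P Δ) (fun _ => PUnit.unit) ≫ P.map (pwMap U f.toOrderHom).op
    rw [Pi.lift_π]
    rfl)

end Groth.Agent.H89.Cech

namespace Groth.Agent.H89.Cech

variable {A : Type u'} [Category.{v'} A]

/-- an extra codegeneracy on a cosimplicial object, enough to contract it in positive degrees -/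
structure CoExtra (X : CosimplicialObject A) where
  σ : ∀ n : ℕ, X.obj ⦋n + 1⦌ ⟶ X.obj ⦋n⦌
  δ₀_σ : ∀ n : ℕ, X.δ (0 : Fin (n + 2)) ≫ σ n = 𝟙 _
  δ_succ_σ : ∀ (n : ℕ) (i : Fin (n + 2)), X.δ i.succ ≫ σ (n + 1) = σ n ≫ X.δ i

theorem CoExtra.homotopy [Preadditive A] {X : CosimplicialObject A} (h : CoExtra X) (n : ℕ) :
    AlternatingCofaceMapComplex.objD X (n + 1) ≫ h.σ (n + 1) +
      h.σ n ≫ AlternatingCofaceMapComplex.objD X n = 𝟙 _ := by
  simp only [AlternatingCofaceMapComplex.objD]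
  rw [Fin.sum_univ_succ, Preadditive.add_comp, Preadditive.sum_comp, Preadditive.comp_sum]
  simp only [Fin.val_zero, pow_zero, one_smul, Fin.val_succ, pow_succ, Preadditive.zsmul_comp,
    Preadditive.comp_zsmul, h.δ₀_σ, h.δ_succ_σ]
  rw [add_assoc, ← Finset.sum_add_distrib]
  have : ∀ i : Fin (n + 2), ((-1 : ℤ) ^ (i : ℕ) * -1) • (h.σ n ≫ X.δ i) +
      (-1 : ℤ) ^ (i : ℕ) • (h.σ n ≫ X.δ i) = 0 := by
    intro i
    rw [← add_smul]
    simp
  simp only [this, Finset.sum_const_zero, add_zero]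

end Groth.Agent.H89.Cech

namespace Groth.Agent.H89.Cech
universe t

/-- elementwise exactness criterion for the alternating coface complex of abelian groups -/
theorem exactAt_succ_iff (X : CosimplicialObject AddCommGrpCat.{t}) (n : ℕ) :
    ((alternatingCofaceMapComplex AddCommGrpCat.{t}).obj X).ExactAt (n + 1) ↔
      ∀ x : X.obj ⦋n + 1⦌, AlternatingCofaceMapComplex.objD X (n + 1) x = 0 →
        ∃ y : X.obj ⦋n⦌, AlternatingCofaceMapComplex.objD X n y = x := by
  rw [HomologicalComplex.exactAt_iff' _ n (n + 1) (n + 2) (by simp) (by simp),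
    ShortComplex.ab_exact_iff]
  have e1 : ((alternatingCofaceMapComplex AddCommGrpCat.{t}).obj X).d n (n + 1) =
      AlternatingCofaceMapComplex.objD X n :=
    CochainComplex.of_d (fun n => X.obj ⦋n⦌) (AlternatingCofaceMapComplex.objD X) n
  have e2 : ((alternatingCofaceMapComplex AddCommGrpCat.{t}).obj X).d (n + 1) (n + 2) =
      AlternatingCofaceMapComplex.objD X (n + 1) :=
    CochainComplex.of_d (fun n => X.obj ⦋n⦌) (AlternatingCofaceMapComplex.objD X) (n + 1)
  constructor
  · intro h x hx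
    obtain ⟨y, hy⟩ := h x (by
      change ((alternatingCofaceMapComplex AddCommGrpCat.{t}).obj X).d (n + 1) (n + 2) x = 0
      rw [e2]; exact hx)
    refine ⟨y, ?_⟩
    rw [← e1]
    exact hy
  · intro h x hx
    obtain ⟨y, hy⟩ := h x (by
      rw [← e2]; exact hx)
    refine ⟨y, ?_⟩
    change ((alternatingCofaceMapComplex AddCommGrpCat.{t}).obj X).d n (n + 1) y = x
    rw [e1]
    exact hy

theorem CoExtra.exactAt {X : CosimplicialObject AddCommGrpCat.{t}} (h : CoExtra X) (n : ℕ) :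
    ((alternatingCofaceMapComplex AddCommGrpCat.{t}).obj X).ExactAt (n + 1) := by
  rw [exactAt_succ_iff]
  intro x hx
  refine ⟨h.σ n x, ?_⟩
  have e := congrArg (fun φ : X.obj ⦋n + 1⦌ ⟶ X.obj ⦋n + 1⦌ => φ x) (h.homotopy n)
  simp only [AddCommGrpCat.hom_add, AddCommGrpCat.hom_comp, AddMonoidHom.add_apply,
    AddMonoidHom.coe_comp, Function.comp_apply, AddCommGrpCat.hom_id, AddMonoidHom.id_apply] at e
  rw [hx, map_zero, zero_add] at e
  exact e

end Groth.Agent.H89.Cech

namespace Groth.Agent.H89.Cech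

variable {A : Type u'} [Category.{v'} A]

section Contract
variable {C : Type u} [Category.{v} C] [HasFiniteProducts C] (U : C) (W : C ⥤ C) (p : W ⟶ 𝟭 C)
  (q : ∀ V : C, W.obj V ⟶ U) (hq : ∀ {V V' : C} (f : V ⟶ V'), W.map f ≫ q V' = q V)
  (hprod : ∀ V : C, IsLimit (BinaryFan.mk (p.app V) (q V)))

/-- the map `U^(n+1) × U → U^(n+2)` repeating the last coordinate in position `0` -/
noncomputable def eA (n : ℕ) : W.obj (pw U (Fin (n + 1))) ⟶ pw U (Fin (n + 2)) :=
  Pi.lift (Fin.cons (q _) (fun j => p.app _ ≫ Pi.π (fun _ : Fin (n + 1) => U) j))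

/-- the map `U^(n+1) × U → U^(n+2) × U` -/
noncomputable def eW (n : ℕ) : W.obj (pw U (Fin (n + 1))) ⟶ W.obj (pw U (Fin (n + 2))) :=
  (BinaryFan.IsLimit.lift' (hprod (pw U (Fin (n + 2)))) (eA U W p q n) (q _)).1

theorem eW_p (n : ℕ) : eW U W p q hprod n ≫ p.app _ = eA U W p q n :=
  (BinaryFan.IsLimit.lift' (hprod (pw U (Fin (n + 2)))) (eA U W p q n) (q _)).2.1

theorem eW_q (n : ℕ) : eW U W p q hprod n ≫ q _ = q _ :=
  (BinaryFan.IsLimit.lift' (hprod (pw U (Fin (n + 2)))) (eA U W p q n) (q _)).2.2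

theorem eA_π_zero (n : ℕ) :
    eA U W p q n ≫ Pi.π (fun _ : Fin (n + 2) => U) 0 = q _ := by
  simp [eA]

theorem eA_π_succ (n : ℕ) (j : Fin (n + 1)) :
    eA U W p q n ≫ Pi.π (fun _ : Fin (n + 2) => U) j.succ =
      p.app _ ≫ Pi.π (fun _ : Fin (n + 1) => U) j := by
  simp [eA]

include hq in
theorem eW_comp_zero (n : ℕ) :
    eW U W p q hprod n ≫ W.map (pwMap U (Fin.succ : Fin (n + 1) → Fin (n + 2))) = 𝟙 _ := by
  apply BinaryFan.IsLimit.hom_ext (hprod _)
  · change (eW U W p q hprod n ≫ W.map _) ≫ p.app _ = 𝟙 _ ≫ p.app _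
    rw [Category.assoc, p.naturality, ← Category.assoc, eW_p, Category.id_comp]
    apply Pi.hom_ext
    intro j
    change (eA U W p q n ≫ pwMap U Fin.succ) ≫ Pi.π _ j = _
    rw [Category.assoc, pwMap_π, eA_π_succ]
    rfl
  · change (eW U W p q hprod n ≫ W.map _) ≫ q _ = 𝟙 _ ≫ q _
    rw [Category.assoc, hq, eW_q, Category.id_comp]

include hq in
theorem eW_comp_succ (n : ℕ) (i : Fin (n + 2)) :
    eW U W p q hprod (n + 1) ≫ W.map (pwMap U (i.succ.succAbove : Fin (n + 2) → Fin (n + 3))) =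
      W.map (pwMap U (i.succAbove : Fin (n + 1) → Fin (n + 2))) ≫ eW U W p q hprod n := by
  apply BinaryFan.IsLimit.hom_ext (hprod _)
  · change (eW U W p q hprod (n + 1) ≫ W.map _) ≫ p.app _ = (W.map _ ≫ eW U W p q hprod n) ≫ p.app _
    rw [Category.assoc, p.naturality, ← Category.assoc, eW_p, Category.assoc, eW_p]
    apply Pi.hom_ext
    intro j
    change (eA U W p q (n + 1) ≫ pwMap U i.succ.succAbove) ≫ Pi.π _ j =
      (W.map (pwMap U i.succAbove) ≫ eA U W p q n) ≫ Pi.π _ j
    rw [Category.assoc, pwMap_π, Category.assoc]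
    refine Fin.cases ?_ (fun k => ?_) j
    · rw [Fin.succ_succAbove_zero, eA_π_zero, eA_π_zero, hq]
    · rw [Fin.succ_succAbove_succ, eA_π_succ, eA_π_succ]
      have hnat : W.map (pwMap U (i.succAbove : Fin (n + 1) → Fin (n + 2))) ≫ p.app _ =
          p.app _ ≫ pwMap U i.succAbove := p.naturality _
      exact ((congrArg (p.app _ ≫ ·) (pwMap_π U i.succAbove k)).symm.trans
        (Category.assoc _ _ _).symm).trans ((congrArg (· ≫ Pi.π _ k) hnat.symm).trans
        (Category.assoc _ _ _))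
  · change (eW U W p q hprod (n + 1) ≫ W.map _) ≫ q _ = (W.map _ ≫ eW U W p q hprod n) ≫ q _
    rw [Category.assoc, hq, eW_q, Category.assoc, eW_q, hq]

variable {A' : Type u'} [Category.{v'} A'] (P : Cᵒᵖ ⥤ A')

theorem δ_toOrderHom (n : ℕ) (i : Fin (n + 2)) :
    ((SimplexCategory.δ i).toOrderHom : Fin (n + 1) → Fin (n + 2)) = i.succAbove := rfl

theorem KCos_δ (Q : Cᵒᵖ ⥤ A') (n : ℕ) (i : Fin (n + 2)) :
    (KCos U Q).δ i = Q.map (pwMap U (i.succAbove : Fin (n + 1) → Fin (n + 2))).op := rfl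

include hq in
/-- the Čech cosimplicial object of `V ↦ P(V × U)` has an extra codegeneracy -/
noncomputable def coExtraW : CoExtra (KCos U (W.op ⋙ P)) where
  σ n := P.map (eW U W p q hprod n).op
  δ₀_σ n := by
    rw [KCos_δ]
    change P.map (W.map (pwMap U ((0 : Fin (n + 2)).succAbove : Fin (n + 1) → Fin (n + 2)))).op ≫
      P.map (eW U W p q hprod n).op = 𝟙 _
    rw [← P.map_comp, ← op_comp]
    have h0 : ((0 : Fin (n + 2)).succAbove : Fin (n + 1) → Fin (n + 2)) = Fin.succ := by
      funext j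
      exact Fin.succAbove_zero_apply j
    rw [h0, eW_comp_zero U W p q hq hprod n, op_id, P.map_id]
  δ_succ_σ n i := by
    rw [KCos_δ, KCos_δ]
    change P.map (W.map (pwMap U (i.succ.succAbove : Fin (n + 2) → Fin (n + 3)))).op ≫
      P.map (eW U W p q hprod (n + 1)).op = P.map (eW U W p q hprod n).op ≫
      P.map (W.map (pwMap U (i.succAbove : Fin (n + 1) → Fin (n + 2)))).op
    rw [← P.map_comp, ← op_comp, ← P.map_comp, ← op_comp, eW_comp_succ U W p q hq hprod n i]

end Contract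

end Groth.Agent.H89.Cech

namespace Groth.Agent.H89.Cech

section Final
variable {C : Type u} [Category.{v} C] [HasFiniteProducts C] {A : Type u'} [Category.{v'} A]
  [HasProducts.{w} A] [Preadditive A]

/-- Mathlib's Čech complex for the one-element family is the alternating coface complex of `KCos` -/
noncomputable def cechIso (U : C) (P : Cᵒᵖ ⥤ A) :
    (cechComplexFunctor (A := A) (fun _ : PUnit.{w + 1} => U)).obj P ≅
      (alternatingCofaceMapComplex A).obj (KCos U P) :=
  (alternatingCofaceMapComplex A).mapIso (ccosIso.{w} U P)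

theorem cech_exactAt_iff [CategoryWithHomology A] (U : C) (P : Cᵒᵖ ⥤ A) (n : ℕ) :
    ((cechComplexFunctor (A := A) (fun _ : PUnit.{w + 1} => U)).obj P).ExactAt n ↔
      ((alternatingCofaceMapComplex A).obj (KCos U P)).ExactAt n := by
  rw [HomologicalComplex.exactAt_iff, HomologicalComplex.exactAt_iff]
  exact ShortComplex.exact_iff_of_iso
    ((HomologicalComplex.shortComplexFunctor A _ n).mapIso (cechIso.{w} U P))

end Final

end Groth.Agent.H89.Cech
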