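import Mathlib

/-!
# Unique clopen lifting glues along a disjoint open cover (helper89)
-/

set_option autoImplicit false
universe u v w

namespace Groth.Agent.H89.ClopenGlue

/-- transport of unique clopen lifting along a homeomorphism of the sources -/
theorem existsUnique_of_homeo {P P' Y : Type*} [TopologicalSpace P] [TopologicalSpace P']
    [TopologicalSpace Y] (a : P ≃ₜ P') (p : P → Y) (p' : P' → Y) (hp : ∀ x, p' (a x) = p x)
    (h : ∀ V : Set P', IsClopen V → ∃! U : Set Y, IsClopen U ∧ p' ⁻¹' U = V)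
    (V : Set P) (hV : IsClopen V) : ∃! U : Set Y, IsClopen U ∧ p ⁻¹' U = V := by
  have hV' : IsClopen (a.symm ⁻¹' V) := hV.preimage a.symm.continuous
  obtain ⟨U, ⟨hU, hUV⟩, huniq⟩ := h _ hV'
  have key : ∀ U' : Set Y, p ⁻¹' U' = V ↔ p' ⁻¹' U' = a.symm ⁻¹' V := by
    intro U'
    constructor
    · intro h1
      ext x
      obtain ⟨y, rfl⟩ := a.surjective x
      simp only [Set.mem_preimage, hp, Homeomorph.symm_apply_apply]
      rw [← h1]
      rfl
    · intro h1
      ext y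
      have := Set.ext_iff.1 h1 (a y)
      simp only [Set.mem_preimage, hp, Homeomorph.symm_apply_apply] at this
      exact this
  refine ⟨U, ⟨hU, (key U).2 hUV⟩, fun U' hU' => huniq U' ⟨hU'.1, (key U').1 hU'.2⟩⟩

/-- unique clopen lifting glues along a disjoint open cover of the target -/
theorem existsUnique_of_cover {ι : Type u} {P Y : Type*} [TopologicalSpace P] [TopologicalSpace Y]
    (p : P → Y) (Pj Yj : ι → Type*) [∀ j, TopologicalSpace (Pj j)] [∀ j, TopologicalSpace (Yj j)]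
    (o : ∀ j, Yj j → Y) (b : ∀ j, Pj j → P) (q : ∀ j, Pj j → Yj j)
    (ho : ∀ j, Topology.IsOpenEmbedding (o j)) (hb : ∀ j, Continuous (b j))
    (hcomm : ∀ j x, p (b j x) = o j (q j x))
    (hsurj : ∀ j x, p x ∈ Set.range (o j) → ∃ x', b j x' = x)
    (hcov : ∀ y : Y, ∃ j, y ∈ Set.range (o j))
    (hdisj : ∀ j k (u : Yj j) (u' : Yj k), o j u = o k u' → j = k)
    (h : ∀ j (V : Set (Pj j)), IsClopen V → ∃! U : Set (Yj j), IsClopen U ∧ q j ⁻¹' U = V)
    (V : Set P) (hV : IsClopen V) : ∃! U : Set Y, IsClopen U ∧ p ⁻¹' U = V := by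
  have hVj : ∀ j, IsClopen (b j ⁻¹' V) := fun j => hV.preimage (hb j)
  choose Uj hUj huniq using fun j => h j _ (hVj j)
  -- membership in the glued set
  have hmem : ∀ (W : ∀ j, Set (Yj j)) j (u : Yj j), o j u ∈ (⋃ k, o k '' W k) ↔ u ∈ W j := by
    intro W j u
    constructor
    · intro hu
      obtain ⟨k, hk⟩ := Set.mem_iUnion.1 hu
      obtain ⟨u', hu', he⟩ := hk
      obtain rfl := hdisj k j u' u he
      rw [← (ho k).injective he]
      exact hu'
    · intro hu
      exact Set.mem_iUnion.2 ⟨j, u, hu, rfl⟩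
  have hopen : ∀ W : ∀ j, Set (Yj j), (∀ j, IsOpen (W j)) → IsOpen (⋃ k, o k '' W k) :=
    fun W hW => isOpen_iUnion fun k => (ho k).isOpenMap _ (hW k)
  have hcompl : (⋃ k, o k '' Uj k)ᶜ = ⋃ k, o k '' (Uj k)ᶜ := by
    ext y
    obtain ⟨j, u, rfl⟩ := hcov y
    rw [Set.mem_compl_iff, hmem Uj j u, hmem (fun j => (Uj j)ᶜ) j u]
    rfl
  refine ⟨⋃ k, o k '' Uj k, ⟨⟨?_, hopen Uj fun j => (hUj j).1.2⟩, ?_⟩, ?_⟩
  · rw [← isOpen_compl_iff, hcompl]
    exact hopen _ fun j => (hUj j).1.1.isOpen_compl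
  · ext x
    obtain ⟨j, hj⟩ := hcov (p x)
    obtain ⟨x', rfl⟩ := hsurj j x hj
    rw [Set.mem_preimage, hcomm, hmem Uj j]
    have := Set.ext_iff.1 (hUj j).2 x'
    exact this
  · intro U' hU'
    have hj : ∀ j, o j ⁻¹' U' = Uj j := by
      intro j
      apply huniq j
      refine ⟨hU'.1.preimage (ho j).continuous, ?_⟩
      ext x
      simp only [Set.mem_preimage, ← hcomm]
      have := Set.ext_iff.1 hU'.2 (b j x)
      exact this
    ext y
    obtain ⟨j, u, rfl⟩ := hcov y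
    rw [hmem Uj j u, ← hj j]
    rfl

end Groth.Agent.H89.ClopenGlue
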