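import Mathlib

/-! Coflasque lattices (helper89): `H¹(Γ', Λ) = 0` for all subgroups iff all extensions of
permutation modules by `Λ` split.  Everything is done over a general commutative ring `k`
(this avoids the `ℤ`-module instance diamond). -/

set_option autoImplicit false

open CategoryTheory

namespace Groth.Agent.H89.Coflasque

variable {k : Type} [CommRing k] {Γ : Type} [Group Γ]

/-- `H¹` vanishes iff every 1-cocycle is a coboundary. -/
theorem isZero_H1_iff (M : Rep.{0} k Γ) :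
    Limits.IsZero (groupCohomology M 1) ↔
      ∀ f : Γ → M.V, f ∈ groupCohomology.cocycles₁ M → f ∈ groupCohomology.coboundaries₁ M := by
  constructor
  · intro h f hf
    have hs : Subsingleton (groupCohomology M 1) := ModuleCat.subsingleton_of_isZero h
    have := (groupCohomology.H1π_eq_zero_iff (A := M) ⟨f, hf⟩).mp (Subsingleton.elim _ _)
    exact this
  · intro h
    have hs : Subsingleton (groupCohomology M 1) := by
      refine ⟨fun a b => ?_⟩
      have h0 : ∀ a : groupCohomology.H1 M, a = 0 := by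
        intro a
        induction a using groupCohomology.H1_induction_on with
        | h x =>
          exact (groupCohomology.H1π_eq_zero_iff x).mpr (h x x.2)
      exact (h0 a).trans (h0 b).symm
    exact ModuleCat.isZero_of_subsingleton _

/-- Elementwise exactness in `Rep`. -/
theorem exact_apply (E : ShortComplex (Rep.{0} k Γ)) (hE : E.Exact) (x : E.X₂.V)
    (hx : E.g.hom x = 0) : ∃ y : E.X₁.V, E.f.hom y = x := by
  have h1 := (ShortComplex.exact_map_iff_of_faithful E (forget₂ (Rep.{0} k Γ) (ModuleCat.{0} k))).mpr hE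
  rw [ShortComplex.moduleCat_exact_iff] at h1
  exact h1 x hx

/-- Key lemma: a vector of the quotient fixed by a subgroup with vanishing `H¹` of the kernel lifts
to a fixed vector. -/
theorem exists_fixed_lift (E : ShortComplex (Rep.{0} k Γ)) (hE : E.ShortExact)
    (Γ' : Subgroup Γ) (hH : Limits.IsZero (groupCohomology (Rep.res Γ'.subtype E.X₁) 1))
    (p : E.X₃.V) (hp : ∀ γ ∈ Γ', E.X₃.ρ γ p = p) :
    ∃ a : E.X₂.V, E.g.hom a = p ∧ ∀ γ ∈ Γ', E.X₂.ρ γ a = a := by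
  have hsurj : Function.Surjective E.g.hom := (Rep.epi_iff_surjective E.g).mp hE.epi_g
  have hinj : Function.Injective E.f.hom := (Rep.mono_iff_injective E.f).mp hE.mono_f
  obtain ⟨a₀, ha₀⟩ := hsurj p
  have hker : ∀ γ : Γ', ∃ y : E.X₁.V, E.f.hom y = E.X₂.ρ γ a₀ - a₀ := by
    intro γ
    apply exact_apply E hE.exact
    rw [map_sub, Rep.hom_comm_apply, ha₀, hp γ γ.2, sub_self]
  choose c hc using hker
  have hcoc : c ∈ groupCohomology.cocycles₁ (Rep.res Γ'.subtype E.X₁) := by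
    rw [groupCohomology.mem_cocycles₁_iff]
    intro g h
    apply hinj
    change E.f.hom (c (g * h)) = E.f.hom (E.X₁.ρ (g : Γ) (c h) + c g)
    rw [map_add, Rep.hom_comm_apply, hc, hc, hc]
    have : ((g * h : Γ') : Γ) = (g : Γ) * (h : Γ) := rfl
    rw [this, map_mul, Module.End.mul_apply, map_sub]
    abel
  have hcob := (isZero_H1_iff _).mp hH c hcoc
  obtain ⟨μ, hμ⟩ := hcob
  have hμ' : ∀ γ : Γ', E.X₁.ρ (γ : Γ) μ - μ = c γ := by
    intro γ
    have := congrFun hμ γ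
    simpa [groupCohomology.d₀₁_hom_apply] using this
  refine ⟨a₀ - E.f.hom μ, ?_, ?_⟩
  · rw [map_sub, ha₀]
    have : E.g.hom (E.f.hom μ) = 0 := by
      have h0 : E.g.hom (E.f.hom μ) = (E.f ≫ E.g).hom μ := rfl
      rw [h0, E.zero]
      rfl
    rw [this, sub_zero]
  · intro γ hγ
    have h1 := hc ⟨γ, hγ⟩
    have h2 := hμ' ⟨γ, hγ⟩
    rw [map_sub, ← Rep.hom_comm_apply]
    have h3 : E.f.hom (E.X₁.ρ γ μ) = E.f.hom μ + E.f.hom (c ⟨γ, hγ⟩) := by
      rw [← map_add, ← h2]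
      congr 1
      abel
    rw [h3, h1]
    abel


/-- If `H¹(Γ', X₁) = 0` for all subgroups, then every extension of a permutation module by `X₁`
splits. -/
theorem splitting_of_H1 (X : Type) [MulAction Γ X] (E : ShortComplex (Rep.{0} k Γ))
    (hE : E.ShortExact)
    (hH : ∀ Γ' : Subgroup Γ, Limits.IsZero (groupCohomology (Rep.res Γ'.subtype E.X₁) 1))
    (e₃ : E.X₃ ≅ Rep.ofMulAction k Γ X) : Nonempty E.Splitting := by
  classical
  -- the images of the basis vectors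
  let p : X → E.X₃.V := fun x => e₃.inv.hom (MonoidAlgebra.single x 1)
  have hp : ∀ (γ : Γ) (x : X), E.X₃.ρ γ (p x) = p (γ • x) := by
    intro γ x
    change E.X₃.ρ γ (e₃.inv.hom (MonoidAlgebra.single x 1)) = _
    rw [← Rep.hom_comm_apply]
    change e₃.inv.hom ((Representation.ofMulAction k Γ X) γ (MonoidAlgebra.single x 1)) = _
    rw [Representation.ofMulAction_single]
  -- fixed lifts
  have hlift : ∀ x : X, ∃ a : E.X₂.V, E.g.hom a = p x ∧
      ∀ γ ∈ MulAction.stabilizer Γ x, E.X₂.ρ γ a = a := by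
    intro x
    apply exists_fixed_lift E hE (MulAction.stabilizer Γ x) (hH _) (p x)
    intro γ hγ
    rw [hp, MulAction.mem_stabilizer_iff.mp hγ]
  choose a ha hfix using hlift
  -- orbit representatives
  let r : X → X := fun x => (Quotient.mk (MulAction.orbitRel Γ X) x).out
  have hr : ∀ x, ∃ σ : Γ, σ • r x = x := by
    intro x
    have h1 : (MulAction.orbitRel Γ X) (r x) x := Quotient.mk_out (s := MulAction.orbitRel Γ X) x
    rw [MulAction.orbitRel_apply] at h1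
    obtain ⟨σ, hσ⟩ := h1
    refine ⟨σ⁻¹, ?_⟩
    rw [← hσ, inv_smul_smul]
  choose σ hσ using hr
  have hrγ : ∀ (γ : Γ) (x : X), r (γ • x) = r x := by
    intro γ x
    have : Quotient.mk (MulAction.orbitRel Γ X) (γ • x) = Quotient.mk (MulAction.orbitRel Γ X) x := by
      apply Quotient.sound
      change (MulAction.orbitRel Γ X) (γ • x) x
      rw [MulAction.orbitRel_apply]
      exact ⟨γ, rfl⟩
    change (Quotient.mk (MulAction.orbitRel Γ X) (γ • x)).out = _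
    rw [this]
  let t : X → E.X₂.V := fun x => E.X₂.ρ (σ x) (a (r x))
  have htγ : ∀ (γ : Γ) (x : X), t (γ • x) = E.X₂.ρ γ (t x) := by
    intro γ x
    change E.X₂.ρ (σ (γ • x)) (a (r (γ • x))) = E.X₂.ρ γ (E.X₂.ρ (σ x) (a (r x)))
    rw [hrγ]
    have hs : (σ (γ • x))⁻¹ * (γ * σ x) ∈ MulAction.stabilizer Γ (r x) := by
      rw [MulAction.mem_stabilizer_iff, mul_smul, mul_smul, hσ x]
      have := hσ (γ • x)
      rw [hrγ] at this
      rw [inv_smul_eq_iff, this]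
    have h2 := hfix (r x) _ hs
    have h3 : E.X₂.ρ γ (E.X₂.ρ (σ x) (a (r x))) = E.X₂.ρ (γ * σ x) (a (r x)) := by
      rw [map_mul, Module.End.mul_apply]
    rw [h3]
    have h4 : γ * σ x = σ (γ • x) * ((σ (γ • x))⁻¹ * (γ * σ x)) := by group
    rw [h4, map_mul, Module.End.mul_apply, h2]
  have htg : ∀ x, E.g.hom (t x) = p x := by
    intro x
    change E.g.hom (E.X₂.ρ (σ x) (a (r x))) = p x
    rw [Rep.hom_comm_apply, ha, hp, hσ]
  -- the linear section
  let T : MonoidAlgebra k X →ₗ[k] E.X₂.V := (MonoidAlgebra.basis X k).constr k t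
  have hT : ∀ x, T (MonoidAlgebra.single x 1) = t x := by
    intro x
    have := (MonoidAlgebra.basis X k).constr_basis k t x
    rwa [MonoidAlgebra.basis_apply] at this
  have hTint : ∀ (γ : Γ) (v : MonoidAlgebra k X),
      T ((Representation.ofMulAction k Γ X) γ v) = E.X₂.ρ γ (T v) := by
    intro γ
    have : T ∘ₗ (Representation.ofMulAction k Γ X γ) = (E.X₂.ρ γ) ∘ₗ T := by
      apply (MonoidAlgebra.basis X k).ext
      intro x
      simp only [LinearMap.comp_apply, MonoidAlgebra.basis_apply]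
      rw [Representation.ofMulAction_single, hT, hT, htγ]
    intro v
    exact LinearMap.congr_fun this v
  let s' : Rep.ofMulAction k Γ X ⟶ E.X₂ :=
    ConcreteCategory.ofHom (C := Rep.{0} k Γ) (X := Rep.ofMulAction k Γ X) (Y := E.X₂)
      (T.intertwiningMap_of_isIntertwiningMap (Representation.ofMulAction k Γ X) E.X₂.ρ hTint)
  have hs' : s' ≫ E.g = e₃.inv := by
    apply Rep.hom_ext
    apply Representation.IntertwiningMap.ext
    apply (MonoidAlgebra.basis X k).ext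
    intro x
    rw [MonoidAlgebra.basis_apply]
    change E.g.hom (T (MonoidAlgebra.single x 1)) = e₃.inv.hom (MonoidAlgebra.single x 1)
    rw [hT, htg]
  refine ⟨ShortComplex.Splitting.ofExactOfSection E hE.exact (e₃.hom ≫ s') ?_ hE.mono_f⟩
  rw [Category.assoc, hs', Iso.hom_inv_id]

section Ext

variable (Λ : Rep.{0} k Γ) (Γ' : Subgroup Γ) (c' : Γ → Λ.V)
  (s : Γ ⧸ Γ' → Γ)

/-- the induced cocycle on `Γ × Γ/Γ'` -/
noncomputable def ct (γ : Γ) (q : Γ ⧸ Γ') : Λ.V :=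
  Λ.ρ (s (γ • q)) (c' ((s (γ • q))⁻¹ * (γ * s q)))

variable (hs : ∀ q, (QuotientGroup.mk (s q) : Γ ⧸ Γ') = q)
  (hc' : ∀ g h : Γ, g ∈ Γ' → h ∈ Γ' → c' (g * h) = Λ.ρ g (c' h) + c' g)

include hs in
theorem hmem (γ : Γ) (q : Γ ⧸ Γ') : (s (γ • q))⁻¹ * (γ * s q) ∈ Γ' := by
  rw [← QuotientGroup.eq, hs]
  conv_lhs => rw [← hs q]
  rfl

include hc' in
theorem c'_one : c' 1 = 0 := by
  have := hc' 1 1 Γ'.one_mem Γ'.one_mem
  rw [mul_one, map_one, Module.End.one_apply] at this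
  have h2 : c' 1 + 0 = c' 1 + c' 1 := by rw [add_zero]; exact this
  exact (add_left_cancel h2).symm

include hc' in
theorem ct_one (q : Γ ⧸ Γ') : ct Λ Γ' c' s 1 q = 0 := by
  unfold ct
  rw [one_smul, one_mul, inv_mul_cancel, c'_one Λ Γ' c' hc', map_zero]

include hs hc' in
theorem ct_mul (γ δ : Γ) (q : Γ ⧸ Γ') :
    ct Λ Γ' c' s (γ * δ) q = Λ.ρ γ (ct Λ Γ' c' s δ q) + ct Λ Γ' c' s γ (δ • q) := by
  unfold ct
  have h1 := hmem Γ' s hs δ q
  have h2 := hmem Γ' s hs γ (δ • q)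
  have e : (s ((γ * δ) • q))⁻¹ * (γ * δ * s q) =
      ((s (γ • δ • q))⁻¹ * (γ * s (δ • q))) * ((s (δ • q))⁻¹ * (δ * s q)) := by
    rw [mul_smul]
    group
  rw [e, hc' _ _ h2 h1, map_add, mul_smul]
  congr 1
  rw [← Module.End.mul_apply, ← map_mul, ← Module.End.mul_apply, ← map_mul]
  congr 2
  group


/-- the twisting map -/
noncomputable def Phi (γ : Γ) : MonoidAlgebra k (Γ ⧸ Γ') →ₗ[k] Λ.V :=
  (MonoidAlgebra.basis (Γ ⧸ Γ') k).constr k (ct Λ Γ' c' s γ)

theorem Phi_single (γ : Γ) (q : Γ ⧸ Γ') :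
    Phi Λ Γ' c' s γ (MonoidAlgebra.single q 1) = ct Λ Γ' c' s γ q := by
  have := (MonoidAlgebra.basis (Γ ⧸ Γ') k).constr_basis k (ct Λ Γ' c' s γ) q
  rwa [MonoidAlgebra.basis_apply] at this

include hc' in
theorem Phi_one : Phi Λ Γ' c' s 1 = 0 := by
  apply (MonoidAlgebra.basis (Γ ⧸ Γ') k).ext
  intro q
  rw [MonoidAlgebra.basis_apply, Phi_single, ct_one Λ Γ' c' s hc', LinearMap.zero_apply]

include hs hc' in
theorem Phi_mul (γ δ : Γ) (ξ : MonoidAlgebra k (Γ ⧸ Γ')) :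
    Phi Λ Γ' c' s (γ * δ) ξ = Λ.ρ γ (Phi Λ Γ' c' s δ ξ) +
      Phi Λ Γ' c' s γ (Representation.ofMulAction k Γ (Γ ⧸ Γ') δ ξ) := by
  have : Phi Λ Γ' c' s (γ * δ) = (Λ.ρ γ) ∘ₗ (Phi Λ Γ' c' s δ) +
      (Phi Λ Γ' c' s γ) ∘ₗ (Representation.ofMulAction k Γ (Γ ⧸ Γ') δ) := by
    apply (MonoidAlgebra.basis (Γ ⧸ Γ') k).ext
    intro q
    simp only [MonoidAlgebra.basis_apply, LinearMap.add_apply, LinearMap.comp_apply]
    rw [Representation.ofMulAction_single, Phi_single, Phi_single, Phi_single,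
      ct_mul Λ Γ' c' s hs hc']
  exact LinearMap.congr_fun this ξ

/-- the twisted representation on `Λ × k[Γ/Γ']` -/
noncomputable def rho2 : Representation k Γ (Λ.V × MonoidAlgebra k (Γ ⧸ Γ')) where
  toFun γ := LinearMap.prod
    ((Λ.ρ γ) ∘ₗ LinearMap.fst k _ _ + (Phi Λ Γ' c' s γ) ∘ₗ LinearMap.snd k _ _)
    ((Representation.ofMulAction k Γ (Γ ⧸ Γ') γ) ∘ₗ LinearMap.snd k _ _)
  map_one' := by
    apply LinearMap.ext
    rintro ⟨x, ξ⟩
    simp [Phi_one Λ Γ' c' s hc']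
  map_mul' γ δ := by
    apply LinearMap.ext
    rintro ⟨x, ξ⟩
    apply Prod.ext
    · change Λ.ρ (γ * δ) x + Phi Λ Γ' c' s (γ * δ) ξ =
        Λ.ρ γ (Λ.ρ δ x + Phi Λ Γ' c' s δ ξ) +
          Phi Λ Γ' c' s γ (Representation.ofMulAction k Γ (Γ ⧸ Γ') δ ξ)
      rw [Phi_mul Λ Γ' c' s hs hc', map_add, map_mul, Module.End.mul_apply]
      abel
    · change Representation.ofMulAction k Γ (Γ ⧸ Γ') (γ * δ) ξ =
        Representation.ofMulAction k Γ (Γ ⧸ Γ') γ (Representation.ofMulAction k Γ (Γ ⧸ Γ') δ ξ)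
      rw [map_mul, Module.End.mul_apply]

theorem rho2_apply (γ : Γ) (x : Λ.V) (ξ : MonoidAlgebra k (Γ ⧸ Γ')) :
    rho2 Λ Γ' c' s hs hc' γ (x, ξ) =
      (Λ.ρ γ x + Phi Λ Γ' c' s γ ξ, Representation.ofMulAction k Γ (Γ ⧸ Γ') γ ξ) := rfl


/-- the extension of `k[Γ/Γ']` by `Λ` attached to the cocycle -/
noncomputable def extE : ShortComplex (Rep.{0} k Γ) where
  X₁ := Λ
  X₂ := Rep.of (rho2 Λ Γ' c' s hs hc')
  X₃ := Rep.ofMulAction k Γ (Γ ⧸ Γ')
  f := ConcreteCategory.ofHom (C := Rep.{0} k Γ) (X := Λ) (Y := Rep.of (rho2 Λ Γ' c' s hs hc'))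
    ((LinearMap.inl k Λ.V (MonoidAlgebra k (Γ ⧸ Γ'))).intertwiningMap_of_isIntertwiningMap Λ.ρ
      (rho2 Λ Γ' c' s hs hc') (by
        intro γ x
        change ((Λ.ρ γ x, 0) : Λ.V × MonoidAlgebra k (Γ ⧸ Γ')) =
          rho2 Λ Γ' c' s hs hc' γ (x, 0)
        rw [rho2_apply, map_zero, map_zero, add_zero]))
  g := ConcreteCategory.ofHom (C := Rep.{0} k Γ) (X := Rep.of (rho2 Λ Γ' c' s hs hc'))
    (Y := Rep.ofMulAction k Γ (Γ ⧸ Γ'))
    ((LinearMap.snd k Λ.V (MonoidAlgebra k (Γ ⧸ Γ'))).intertwiningMap_of_isIntertwiningMap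
      (rho2 Λ Γ' c' s hs hc') (Representation.ofMulAction k Γ (Γ ⧸ Γ')) (by
        rintro γ ⟨x, ξ⟩
        rfl))
  zero := by
    apply Rep.hom_ext
    apply Representation.IntertwiningMap.ext
    apply LinearMap.ext
    intro x
    rfl

theorem extE_f_apply (x : Λ.V) :
    (extE Λ Γ' c' s hs hc').f.hom x = ((x, 0) : Λ.V × MonoidAlgebra k (Γ ⧸ Γ')) := rfl

theorem extE_g_apply (v : Λ.V × MonoidAlgebra k (Γ ⧸ Γ')) :
    (extE Λ Γ' c' s hs hc').g.hom v = v.2 := rfl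

theorem extE_shortExact : (extE Λ Γ' c' s hs hc').ShortExact := by
  have hex : (extE Λ Γ' c' s hs hc').Exact := by
    rw [← ShortComplex.exact_map_iff_of_faithful (extE Λ Γ' c' s hs hc')
      (forget₂ (Rep.{0} k Γ) (ModuleCat.{0} k)), ShortComplex.moduleCat_exact_iff]
    rintro ⟨x, ξ⟩ h
    refine ⟨x, ?_⟩
    have h0 : ξ = 0 := h
    subst h0
    rfl
  refine { exact := hex, mono_f := ?_, epi_g := ?_ }
  · rw [Rep.mono_iff_injective]
    intro x y hxy
    exact congrArg Prod.fst hxy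
  · rw [Rep.epi_iff_surjective]
    intro ξ
    exact ⟨((0, ξ) : Λ.V × MonoidAlgebra k (Γ ⧸ Γ')), rfl⟩

end Ext


/-- If all extensions of `k[Γ/Γ']` by `Λ` split, then `H¹(Γ', Λ) = 0`. -/
theorem H1_of_splitting (Λ : Rep.{0} k Γ) (Γ' : Subgroup Γ)
    (h : ∀ E : ShortComplex (Rep.{0} k Γ), E.ShortExact → Nonempty (E.X₁ ≅ Λ) →
      Nonempty (E.X₃ ≅ Rep.ofMulAction k Γ (Γ ⧸ Γ')) → Nonempty E.Splitting) :
    Limits.IsZero (groupCohomology (Rep.res Γ'.subtype Λ) 1) := by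
  classical
  rw [isZero_H1_iff]
  intro c hc
  rw [groupCohomology.mem_cocycles₁_iff] at hc
  let c' : Γ → Λ.V := fun g => if hg : g ∈ Γ' then c ⟨g, hg⟩ else 0
  have hc'g : ∀ g (hg : g ∈ Γ'), c' g = c ⟨g, hg⟩ := fun g hg => dif_pos hg
  have hc' : ∀ g h : Γ, g ∈ Γ' → h ∈ Γ' → c' (g * h) = Λ.ρ g (c' h) + c' g := by
    intro g h hg hh
    rw [hc'g g hg, hc'g h hh, hc'g (g * h) (Γ'.mul_mem hg hh)]
    exact hc ⟨g, hg⟩ ⟨h, hh⟩
  let q₀ : Γ ⧸ Γ' := QuotientGroup.mk 1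
  let s : Γ ⧸ Γ' → Γ := fun q => if q = q₀ then 1 else q.out
  have hs : ∀ q, (QuotientGroup.mk (s q) : Γ ⧸ Γ') = q := by
    intro q
    by_cases hq : q = q₀
    · simp only [s, if_pos hq]
      exact hq.symm
    · simp only [s, if_neg hq]
      exact QuotientGroup.out_eq' q
  have hs0 : s q₀ = 1 := if_pos rfl
  obtain ⟨S⟩ := h (extE Λ Γ' c' s hs hc') (extE_shortExact Λ Γ' c' s hs hc') ⟨Iso.refl _⟩
    ⟨Iso.refl _⟩
  let v : Λ.V × MonoidAlgebra k (Γ ⧸ Γ') := S.s.hom (MonoidAlgebra.single q₀ 1)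
  have hv2 : v.2 = MonoidAlgebra.single q₀ 1 := by
    have h3 : (extE Λ Γ' c' s hs hc').g.hom (S.s.hom (MonoidAlgebra.single q₀ 1)) =
        (S.s ≫ (extE Λ Γ' c' s hs hc').g).hom (MonoidAlgebra.single q₀ 1) := rfl
    rw [S.s_g] at h3
    exact h3
  have hfix : ∀ g ∈ Γ', rho2 Λ Γ' c' s hs hc' g v = v := by
    intro g hg
    have h4 := Rep.hom_comm_apply S.s g (MonoidAlgebra.single q₀ 1)
    have h5 : (extE Λ Γ' c' s hs hc').X₃.ρ g (MonoidAlgebra.single q₀ 1) =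
        MonoidAlgebra.single q₀ 1 := by
      change Representation.ofMulAction k Γ (Γ ⧸ Γ') g (MonoidAlgebra.single q₀ 1) = _
      rw [Representation.ofMulAction_single]
      congr 1
      change g • (QuotientGroup.mk 1 : Γ ⧸ Γ') = QuotientGroup.mk 1
      rw [MulAction.Quotient.smul_mk, QuotientGroup.eq]
      simp [hg]
    rw [h5] at h4
    exact h4.symm
  refine ⟨-v.1, ?_⟩
  funext g
  rw [groupCohomology.d₀₁_hom_apply]
  have h6 := congrArg Prod.fst (hfix g g.2)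
  have h7 : (rho2 Λ Γ' c' s hs hc' g v).1 = Λ.ρ g v.1 + Phi Λ Γ' c' s g v.2 := rfl
  rw [h7, hv2, Phi_single] at h6
  have h8 : ct Λ Γ' c' s (g : Γ) q₀ = c g := by
    unfold ct
    have h9 : (g : Γ) • q₀ = q₀ := by
      change (g : Γ) • (QuotientGroup.mk 1 : Γ ⧸ Γ') = QuotientGroup.mk 1
      rw [MulAction.Quotient.smul_mk, QuotientGroup.eq]
      simp
    rw [h9, hs0, map_one, Module.End.one_apply, inv_one, one_mul, mul_one, hc'g g g.2]
  rw [h8] at h6
  change Λ.ρ (g : Γ) (-v.1) - -v.1 = c g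
  rw [map_neg]
  have h10 : c g = v.1 - Λ.ρ (g : Γ) v.1 := by
    rw [eq_sub_iff_add_eq, add_comm]
    exact h6
  rw [h10]
  abel


/-- Vanishing of `H¹` of restrictions is invariant under isomorphism. -/
theorem isZero_H1_of_iso {M N : Rep.{0} k Γ} (e : M ≅ N) (Γ' : Subgroup Γ)
    (h : Limits.IsZero (groupCohomology (Rep.res Γ'.subtype N) 1)) :
    Limits.IsZero (groupCohomology (Rep.res Γ'.subtype M) 1) :=
  Limits.IsZero.of_iso h ((groupCohomology.functor k Γ' 1).mapIso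
    ((Rep.resFunctor Γ'.subtype).mapIso e))

/-- The main equivalence over a general commutative ring. -/
theorem main [Finite Γ] (Λ : Rep.{0} k Γ) :
    (∀ Γ' : Subgroup Γ, Limits.IsZero (groupCohomology (Rep.res Γ'.subtype Λ) 1)) ↔
      ∀ (X : Type) [MulAction Γ X] [Finite X] (E : ShortComplex (Rep.{0} k Γ)),
        E.ShortExact → Nonempty (E.X₁ ≅ Λ) → Nonempty (E.X₃ ≅ Rep.ofMulAction k Γ X) →
          Nonempty E.Splitting := by
  constructor
  · rintro hH X _ _ E hE ⟨e₁⟩ ⟨e₃⟩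
    exact splitting_of_H1 X E hE (fun Γ' => isZero_H1_of_iso e₁ Γ' (hH Γ')) e₃
  · intro h Γ'
    exact H1_of_splitting Λ Γ' (fun E hE h1 h3 => h (Γ ⧸ Γ') E hE h1 h3)

end Groth.Agent.H89.Coflasque
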