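import Mathlib

set_option autoImplicit false
universe u

open CategoryTheory CategoryTheory.Limits AlgebraicGeometry

namespace Groth.Agent.H89.CompVal

variable {K : Type u} [Field K] (R R' : ValuationSubring K) (hRR' : R ≤ R')
  (ι : ↥R →+* ↥R') (hι : ∀ x : ↥R, ((ι x : ↥R') : K) = (x : K))
  (Rt : ValuationSubring (IsLocalRing.ResidueField ↥R')) (σ : ↥R →+* ↥Rt)
  (hσs : Function.Surjective σ)
  (hσ : ∀ x : ↥R, ((σ x : ↥Rt) : IsLocalRing.ResidueField ↥R') = IsLocalRing.residue ↥R' (ι x))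

include hRR' in
theorem mem_of_mem_maximalIdeal (d : ↥R') (hd : d ∈ IsLocalRing.maximalIdeal ↥R') :
    (d : K) ∈ R := by
  by_cases h0 : (d : K) = 0
  · rw [h0]; exact R.zero_mem
  · rcases R.mem_or_inv_mem (d : K) with h | h
    · exact h
    · exfalso
      have h' : (d : K)⁻¹ ∈ R' := hRR' h
      have hunit : IsUnit d := by
        refine IsUnit.of_mul_eq_one ⟨(d : K)⁻¹, h'⟩ ?_
        apply Subtype.ext
        simp [mul_inv_cancel₀ h0]
      exact (IsLocalRing.mem_maximalIdeal d).mp hd hunit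

include hRR' hι hσs hσ in
theorem mem_of_residue_eq {Γ : Type u} [CommRing Γ] (a : Γ →+* ↥R') (b : Γ →+* ↥Rt)
    (hab : ∀ γ, IsLocalRing.residue ↥R' (a γ) = ((b γ : ↥Rt) : IsLocalRing.ResidueField ↥R'))
    (γ : Γ) : ((a γ : ↥R') : K) ∈ R := by
  obtain ⟨x, hx⟩ := hσs (b γ)
  have h1 : IsLocalRing.residue ↥R' (a γ - ι x) = 0 := by
    rw [map_sub, hab, ← hσ, hx, sub_self]
  have h2 : a γ - ι x ∈ IsLocalRing.maximalIdeal ↥R' := (IsLocalRing.residue_eq_zero_iff _).mp h1
  have h3 := mem_of_mem_maximalIdeal R R' hRR' _ h2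
  have h4 : ((a γ : ↥R') : K) = ((a γ - ι x : ↥R') : K) + (x : K) := by
    rw [← hι x]; simp
  rw [h4]
  exact R.add_mem _ _ h3 x.2

include hRR' hι hσs hσ in
theorem exists_ringHom {Γ : Type u} [CommRing Γ] (a : Γ →+* ↥R') (b : Γ →+* ↥Rt)
    (hab : ∀ γ, IsLocalRing.residue ↥R' (a γ) = ((b γ : ↥Rt) : IsLocalRing.ResidueField ↥R')) :
    ∃ c : Γ →+* ↥R, ι.comp c = a ∧ σ.comp c = b := by
  have hmem := mem_of_residue_eq R R' hRR' ι hι Rt σ hσs hσ a b hab
  let c : Γ →+* ↥R :=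
    { toFun := fun γ => ⟨((a γ : ↥R') : K), hmem γ⟩
      map_one' := Subtype.ext (by simp)
      map_mul' := fun x y => Subtype.ext (by simp)
      map_zero' := Subtype.ext (by simp)
      map_add' := fun x y => Subtype.ext (by simp) }
  have hc : ι.comp c = a := by
    ext γ
    rw [RingHom.comp_apply, hι]
    rfl
  refine ⟨c, hc, ?_⟩
  ext γ
  have h1 : ι (c γ) = a γ := congrArg (fun m => m γ) hc
  rw [RingHom.comp_apply, hσ, h1, hab]

include hι in
theorem ι_injective : Function.Injective ι := by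
  intro x y hxy
  apply Subtype.ext
  rw [← hι x, ← hι y, hxy]

theorem exists_factor {W : Scheme.{u}} (L : CommRingCat.{u}) [IsLocalRing L] (m : Spec L ⟶ W)
    (w₀ : W) (hs : m (IsLocalRing.closedPoint L) ⤳ w₀) :
    ∃ a : W.presheaf.stalk w₀ ⟶ L, m = Spec.map a ≫ W.fromSpecStalk w₀ := by
  refine ⟨W.presheaf.stalkSpecializes hs ≫ Scheme.stalkClosedPointTo m, ?_⟩
  rw [Spec.map_comp, Category.assoc, Scheme.SpecMap_stalkSpecializes_fromSpecStalk,
    Scheme.Spec_stalkClosedPointTo_fromSpecStalk]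


include hσs in
theorem spec_σ_closedPoint :
    (Spec.map (CommRingCat.ofHom σ)) (IsLocalRing.closedPoint ↥Rt) = IsLocalRing.closedPoint ↥R := by
  apply PrimeSpectrum.ext
  have h1 : ((IsLocalRing.maximalIdeal ↥Rt).comap σ).IsMaximal :=
    Ideal.comap_isMaximal_of_surjective σ hσs
  exact IsLocalRing.eq_maximalIdeal h1

include hRR' hι hσs hσ in
theorem pushout_existsUnique (W : Scheme.{u}) (g : Spec (CommRingCat.of ↥R') ⟶ W)
    (ht : Spec (CommRingCat.of ↥Rt) ⟶ W)
    (hcompat : Spec.map (CommRingCat.ofHom Rt.subtype) ≫ ht =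
      Spec.map (CommRingCat.ofHom (IsLocalRing.residue ↥R')) ≫ g) :
    ∃! h : Spec (CommRingCat.of ↥R) ⟶ W,
      Spec.map (CommRingCat.ofHom ι) ≫ h = g ∧ Spec.map (CommRingCat.ofHom σ) ≫ h = ht := by
  set w₀ : W := ht (IsLocalRing.closedPoint ↥Rt) with hw₀
  let j := W.fromSpecStalk w₀
  obtain ⟨b, hb⟩ := exists_factor (CommRingCat.of ↥Rt) ht w₀ specializes_rfl
  have hg0 : g (IsLocalRing.closedPoint ↥R') ⤳ w₀ := by
    let pt := IsLocalRing.closedPoint (IsLocalRing.ResidueField ↥R')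
    have e1 : (Spec.map (CommRingCat.ofHom (IsLocalRing.residue ↥R'))) pt =
        IsLocalRing.closedPoint ↥R' := by
      exact IsLocalRing.comap_closedPoint (IsLocalRing.residue ↥R')
    have e2 : ht ((Spec.map (CommRingCat.ofHom Rt.subtype)) pt) =
        g ((Spec.map (CommRingCat.ofHom (IsLocalRing.residue ↥R'))) pt) :=
      congrArg (fun m => m.base pt) hcompat
    rw [← e1, ← e2]
    exact (IsLocalRing.specializes_closedPoint _).map ht.continuous
  obtain ⟨a, ha⟩ := exists_factor (CommRingCat.of ↥R') g w₀ hg0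
  have hab : a ≫ CommRingCat.ofHom (IsLocalRing.residue ↥R') = b ≫ CommRingCat.ofHom Rt.subtype := by
    apply Spec.map_injective
    rw [← cancel_mono j, Spec.map_comp, Spec.map_comp, Category.assoc, Category.assoc, ← ha, ← hb,
      hcompat]
  obtain ⟨c, hc1, hc2⟩ := exists_ringHom R R' hRR' ι hι Rt σ hσs hσ a.hom b.hom
    (fun γ => congrArg (fun m => m.hom γ) hab)
  have hca : CommRingCat.ofHom c ≫ CommRingCat.ofHom ι = a := CommRingCat.hom_ext hc1
  have hcb : CommRingCat.ofHom c ≫ CommRingCat.ofHom σ = b := CommRingCat.hom_ext hc2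
  refine ⟨Spec.map (CommRingCat.ofHom c) ≫ j, ⟨?_, ?_⟩, ?_⟩
  · rw [← Category.assoc, ← Spec.map_comp, hca, ← ha]
  · rw [← Category.assoc, ← Spec.map_comp, hcb, ← hb]
  · rintro h' ⟨h'1, h'2⟩
    have hcp : h' (IsLocalRing.closedPoint ↥R) = w₀ := by
      rw [← spec_σ_closedPoint R R' Rt σ hσs, hw₀, ← h'2]
      rfl
    obtain ⟨c', hc'⟩ := exists_factor (CommRingCat.of ↥R) h' w₀ (specializes_of_eq hcp)
    have h1 : c' ≫ CommRingCat.ofHom ι = a := by
      apply Spec.map_injective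
      rw [← cancel_mono j, Spec.map_comp, Category.assoc, ← hc', h'1, ha]
    have h2 : c'.hom = c := by
      apply RingHom.ext
      intro γ
      apply ι_injective R R' ι hι
      have h3 : ι (c'.hom γ) = a.hom γ := congrArg (fun m => m.hom γ) h1
      have h4 : ι (c γ) = a.hom γ := congrArg (fun m => m γ) hc1
      rw [h3, h4]
    have h5 : c' = CommRingCat.ofHom c := CommRingCat.hom_ext h2
    rw [hc', h5]

end Groth.Agent.H89.CompVal
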