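import Groth.Prelude.Def_CohDer
import Groth.Prelude.Def_DerLim
import Mathlib.CategoryTheory.Triangulated.Subcategory
import Mathlib.CategoryTheory.Limits.Preserves.Shapes.Products
import Mathlib.CategoryTheory.Adjunction.Limits

/-!
# Objects commuting with countable direct sums, and homotopy colimits

`NatFin C`: every morphism from `C` into a coproduct indexed by `ℕ` is a finite sum of
morphisms into the summands.  Such objects see a homotopy colimit of a sequence as the colimit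
of the Hom groups.  (Adapted from helper5's `H5/HocolimCompact`, which needs all coproducts.)
-/

set_option autoImplicit false
set_option linter.unusedSectionVars false

universe v u

open CategoryTheory CategoryTheory.Limits Pretriangulated ZeroObject

namespace Groth.Agent.H89.NatCompact

section Basic

variable {D : Type u} [Category.{v} D] [Preadditive D]

/-- every morphism from `C` into a coproduct indexed by `ℕ` finitely decomposes -/
def NatFin [HasCoproductsOfShape ℕ D] (C : D) : Prop :=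
  ∀ (E : ℕ → D) (x : C ⟶ ∐ E), ∃ (s : Finset ℕ) (g : ∀ n, C ⟶ E n),
    x = ∑ n ∈ s, g n ≫ Sigma.ι E n

lemma homSum_of (K : D) {ι : Type v} (X : ι → D) [HasCoproduct X] [DecidableEq ι] (i : ι)
    (y : K ⟶ X i) :
    CohDer.homSumToHomCoprod K X (DirectSum.of _ i y) = y ≫ Sigma.ι X i := by
  unfold CohDer.homSumToHomCoprod
  erw [DirectSum.toAddMonoid_of]
  rfl

lemma natFin_of_surjective [HasCoproductsOfShape ℕ D] [HasCoproductsOfShape (ULift.{v} ℕ) D]
    {C : D}
    (hC : ∀ (E : ℕ → D) [HasCoproduct fun i : ULift.{v} ℕ => E i.down],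
      Function.Surjective (CohDer.homSumToHomCoprod C (fun i : ULift.{v} ℕ => E i.down))) :
    NatFin C := by
  classical
  intro E x
  let e : (∐ fun i : ULift.{v} ℕ => E i.down) ≅ ∐ E :=
    Sigma.reindex (Equiv.ulift.{v, 0} : ULift.{v} ℕ ≃ ℕ) E
  have he : ∀ k : ULift.{v} ℕ,
      Sigma.ι (fun i : ULift.{v} ℕ => E i.down) k ≫ e.hom = Sigma.ι E k.down := fun k =>
    Sigma.ι_reindex_hom (Equiv.ulift.{v, 0} : ULift.{v} ℕ ≃ ℕ) E k
  obtain ⟨d, hd⟩ := hC E (x ≫ e.inv)
  let g : ∀ n, C ⟶ E n := fun n => d ⟨n⟩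
  refine ⟨(DFinsupp.support d).image ULift.down, g, ?_⟩
  have hx : x = (x ≫ e.inv) ≫ e.hom := by rw [Category.assoc, e.inv_hom_id, Category.comp_id]
  have hd' : x ≫ e.inv = ∑ i ∈ DFinsupp.support d,
      d i ≫ Sigma.ι (fun i : ULift.{v} ℕ => E i.down) i := by
    rw [← hd]
    conv_lhs => rw [← DirectSum.sum_support_of d]
    rw [map_sum]
    apply Finset.sum_congr rfl
    intro i _
    rw [homSum_of]
  rw [hx, hd', Preadditive.sum_comp, Finset.sum_image (fun a _ b _ h => ULift.ext _ _ h)]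
  apply Finset.sum_congr rfl
  intro k _
  rw [Category.assoc, he k]

variable [HasCoproductsOfShape ℕ D]

lemma NatFin.of_iso {C C' : D} (e : C ≅ C') (hC : NatFin C) : NatFin C' := by
  intro E x
  obtain ⟨s, g, hg⟩ := hC E (e.hom ≫ x)
  refine ⟨s, fun n => e.inv ≫ g n, ?_⟩
  have : x = e.inv ≫ e.hom ≫ x := by rw [e.inv_hom_id_assoc]
  rw [this, hg, Preadditive.comp_sum]
  apply Finset.sum_congr rfl
  intro i _
  rw [Category.assoc]

end Basic

section Triangulated

variable {D : Type u} [Category.{v} D] [Preadditive D] [HasZeroObject D] [HasShift D ℤ]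
  [∀ n : ℤ, (shiftFunctor D n).Additive] [Pretriangulated D] [HasCoproductsOfShape ℕ D]

lemma NatFin.shift {C : D} (hC : NatFin C) (n : ℤ) : NatFin (C⟦n⟧) := by
  intro X f
  let adj : shiftFunctor D n ⊣ shiftFunctor D (-n) := (shiftEquiv D n).toAdjunction
  let c := PreservesCoproduct.iso (shiftFunctor D (-n)) X
  obtain ⟨s, g, hg⟩ := hC _ (adj.homEquiv _ _ f ≫ c.hom)
  refine ⟨s, fun i => (adj.homEquiv _ _).symm (g i), ?_⟩
  apply (adj.homEquiv _ _).injective
  have h1 : adj.homEquiv _ _ f = ∑ i ∈ s, g i ≫ (Sigma.ι X i)⟦-n⟧' := by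
    have : adj.homEquiv _ _ f = (adj.homEquiv _ _ f ≫ c.hom) ≫ c.inv := by
      rw [Category.assoc, c.hom_inv_id, Category.comp_id]
    rw [this, hg, Preadditive.sum_comp]
    apply Finset.sum_congr rfl
    intro i _
    rw [Category.assoc, PreservesCoproduct.inv_hom, ι_comp_sigmaComparison]
  rw [h1, adj.homEquiv_unit, Functor.map_sum, Preadditive.comp_sum]
  apply Finset.sum_congr rfl
  intro i _
  rw [← adj.homEquiv_unit, adj.homEquiv_naturality_right, Equiv.apply_symm_apply]

variable (K : ℕ → D) (f : ∀ n, K n ⟶ K (n + 1))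

lemma shiftMap_π_zero : DerLim.shiftMap K f ≫ Sigma.π K 0 = 0 := by
  apply Sigma.hom_ext
  intro n
  simp only [DerLim.shiftMap, colimit.ι_desc_assoc, Discrete.functor_obj_eq_as, Cofan.mk_pt,
    Cofan.mk_ι_app, Category.assoc, comp_zero]
  rw [Sigma.ι_π_of_ne _ (Nat.succ_ne_zero n), comp_zero]

lemma shiftMap_π_succ (m : ℕ) :
    DerLim.shiftMap K f ≫ Sigma.π K (m + 1) = Sigma.π K m ≫ f m := by
  apply Sigma.hom_ext
  intro n
  simp only [DerLim.shiftMap, colimit.ι_desc_assoc, Discrete.functor_obj_eq_as, Cofan.mk_pt,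
    Cofan.mk_ι_app, Category.assoc]
  by_cases h : n = m
  · subst h
    rw [Sigma.ι_π_eq_id, Category.comp_id, Sigma.ι_π_eq_id_assoc]
  · rw [Sigma.ι_π_of_ne _ (fun h' => h (Nat.succ_injective h')), comp_zero,
      Sigma.ι_π_of_ne_assoc _ h, zero_comp]

/-- components of a map into a countable coproduct from a `NatFin` object determine it -/
lemma eq_zero_of_π {C : D} (hC : NatFin C) (x : C ⟶ ∐ K)
    (h : ∀ n, x ≫ Sigma.π K n = 0) : x = 0 := by
  classical
  obtain ⟨s, g, hx⟩ := hC K x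
  rw [hx]
  apply Finset.sum_eq_zero
  intro k hk
  have hk' := h k
  rw [hx, Preadditive.sum_comp, Finset.sum_eq_single k] at hk'
  · rw [Category.assoc, Sigma.ι_π_eq_id, Category.comp_id] at hk'
    rw [hk', zero_comp]
  · intro j _ hj
    rw [Category.assoc, Sigma.ι_π_of_ne _ hj, comp_zero]
  · intro h'
    exact absurd hk h'

lemma eq_zero_of_comp_one_sub_shiftMap {C : D} (hC : NatFin C) (x : C ⟶ ∐ K)
    (h : x ≫ (𝟙 _ - DerLim.shiftMap K f) = 0) : x = 0 := by
  have hx : x = x ≫ DerLim.shiftMap K f := by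
    rw [Preadditive.comp_sub, Category.comp_id, sub_eq_zero] at h
    exact h
  apply eq_zero_of_π K hC
  intro n
  induction n with
  | zero => rw [hx, Category.assoc, shiftMap_π_zero, comp_zero]
  | succ n ih => rw [hx, Category.assoc, shiftMap_π_succ, reassoc_of% ih, zero_comp]

lemma sum_range_factor {C L : D} (i : ∀ n, K n ⟶ L) (hi : ∀ n, i n = f n ≫ i (n + 1))
    (x : ∀ n, C ⟶ K n) (N : ℕ) :
    ∃ y : C ⟶ K N, ∑ n ∈ Finset.range (N + 1), x n ≫ i n = y ≫ i N := by
  induction N with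
  | zero => exact ⟨x 0, by simp⟩
  | succ N ih =>
    obtain ⟨y, hy⟩ := ih
    refine ⟨y ≫ f N + x (N + 1), ?_⟩
    rw [Finset.sum_range_succ, hy, Preadditive.add_comp, Category.assoc, ← hi N]

/-- a map from a `NatFin` object to a homotopy colimit factors through a finite stage -/
theorem factor_of_isHocolim {L : D} (i : ∀ n, K n ⟶ L) (hL : DerLim.IsHocolim K f L i)
    {C : D} (hC : NatFin C) (g : C ⟶ L) :
    ∃ (N : ℕ) (y : C ⟶ K N), g = y ≫ i N := by
  classical
  obtain ⟨c, hT⟩ := hL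
  have hi : ∀ n, i n = f n ≫ i (n + 1) := by
    intro n
    have h0 : (𝟙 _ - DerLim.shiftMap K f) ≫ Sigma.desc i = 0 := comp_distTriang_mor_zero₁₂ _ hT
    have := congrArg (Sigma.ι K n ≫ ·) h0
    simp only [DerLim.shiftMap, Preadditive.sub_comp, Category.id_comp, Preadditive.comp_sub,
      colimit.ι_desc, Cofan.mk_pt, Cofan.mk_ι_app, colimit.ι_desc_assoc,
      Discrete.functor_obj_eq_as, Category.assoc, comp_zero, sub_eq_zero] at this
    exact this
  have hgc : g ≫ c = 0 := by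
    let C' := C⟦(-1 : ℤ)⟧
    have hC' : NatFin C' := hC.shift (-1)
    let e : C'⟦(1 : ℤ)⟧ ≅ C := (shiftEquiv D (1 : ℤ)).counitIso.app C
    obtain ⟨x, hx⟩ := (shiftFunctor D (1 : ℤ)).map_surjective (e.hom ≫ g ≫ c)
    have hx0 : x = 0 := by
      apply eq_zero_of_comp_one_sub_shiftMap K f hC'
      apply (shiftFunctor D (1 : ℤ)).map_injective
      have h31 : c ≫ (𝟙 _ - DerLim.shiftMap K f)⟦(1 : ℤ)⟧' = 0 := comp_distTriang_mor_zero₃₁ _ hT
      rw [Functor.map_comp, hx, Functor.map_zero, Category.assoc, Category.assoc, h31,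
        comp_zero, comp_zero]
    rw [hx0, Functor.map_zero] at hx
    have h0 : e.hom ≫ g ≫ c = e.hom ≫ 0 := by rw [← hx, comp_zero]
    exact (cancel_epi e.hom).mp h0
  obtain ⟨g', hg'⟩ : ∃ g' : C ⟶ ∐ K, g = g' ≫ Sigma.desc i :=
    Triangle.coyoneda_exact₃ _ hT g hgc
  obtain ⟨s', a, hg''⟩ := hC K g'
  let N := s'.sup id
  let x : ∀ n, C ⟶ K n := fun n => if n ∈ s' then a n else 0
  obtain ⟨y, hy⟩ := sum_range_factor K f i hi x N
  refine ⟨N, y, ?_⟩
  rw [← hy, hg', hg'', Preadditive.sum_comp]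
  have h1 : ∑ n ∈ s', (a n ≫ Sigma.ι K n) ≫ Sigma.desc i = ∑ n ∈ s', x n ≫ i n := by
    apply Finset.sum_congr rfl
    intro n hn
    simp only [x, if_pos hn, Category.assoc, colimit.ι_desc, Cofan.mk_pt, Cofan.mk_ι_app]
  rw [h1]
  apply Finset.sum_subset
  · intro n hn
    rw [Finset.mem_range, Nat.lt_succ_iff]
    exact Finset.le_sup (f := id) hn
  · intro n _ hn
    simp only [x, if_neg hn, zero_comp]

end Triangulated

section Functor

variable {D : Type u} [Category.{v} D] [Preadditive D] [HasZeroObject D] [HasShift D ℤ]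
  [∀ n : ℤ, (shiftFunctor D n).Additive] [Pretriangulated D] [HasCoproductsOfShape ℕ D]
  (F : ℕ ⥤ D)

/-- the collapsing map `∐ F n ⟶ F M`, zero on the summands beyond `M` -/
noncomputable def collapse (M : ℕ) : (∐ F.obj) ⟶ F.obj M :=
  Sigma.desc (fun k => if h : k ≤ M then F.map (homOfLE h) else 0)

lemma ι_collapse (M k : ℕ) (h : k ≤ M) :
    Sigma.ι F.obj k ≫ collapse F M = F.map (homOfLE h) := by
  unfold collapse
  rw [Sigma.ι_desc, dif_pos h]

lemma ι_one_sub_shiftMap_collapse (M k : ℕ) (h : k < M) :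
    Sigma.ι F.obj k ≫
      (𝟙 _ - DerLim.shiftMap F.obj (fun n => F.map (homOfLE (Nat.le_succ n)))) ≫
        collapse F M = 0 := by
  rw [Preadditive.sub_comp, Preadditive.comp_sub, Category.id_comp, ι_collapse F M k h.le]
  unfold DerLim.shiftMap
  rw [Sigma.ι_desc_assoc, Category.assoc, ι_collapse F M (k + 1) h, ← F.map_comp, sub_eq_zero]
  rfl

/-- a map from a `NatFin` object to a finite stage which dies in the homotopy colimit already
dies at a later finite stage -/
theorem vanish_of_isHocolim {L : D} (i : ∀ n, F.obj n ⟶ L)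
    (hL : DerLim.IsHocolim F.obj (fun n => F.map (homOfLE (Nat.le_succ n))) L i)
    {C : D} (hC : NatFin C) (n : ℕ) (y : C ⟶ F.obj n) (hy : y ≫ i n = 0) :
    ∃ (m : ℕ) (h : n ≤ m), y ≫ F.map (homOfLE h) = 0 := by
  classical
  obtain ⟨c, hT⟩ := hL
  have h0 : (y ≫ Sigma.ι F.obj n) ≫ Sigma.desc i = 0 := by
    rw [Category.assoc, Sigma.ι_desc, hy]
  obtain ⟨z, hz⟩ : ∃ z : C ⟶ ∐ F.obj, y ≫ Sigma.ι F.obj n =
      z ≫ (𝟙 _ - DerLim.shiftMap F.obj (fun n => F.map (homOfLE (Nat.le_succ n)))) :=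
    Triangle.coyoneda_exact₂ _ hT (y ≫ Sigma.ι F.obj n) h0
  obtain ⟨t, g, hg⟩ := hC F.obj z
  let M := max n (t.sup id + 1)
  have hnM : n ≤ M := le_max_left _ _
  refine ⟨M, hnM, ?_⟩
  have h1 : y ≫ F.map (homOfLE hnM) = (y ≫ Sigma.ι F.obj n) ≫ collapse F M := by
    rw [Category.assoc, ι_collapse F M n hnM]
  rw [h1, hz, hg, Category.assoc, Preadditive.sum_comp]
  apply Finset.sum_eq_zero
  intro k hk
  have hkM : k < M := by
    have : k ≤ t.sup id := Finset.le_sup (f := id) hk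
    exact lt_of_lt_of_le (Nat.lt_succ_of_le this) (le_max_right _ _)
  rw [Category.assoc, ι_one_sub_shiftMap_collapse F M k hkM, comp_zero]

end Functor

end Groth.Agent.H89.NatCompact
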