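import Mathlib
import Groth.Agent.S0985
import Groth.Agent.H33.BrownGA.QCoprod
import Groth.Agent.H89.NatCompact

/-!
# Maps from an object commuting with countable sums into a sequential colimit of complexes

For a Grothendieck abelian category `A`, `D(A)` has countable coproducts and `Q` preserves them
(helper33), the termwise colimit of a sequence of complexes is a homotopy colimit (helper5,
S0985), hence maps from a `NatFin` object into it factor through a finite stage.
-/

set_option autoImplicit false
set_option linter.unusedSectionVars false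
universe w v u
open CategoryTheory CategoryTheory.Limits

namespace Groth.Agent.H89.ModHocolim

open Groth.Agent.H89.NatCompact

variable {A : Type u} [Category.{v} A] [Abelian A] [IsGrothendieckAbelian.{v} A]
  [HasDerivedCategory.{w} A]

lemma hasCoproductsOfShape_derivedCategory (J : Type v) :
    HasCoproductsOfShape J (DerivedCategory A) := by
  have := Groth.Agent.H33.BrownGA.hasCoproductsOfShape_homotopyCategory (A := A) J
  exact Groth.Agent.H33.LocCoprod.hasCoproductsOfShape
    (HomotopyCategory.subcategoryAcyclic A) DerivedCategory.Qh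
    (fun C hC => Groth.Agent.H33.BrownGA.acyclic_coprod_closed C hC)

lemma hasCoproductsOfShape_nat : HasCoproductsOfShape ℕ (DerivedCategory A) := by
  have := hasCoproductsOfShape_derivedCategory (A := A) (ULift.{v} ℕ)
  exact hasColimitsOfShape_of_equivalence
    (Discrete.equivalence (Equiv.ulift.{v, 0} : ULift.{v} ℕ ≃ ℕ))

lemma hasCoproductsOfShape_ulift_nat :
    HasCoproductsOfShape (ULift.{w} ℕ) (DerivedCategory A) := by
  have := hasCoproductsOfShape_nat (A := A)
  exact hasColimitsOfShape_of_equivalence
    (Discrete.equivalence (Equiv.ulift.{w, 0} : ULift.{w} ℕ ≃ ℕ).symm)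

lemma preservesColimit_Q {J : Type v} (K : J → CochainComplex A ℤ) :
    PreservesColimit (Discrete.functor K) (DerivedCategory.Q (C := A)) :=
  preservesColimit_of_preserves_colimit_cocone (coproductIsCoproduct K)
    ((isColimitMapCoconeCofanMkEquiv _ _ _).symm (Groth.Agent.H33.BrownGA.isColimitQ K))

lemma preservesColimitsOfShape_Q (J : Type v) :
    PreservesColimitsOfShape (Discrete J) (DerivedCategory.Q (C := A)) := by
  have : ∀ K : J → CochainComplex A ℤ,
      PreservesColimit (Discrete.functor K) (DerivedCategory.Q (C := A)) := preservesColimit_Q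
  exact preservesColimitsOfShape_of_discrete _

lemma preservesColimitsOfShape_Q_nat :
    PreservesColimitsOfShape (Discrete ℕ) (DerivedCategory.Q (C := A)) := by
  have := preservesColimitsOfShape_Q (A := A) (ULift.{v} ℕ)
  exact preservesColimitsOfShape_of_equiv
    (Discrete.equivalence (Equiv.ulift.{v, 0} : ULift.{v} ℕ ≃ ℕ)) _

/-- maps from a `NatFin` object of `D(A)` into a termwise colimit of a sequence of complexes -/
theorem hom_colimit_of_natFin [HasColimitsOfShape ℕ A] [HasExactColimitsOfShape ℕ A]
    [HasCoproductsOfShape ℕ (DerivedCategory A)]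
    (K : DerivedCategory A) (hK : NatFin K) (L : ℕ ⥤ CochainComplex A ℤ) (c : Cocone L)
    (hc : IsColimit c) :
    (∀ x : K ⟶ DerivedCategory.Q.obj c.pt, ∃ (n : ℕ) (y : K ⟶ DerivedCategory.Q.obj (L.obj n)),
        y ≫ DerivedCategory.Q.map (c.ι.app n) = x) ∧
      (∀ (n : ℕ) (y : K ⟶ DerivedCategory.Q.obj (L.obj n)),
        y ≫ DerivedCategory.Q.map (c.ι.app n) = 0 →
        ∃ (m : ℕ) (h : n ≤ m), y ≫ DerivedCategory.Q.map (L.map (homOfLE h)) = 0) := by
  have := preservesColimitsOfShape_Q_nat (A := A)
  have hH := Groth.Agent.S0985.result L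
  let F : ℕ ⥤ DerivedCategory A := L ⋙ DerivedCategory.Q
  have hH' : DerLim.IsHocolim F.obj (fun n => F.map (homOfLE (Nat.le_succ n)))
      (DerivedCategory.Q.obj (colimit L)) (fun n => DerivedCategory.Q.map (colimit.ι L n)) := hH
  let e : colimit L ≅ c.pt := (colimit.isColimit L).coconePointUniqueUpToIso hc
  have he : ∀ n, colimit.ι L n ≫ e.hom = c.ι.app n := fun n =>
    (colimit.isColimit L).comp_coconePointUniqueUpToIso_hom hc n
  have he' : ∀ n, c.ι.app n ≫ e.inv = colimit.ι L n := fun n =>
    (colimit.isColimit L).comp_coconePointUniqueUpToIso_inv hc n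
  constructor
  · intro x
    obtain ⟨N, y, hy⟩ := factor_of_isHocolim F.obj _ _ hH' hK (x ≫ DerivedCategory.Q.map e.inv)
    refine ⟨N, y, ?_⟩
    rw [← he N, Functor.map_comp, ← Category.assoc, ← hy, Category.assoc, ← Functor.map_comp,
      e.inv_hom_id, CategoryTheory.Functor.map_id, Category.comp_id]
  · intro n y hy
    have hy' : y ≫ DerivedCategory.Q.map (colimit.ι L n) = 0 := by
      rw [← he' n, Functor.map_comp, ← Category.assoc, hy, zero_comp]
    exact vanish_of_isHocolim F _ hH' hK n y hy'

end Groth.Agent.H89.ModHocolim
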