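import Mathlib
import Groth.Prelude.Def_CohDer

/-!
# Small-compact objects (helper89)

`SC.{t} K`: every map from `K` to a coproduct indexed by a type of universe `t` (whenever that coproduct exists)
is a finite sum of maps through the summands.  No global existence of coproducts is assumed.  Closure under
retracts, shifts, extensions; comparison with bijectivity of `CohDer.homSumToHomCoprod`; reindexing.
(Port of helper5's `H5/Compact.lean` to the setting without `HasCoproducts`.)
-/

set_option autoImplicit false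
set_option linter.unusedSectionVars false

universe t t' v u

open CategoryTheory CategoryTheory.Limits Pretriangulated ZeroObject

namespace Groth.Agent.H89.SmallCompact

section Basic

variable {D : Type u} [Category.{v} D] [Preadditive D]

/-- a morphism into a coproduct is a finite sum of morphisms into the summands -/
def FinDecomp {K : D} {ι : Type t} {X : ι → D} [HasCoproduct X] (f : K ⟶ ∐ X) : Prop :=
  ∃ (s : Finset ι) (g : ∀ i, K ⟶ X i), f = ∑ i ∈ s, g i ≫ Sigma.ι X i

/-- small-compactness with respect to coproducts indexed by types in universe `t` -/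
def SC (K : D) : Prop :=
  ∀ (ι : Type t) (X : ι → D) [HasCoproduct X] (f : K ⟶ ∐ X), FinDecomp f

lemma homSum_of (K : D) {ι : Type v} (X : ι → D) [HasCoproduct X] [DecidableEq ι] (i : ι)
    (y : K ⟶ X i) :
    CohDer.homSumToHomCoprod K X (DirectSum.of _ i y) = y ≫ Sigma.ι X i := by
  unfold CohDer.homSumToHomCoprod
  erw [DirectSum.toAddMonoid_of]
  rfl

lemma homSum_π (K : D) {ι : Type v} (X : ι → D) [HasCoproduct X] [DecidableEq ι]
    (x : DirectSum ι (fun i => K ⟶ X i)) (i : ι) :
    CohDer.homSumToHomCoprod K X x ≫ Sigma.π X i = x i := by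
  induction x using DirectSum.induction_on with
  | zero => simp
  | of j y =>
    rw [homSum_of, Category.assoc]
    by_cases h : j = i
    · subst h
      rw [Sigma.ι_π_eq_id, Category.comp_id, DirectSum.of_eq_same]
    · rw [Sigma.ι_π_of_ne _ h, comp_zero, DirectSum.of_eq_of_ne _ _ _ (Ne.symm h)]
  | add x y hx hy =>
    rw [map_add, Preadditive.add_comp, hx, hy]
    rfl

lemma bijective_iff (K : D) {ι : Type v} (X : ι → D) [HasCoproduct X] :
    Function.Bijective (CohDer.homSumToHomCoprod K X) ↔ ∀ f : K ⟶ ∐ X, FinDecomp f := by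
  classical
  constructor
  · intro h f
    obtain ⟨x, hx⟩ := h.2 f
    refine ⟨DFinsupp.support x, fun i => x i, ?_⟩
    rw [← hx]
    conv_lhs => rw [← DirectSum.sum_support_of x]
    rw [map_sum]
    apply Finset.sum_congr rfl
    intro i _
    rw [homSum_of]
  · intro h
    constructor
    · rw [injective_iff_map_eq_zero]
      intro x hx
      ext i
      rw [← homSum_π K X x i, hx, zero_comp]
      rfl
    · intro f
      obtain ⟨s, g, rfl⟩ := h f
      refine ⟨∑ i ∈ s, DirectSum.of _ i (g i), ?_⟩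
      rw [map_sum]
      apply Finset.sum_congr rfl
      intro i _
      rw [homSum_of]

/-- uniqueness of the components -/
lemma comp_eq_zero_of_sum_eq_zero {K : D} {ι : Type t} {X : ι → D} [HasCoproduct X]
    (s : Finset ι) (g : ∀ i, K ⟶ X i) (h : ∑ i ∈ s, g i ≫ Sigma.ι X i = 0) (i : ι)
    (hi : i ∈ s) : g i = 0 := by
  classical
  have := congrArg (· ≫ Sigma.π X i) h
  simp only [Preadditive.sum_comp, Category.assoc, zero_comp] at this
  rw [Finset.sum_eq_single i] at this
  · simpa using this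
  · intro j _ hj
    rw [Sigma.ι_π_of_ne _ hj, comp_zero]
  · intro h'
    exact absurd hi h'

/-- transfer of finite decomposability along a reindexing and isomorphisms of the summands -/
lemma finDecomp_whisker {K : D} {J : Type t} {J' : Type t'} {f : J → D} {g : J' → D}
    (e : J ≃ J') (w : ∀ j, g (e j) ≅ f j) [HasCoproduct f] [HasCoproduct g]
    (h : ∀ φ : K ⟶ ∐ g, FinDecomp φ) (φ : K ⟶ ∐ f) : FinDecomp φ := by
  classical
  let W := Sigma.whiskerEquiv e w
  obtain ⟨s', g', hg'⟩ := h (φ ≫ W.hom)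
  refine ⟨s'.map e.symm.toEmbedding, fun j => g' (e j) ≫ (w j).hom, ?_⟩
  have h1 : φ = (φ ≫ W.hom) ≫ W.inv := by rw [Category.assoc, W.hom_inv_id, Category.comp_id]
  rw [h1, hg', Preadditive.sum_comp, Finset.sum_map]
  apply Finset.sum_congr rfl
  intro j' _
  have h2 : Sigma.ι f (e.symm j') ≫ W.hom =
      (w (e.symm j')).inv ≫ Sigma.ι g (e (e.symm j')) := by
    simp [W]
  have h3 : Sigma.ι f (e.symm j') = ((w (e.symm j')).inv ≫ Sigma.ι g (e (e.symm j'))) ≫ W.inv := by
    rw [← h2, Category.assoc, W.hom_inv_id, Category.comp_id]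
  simp only [Equiv.coe_toEmbedding]
  rw [h3]
  simp only [Category.assoc, Iso.hom_inv_id_assoc]
  have h4 : ∀ (k : J') (hk : k = j'),
      g' j' ≫ Sigma.ι g j' ≫ W.inv = g' k ≫ Sigma.ι g k ≫ W.inv := by
    intro k hk
    subst hk
    rfl
  exact h4 _ (e.apply_symm_apply j')

lemma sc_of_retract {K K' : D} (i : K ⟶ K') (r : K' ⟶ K) (hir : i ≫ r = 𝟙 K)
    (hK' : SC.{t} K') : SC.{t} K := by
  intro ι X _ f
  obtain ⟨s, g, hg⟩ := hK' ι X (r ≫ f)
  refine ⟨s, fun j => i ≫ g j, ?_⟩
  have : f = i ≫ r ≫ f := by rw [← Category.assoc, hir, Category.id_comp]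
  rw [this, hg, Preadditive.comp_sum]
  apply Finset.sum_congr rfl
  intro j _
  rw [Category.assoc]

lemma sc_of_iso {K K' : D} (e : K ≅ K') (hK' : SC.{t} K') : SC.{t} K :=
  sc_of_retract e.hom e.inv e.hom_inv_id hK'

lemma sc_of_isZero {K : D} (hK : IsZero K) : SC.{t} K := by
  intro ι X _ f
  exact ⟨∅, fun i => 0, by rw [Finset.sum_empty]; exact hK.eq_of_src _ _⟩

end Basic

section Triangulated

variable {D : Type u} [Category.{v} D] [Preadditive D] [HasZeroObject D] [HasShift D ℤ]
  [∀ n : ℤ, (shiftFunctor D n).Additive] [Pretriangulated D]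

lemma hasCoproduct_shift {ι : Type t} (X : ι → D) [HasCoproduct X] (n : ℤ) :
    HasCoproduct (fun i => (X i)⟦n⟧) :=
  ⟨⟨⟨_, isColimitCofanMkObjOfIsColimit (shiftFunctor D n) X _ (coproductIsCoproduct X)⟩⟩⟩

lemma sc_shift {K : D} (hK : SC.{t} K) (n : ℤ) : SC.{t} (K⟦n⟧) := by
  intro ι X _ f
  let adj : shiftFunctor D n ⊣ shiftFunctor D (-n) := (shiftEquiv D n).toAdjunction
  have := hasCoproduct_shift X (-n)
  let c := PreservesCoproduct.iso (shiftFunctor D (-n)) X
  obtain ⟨s, g, hg⟩ := hK ι (fun i => (X i)⟦-n⟧) (adj.homEquiv _ _ f ≫ c.hom)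
  refine ⟨s, fun i => (adj.homEquiv _ _).symm (g i), ?_⟩
  apply (adj.homEquiv _ _).injective
  have h1 : adj.homEquiv _ _ f = ∑ i ∈ s, g i ≫ (Sigma.ι X i)⟦-n⟧' := by
    have : adj.homEquiv _ _ f = (adj.homEquiv _ _ f ≫ c.hom) ≫ c.inv := by
      rw [Category.assoc, c.hom_inv_id, Category.comp_id]
    rw [this, hg, Preadditive.sum_comp]
    apply Finset.sum_congr rfl
    intro i _
    rw [Category.assoc, PreservesCoproduct.inv_hom, ι_comp_sigmaComparison]
  rw [h1, adj.homEquiv_unit, Functor.map_sum, Preadditive.comp_sum]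
  apply Finset.sum_congr rfl
  intro i _
  rw [← adj.homEquiv_unit, adj.homEquiv_naturality_right, Equiv.apply_symm_apply]

lemma exists_extend (T : Triangle D) (hT : T ∈ distTriang D) :
    ∃ (W : D) (w : W ⟶ T.obj₁), w ≫ T.mor₁ = 0 ∧
      ∀ {Y : D} (a : T.obj₁ ⟶ Y), w ≫ a = 0 → ∃ b : T.obj₂ ⟶ Y, a = T.mor₁ ≫ b :=
  ⟨T.invRotate.obj₁, T.invRotate.mor₁,
    comp_distTriang_mor_zero₁₂ _ (inv_rot_of_distTriang _ hT),
    fun a ha => Triangle.yoneda_exact₂ _ (inv_rot_of_distTriang _ hT) a ha⟩

lemma sc_ext₂ (T : Triangle D) (hT : T ∈ distTriang D)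
    (h₁ : SC.{t} T.obj₁) (h₃ : SC.{t} T.obj₃) : SC.{t} T.obj₂ := by
  intro ι X _ f
  obtain ⟨s, a, ha⟩ := h₁ ι X (T.mor₁ ≫ f)
  obtain ⟨W, w, hw, hex⟩ := exists_extend T hT
  have hb : ∀ i, ∃ b : T.obj₂ ⟶ X i, i ∈ s → a i = T.mor₁ ≫ b := by
    intro i
    by_cases hi : i ∈ s
    · have h0 : w ≫ a i = 0 := by
        apply comp_eq_zero_of_sum_eq_zero s (fun i => w ≫ a i) _ i hi
        have : ∑ i ∈ s, (w ≫ a i) ≫ Sigma.ι X i = w ≫ T.mor₁ ≫ f := by
          rw [ha, Preadditive.comp_sum]
          apply Finset.sum_congr rfl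
          intro i _
          rw [Category.assoc]
        rw [this, reassoc_of% hw, zero_comp]
      obtain ⟨b, hb⟩ := hex (a i) h0
      exact ⟨b, fun _ => hb⟩
    · exact ⟨0, fun h => absurd h hi⟩
  choose b hb using hb
  have h0 : T.mor₁ ≫ (f - ∑ i ∈ s, b i ≫ Sigma.ι X i) = 0 := by
    rw [Preadditive.comp_sub, ha, sub_eq_zero, Preadditive.comp_sum]
    apply Finset.sum_congr rfl
    intro i hi
    rw [hb i hi, Category.assoc]
  obtain ⟨e, he⟩ := Triangle.yoneda_exact₂ _ hT _ h0
  obtain ⟨s', e', he'⟩ := h₃ ι X e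
  classical
  refine ⟨s ∪ s', fun i => (if i ∈ s then b i else 0) + (if i ∈ s' then T.mor₂ ≫ e' i else 0), ?_⟩
  have hf : f = ∑ i ∈ s, b i ≫ Sigma.ι X i + T.mor₂ ≫ e := by
    rw [← he]; abel
  rw [hf, he', Preadditive.comp_sum]
  simp only [Preadditive.add_comp, Finset.sum_add_distrib]
  congr 1
  · rw [← Finset.sum_subset (Finset.subset_union_left (s₂ := s'))]
    · apply Finset.sum_congr rfl
      intro i hi
      rw [if_pos hi]
    · intro i _ hi
      rw [if_neg hi, zero_comp]
  · rw [← Finset.sum_subset (Finset.subset_union_right (s₁ := s))]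
    · apply Finset.sum_congr rfl
      intro i hi
      rw [if_pos hi, Category.assoc]
    · intro i _ hi
      rw [if_neg hi, zero_comp]

/-- the cone of a morphism between small-compact objects is small-compact -/
lemma sc_ext₃ (T : Triangle D) (hT : T ∈ distTriang D)
    (h₁ : SC.{t} T.obj₁) (h₂ : SC.{t} T.obj₂) : SC.{t} T.obj₃ :=
  sc_ext₂ T.rotate (rot_of_distTriang _ hT) h₂ (sc_shift h₁ 1)

end Triangulated

section Bridge

universe w

variable {D : Type w} [Category.{u + 1} D] [Preadditive D]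

/-- the form of compactness used in the statements (families indexed by `ULift` of a small type) is
small-compactness -/
lemma stCompact_iff_sc (K : D) :
    (∀ (I : Type u) (E : I → D) [HasCoproduct fun i : ULift.{u + 1} I => E i.down],
      Function.Bijective (CohDer.homSumToHomCoprod K (fun i : ULift.{u + 1} I => E i.down))) ↔
      SC.{u} K := by
  constructor
  · intro h ι X _ f
    have : HasCoproduct (fun i : ULift.{u + 1} ι => X i.down) :=
      hasCoproduct_of_equiv_of_iso X _ Equiv.ulift (fun _ => Iso.refl _)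
    have h1 := (bijective_iff K (fun i : ULift.{u + 1} ι => X i.down)).1 (h ι X)
    exact finDecomp_whisker (f := X) (g := fun i : ULift.{u + 1} ι => X i.down)
      (Equiv.ulift.{u + 1, u}.symm) (fun _ => Iso.refl _) h1 f
  · intro h I E _
    rw [bijective_iff]
    intro φ
    have : HasCoproduct E :=
      hasCoproduct_of_equiv_of_iso (fun i : ULift.{u + 1} I => E i.down) E
        Equiv.ulift.{u + 1, u}.symm (fun _ => Iso.refl _)
    exact finDecomp_whisker (f := fun i : ULift.{u + 1} I => E i.down) (g := E)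
      (Equiv.ulift.{u + 1, u}) (fun _ => Iso.refl _) (h I E) φ

/-- small-compactness gives the sequential form of compactness used in `S7014` -/
lemma natForm_of_sc {K : D} (h : SC.{u} K) (E : ℕ → D)
    [HasCoproduct fun i : ULift.{u + 1} ℕ => E i.down] :
    Function.Bijective (CohDer.homSumToHomCoprod K (fun i : ULift.{u + 1} ℕ => E i.down)) := by
  rw [bijective_iff]
  intro φ
  have : HasCoproduct (fun i : ULift.{u} ℕ => E i.down) :=
    hasCoproduct_of_equiv_of_iso (fun i : ULift.{u + 1} ℕ => E i.down) _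
      (Equiv.ulift.{u, 0}.trans Equiv.ulift.{u + 1, 0}.symm) (fun _ => Iso.refl _)
  exact finDecomp_whisker (f := fun i : ULift.{u + 1} ℕ => E i.down)
    (g := fun i : ULift.{u} ℕ => E i.down)
    (Equiv.ulift.{u + 1, 0}.trans Equiv.ulift.{u, 0}.symm) (fun _ => Iso.refl _)
    (h (ULift.{u} ℕ) (fun i => E i.down)) φ

end Bridge

end Groth.Agent.H89.SmallCompact
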