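import Mathlib
import Groth.Agent.H89.SmallCompact
import Groth.Agent.H89.ModHocolim
import Groth.Agent.H35.DerHom
import Groth.Agent.H35.PerfectBounded
import Groth.Agent.S7010

/-!
# Perfect objects of `D(R)` are compact (helper89)

`sc_unit`: `R[0]` is small-compact; `sc_of_isPerfect`: perfect ⇒ small-compact (via the induction principle S7010).
-/

set_option autoImplicit false
set_option linter.unusedSectionVars false
universe u
open CategoryTheory CategoryTheory.Limits HomologicalComplex

attribute [local instance] HasDerivedCategory.standard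

namespace Groth.Agent.H89.CompactPerfect

open Groth.Agent.H89.SmallCompact

variable {R : Type u} [CommRing R]

section Span

variable {ι : Type u} (C : ι → DRing.Cx R)

/-- every element of a term of a coproduct of complexes is a finite sum of elements of the summands -/
lemma exists_finset_sum (n : ℤ) (z : ((∐ C).X n : Type u)) :
    ∃ (s : Finset ι) (y : ∀ i, ((C i).X n : Type u)),
      z = ∑ i ∈ s, ((Sigma.ι C i).f n).hom (y i) := by
  classical
  let N : Submodule R ((∐ C).X n) := ⨆ i, LinearMap.range ((Sigma.ι C i).f n).hom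
  have hN : N = ⊤ := by
    let q : (∐ C).X n ⟶ ModuleCat.of R (((∐ C).X n) ⧸ N) := ModuleCat.ofHom N.mkQ
    have hc := isColimitOfPreserves (HomologicalComplex.eval (ModuleCat.{u} R) (ComplexShape.up ℤ) n)
      (coproductIsCoproduct C)
    have hq : q = 0 := by
      refine hc.hom_ext (fun ⟨i⟩ => ?_)
      change (Sigma.ι C i).f n ≫ q = (Sigma.ι C i).f n ≫ 0
      rw [comp_zero]
      apply ModuleCat.hom_ext
      apply LinearMap.ext
      intro y
      change N.mkQ (((Sigma.ι C i).f n).hom y) = 0
      rw [Submodule.mkQ_apply, Submodule.Quotient.mk_eq_zero]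
      exact Submodule.mem_iSup_of_mem i ⟨y, rfl⟩
    rw [← Submodule.ker_mkQ N]
    have : N.mkQ = 0 := by
      have := congrArg ModuleCat.Hom.hom hq
      simpa [q] using this
    rw [this, LinearMap.ker_zero]
  have hz : z ∈ N := hN ▸ Submodule.mem_top
  obtain ⟨f, hf, rfl⟩ := (Submodule.mem_iSup_iff_exists_finsupp _ _).mp hz
  choose y hy using hf
  refine ⟨f.support, y, ?_⟩
  rw [Finsupp.sum]
  apply Finset.sum_congr rfl
  intro i _
  exact (hy i).symm

lemma sum_ι_π_apply [DecidableEq ι] (n : ℤ) (s : Finset ι) (y : ∀ i, ((C i).X n : Type u)) (j : ι)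
    (hj : j ∈ s) :
    ((Sigma.π C j).f n).hom (∑ i ∈ s, ((Sigma.ι C i).f n).hom (y i)) = y j := by
  rw [map_sum, Finset.sum_eq_single j]
  · have h : (Sigma.ι C j).f n ≫ (Sigma.π C j).f n = 𝟙 _ := by
      rw [← HomologicalComplex.comp_f, Sigma.ι_π_eq_id, HomologicalComplex.id_f]
    exact congrArg (fun φ => φ.hom (y j)) h
  · intro i _ hij
    have h : (Sigma.ι C i).f n ≫ (Sigma.π C j).f n = 0 := by
      rw [← HomologicalComplex.comp_f, Sigma.ι_π_of_ne C hij, HomologicalComplex.zero_f]
    exact congrArg (fun φ => φ.hom (y i)) h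
  · intro h
    exact absurd hj h

/-- every element of a term of a coproduct of complexes is the finite sum of its components -/
lemma exists_finset_sum_proj [DecidableEq ι] (n : ℤ) (z : ((∐ C).X n : Type u)) :
    ∃ s : Finset ι, z = ∑ i ∈ s, ((Sigma.ι C i).f n).hom (((Sigma.π C i).f n).hom z) := by
  obtain ⟨s, y, rfl⟩ := exists_finset_sum C n z
  refine ⟨s, ?_⟩
  apply Finset.sum_congr rfl
  intro j hj
  rw [sum_ι_π_apply C n s y j hj]

/-- a chain map from `R` placed in one degree to a coproduct of complexes is a finite sum of its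
components -/
lemma single_hom_decomp [DecidableEq ι] (p : ℤ)
    (g : (HomologicalComplex.single (ModuleCat.{u} R) (ComplexShape.up ℤ) p).obj (ModuleCat.of R R) ⟶
      ∐ C) :
    ∃ s : Finset ι, g = ∑ i ∈ s, (g ≫ Sigma.π C i) ≫ Sigma.ι C i := by
  let gen : (((HomologicalComplex.single (ModuleCat.{u} R) (ComplexShape.up ℤ) p).obj
      (ModuleCat.of R R)).X p : Type u) :=
    (singleObjXSelf (ComplexShape.up ℤ) p (ModuleCat.of R R)).inv.hom (1 : R)
  obtain ⟨s, hs⟩ := exists_finset_sum_proj C p ((g.f p).hom gen)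
  refine ⟨s, ?_⟩
  apply HomologicalComplex.from_single_hom_ext
  rw [← cancel_epi (singleObjXSelf (ComplexShape.up ℤ) p (ModuleCat.of R R)).inv]
  apply ModuleCat.hom_ext
  apply LinearMap.ext_ring
  refine hs.trans ?_
  have h1 : (∑ x ∈ s, (g ≫ Sigma.π C x) ≫ Sigma.ι C x).f p =
      ∑ x ∈ s, g.f p ≫ (Sigma.π C x).f p ≫ (Sigma.ι C x).f p := by
    rw [← HomologicalComplex.Hom.fAddMonoidHom_apply, map_sum]
    apply Finset.sum_congr rfl
    intro x _
    simp
  rw [h1, ModuleCat.hom_comp, LinearMap.comp_apply, ModuleCat.hom_sum, LinearMap.sum_apply]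
  rfl

end Span

section Unit

open DerivedCategory

instance projective_unit : Projective (ModuleCat.of R R) :=
  (IsProjective.iff_projective (R := R) (P := (ModuleCat.of R R : ModuleCat.{u} R))).mp
    (inferInstanceAs (Module.Projective R R))

/-- `R[0]` is small-compact in `D(R)`. -/
theorem sc_Q_single :
    SC.{u} (Q.obj ((HomologicalComplex.single (ModuleCat.{u} R) (ComplexShape.up ℤ) 0).obj
      (ModuleCat.of R R))) := by
  classical
  intro ι X _ f
  let S : DRing.Cx R :=
    (HomologicalComplex.single (ModuleCat.{u} R) (ComplexShape.up ℤ) 0).obj (ModuleCat.of R R)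
  let C : ι → DRing.Cx R := fun i => Q.objPreimage (X i)
  let a : ∀ i, Q.obj (C i) ≅ X i := fun i => Q.objObjPreimageIso (X i)
  have hpres : PreservesColimit (Discrete.functor C) (Q (C := ModuleCat.{u} R)) :=
    Groth.Agent.H89.ModHocolim.preservesColimit_Q C
  have hcop : HasCoproduct (fun i => Q.obj (C i)) :=
    ⟨⟨⟨_, isColimitCofanMkObjOfIsColimit Q C _ (coproductIsCoproduct C)⟩⟩⟩
  refine finDecomp_whisker (f := X) (g := fun i => Q.obj (C i)) (Equiv.refl ι) a ?_ f
  intro φ
  let c := PreservesCoproduct.iso (Q (C := ModuleCat.{u} R)) C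
  have hS : S.IsKProjective := Groth.Agent.H35.single_isKProjective (ModuleCat.of R R)
  obtain ⟨g, hg⟩ := Groth.Agent.H35.Q_map_surjective_of_isKProjective (K := S) (∐ C) (φ ≫ c.inv)
  obtain ⟨s, hs⟩ := single_hom_decomp C 0 g
  refine ⟨s, fun i => Q.map (g ≫ Sigma.π C i), ?_⟩
  have h1 : φ = Q.map g ≫ c.hom := by
    rw [hg, Category.assoc, c.inv_hom_id, Category.comp_id]
  have h2 : ∀ i, Q.map (Sigma.ι C i) ≫ c.hom = Sigma.ι (fun i => Q.obj (C i)) i := by
    intro i
    have := ι_comp_sigmaComparison (Q (C := ModuleCat.{u} R)) C i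
    rw [← this, Category.assoc]
    have hc : sigmaComparison (Q (C := ModuleCat.{u} R)) C ≫ c.hom = 𝟙 _ := by
      rw [← PreservesCoproduct.inv_hom]
      exact c.inv_hom_id
    rw [hc, Category.comp_id]
  rw [h1]
  conv_lhs => rw [hs]
  rw [CategoryTheory.Functor.map_sum, Preadditive.sum_comp]
  apply Finset.sum_congr rfl
  intro i _
  rw [Functor.map_comp, Category.assoc, h2]

theorem sc_unit : SC.{u} (Dual.inD R R) := sc_Q_single

end Unit

section PerfectCompact

open Pretriangulated

/-- perfect objects of `D(R)` are small-compact -/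
theorem sc_of_isPerfect (K : Dual.D R) (hK : DRing.IsPerfect R K) : SC.{u} K := by
  let P : ObjectProperty (Dual.D R) := fun K => SC.{u} K
  have : P.IsClosedUnderIsomorphisms := ⟨fun e h => sc_of_iso e.symm h⟩
  refine Groth.Agent.S7010.result R P sc_unit (fun K n h => sc_shift h n)
    (fun T hT h₁ h₃ => sc_ext₂ T hT h₁ h₃) (fun X Y _ h => ?_) K hK
  exact sc_of_retract (biprod.inl : X ⟶ X ⊞ Y) biprod.fst biprod.inl_fst h

end PerfectCompact

end Groth.Agent.H89.CompactPerfect
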