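import Mathlib
import Groth.Agent.H77.FPLim

/-!
# Exactness after tensoring: from finitely presented modules to all modules

If `A₁ → A₂ → A₃` (composite zero) stays exact after tensoring with every finitely presented
module, then it stays exact after tensoring with every module (tensor products and exactness
commute with direct limits; every module is a direct limit of finitely presented ones, helper77).
-/

set_option autoImplicit false
set_option linter.unusedSectionVars false
universe u

open TensorProduct

namespace Groth.Agent.H89.PureExact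

variable {R : Type u} [CommRing R]

section DL

variable {ι : Type u} [DecidableEq ι] [Preorder ι] [IsDirected ι (· ≤ ·)] [Nonempty ι]
  {G : ι → Type u} [∀ i, AddCommGroup (G i)] [∀ i, Module R (G i)]
  (f : ∀ i j, i ≤ j → G i →ₗ[R] G j) [DirectedSystem G fun i j h => f i j h]

/-- the map `X ⊗ G i → X ⊗ lim G` -/
noncomputable abbrev phi (X : Type u) [AddCommGroup X] [Module R X] (i : ι) :
    X ⊗[R] G i →ₗ[R] X ⊗[R] Module.DirectLimit G f :=
  (Module.DirectLimit.of R ι G f i).lTensor X

lemma directLimitRight_phi (X : Type u) [AddCommGroup X] [Module R X] (i : ι) (y : X ⊗[R] G i) :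
    TensorProduct.directLimitRight f X (phi f X i y) =
      Module.DirectLimit.of R ι (fun i => X ⊗[R] G i) (fun i j h => (f i j h).lTensor X) i y := by
  induction y using TensorProduct.induction_on with
  | zero => simp
  | tmul x g => simp [phi]
  | add a b ha hb => simp only [map_add, ha, hb]

lemma exists_phi (X : Type u) [AddCommGroup X] [Module R X]
    (z : X ⊗[R] Module.DirectLimit G f) : ∃ i x, phi f X i x = z := by
  obtain ⟨i, x, hx⟩ := Module.DirectLimit.exists_of (TensorProduct.directLimitRight f X z)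
  refine ⟨i, x, ?_⟩
  apply (TensorProduct.directLimitRight f X).injective
  rw [directLimitRight_phi, hx]

lemma phi_eq_zero (X : Type u) [AddCommGroup X] [Module R X] (i : ι) (y : X ⊗[R] G i)
    (hy : phi f X i y = 0) : ∃ j, ∃ hij : i ≤ j, (f i j hij).lTensor X y = 0 := by
  have h := directLimitRight_phi f X i y
  rw [hy, map_zero] at h
  exact Module.DirectLimit.of.zero_exact h.symm

lemma phi_comp (X : Type u) [AddCommGroup X] [Module R X] (i j : ι) (hij : i ≤ j)
    (y : X ⊗[R] G i) : phi f X j ((f i j hij).lTensor X y) = phi f X i y := by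
  unfold phi
  rw [← LinearMap.comp_apply, ← LinearMap.lTensor_comp]
  congr 2
  ext x
  exact Module.DirectLimit.of_f

variable {A₁ A₂ A₃ : Type u} [AddCommGroup A₁] [Module R A₁] [AddCommGroup A₂] [Module R A₂]
  [AddCommGroup A₃] [Module R A₃] (a : A₁ →ₗ[R] A₂) (b : A₂ →ₗ[R] A₃)

include f in
lemma exact_directLimit (hab : b ∘ₗ a = 0)
    (h : ∀ i, Function.Exact (a.rTensor (G i)) (b.rTensor (G i))) :
    Function.Exact (a.rTensor (Module.DirectLimit G f)) (b.rTensor (Module.DirectLimit G f)) := by
  intro z
  constructor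
  · intro hz
    obtain ⟨i, x, rfl⟩ := exists_phi f A₂ z
    have h1 : b.rTensor (Module.DirectLimit G f) (phi f A₂ i x) =
        phi f A₃ i (b.rTensor (G i) x) := by
      unfold phi
      rw [← LinearMap.comp_apply, ← LinearMap.comp_apply, LinearMap.rTensor_comp_lTensor,
        LinearMap.lTensor_comp_rTensor]
    rw [h1] at hz
    obtain ⟨j, hij, hj⟩ := phi_eq_zero f A₃ i _ hz
    have h2 : b.rTensor (G j) ((f i j hij).lTensor A₂ x) = 0 := by
      rw [← hj, ← LinearMap.comp_apply, ← LinearMap.comp_apply, LinearMap.rTensor_comp_lTensor,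
        LinearMap.lTensor_comp_rTensor]
    obtain ⟨w, hw⟩ := (h j _).1 h2
    refine ⟨phi f A₁ j w, ?_⟩
    rw [← phi_comp f A₂ i j hij x, ← hw]
    unfold phi
    rw [← LinearMap.comp_apply, ← LinearMap.comp_apply, LinearMap.rTensor_comp_lTensor,
      LinearMap.lTensor_comp_rTensor]
  · rintro ⟨w, rfl⟩
    rw [← LinearMap.comp_apply, ← LinearMap.rTensor_comp, hab, LinearMap.rTensor_zero,
      LinearMap.zero_apply]

end DL

variable {A₁ A₂ A₃ : Type u} [AddCommGroup A₁] [Module R A₁] [AddCommGroup A₂] [Module R A₂]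
  [AddCommGroup A₃] [Module R A₃] (a : A₁ →ₗ[R] A₂) (b : A₂ →ₗ[R] A₃)

lemma exact_of_equiv {M M' : Type u} [AddCommGroup M] [Module R M] [AddCommGroup M']
    [Module R M'] (e : M' ≃ₗ[R] M)
    (h : Function.Exact (a.rTensor M') (b.rTensor M')) :
    Function.Exact (a.rTensor M) (b.rTensor M) := by
  intro z
  have key : ∀ (X Y : Type u) [AddCommGroup X] [Module R X] [AddCommGroup Y] [Module R Y]
      (c : X →ₗ[R] Y) (t : X ⊗[R] M'),
      c.rTensor M (e.toLinearMap.lTensor X t) = e.toLinearMap.lTensor Y (c.rTensor M' t) := by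
    intro X Y _ _ _ _ c t
    rw [← LinearMap.comp_apply, ← LinearMap.comp_apply, LinearMap.rTensor_comp_lTensor,
      LinearMap.lTensor_comp_rTensor]
  have hsurj : ∀ (X : Type u) [AddCommGroup X] [Module R X] (t : X ⊗[R] M),
      ∃ t' : X ⊗[R] M', e.toLinearMap.lTensor X t' = t := by
    intro X _ _ t
    refine ⟨e.symm.toLinearMap.lTensor X t, ?_⟩
    rw [← LinearMap.comp_apply, ← LinearMap.lTensor_comp]
    simp
  have hinj : ∀ (X : Type u) [AddCommGroup X] [Module R X] (t : X ⊗[R] M'),
      e.toLinearMap.lTensor X t = 0 → t = 0 := by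
    intro X _ _ t ht
    have := congrArg (e.symm.toLinearMap.lTensor X) ht
    rw [← LinearMap.comp_apply, ← LinearMap.lTensor_comp, map_zero] at this
    simpa using this
  obtain ⟨z', rfl⟩ := hsurj A₂ z
  rw [key]
  constructor
  · intro hz
    obtain ⟨w, hw⟩ := (h z').1 (hinj A₃ _ hz)
    exact ⟨e.toLinearMap.lTensor A₁ w, by rw [key, hw]⟩
  · rintro ⟨w, hw⟩
    obtain ⟨w', rfl⟩ := hsurj A₁ w
    rw [key] at hw
    have : a.rTensor M' w' = z' := by
      have h0 := hinj A₂ (a.rTensor M' w' - z') (by rw [map_sub, hw, sub_self])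
      exact sub_eq_zero.mp h0
    rw [(h z').2 ⟨w', this⟩, map_zero]

/-- exactness after tensoring with finitely presented modules implies exactness after tensoring
with all modules -/
theorem exact_rTensor_of_finitePresentation (hab : b ∘ₗ a = 0)
    (h : ∀ (M : Type u) [AddCommGroup M] [Module R M], Module.FinitePresentation R M →
      Function.Exact (a.rTensor M) (b.rTensor M))
    (M : Type u) [AddCommGroup M] [Module R M] :
    Function.Exact (a.rTensor M) (b.rTensor M) := by
  obtain ⟨ι, _, _, _, _, G, _, _, f, _, hfp, ⟨e⟩⟩ := Groth.Agent.H77.FPLim.main28 R M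
  exact exact_of_equiv a b e (exact_directLimit f a b hab (fun i => h (G i) (hfp i)))

end Groth.Agent.H89.PureExact
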