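import Mathlib
import Groth.Agent.H35.KFBounded
import Groth.Agent.H35.KFSymmetry
import Groth.Agent.H45.Resolution.TruncLemmas
import Groth.Agent.H89.PureExact

/-!
# Pure acyclic complexes are K-flat

A complex `K` of `R`-modules such that `K^• ⊗ M` is exact for every module `M` satisfies:
`Tot(K ⊗ L)` is acyclic for EVERY complex `L`.  Route: `L` concentrated in one degree; bounded `L`
by induction along the stupid filtration (helper45/helper35's K-flat libraries); bounded above `L`
as the colimit of its stupid truncations; arbitrary `L` as the colimit of its canonical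
truncations `τ_{≤ n} L`.
-/

set_option autoImplicit false
set_option linter.unusedSectionVars false

open CategoryTheory Limits MonoidalCategory

namespace Groth.Agent.H89.PureAcyclic

universe u

open HomologicalComplex Groth.Agent.H35.KF Groth.Agent.H45

section TruncColimit

universe v' u'

variable {𝒜 : Type u'} [Category.{v'} 𝒜] [Abelian 𝒜] (L : CochainComplex 𝒜 ℤ)

/-- the inclusion `τ_{≤ n} L ⟶ τ_{≤ m} L` for `n ≤ m` -/
noncomputable def truncLEMapLE (n m : ℤ) (h : n ≤ m) : L.truncLE n ⟶ L.truncLE m := by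
  have : (L.truncLE n).IsStrictlyLE m := CochainComplex.isStrictlyLE_of_le _ n m h
  exact inv ((L.truncLE n).ιTruncLE m) ≫ CochainComplex.truncLEMap (L.ιTruncLE n) m

lemma truncLEMapLE_ι (n m : ℤ) (h : n ≤ m) :
    truncLEMapLE L n m h ≫ L.ιTruncLE m = L.ιTruncLE n := by
  have : (L.truncLE n).IsStrictlyLE m := CochainComplex.isStrictlyLE_of_le _ n m h
  unfold truncLEMapLE
  rw [Category.assoc, CochainComplex.ιTruncLE_naturality, IsIso.inv_hom_id_assoc]

/-- the sequence `τ_{≤ 0} L ⟶ τ_{≤ 1} L ⟶ ⋯` -/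
noncomputable def truncLESeq : ℕ ⥤ CochainComplex 𝒜 ℤ :=
  Functor.ofSequence (X := fun k : ℕ => L.truncLE (k : ℤ))
    (fun k => truncLEMapLE L (k : ℤ) ((k + 1 : ℕ) : ℤ) (by lia))

lemma truncLESeq_map_succ (k : ℕ) :
    (truncLESeq L).map (homOfLE (k.le_add_right 1)) =
      truncLEMapLE L (k : ℤ) ((k + 1 : ℕ) : ℤ) (by lia) :=
  Functor.ofSequence_map_homOfLE_succ _ k

/-- the cocone of the canonical truncations with point `L` -/
noncomputable def truncLECocone : Cocone (truncLESeq L) where
  pt := L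
  ι := NatTrans.ofSequence (fun k : ℕ => L.ιTruncLE (k : ℤ)) (fun k =>
    (congrArg (· ≫ L.ιTruncLE ((k + 1 : ℕ) : ℤ)) (truncLESeq_map_succ L k)).trans
      ((truncLEMapLE_ι L (k : ℤ) ((k + 1 : ℕ) : ℤ) (by lia)).trans (Category.comp_id _).symm))

lemma truncLECocone_ι_app (k : ℕ) : (truncLECocone L).ι.app k = L.ιTruncLE (k : ℤ) := rfl

/-- `L` is the colimit of its canonical truncations -/
noncomputable def isColimitTruncLECocone : IsColimit (truncLECocone L) :=
  isColimitOfEval _ _ (fun q => by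
    have hD : (truncLESeq L ⋙ HomologicalComplex.eval _ _ q).IsEventuallyConstantFrom (q + 1).toNat := by
      intro j f
      have hj : (q + 1).toNat ≤ j := leOfHom f
      have h1 : IsIso (((truncLECocone L).ι.app j).f q) :=
        CochainComplex.isIso_ιTruncLE_f L (j : ℤ) q (by lia)
      have h2 : IsIso (((truncLECocone L).ι.app (q + 1).toNat).f q) :=
        CochainComplex.isIso_ιTruncLE_f L ((q + 1).toNat : ℤ) q (by lia)
      have e : ((truncLESeq L).map f).f q ≫ ((truncLECocone L).ι.app j).f q =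
          ((truncLECocone L).ι.app (q + 1).toNat).f q := by
        rw [← HomologicalComplex.comp_f, (truncLECocone L).w]
      exact @IsIso.of_isIso_fac_right _ _ _ _ _ _ _ _ h1 h2 e
    have : IsIso (((HomologicalComplex.eval _ _ q).mapCocone (truncLECocone L)).ι.app (q + 1).toNat) :=
      CochainComplex.isIso_ιTruncLE_f L ((q + 1).toNat : ℤ) q (by lia)
    exact hD.isColimitOfIsIso _)

instance (k : ℕ) : ((truncLESeq L).obj k).IsStrictlyLE (k : ℤ) :=
  inferInstanceAs ((L.truncLE (k : ℤ)).IsStrictlyLE (k : ℤ))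

end TruncColimit

variable {R : Type u} [CommRing R]

/-- `K^• ⊗ M` is exact for every module `M` -/
def IsPureAcyclic (K : CochainComplex (ModuleCat.{u} R) ℤ) : Prop :=
  ∀ (M : ModuleCat.{u} R) (p : ℤ), ((K.sc' (p - 1) p (p + 1)).map (tensorRight M)).Exact

/-- `Tot(K ⊗ L)` is acyclic -/
def TensAcyclic (K L : CochainComplex (ModuleCat.{u} R) ℤ) : Prop :=
  ∀ i : ℤ, IsZero ((K ⊗ L).homology i)

variable {K : CochainComplex (ModuleCat.{u} R) ℤ}

/-- the case of a complex concentrated in one degree -/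
theorem tensAcyclic_of_isZero (hK : IsPureAcyclic K) (L : CochainComplex (ModuleCat.{u} R) ℤ)
    (m : ℤ) (hL : ∀ q, q ≠ m → IsZero (L.X q)) : TensAcyclic K L := by
  intro n
  rw [← exactAt_iff_isZero_homology]
  let T := mapBifunctor K L (curriedTensor (ModuleCat.{u} R)) (ComplexShape.up ℤ)
  change T.ExactAt n
  rw [exactAt_iff' T (n - 1) n (n + 1) (by simp) (by simp)]
  let p := n - m
  let Φ : ModuleCat.{u} R ⥤ ModuleCat.{u} R := tensorRight (L.X m)
  have hπ : ∀ a b : ℤ, a + m = b →
      ComplexShape.π (ComplexShape.up ℤ) (ComplexShape.up ℤ) (ComplexShape.up ℤ) (a, m) = b :=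
    fun a b h => h
  have i₁ := isIso_ιMapBifunctor_of_isZero K L m hL (p - 1) (n - 1) (hπ _ _ (by lia))
  have i₂ := isIso_ιMapBifunctor_of_isZero K L m hL p n (hπ _ _ (by lia))
  have i₃ := isIso_ιMapBifunctor_of_isZero K L m hL (p + 1) (n + 1) (hπ _ _ (by lia))
  have hex : ((K.sc' (p - 1) p (p + 1)).map Φ).Exact := hK (L.X m) p
  refine (ShortComplex.exact_iff_of_iso ?_).1 hex
  refine ShortComplex.isoMk (@asIso _ _ _ _ _ i₁) (@asIso _ _ _ _ _ i₂) (@asIso _ _ _ _ _ i₃) ?_ ?_
  · exact (ι_comp_d_of_isZero K L m hL (p - 1) p (n - 1) n (by lia) _ _)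
  · exact (ι_comp_d_of_isZero K L m hL p (p + 1) n (n + 1) rfl _ _)

/-- extension along a degreewise split short exact sequence -/
theorem tensAcyclic_X₂ (S : ShortComplex (CochainComplex (ModuleCat.{u} R) ℤ))
    (σ : ∀ n, (S.map (HomologicalComplex.eval _ _ n)).Splitting)
    (h₁ : TensAcyclic K S.X₁) (h₃ : TensAcyclic K S.X₃) : TensAcyclic K S.X₂ :=
  acyclic_X₂_of_shortExact _ (shortExact_map_tensorLeft_of_splitting S σ K) h₁ h₃

/-- sequential colimits -/
theorem tensAcyclic_of_isColimit_nat (D : ℕ ⥤ CochainComplex (ModuleCat.{u} R) ℤ)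
    (cc : Cocone D) (hcc : IsColimit cc) (hD : ∀ k, TensAcyclic K (D.obj k)) :
    TensAcyclic K cc.pt := by
  intro i
  rw [← exactAt_iff_isZero_homology]
  exact Groth.Agent.H35.KF.exactAt_of_isColimit (D ⋙ tensorLeft K) _
    (isColimitOfPreserves (tensorLeft K) hcc) i
    (fun k => (exactAt_iff_isZero_homology _ _).2 (hD k i))

/-- the stupid filtration short exact sequence splits degreewise -/
noncomputable def sigmaGESplitting (L : CochainComplex (ModuleCat.{u} R) ℤ) (a q : ℤ) :
    ((sigmaGEShortComplex L a).map (HomologicalComplex.eval _ _ q)).Splitting := by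
  have hS : ((sigmaGEShortComplex L a).map (HomologicalComplex.eval _ _ q)).ShortExact :=
    (sigmaGEShortComplex_shortExact L a).map_of_exact _
  by_cases hq : q = a - 1
  · have h0 : IsZero ((sigmaGEShortComplex L a).map (HomologicalComplex.eval _ _ q)).X₁ := by
      subst hq
      exact isZero_sigmaGE_X L a (a - 1) (by lia)
    exact ShortComplex.Splitting.ofExactOfRetraction _ hS.exact 0 (h0.eq_of_src _ _) hS.epi_g
  · have h0 : IsZero ((sigmaGEShortComplex L a).map (HomologicalComplex.eval _ _ q)).X₃ :=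
      isZero_sigmaGEShortComplex_X₃_X L a q hq
    exact ShortComplex.Splitting.ofExactOfSection _ hS.exact 0 (h0.eq_of_src _ _) hS.mono_f

theorem tensAcyclic_sigmaGE (hK : IsPureAcyclic K) (L : CochainComplex (ModuleCat.{u} R) ℤ)
    (b : ℤ) [L.IsStrictlyLE b] (n : ℕ) : TensAcyclic K (sigmaGE L (b - n)) := by
  induction n with
  | zero =>
    have e : b - ((0 : ℕ) : ℤ) = b := by simp
    rw [e]
    refine tensAcyclic_of_isZero hK _ b (fun q hq => ?_)
    by_cases h : q < b
    · exact isZero_sigmaGE_X L b q h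
    · have hiso' := isIso_ιSigmaGE_f L b q (by lia)
      exact (L.isZero_of_isStrictlyLE b q (by lia)).of_iso (@asIso _ _ _ _ _ hiso')
  | succ n ih =>
    have e : b - ((n + 1 : ℕ) : ℤ) = (b - n) - 1 := by push_cast; ring
    rw [e]
    let S := sigmaGEShortComplex L (b - n)
    have hX₃ : TensAcyclic K S.X₃ :=
      tensAcyclic_of_isZero hK _ ((b - n) - 1)
        (fun q hq => isZero_sigmaGEShortComplex_X₃_X L (b - n) q hq)
    exact tensAcyclic_X₂ S (fun q => sigmaGESplitting L (b - n) q) ih hX₃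

/-- bounded above complexes -/
theorem tensAcyclic_of_isStrictlyLE (hK : IsPureAcyclic K)
    (L : CochainComplex (ModuleCat.{u} R) ℤ) (b : ℤ) [L.IsStrictlyLE b] : TensAcyclic K L :=
  tensAcyclic_of_isColimit_nat (sigmaGESeq L b) (sigmaGECocone L b) (isColimitSigmaGECocone L b)
    (fun n => tensAcyclic_sigmaGE hK L b n)

/-- all complexes -/
theorem tensAcyclic (hK : IsPureAcyclic K) (L : CochainComplex (ModuleCat.{u} R) ℤ) :
    TensAcyclic K L :=
  tensAcyclic_of_isColimit_nat (truncLESeq L) (truncLECocone L) (isColimitTruncLECocone L)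
    (fun k => tensAcyclic_of_isStrictlyLE hK _ (k : ℤ))

/-- a pure acyclic complex is K-flat (in fact `Tot(L ⊗ K)` is acyclic for every `L`) -/
theorem isZero_homology_tensor (hK : IsPureAcyclic K) (L : CochainComplex (ModuleCat.{u} R) ℤ)
    (i : ℤ) : IsZero ((L ⊗ K).homology i) :=
  (tensAcyclic hK L i).of_iso
    ((HomologicalComplex.homologyFunctor _ _ i).mapIso (tensorSwapIso K L).symm)

end Groth.Agent.H89.PureAcyclic
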