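import Mathlib
import Groth.Agent.H89.CompactPerfect
import Groth.Agent.H89.PureAcyclic
import Groth.Agent.H28.PCohPerf2
import Groth.Agent.H35.ProjRes
import Groth.Agent.H35.PerfCx
import Groth.Agent.H45.KFlat.StupidFiltration
import Groth.Agent.S7014

/-!
# Compact objects of `D(R)` are perfect (helper89)

`Fac i`: the morphism `i` factors through a perfect object; `FacPerf X`: every morphism from a small-compact
object to `X` factors through a perfect object.  This class contains perfect objects, is closed under retracts,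
shifts, extensions (`facPerf_ext₂`) and small coproducts of perfect objects, hence contains every bounded
complex of projective modules (`facPerf_sigmaGE`).  A small-compact object is a retract of such a complex
(two applications of `S7014`), hence a retract of a perfect object, hence perfect (`isPerfect_of_sc`).
-/

set_option autoImplicit false
set_option linter.unusedSectionVars false
universe u
open CategoryTheory CategoryTheory.Limits HomologicalComplex Pretriangulated ZeroObject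

attribute [local instance] HasDerivedCategory.standard

namespace Groth.Agent.H89.CompactPerfect2

open Groth.Agent.H89.SmallCompact Groth.Agent.H89.CompactPerfect

variable {R : Type u} [CommRing R]

section Abstract

/-- the morphism factors through a perfect object -/
def Fac {K X : Dual.D R} (i : K ⟶ X) : Prop :=
  ∃ (G : Dual.D R), DRing.IsPerfect R G ∧ ∃ (j : K ⟶ G) (φ : G ⟶ X), j ≫ φ = i

/-- every morphism from a small-compact object factors through a perfect object -/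
def FacPerf (X : Dual.D R) : Prop := ∀ (K : Dual.D R), SC.{u} K → ∀ i : K ⟶ X, Fac i

lemma fac_zero {K X : Dual.D R} : Fac (0 : K ⟶ X) :=
  ⟨0, Groth.Agent.H35.isPerfect_of_isZero R _ (isZero_zero _), 0, 0, by simp⟩

lemma fac_add {K X : Dual.D R} {i₁ i₂ : K ⟶ X} (h₁ : Fac i₁) (h₂ : Fac i₂) : Fac (i₁ + i₂) := by
  obtain ⟨G₁, hG₁, j₁, φ₁, rfl⟩ := h₁
  obtain ⟨G₂, hG₂, j₂, φ₂, rfl⟩ := h₂
  exact ⟨G₁ ⊞ G₂, Groth.Agent.H28.PCohPerf.isPerfect_biprod _ _ hG₁ hG₂, biprod.lift j₁ j₂,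
    biprod.desc φ₁ φ₂, by simp [biprod.lift_desc]⟩

lemma fac_comp_right {K X Y : Dual.D R} {i : K ⟶ X} (h : Fac i) (f : X ⟶ Y) : Fac (i ≫ f) := by
  obtain ⟨G, hG, j, φ, rfl⟩ := h
  exact ⟨G, hG, j, φ ≫ f, by rw [Category.assoc]⟩

lemma fac_comp_left {K' K X : Dual.D R} (g : K' ⟶ K) {i : K ⟶ X} (h : Fac i) : Fac (g ≫ i) := by
  obtain ⟨G, hG, j, φ, rfl⟩ := h
  exact ⟨G, hG, g ≫ j, φ, by rw [Category.assoc]⟩

lemma fac_mk {K G X : Dual.D R} (hG : DRing.IsPerfect R G) (j : K ⟶ G) (φ : G ⟶ X) :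
    Fac (j ≫ φ) := ⟨G, hG, j, φ, rfl⟩

lemma fac_sum {K X : Dual.D R} {ι : Type*} (s : Finset ι) (f : ι → (K ⟶ X))
    (h : ∀ b ∈ s, Fac (f b)) : Fac (∑ b ∈ s, f b) :=
  Finset.sum_induction f Fac (fun _ _ => fac_add) fac_zero h

lemma facPerf_of_isPerfect {X : Dual.D R} (hX : DRing.IsPerfect R X) : FacPerf X :=
  fun _ _ i => ⟨X, hX, i, 𝟙 X, Category.comp_id _⟩

lemma facPerf_of_retract {X Y : Dual.D R} (s : X ⟶ Y) (r : Y ⟶ X) (h : s ≫ r = 𝟙 X)
    (hY : FacPerf Y) : FacPerf X := by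
  intro K hK i
  have : i = (i ≫ s) ≫ r := by rw [Category.assoc, h, Category.comp_id]
  rw [this]
  exact fac_comp_right (hY K hK (i ≫ s)) r

lemma facPerf_of_iso {X Y : Dual.D R} (e : X ≅ Y) (hY : FacPerf Y) : FacPerf X :=
  facPerf_of_retract e.hom e.inv e.hom_inv_id hY

lemma facPerf_shift {X : Dual.D R} (hX : FacPerf X) (n : ℤ) : FacPerf (X⟦n⟧) := by
  intro K hK i
  let adj : shiftFunctor (Dual.D R) (-n) ⊣ shiftFunctor (Dual.D R) n :=
    (shiftEquiv (Dual.D R) n).symm.toAdjunction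
  obtain ⟨G, hG, j, φ, h⟩ := hX (K⟦-n⟧) (sc_shift hK (-n)) ((adj.homEquiv K X).symm i)
  refine ⟨G⟦n⟧, Groth.Agent.H35.isPerfect_shift R G n hG, adj.homEquiv K G j, φ⟦n⟧', ?_⟩
  rw [← adj.homEquiv_naturality_right, h, Equiv.apply_symm_apply]

lemma fac_kill {X : Dual.D R} (hX : FacPerf X) {K G : Dual.D R} (hK : SC.{u} K)
    (hG : DRing.IsPerfect R G) (a : K ⟶ G) (ι : G ⟶ X) (h : a ≫ ι = 0) :
    ∃ (G₁ : Dual.D R), DRing.IsPerfect R G₁ ∧ ∃ (v : G ⟶ G₁) (ι₁ : G₁ ⟶ X),
      v ≫ ι₁ = ι ∧ a ≫ v = 0 := by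
  obtain ⟨C, p, q, hT⟩ := distinguished_cocone_triangle a
  have hC : SC.{u} C := sc_ext₃ _ hT hK (sc_of_isPerfect G hG)
  obtain ⟨ι', hι'⟩ := Triangle.yoneda_exact₂ _ hT ι h
  obtain ⟨G₁, hG₁, j, φ, hj⟩ := hX C hC ι'
  refine ⟨G₁, hG₁, p ≫ j, φ, ?_, ?_⟩
  · rw [Category.assoc, hj]
    exact hι'.symm
  · have h0 : a ≫ p = 0 := comp_distTriang_mor_zero₁₂ _ hT
    rw [← Category.assoc, h0, zero_comp]

lemma facPerf_ext₂ (T : Triangle (Dual.D R)) (hT : T ∈ distTriang (Dual.D R))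
    (h₁ : FacPerf T.obj₁) (h₃ : FacPerf T.obj₃) : FacPerf T.obj₂ := by
  intro K hK i
  obtain ⟨G'', hG'', j'', φ'', e1⟩ := h₃ K hK (i ≫ T.mor₂)
  have h₁s : FacPerf (T.obj₁⟦(1 : ℤ)⟧) := facPerf_shift h₁ 1
  obtain ⟨H, hH, θ, ψ, e2⟩ := h₁s G'' (sc_of_isPerfect G'' hG'') (φ'' ≫ T.mor₃)
  have e3 : (j'' ≫ θ) ≫ ψ = 0 := by
    rw [Category.assoc, e2, ← Category.assoc, e1, Category.assoc,
      comp_distTriang_mor_zero₂₃ _ hT, comp_zero]
  obtain ⟨H₁, hH₁, v, ψ₁, hv, hv0⟩ := fac_kill h₁s hK hH (j'' ≫ θ) ψ e3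
  obtain ⟨G₀, f, h, hT₀⟩ := distinguished_cocone_triangle₁ (θ ≫ v)
  have hG₀ : DRing.IsPerfect R G₀ :=
    (Groth.Agent.H35.isPerfect_two_out_of_three R _ hT₀).2.2 hG'' hH₁
  obtain ⟨(k : K ⟶ G₀), hk⟩ := Triangle.coyoneda_exact₂ _ hT₀ j'' (by
    change j'' ≫ θ ≫ v = 0
    rw [← Category.assoc]; exact hv0)
  obtain ⟨(φ₀ : G₀ ⟶ T.obj₂), hφ₀, _⟩ := complete_distinguished_triangle_morphism₁ _ _ hT₀
    (rot_of_distTriang _ hT) φ'' ψ₁ (by
      change (θ ≫ v) ≫ ψ₁ = φ'' ≫ T.mor₃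
      rw [Category.assoc, hv, e2])
  have e7 : (i - k ≫ φ₀) ≫ T.mor₂ = 0 := by
    have h6 : f ≫ φ'' = φ₀ ≫ T.mor₂ := hφ₀
    have h5 : j'' = k ≫ f := hk
    rw [Preadditive.sub_comp, Category.assoc, ← h6, ← Category.assoc, ← h5, e1, sub_self]
  obtain ⟨l, hl⟩ := Triangle.coyoneda_exact₂ _ hT _ e7
  have e9 : i = k ≫ φ₀ + l ≫ T.mor₁ := by
    rw [← hl]; abel
  rw [e9]
  exact fac_add (fac_mk hG₀ k φ₀) (fac_comp_right (h₁ K hK l) T.mor₁)

lemma facPerf_sigma {ι : Type u} (X : ι → Dual.D R) [HasCoproduct X]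
    (hX : ∀ b, DRing.IsPerfect R (X b)) : FacPerf (∐ X) := by
  intro K hK i
  obtain ⟨s, g, rfl⟩ := hK ι X i
  exact fac_sum s _ (fun b _ => fac_mk (hX b) (g b) (Sigma.ι X b))

lemma isPerfect_of_retract {K G : Dual.D R} (j : K ⟶ G) (r : G ⟶ K) (h : j ≫ r = 𝟙 K)
    (hG : DRing.IsPerfect R G) : DRing.IsPerfect R K := by
  obtain ⟨L, p, δ, hT⟩ := distinguished_cocone_triangle j
  have hδ : δ = 0 := by
    have h1 : δ ≫ j⟦(1 : ℤ)⟧' = 0 := comp_distTriang_mor_zero₃₁ _ hT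
    have h2 : δ = (δ ≫ j⟦(1 : ℤ)⟧') ≫ r⟦(1 : ℤ)⟧' := by
      rw [Category.assoc, ← Functor.map_comp, h, CategoryTheory.Functor.map_id, Category.comp_id]
    rw [h2, h1, zero_comp]
  obtain ⟨e, _, _⟩ := exists_iso_binaryBiproduct_of_distTriang _ hT hδ
  exact (Groth.Agent.H28.PCohPerf.isPerfect_of_biprod R K L
    (Groth.Agent.H35.isPerfect_of_iso R e hG)).1

end Abstract


section Base

open DerivedCategory

/-- `R` placed in degree `m` -/
noncomputable abbrev S1 (R : Type u) [CommRing R] (m : ℤ) : DRing.Cx R :=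
  (HomologicalComplex.single (ModuleCat.{u} R) (ComplexShape.up ℤ) m).obj (ModuleCat.of R R)

lemma isPerfect_Q_S1 (m : ℤ) : DRing.IsPerfect R (Q.obj (S1 R m)) := by
  refine ⟨S1 R m, m, m, ?_, ?_, ⟨Iso.refl _⟩⟩
  · intro i hi
    exact isZero_single_obj_X _ _ _ _ (by omega)
  · intro i
    by_cases h : i = m
    · subst h
      have e := singleObjXSelf (ComplexShape.up ℤ) i (ModuleCat.of R R)
      exact ⟨Groth.Agent.H35.finite_of_iso e.symm (inferInstanceAs (Module.Finite R R)),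
        Groth.Agent.H35.projective_of_iso e.symm (inferInstanceAs (Module.Projective R R))⟩
    · have : Subsingleton ((S1 R m).X i) :=
        ModuleCat.subsingleton_of_isZero (isZero_single_obj_X _ _ _ _ h)
      exact ⟨inferInstance, inferInstance⟩

variable (m : ℤ) (M : ModuleCat.{u} R)

/-- the coproduct of copies of `R[-m]` indexed by the elements of `M` -/
noncomputable abbrev bigT : DRing.Cx R := ∐ (fun _ : M => S1 R m)

/-- the canonical map from the big free complex to `M[-m]` -/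
noncomputable def bigσ : bigT m M ⟶ (HomologicalComplex.single (ModuleCat.{u} R) (ComplexShape.up ℤ) m).obj M :=
  Sigma.desc (fun b : M => (HomologicalComplex.single (ModuleCat.{u} R) (ComplexShape.up ℤ) m).map
    (ModuleCat.ofHom (LinearMap.toSpanSingleton R M b)))

lemma isZero_bigT_X (k : ℤ) (hk : k ≠ m) : IsZero ((bigT m M).X k) := by
  rw [IsZero.iff_id_eq_zero]
  have hc := isColimitOfPreserves (HomologicalComplex.eval (ModuleCat.{u} R) (ComplexShape.up ℤ) k)
    (coproductIsCoproduct (fun _ : M => S1 R m))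
  refine hc.hom_ext (fun ⟨b⟩ => ?_)
  exact (isZero_single_obj_X (ComplexShape.up ℤ) m (ModuleCat.of R R) k hk).eq_of_src _ _

lemma bigσ_surjective (y : M) :
    ∃ z : ((bigT m M).X m : Type u),
      (singleObjXSelf (ComplexShape.up ℤ) m M).hom.hom (((bigσ m M).f m).hom z) = y := by
  let gen : ((S1 R m).X m : Type u) :=
    (singleObjXSelf (ComplexShape.up ℤ) m (ModuleCat.of R R)).inv.hom (1 : R)
  refine ⟨((Sigma.ι (fun _ : M => S1 R m) y).f m).hom gen, ?_⟩
  have h1 : (Sigma.ι (fun _ : M => S1 R m) y).f m ≫ (bigσ m M).f m =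
      ((HomologicalComplex.single (ModuleCat.{u} R) (ComplexShape.up ℤ) m).map
        (ModuleCat.ofHom (LinearMap.toSpanSingleton R M y))).f m := by
    rw [← HomologicalComplex.comp_f]
    congr 1
    exact Sigma.ι_desc _ _
  have h2 : ((Sigma.ι (fun _ : M => S1 R m) y).f m ≫ (bigσ m M).f m ≫
      (singleObjXSelf (ComplexShape.up ℤ) m M).hom).hom gen = y := by
    rw [← Category.assoc, h1, HomologicalComplex.single_map_f_self]
    simp only [Category.assoc, Iso.inv_hom_id, Category.comp_id]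
    change (LinearMap.toSpanSingleton R M y)
      ((singleObjXSelf (ComplexShape.up ℤ) m (ModuleCat.of R R)).hom.hom
        ((singleObjXSelf (ComplexShape.up ℤ) m (ModuleCat.of R R)).inv.hom (1 : R))) = y
    have h3 : (singleObjXSelf (ComplexShape.up ℤ) m (ModuleCat.of R R)).hom.hom
        ((singleObjXSelf (ComplexShape.up ℤ) m (ModuleCat.of R R)).inv.hom (1 : R)) = 1 :=
      congrArg (fun φ => φ.hom (1 : R))
        (singleObjXSelf (ComplexShape.up ℤ) m (ModuleCat.of R R)).inv_hom_id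
    rw [h3, LinearMap.toSpanSingleton_apply, one_smul]
  exact h2

lemma exists_section [Module.Projective R M] :
    ∃ τ : (HomologicalComplex.single (ModuleCat.{u} R) (ComplexShape.up ℤ) m).obj M ⟶ bigT m M,
      τ ≫ bigσ m M = 𝟙 _ := by
  let f : ((bigT m M).X m) →ₗ[R] M :=
    (singleObjXSelf (ComplexShape.up ℤ) m M).hom.hom ∘ₗ ((bigσ m M).f m).hom
  have hf : Function.Surjective f := fun y => bigσ_surjective m M y
  obtain ⟨h, hh⟩ := Module.projective_lifting_property f (LinearMap.id : M →ₗ[R] M) hf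
  have hh' : ModuleCat.ofHom h ≫ (bigσ m M).f m ≫ (singleObjXSelf (ComplexShape.up ℤ) m M).hom =
      𝟙 M := by
    apply ModuleCat.hom_ext
    exact hh
  refine ⟨HomologicalComplex.mkHomFromSingle (ModuleCat.ofHom h) (fun k hk => ?_), ?_⟩
  · apply (isZero_bigT_X m M k ?_).eq_of_tgt
    have : m + 1 = k := hk
    omega
  · apply HomologicalComplex.from_single_hom_ext
    rw [HomologicalComplex.comp_f, HomologicalComplex.mkHomFromSingle_f, HomologicalComplex.id_f]
    rw [← cancel_mono (singleObjXSelf (ComplexShape.up ℤ) m M).hom]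
    simp only [Category.assoc, Category.id_comp]
    rw [hh', Category.comp_id]

lemma facPerf_Q_bigT : FacPerf (Q.obj (bigT m M)) := by
  let C : M → DRing.Cx R := fun _ => S1 R m
  have hpres : PreservesColimit (Discrete.functor C) (Q (C := ModuleCat.{u} R)) :=
    Groth.Agent.H89.ModHocolim.preservesColimit_Q C
  have hcop : HasCoproduct (fun i => Q.obj (C i)) :=
    ⟨⟨⟨_, isColimitCofanMkObjOfIsColimit Q C _ (coproductIsCoproduct C)⟩⟩⟩
  let c := PreservesCoproduct.iso (Q (C := ModuleCat.{u} R)) C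
  exact facPerf_of_iso c (facPerf_sigma (fun i => Q.obj (C i)) (fun _ => isPerfect_Q_S1 m))

lemma facPerf_Q_single [Module.Projective R M] :
    FacPerf (Q.obj ((HomologicalComplex.single (ModuleCat.{u} R) (ComplexShape.up ℤ) m).obj M)) := by
  obtain ⟨τ, hτ⟩ := exists_section m M
  refine facPerf_of_retract (Q.map τ) (Q.map (bigσ m M)) ?_ (facPerf_Q_bigT m M)
  rw [← Functor.map_comp, hτ, CategoryTheory.Functor.map_id]

theorem facPerf_of_concentrated (C : DRing.Cx R) (m : ℤ)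
    (hC : ∀ q, q ≠ m → IsZero (C.X q)) (hproj : Module.Projective R (C.X m)) :
    FacPerf (Q.obj C) := by
  have : C.IsStrictlyGE m := by
    rw [CochainComplex.isStrictlyGE_iff]
    exact fun i hi => hC i (by omega)
  have : C.IsStrictlyLE m := by
    rw [CochainComplex.isStrictlyLE_iff]
    exact fun i hi => hC i (by omega)
  obtain ⟨M, ⟨e⟩⟩ := C.exists_iso_single m
  have eM : C.X m ≅ M := (HomologicalComplex.eval _ _ m).mapIso e ≪≫
    singleObjXSelf (ComplexShape.up ℤ) m M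
  have : Module.Projective R M := Groth.Agent.H35.projective_of_iso eM hproj
  exact facPerf_of_iso (Q.mapIso e) (facPerf_Q_single m M)

end Base


section Main

open DerivedCategory Groth.Agent.H45

theorem facPerf_sigmaGE (P : DRing.Cx R) (b : ℤ) [P.IsStrictlyLE b]
    (hproj : ∀ i, Module.Projective R (P.X i)) (n : ℕ) :
    FacPerf (Q.obj (sigmaGE P (b - n))) := by
  induction n with
  | zero =>
    have e0 : b - ((0 : ℕ) : ℤ) = b := by simp
    rw [e0]
    have hiso := isIso_ιSigmaGE_f P b b le_rfl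
    have e : (sigmaGE P b).X b ≅ P.X b := @asIso _ _ _ _ _ hiso
    refine facPerf_of_concentrated _ b (fun q hq => ?_)
      (Groth.Agent.H35.projective_of_iso e.symm (hproj b))
    by_cases h : q < b
    · exact isZero_sigmaGE_X P b q h
    · have hiso' := isIso_ιSigmaGE_f P b q (by lia)
      exact (P.isZero_of_isStrictlyLE b q (by lia)).of_iso (@asIso _ _ _ _ _ hiso')
  | succ n ih =>
    have e0 : b - ((n + 1 : ℕ) : ℤ) = (b - n) - 1 := by push_cast; ring
    rw [e0]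
    let S := sigmaGEShortComplex P (b - n)
    have hS : S.ShortExact := sigmaGEShortComplex_shortExact P (b - n)
    have e3 : S.X₃.X ((b - n) - 1) ≅ P.X ((b - n) - 1) := sigmaGEShortComplexX₃XIso P (b - n)
    have hX₃ : FacPerf (Q.obj S.X₃) :=
      facPerf_of_concentrated _ ((b - n) - 1)
        (fun q hq => isZero_sigmaGEShortComplex_X₃_X P (b - n) q hq)
        (Groth.Agent.H35.projective_of_iso e3.symm (hproj _))
    exact facPerf_ext₂ (triangleOfSES hS) (triangleOfSES_distinguished hS) ih hX₃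

/-- small-compact objects of `D(R)` are perfect -/
theorem isPerfect_of_sc (K : Dual.D R) (hK : SC.{u} K) : DRing.IsPerfect R K := by
  have hK' : ∀ (E : ℕ → Dual.D R) [HasCoproduct fun i : ULift.{u + 1} ℕ => E i.down],
      Function.Bijective (CohDer.homSumToHomCoprod K (fun i : ULift.{u + 1} ℕ => E i.down)) :=
    fun E _ => natForm_of_sc hK E
  -- a representative
  let L₀ : DRing.Cx R := Q.objPreimage K
  let e₀ : Q.obj L₀ ≅ K := Q.objObjPreimageIso K
  -- bounded above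
  obtain ⟨n, y₁, hy₁⟩ := (Groth.Agent.S7014.result R K hK' (Groth.Agent.H89.PureAcyclic.truncLESeq L₀)
    (Groth.Agent.H89.PureAcyclic.truncLECocone L₀)
    (Groth.Agent.H89.PureAcyclic.isColimitTruncLECocone L₀)).1 e₀.inv
  let L₁ : DRing.Cx R := (Groth.Agent.H89.PureAcyclic.truncLESeq L₀).obj n
  let ι₁ : L₁ ⟶ L₀ := (Groth.Agent.H89.PureAcyclic.truncLECocone L₀).ι.app n
  have hy₁' : y₁ ≫ Q.map ι₁ = e₀.inv := hy₁
  let r₁ : Q.obj L₁ ⟶ K := Q.map ι₁ ≫ e₀.hom
  have h₁ : y₁ ≫ r₁ = 𝟙 K := by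
    change y₁ ≫ Q.map ι₁ ≫ e₀.hom = 𝟙 K
    rw [← Category.assoc, hy₁']
    exact e₀.inv_hom_id
  -- projective resolution
  have : L₁.IsStrictlyLE (n : ℤ) := inferInstance
  obtain ⟨P, π, hπ, hP, hPle⟩ := Groth.Agent.H35.exists_quasiIso_projective L₁ (n : ℤ)
  have hπ' : IsIso (Q.map π) := by
    rw [DerivedCategory.isIso_Q_map_iff_quasiIso]
    exact hπ
  let y₂ : K ⟶ Q.obj P := y₁ ≫ inv (Q.map π)
  let r₂ : Q.obj P ⟶ K := Q.map π ≫ r₁
  have h₂ : y₂ ≫ r₂ = 𝟙 K := by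
    change (y₁ ≫ inv (Q.map π)) ≫ Q.map π ≫ r₁ = 𝟙 K
    rw [Category.assoc, IsIso.inv_hom_id_assoc, h₁]
  -- bounded
  obtain ⟨k, y₃, hy₃⟩ := (Groth.Agent.S7014.result R K hK' (sigmaGESeq P (n : ℤ))
    (sigmaGECocone P (n : ℤ)) (isColimitSigmaGECocone P (n : ℤ))).1 y₂
  let F : DRing.Cx R := sigmaGE P ((n : ℤ) - k)
  let ι₃ : F ⟶ P := ιSigmaGE P ((n : ℤ) - k)
  let y₃' : K ⟶ Q.obj F := y₃
  have hy₃' : y₃' ≫ Q.map ι₃ = y₂ := hy₃
  have hproj : ∀ i, Module.Projective R (P.X i) := fun i =>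
    (IsProjective.iff_projective (R := R) (P := P.X i)).mpr (hP i)
  have hF : FacPerf (Q.obj F) := facPerf_sigmaGE P (n : ℤ) hproj k
  obtain ⟨G, hG, j, φ, hj⟩ := hF K hK y₃'
  refine isPerfect_of_retract j (φ ≫ Q.map ι₃ ≫ r₂) ?_ hG
  rw [← Category.assoc, ← Category.assoc, hj, hy₃']
  exact h₂

end Main

end Groth.Agent.H89.CompactPerfect2
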