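import Mathlib
import Groth.Prelude.Def_DRing2
import Groth.Agent.H35.ConeRep
import Groth.Agent.H28.StrictPerf

/-!
# Terms of the mapping cone of a map of bounded complexes of finite projective modules (helper89)
-/

set_option autoImplicit false
universe u
open CategoryTheory Limits

namespace Groth.Agent.H89.CxConeTerms

variable {R : Type u} [CommRing R]

lemma finite_biprod (X Y : ModuleCat.{u} R) (hX : Module.Finite R X) (hY : Module.Finite R Y) :
    Module.Finite R ↑(X ⊞ Y) := by
  have hsup : LinearMap.range (biprod.inl : X ⟶ X ⊞ Y).hom ⊔
      LinearMap.range (biprod.inr : Y ⟶ X ⊞ Y).hom = ⊤ := by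
    rw [eq_top_iff]
    intro x _
    have h := congrArg (fun f => f.hom x) (biprod.total (X := X) (Y := Y))
    simp only [ModuleCat.hom_add, ModuleCat.hom_comp, LinearMap.add_apply, LinearMap.comp_apply,
      ModuleCat.hom_id, LinearMap.id_apply] at h
    rw [← h]
    exact Submodule.add_mem_sup ⟨_, rfl⟩ ⟨_, rfl⟩
  constructor
  rw [← hsup]
  exact Submodule.FG.sup (by rw [LinearMap.range_eq_map]; exact hX.1.map _)
    (by rw [LinearMap.range_eq_map]; exact hY.1.map _)

lemma module_projective_of_projective (M : ModuleCat.{u} R) (h : Projective M) :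
    Module.Projective R M :=
  (IsProjective.iff_projective (R := R) ↑M).mpr h

lemma projective_of_module_projective (M : ModuleCat.{u} R) (h : Module.Projective R M) :
    Projective M :=
  (IsProjective.iff_projective (R := R) ↑M).mp h

lemma termwiseFiniteProjective_mappingCone {M N : DRing.Cx R} (φ : M ⟶ N)
    (hM : DRing.TermwiseFiniteProjective M) (hN : DRing.TermwiseFiniteProjective N) :
    DRing.TermwiseFiniteProjective (CochainComplex.mappingCone φ) := by
  intro i
  let e := Groth.Agent.H35.mappingConeXIso φ i
  constructor
  · have := finite_biprod (M.X (i + 1)) (N.X i) (hM (i + 1)).1 (hN i).1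
    exact Module.Finite.equiv e.symm.toLinearEquiv
  · have h1 := projective_of_module_projective _ (hM (i + 1)).2
    have h2 := projective_of_module_projective _ (hN i).2
    exact module_projective_of_projective _ (Projective.of_iso e.symm inferInstance)

lemma vanishesOutside_mappingCone {M N : DRing.Cx R} (φ : M ⟶ N) (a b : ℤ)
    (hM : DRing.VanishesOutside M a b) (hN : DRing.VanishesOutside N a b) :
    DRing.VanishesOutside (CochainComplex.mappingCone φ) (a - 1) b := by
  intro i hi
  exact Groth.Agent.H28.StrictPerf.isZero_mappingCone φ i (hM (i + 1) (by omega)) (hN i (by omega))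

end Groth.Agent.H89.CxConeTerms
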