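import Mathlib

/-!
# Finitely many finite projective modules become free after inverting one element (helper89)
-/

set_option autoImplicit false
universe u
open TensorProduct

namespace Groth.Agent.H89.CxFreeLoc

variable {R : Type u} [CommRing R]

/-- `X` becomes free after inverting `f`. -/
def FreeAt (f : R) (X : Type u) [AddCommGroup X] [Module R X] : Prop :=
  Module.Free (Localization.Away f) (Localization.Away f ⊗[R] X)

lemma free_baseChange_of_algHom {A B : Type u} [CommRing A] [CommRing B] [Algebra R A]
    [Algebra R B] (g : A →ₐ[R] B) (X : Type u) [AddCommGroup X] [Module R X]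
    (h : Module.Free A (A ⊗[R] X)) : Module.Free B (B ⊗[R] X) := by
  let alg : Algebra A B := g.toRingHom.toAlgebra
  have : IsScalarTower R A B := IsScalarTower.of_algebraMap_eq (fun x => (g.commutes x).symm)
  have e : B ⊗[A] (A ⊗[R] X) ≃ₗ[B] B ⊗[R] X :=
    TensorProduct.AlgebraTensorModule.cancelBaseChange R A B B X
  exact Module.Free.of_equiv e

lemma FreeAt.of_dvd {r f : R} (h : r ∣ f) (X : Type u) [AddCommGroup X] [Module R X]
    (hX : FreeAt r X) : FreeAt f X := by
  have hu : IsUnit (Algebra.ofId R (Localization.Away f) r) :=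
    IsLocalization.Away.isUnit_of_dvd f h
  exact free_baseChange_of_algHom
    (IsLocalization.Away.liftAlgHom (A := R) (S := Localization.Away r) r
      (f := Algebra.ofId R (Localization.Away f)) hu) X hX

lemma exists_freeAt (p : Ideal R) [p.IsPrime] (X : Type u) [AddCommGroup X] [Module R X]
    [Module.Finite R X] [Module.Projective R X] : ∃ r : R, r ∉ p ∧ FreeAt r X := by
  have : Module.FinitePresentation R X := Module.finitePresentation_of_projective R X
  have : Module.Free (Localization.AtPrime p) (LocalizedModule p.primeCompl X) :=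
    Module.free_of_flat_of_isLocalRing
  obtain ⟨r, hr, hfree, -⟩ := Module.FinitePresentation.exists_free_localizedModule_powers
    p.primeCompl (LocalizedModule.mkLinearMap p.primeCompl X) (Localization.AtPrime p)
  refine ⟨r, hr, ?_⟩
  exact Module.Free.of_equiv (LocalizedModule.equivTensorProduct (Submonoid.powers r) X)

lemma exists_freeAt_finset (p : Ideal R) [p.IsPrime] {ι : Type*} (s : Finset ι) (X : ι → Type u)
    [∀ i, AddCommGroup (X i)] [∀ i, Module R (X i)]
    (h : ∀ i ∈ s, Module.Finite R (X i) ∧ Module.Projective R (X i)) :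
    ∃ f : R, f ∉ p ∧ ∀ i ∈ s, FreeAt f (X i) := by
  classical
  induction s using Finset.induction_on with
  | empty => exact ⟨1, fun h1 => (Ideal.IsPrime.ne_top inferInstance) ((Ideal.eq_top_iff_one p).mpr h1),
      fun i hi => absurd hi (Finset.notMem_empty i)⟩
  | insert a s ha ih =>
    obtain ⟨f, hf, hfs⟩ := ih (fun i hi => h i (Finset.mem_insert_of_mem hi))
    have := (h a (Finset.mem_insert_self a s)).1
    have := (h a (Finset.mem_insert_self a s)).2
    obtain ⟨r, hr, hra⟩ := exists_freeAt p (X a)
    refine ⟨r * f, fun hrf => ?_, fun i hi => ?_⟩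
    · rcases Ideal.IsPrime.mem_or_mem inferInstance hrf with h' | h'
      · exact hr h'
      · exact hf h'
    · rcases Finset.mem_insert.mp hi with rfl | hi'
      · exact hra.of_dvd (dvd_mul_right r f)
      · exact (hfs i hi').of_dvd (dvd_mul_left f r)

end Groth.Agent.H89.CxFreeLoc
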