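import Mathlib

/-!
# The range of a "von Neumann regular" morphism of modules and functors (helper89)

If `d : X ⟶ Y` and `hh : Y ⟶ X` satisfy `d ≫ hh ≫ d = d`, then `range d` is a direct summand of `Y`
and for any functor `G` on module categories, `range (G d) ≃ G (range d)`.
-/

set_option autoImplicit false
universe u
open CategoryTheory

namespace Groth.Agent.H89.CxRange

variable {R S : Type u} [CommRing R] [CommRing S]
variable {X Y : ModuleCat.{u} R} (d : X ⟶ Y) (hh : Y ⟶ X)

/-- the inclusion of the range -/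
noncomputable def rι : ModuleCat.of R (LinearMap.range d.hom) ⟶ Y :=
  ModuleCat.ofHom (LinearMap.range d.hom).subtype

/-- the corestriction -/
noncomputable def rd : X ⟶ ModuleCat.of R (LinearMap.range d.hom) :=
  ModuleCat.ofHom d.hom.rangeRestrict

/-- the projection onto the range -/
noncomputable def rπ : Y ⟶ ModuleCat.of R (LinearMap.range d.hom) :=
  hh ≫ rd d

lemma rd_rι : rd d ≫ rι d = d := by
  ext x
  rfl

lemma rπ_rι : rπ d hh ≫ rι d = hh ≫ d := by
  rw [rπ, Category.assoc, rd_rι]

lemma rι_rπ (hd : d ≫ hh ≫ d = d) : rι d ≫ rπ d hh = 𝟙 _ := by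
  ext ⟨y, x, rfl⟩
  have := congrArg (fun f => f.hom x) hd
  exact this

lemma finite_range (hd : d ≫ hh ≫ d = d) (hY : Module.Finite R Y) :
    Module.Finite R (LinearMap.range d.hom) := by
  refine Module.Finite.of_surjective (rπ d hh).hom ?_
  intro b
  refine ⟨(rι d).hom b, ?_⟩
  have := congrArg (fun f => f.hom b) (rι_rπ d hh hd)
  exact this

lemma projective_range (hd : d ≫ hh ≫ d = d) (hY : Module.Projective R Y) :
    Module.Projective R (LinearMap.range d.hom) := by
  refine Module.Projective.of_split (rι d).hom (rπ d hh).hom ?_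
  have := rι_rπ d hh hd
  ext b
  have := congrArg (fun f => f.hom b) this
  exact congrArg Subtype.val this

variable (G : ModuleCat.{u} R ⥤ ModuleCat.{u} S)

lemma range_map_eq (hd : d ≫ hh ≫ d = d) :
    LinearMap.range (G.map d).hom = LinearMap.range (G.map (rι d)).hom := by
  apply le_antisymm
  · rintro _ ⟨x, rfl⟩
    refine ⟨(G.map (rd d)).hom x, ?_⟩
    have := congrArg (fun f => f.hom x) ((G.map_comp (rd d) (rι d)).symm.trans
      (congrArg G.map (rd_rι d)))
    exact this
  · rintro _ ⟨b, rfl⟩
    -- rι = rι ≫ rπ ≫ rι = (rι ≫ hh) ≫ d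
    have e : rι d = (rι d ≫ hh) ≫ d := by
      rw [Category.assoc, ← rπ_rι, ← Category.assoc, rι_rπ d hh hd, Category.id_comp]
    refine ⟨(G.map (rι d ≫ hh)).hom b, ?_⟩
    have := congrArg (fun f => f.hom b) ((G.map_comp (rι d ≫ hh) d).symm.trans
      (congrArg G.map e.symm))
    exact this

lemma injective_map_rι (hd : d ≫ hh ≫ d = d) : Function.Injective (G.map (rι d)).hom := by
  have h : G.map (rι d) ≫ G.map (rπ d hh) = 𝟙 _ := by
    rw [← G.map_comp, rι_rπ d hh hd, G.map_id]
  intro a b hab
  have ha := congrArg (fun f => f.hom a) h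
  have hb := congrArg (fun f => f.hom b) h
  simp only [ModuleCat.hom_comp, LinearMap.comp_apply, ModuleCat.hom_id, LinearMap.id_apply]
    at ha hb
  rw [← ha, ← hb, hab]

/-- `G (range d) ≃ range (G d)` -/
noncomputable def rangeMapEquiv (hd : d ≫ hh ≫ d = d) :
    G.obj (ModuleCat.of R (LinearMap.range d.hom)) ≃ₗ[S] LinearMap.range (G.map d).hom :=
  (LinearEquiv.ofInjective (G.map (rι d)).hom (injective_map_rι d hh G hd)).trans
    (LinearEquiv.ofEq _ _ (range_map_eq d hh G hd).symm)

lemma free_range_map (hd : d ≫ hh ≫ d = d)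
    (h : Module.Free S (G.obj (ModuleCat.of R (LinearMap.range d.hom)))) :
    Module.Free S (LinearMap.range (G.map d).hom) :=
  Module.Free.of_equiv (rangeMapEquiv d hh G hd)

end Groth.Agent.H89.CxRange
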