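import Mathlib
import Groth.Prelude.Def_DRing2
import Groth.Agent.H89.CxFreeLoc
import Groth.Agent.H89.CxRange
import Groth.Agent.H44.PullbackTilde

/-!
# Localising a contractible bounded complex of finite projectives to a "trivial" complex (helper89)
-/

set_option autoImplicit false
universe u
open CategoryTheory Limits TensorProduct

namespace Groth.Agent.H89.CxLocFree

open Groth.Agent.H89.CxFreeLoc

variable {R : Type u} [CommRing R]

/-- termwise base change to `R_f` -/
noncomputable abbrev bc (f : R) : DRing.Cx R ⥤ DRing.Cx (Localization.Away f) :=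
  (ModuleCat.extendScalars (algebraMap R (Localization.Away f))).mapHomologicalComplex
    (ComplexShape.up ℤ)

lemma d_h_d (K : DRing.Cx R) (h : Homotopy (𝟙 K) 0) (i : ℤ) :
    K.d i (i + 1) ≫ h.hom (i + 1) i ≫ K.d i (i + 1) = K.d i (i + 1) := by
  have h1 := h.comm (i + 1)
  rw [dNext_eq h.hom (show (ComplexShape.up ℤ).Rel (i + 1) (i + 1 + 1) from rfl),
    prevD_eq h.hom (show (ComplexShape.up ℤ).Rel i (i + 1) from rfl),
    HomologicalComplex.zero_f, add_zero, HomologicalComplex.id_f] at h1
  have e : h.hom (i + 1) i ≫ K.d i (i + 1) =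
      𝟙 _ - K.d (i + 1) (i + 1 + 1) ≫ h.hom (i + 1 + 1) (i + 1) := by
    rw [h1]
    abel
  rw [e, Preadditive.comp_sub, Category.comp_id, HomologicalComplex.d_comp_d_assoc, zero_comp,
    sub_zero]

lemma free_extendScalars_of_freeAt (f : R) (X : ModuleCat.{u} R) (h : FreeAt f X) :
    Module.Free (Localization.Away f)
      ((ModuleCat.extendScalars (algebraMap R (Localization.Away f))).obj X) := by
  have : Module.Free (Localization.Away f) (Localization.Away f ⊗[R] X) := h
  exact Module.Free.of_equiv
    (Groth.Agent.H44.extendScalarsEquiv (A := R) (B := Localization.Away f) X).symm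

lemma finite_extendScalars (f : R) (X : ModuleCat.{u} R) (h : Module.Finite R X) :
    Module.Finite (Localization.Away f)
      ((ModuleCat.extendScalars (algebraMap R (Localization.Away f))).obj X) :=
  Module.Finite.equiv
    (Groth.Agent.H44.extendScalarsEquiv (A := R) (B := Localization.Away f) X).symm

theorem good_bc (p : Ideal R) [p.IsPrime] (K : DRing.Cx R) (a b : ℤ)
    (hK : DRing.VanishesOutside K a b) (hKp : DRing.TermwiseFiniteProjective K)
    (h : Homotopy (𝟙 K) 0) :
    ∃ r : R, r ∉ p ∧ ∀ f : R, r ∣ f →
      ((∃ a' b' : ℤ, DRing.VanishesOutside ((bc f).obj K) a' b') ∧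
        DRing.TermwiseFiniteFree ((bc f).obj K) ∧
        (∀ i : ℤ, Module.Free (Localization.Away f)
          (LinearMap.range (((bc f).obj K).d i (i + 1)).hom)) ∧
        Nonempty (Homotopy (𝟙 ((bc f).obj K)) 0)) := by
  have hreg := d_h_d K h
  obtain ⟨r₁, hr₁, h₁⟩ := exists_freeAt_finset p (Finset.Icc a b) (fun i => K.X i)
    (fun i _ => hKp i)
  obtain ⟨r₂, hr₂, h₂⟩ := exists_freeAt_finset p (Finset.Icc a b)
    (fun i => LinearMap.range (K.d i (i + 1)).hom)
    (fun i _ => ⟨Groth.Agent.H89.CxRange.finite_range _ _ (hreg i) (hKp (i + 1)).1,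
      Groth.Agent.H89.CxRange.projective_range _ _ (hreg i) (hKp (i + 1)).2⟩)
  refine ⟨r₁ * r₂, fun hr => ?_, fun f hf => ⟨⟨a, b, ?_⟩, ?_, ?_, ?_⟩⟩
  · rcases Ideal.IsPrime.mem_or_mem inferInstance hr with h' | h'
    · exact hr₁ h'
    · exact hr₂ h'
  · intro i hi
    exact (ModuleCat.extendScalars (algebraMap R (Localization.Away f))).map_isZero (hK i hi)
  · intro i
    refine ⟨finite_extendScalars f (K.X i) (hKp i).1, ?_⟩
    by_cases hi : i ∈ Finset.Icc a b
    · exact free_extendScalars_of_freeAt f (K.X i)
        ((h₁ i hi).of_dvd ((dvd_mul_right r₁ r₂).trans hf))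
    · have hz : IsZero (((bc f).obj K).X i) := by
        refine (ModuleCat.extendScalars (algebraMap R (Localization.Away f))).map_isZero (hK i ?_)
        rw [Finset.mem_Icc] at hi
        omega
      have : Subsingleton (((bc f).obj K).X i) := ModuleCat.subsingleton_of_isZero hz
      exact Module.Free.of_subsingleton _ _
  · intro i
    by_cases hi : i ∈ Finset.Icc a b
    · exact Groth.Agent.H89.CxRange.free_range_map (K.d i (i + 1)) (h.hom (i + 1) i)
        (ModuleCat.extendScalars (algebraMap R (Localization.Away f))) (hreg i)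
        (free_extendScalars_of_freeAt f (ModuleCat.of R (LinearMap.range (K.d i (i + 1)).hom))
          ((h₂ i hi).of_dvd ((dvd_mul_left r₂ r₁).trans hf)))
    · have hz : IsZero (((bc f).obj K).X i) := by
        refine (ModuleCat.extendScalars (algebraMap R (Localization.Away f))).map_isZero (hK i ?_)
        rw [Finset.mem_Icc] at hi
        omega
      have : Subsingleton (((bc f).obj K).X i) := ModuleCat.subsingleton_of_isZero hz
      have : Subsingleton (LinearMap.range (((bc f).obj K).d i (i + 1)).hom) := by
        constructor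
        rintro ⟨_, x, rfl⟩ ⟨_, y, rfl⟩
        rw [Subsingleton.elim x y]
      exact Module.Free.of_subsingleton _ _
  · have : (ModuleCat.extendScalars.{u, u, u} (algebraMap R (Localization.Away f))).Additive :=
      (ModuleCat.extendRestrictScalarsAdj.{u, u, u}
        (algebraMap R (Localization.Away f))).left_adjoint_additive
    exact ⟨(Homotopy.ofEq (by simp)).trans
      (((ModuleCat.extendScalars (algebraMap R (Localization.Away f))).mapHomotopy h).trans
        (Homotopy.ofEq (by simp)))⟩

end Groth.Agent.H89.CxLocFree
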