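import Mathlib

/-!
# Splitting a degreewise split sequence of complexes with contractible cokernel (helper89)

If `0 → A → B → K → 0` is a degreewise split sequence of complexes (in a preadditive category) and `K`
is contractible, then `B ≅ A ⊞ K` as complexes.
-/

set_option autoImplicit false
open CategoryTheory Limits

namespace Groth.Agent.H89.CxSplit

variable {V : Type*} [Category V] [Preadditive V] {ι : Type*} {c : ComplexShape ι}
variable {A B K : HomologicalComplex V c}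

/-- chain-map section built from a degreewise section and a contraction -/
noncomputable def sect (s₀ : ∀ n, K.X n ⟶ B.X n) (h : Homotopy (𝟙 K) 0) : K ⟶ B :=
  Homotopy.nullHomotopicMap (fun a b => h.hom a b ≫ s₀ b)

lemma sect_comp (p : B ⟶ K) (s₀ : ∀ n, K.X n ⟶ B.X n) (hs : ∀ n, s₀ n ≫ p.f n = 𝟙 _)
    (h : Homotopy (𝟙 K) 0) : sect s₀ h ≫ p = 𝟙 K := by
  rw [sect, Homotopy.nullHomotopicMap_comp]
  have e : (fun a b => (h.hom a b ≫ s₀ b) ≫ p.f b) = h.hom := by
    funext a b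
    rw [Category.assoc, hs, Category.comp_id]
  rw [e]
  ext n
  have := h.comm n
  simp only [HomologicalComplex.zero_f, add_zero] at this
  rw [this]
  rfl

lemma key_aux {X Y Z : V} (iX : X ⟶ Y) (pY : Y ⟶ Z) (r : Y ⟶ X) (s σ : Z ⟶ Y)
    (h3 : r ≫ iX + pY ≫ s = 𝟙 _) (hs : σ ≫ pY = 𝟙 _) :
    ((𝟙 _ - pY ≫ σ) ≫ r) ≫ iX = 𝟙 _ - pY ≫ σ := by
  have e : r ≫ iX = 𝟙 _ - pY ≫ s := by
    rw [← h3]
    abel
  rw [Category.assoc, e]
  simp only [Preadditive.sub_comp, Preadditive.comp_sub, Category.id_comp, Category.comp_id,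
    Category.assoc, reassoc_of% hs]
  abel

/-- the retraction -/
noncomputable def retr (i : A ⟶ B) (p : B ⟶ K) (r₀ : ∀ n, B.X n ⟶ A.X n) (s₀ : ∀ n, K.X n ⟶ B.X n)
    (h1 : ∀ n, i.f n ≫ r₀ n = 𝟙 _) (h2 : ∀ n, s₀ n ≫ p.f n = 𝟙 _)
    (h3 : ∀ n, r₀ n ≫ i.f n + p.f n ≫ s₀ n = 𝟙 _)
    (h : Homotopy (𝟙 K) 0) : B ⟶ A where
  f n := (𝟙 _ - p.f n ≫ (sect s₀ h).f n) ≫ r₀ n
  comm' n m _ := by
    have key : ∀ k, ((𝟙 _ - p.f k ≫ (sect s₀ h).f k) ≫ r₀ k) ≫ i.f k =
        𝟙 _ - p.f k ≫ (sect s₀ h).f k := by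
      intro k
      have hs : (sect s₀ h).f k ≫ p.f k = 𝟙 _ := by
        rw [← HomologicalComplex.comp_f, sect_comp p s₀ h2 h]
        rfl
      exact key_aux _ _ _ _ _ (h3 k) hs
    have e1 : (((𝟙 _ - p.f n ≫ (sect s₀ h).f n) ≫ r₀ n) ≫ A.d n m) ≫ i.f m =
        (B.d n m ≫ (𝟙 _ - p.f m ≫ (sect s₀ h).f m) ≫ r₀ m) ≫ i.f m := by
      rw [Category.assoc, ← i.comm, ← Category.assoc, key n, Category.assoc, key m,
        Preadditive.sub_comp, Preadditive.comp_sub, Category.id_comp, Category.comp_id,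
        Category.assoc, (sect s₀ h).comm, ← Category.assoc, p.comm, Category.assoc]
    have e2 := congrArg (fun x => x ≫ r₀ m) e1
    simp only [Category.assoc, h1, Category.comp_id] at e2
    simpa only [Category.assoc] using e2

variable [HasBinaryBiproducts V]

theorem nonempty_iso_biprod (i : A ⟶ B) (p : B ⟶ K)
    (r₀ : ∀ n, B.X n ⟶ A.X n) (s₀ : ∀ n, K.X n ⟶ B.X n)
    (h1 : ∀ n, i.f n ≫ r₀ n = 𝟙 _) (h2 : ∀ n, s₀ n ≫ p.f n = 𝟙 _)
    (h3 : ∀ n, r₀ n ≫ i.f n + p.f n ≫ s₀ n = 𝟙 _) (h4 : i ≫ p = 0)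
    (h : Homotopy (𝟙 K) 0) : Nonempty (B ≅ A ⊞ K) := by
  have hσ : sect s₀ h ≫ p = 𝟙 K := sect_comp p s₀ h2 h
  have hri : retr i p r₀ s₀ h1 h2 h3 h ≫ i = 𝟙 B - p ≫ sect s₀ h := by
    ext k
    have hs : (sect s₀ h).f k ≫ p.f k = 𝟙 _ := by
      rw [← HomologicalComplex.comp_f, hσ]
      rfl
    simp only [HomologicalComplex.comp_f, retr, HomologicalComplex.sub_f_apply,
      HomologicalComplex.id_f]
    exact key_aux _ _ _ _ _ (h3 k) hs
  have hir : i ≫ retr i p r₀ s₀ h1 h2 h3 h = 𝟙 A := by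
    ext k
    have h4k : i.f k ≫ p.f k = 0 := by
      rw [← HomologicalComplex.comp_f, h4]
      rfl
    simp only [HomologicalComplex.comp_f, retr, HomologicalComplex.id_f]
    rw [Preadditive.sub_comp, Preadditive.comp_sub, Category.id_comp, h1, Category.assoc,
      reassoc_of% h4k, zero_comp, sub_zero]
  have hσr : sect s₀ h ≫ retr i p r₀ s₀ h1 h2 h3 h = 0 := by
    ext k
    have hs : (sect s₀ h).f k ≫ p.f k = 𝟙 _ := by
      rw [← HomologicalComplex.comp_f, hσ]
      rfl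
    simp only [HomologicalComplex.comp_f, retr, HomologicalComplex.zero_f]
    rw [Preadditive.sub_comp, Preadditive.comp_sub, Category.id_comp, Category.assoc,
      reassoc_of% hs, sub_self]
  refine ⟨⟨biprod.lift (retr i p r₀ s₀ h1 h2 h3 h) p, biprod.desc i (sect s₀ h), ?_, ?_⟩⟩
  · rw [biprod.lift_desc, hri]
    abel
  · apply biprod.hom_ext
    · apply biprod.hom_ext'
      · simp only [Category.assoc, biprod.lift_fst, biprod.inl_desc_assoc, hir, Category.id_comp,
          biprod.inl_fst]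
      · simp only [Category.assoc, biprod.lift_fst, biprod.inr_desc_assoc, hσr, Category.id_comp,
          biprod.inr_fst]
    · apply biprod.hom_ext'
      · simp only [Category.assoc, biprod.lift_snd, biprod.inl_desc_assoc, h4, Category.id_comp,
          biprod.inl_snd]
      · simp only [Category.assoc, biprod.lift_snd, biprod.inr_desc_assoc, hσ, Category.id_comp,
          biprod.inr_snd]

end Groth.Agent.H89.CxSplit
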