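import Mathlib
import Groth.Agent.H89.CxSplit

/-!
# `cone(𝟙 M) ⊞ N ≅ M ⊞ cone(φ)` when `cone(φ)` is contractible (helper89)
-/

set_option autoImplicit false
open CategoryTheory Limits CochainComplex HomComplex

namespace Groth.Agent.H89.CxStable

variable {C : Type*} [Category C] [Preadditive C] [HasBinaryBiproducts C]
variable {M N : CochainComplex C ℤ} (φ : M ⟶ N)

/-- the comparison map `cone(𝟙 M) ⟶ cone φ` -/
noncomputable def coneMap : mappingCone (𝟙 M) ⟶ mappingCone φ :=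
  mappingCone.desc (𝟙 M) (mappingCone.inl φ) (φ ≫ mappingCone.inr φ) (by simp)

/-- the inclusion `M ⟶ cone(𝟙 M) ⊞ N` -/
noncomputable def incl : M ⟶ mappingCone (𝟙 M) ⊞ N := biprod.lift (mappingCone.inr (𝟙 M)) φ

/-- the projection `cone(𝟙 M) ⊞ N ⟶ cone φ` -/
noncomputable def proj : mappingCone (𝟙 M) ⊞ N ⟶ mappingCone φ :=
  biprod.desc (coneMap φ) (-mappingCone.inr φ)

lemma inr_coneMap : mappingCone.inr (𝟙 M) ≫ coneMap φ = φ ≫ mappingCone.inr φ := by
  simp [coneMap]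

@[reassoc]
lemma inl_coneMap (n m : ℤ) (h : n + (-1) = m) :
    (mappingCone.inl (𝟙 M)).v n m h ≫ (coneMap φ).f m = (mappingCone.inl φ).v n m h := by
  simp [coneMap]

lemma incl_proj : incl φ ≫ proj φ = 0 := by
  rw [incl, proj, biprod.lift_desc, inr_coneMap]
  simp

/-- degreewise retraction -/
noncomputable def r₀ (n : ℤ) : (mappingCone (𝟙 M) ⊞ N).X n ⟶ M.X n :=
  (biprod.fst : mappingCone (𝟙 M) ⊞ N ⟶ _).f n ≫ (mappingCone.snd (𝟙 M)).v n n (add_zero n)

/-- degreewise section -/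
noncomputable def s₀ (n : ℤ) : (mappingCone φ).X n ⟶ (mappingCone (𝟙 M) ⊞ N).X n :=
  (mappingCone.fst φ).1.v n (n + 1) rfl ≫ (mappingCone.inl (𝟙 M)).v (n + 1) n (by omega) ≫
      (biprod.inl : _ ⟶ mappingCone (𝟙 M) ⊞ N).f n
    - (mappingCone.snd φ).v n n (add_zero n) ≫ (biprod.inr : _ ⟶ mappingCone (𝟙 M) ⊞ N).f n

section degreewise

variable (T : CochainComplex C ℤ) (N' : CochainComplex C ℤ) (n : ℤ)

@[reassoc]
lemma binl_fst : (biprod.inl : T ⟶ T ⊞ N').f n ≫ (biprod.fst : T ⊞ N' ⟶ T).f n = 𝟙 _ := by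
  rw [← HomologicalComplex.comp_f, biprod.inl_fst, HomologicalComplex.id_f]

@[reassoc]
lemma binl_snd : (biprod.inl : T ⟶ T ⊞ N').f n ≫ (biprod.snd : T ⊞ N' ⟶ N').f n = 0 := by
  rw [← HomologicalComplex.comp_f, biprod.inl_snd, HomologicalComplex.zero_f]

@[reassoc]
lemma binr_fst : (biprod.inr : N' ⟶ T ⊞ N').f n ≫ (biprod.fst : T ⊞ N' ⟶ T).f n = 0 := by
  rw [← HomologicalComplex.comp_f, biprod.inr_fst, HomologicalComplex.zero_f]

@[reassoc]
lemma binr_snd : (biprod.inr : N' ⟶ T ⊞ N').f n ≫ (biprod.snd : T ⊞ N' ⟶ N').f n = 𝟙 _ := by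
  rw [← HomologicalComplex.comp_f, biprod.inr_snd, HomologicalComplex.id_f]

lemma btotal : (biprod.fst : T ⊞ N' ⟶ T).f n ≫ (biprod.inl : T ⟶ T ⊞ N').f n +
    (biprod.snd : T ⊞ N' ⟶ N').f n ≫ (biprod.inr : N' ⟶ T ⊞ N').f n = 𝟙 _ := by
  rw [← HomologicalComplex.comp_f, ← HomologicalComplex.comp_f, ← HomologicalComplex.add_f_apply,
    biprod.total, HomologicalComplex.id_f]

lemma bext {Z : C} (f g : (T ⊞ N').X n ⟶ Z)
    (h1 : (biprod.inl : T ⟶ T ⊞ N').f n ≫ f = (biprod.inl : T ⟶ T ⊞ N').f n ≫ g)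
    (h2 : (biprod.inr : N' ⟶ T ⊞ N').f n ≫ f = (biprod.inr : N' ⟶ T ⊞ N').f n ≫ g) : f = g := by
  rw [← Category.id_comp f, ← Category.id_comp g, ← btotal T N' n, Preadditive.add_comp,
    Preadditive.add_comp, Category.assoc, Category.assoc, Category.assoc, Category.assoc, h1, h2]

end degreewise

lemma incl_r₀ (n : ℤ) : (incl φ).f n ≫ r₀ (N := N) n = 𝟙 _ := by
  rw [r₀, ← HomologicalComplex.comp_f_assoc, incl, biprod.lift_fst, mappingCone.inr_f_snd_v]

@[reassoc]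
lemma binl_proj (n : ℤ) : (biprod.inl : _ ⟶ mappingCone (𝟙 M) ⊞ N).f n ≫ (proj φ).f n =
    (coneMap φ).f n := by
  rw [← HomologicalComplex.comp_f, proj, biprod.inl_desc]

@[reassoc]
lemma binr_proj (n : ℤ) : (biprod.inr : _ ⟶ mappingCone (𝟙 M) ⊞ N).f n ≫ (proj φ).f n =
    -(mappingCone.inr φ).f n := by
  rw [← HomologicalComplex.comp_f, proj, biprod.inr_desc, HomologicalComplex.neg_f_apply]

lemma s₀_proj (n : ℤ) : s₀ φ n ≫ (proj φ).f n = 𝟙 _ := by
  rw [s₀, Preadditive.sub_comp, Category.assoc, Category.assoc, Category.assoc, binl_proj,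
    binr_proj, inl_coneMap, Preadditive.comp_neg, sub_neg_eq_add]
  exact mappingCone.id_X φ n (n + 1) rfl

lemma incl_f (n : ℤ) : (incl φ).f n =
    (mappingCone.inr (𝟙 M)).f n ≫ (biprod.inl : _ ⟶ mappingCone (𝟙 M) ⊞ N).f n +
      φ.f n ≫ (biprod.inr : _ ⟶ mappingCone (𝟙 M) ⊞ N).f n := by
  rw [incl, biprod.lift_eq, HomologicalComplex.add_f_apply, HomologicalComplex.comp_f,
    HomologicalComplex.comp_f]

lemma total (n : ℤ) : r₀ (N := N) n ≫ (incl φ).f n + (proj φ).f n ≫ s₀ φ n = 𝟙 _ := by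
  apply bext
  · apply mappingCone.ext_from (𝟙 M) (n + 1) n rfl
    · rw [Category.comp_id, Preadditive.comp_add, Preadditive.comp_add, r₀, Category.assoc, binl_fst_assoc,
        mappingCone.inl_v_snd_v_assoc, zero_comp, zero_add, binl_proj_assoc, inl_coneMap_assoc, s₀,
        Preadditive.comp_sub, mappingCone.inl_v_fst_v_assoc, mappingCone.inl_v_snd_v_assoc,
        zero_comp, sub_zero]
    · rw [Category.comp_id, Preadditive.comp_add, Preadditive.comp_add, r₀, Category.assoc, binl_fst_assoc,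
        mappingCone.inr_f_snd_v_assoc, binl_proj_assoc, ← HomologicalComplex.comp_f_assoc,
        inr_coneMap, HomologicalComplex.comp_f, Category.assoc, s₀,
        Preadditive.comp_sub, Preadditive.comp_sub, mappingCone.inr_f_fst_v_assoc,
        mappingCone.inr_f_snd_v_assoc, zero_comp, comp_zero, zero_sub, incl_f]
      abel
  · rw [Category.comp_id, Preadditive.comp_add, r₀, Category.assoc, binr_fst_assoc, zero_comp, zero_add,
      binr_proj_assoc, s₀, Preadditive.neg_comp, Preadditive.comp_sub,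
      mappingCone.inr_f_fst_v_assoc, mappingCone.inr_f_snd_v_assoc, zero_comp, zero_sub, neg_neg]

/-- **Stabilisation**: if the cone of `φ : M ⟶ N` is contractible, then
`cone(𝟙 M) ⊞ N ≅ M ⊞ cone φ`. -/
theorem nonempty_iso (h : Homotopy (𝟙 (mappingCone φ)) 0) :
    Nonempty (mappingCone (𝟙 M) ⊞ N ≅ M ⊞ mappingCone φ) :=
  Groth.Agent.H89.CxSplit.nonempty_iso_biprod (incl φ) (proj φ) (fun n => r₀ n) (fun n => s₀ φ n)
    (incl_r₀ φ) (s₀_proj φ) (total φ) (incl_proj φ) h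

end Groth.Agent.H89.CxStable
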