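import Mathlib
import Groth.Agent.H89.CxStable
import Groth.Agent.H35.DerHom
import Groth.Agent.H73.ConeQis
import Groth.Agent.H28.StrictPerf

/-!
# Bounded complexes of projectives isomorphic in `D(C)` are stably isomorphic (helper89)

If `M`, `N` are bounded above complexes of projectives which are isomorphic in the derived category, then
there is a chain map `φ : M ⟶ N` whose cone is contractible and `cone(𝟙 M) ⊞ N ≅ M ⊞ cone φ`.
-/

set_option autoImplicit false
universe w v u
open CategoryTheory Limits CochainComplex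

namespace Groth.Agent.H89.CxStableD

variable {C : Type u} [Category.{v} C] [Abelian C] [HasDerivedCategory.{w} C]

open DerivedCategory

theorem exists_contractible_cone (M N : CochainComplex C ℤ) (b : ℤ)
    (hMb : ∀ i : ℤ, b < i → IsZero (M.X i)) (hNb : ∀ i : ℤ, b < i → IsZero (N.X i))
    (hMp : ∀ i : ℤ, Projective (M.X i)) (hNp : ∀ i : ℤ, Projective (N.X i))
    (e : Q.obj M ≅ Q.obj N) :
    ∃ φ : M ⟶ N, Nonempty (Homotopy (𝟙 (mappingCone φ)) 0) := by
  have : M.IsStrictlyLE b := by
    rw [CochainComplex.isStrictlyLE_iff]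
    exact hMb
  have : M.IsKProjective := CochainComplex.isKProjective_of_projective M b
  obtain ⟨φ, hφ⟩ := Groth.Agent.H35.Q_map_surjective_of_isKProjective N e.hom
  have hiso : IsIso (Q.map φ) := by
    rw [hφ]
    infer_instance
  have hq : QuasiIso φ := (DerivedCategory.isIso_Q_map_iff_quasiIso C φ).mp hiso
  have hac : (mappingCone φ).Acyclic := (Groth.Agent.H73.quasiIso_iff_acyclic_mappingCone φ).mp hq
  have hCb : (mappingCone φ).IsStrictlyLE b := by
    rw [CochainComplex.isStrictlyLE_iff]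
    intro i hi
    exact Groth.Agent.H28.StrictPerf.isZero_mappingCone φ i (hMb _ (by omega)) (hNb _ hi)
  have hCp : ∀ n : ℤ, Projective ((mappingCone φ).X n) := by
    intro n
    have := hMp (n + 1)
    have := hNp n
    exact Projective.of_iso (Groth.Agent.H35.mappingConeXIso φ n).symm inferInstance
  have : (mappingCone φ).IsKProjective := CochainComplex.isKProjective_of_projective _ b
  exact ⟨φ, ⟨IsKProjective.homotopyZero (𝟙 _) hac⟩⟩

theorem exists_stable_iso (M N : CochainComplex C ℤ) (b : ℤ)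
    (hMb : ∀ i : ℤ, b < i → IsZero (M.X i)) (hNb : ∀ i : ℤ, b < i → IsZero (N.X i))
    (hMp : ∀ i : ℤ, Projective (M.X i)) (hNp : ∀ i : ℤ, Projective (N.X i))
    (e : Q.obj M ≅ Q.obj N) :
    ∃ φ : M ⟶ N, Nonempty (Homotopy (𝟙 (mappingCone φ)) 0) ∧
      Nonempty (mappingCone (𝟙 M) ⊞ N ≅ M ⊞ mappingCone φ) := by
  obtain ⟨φ, ⟨h⟩⟩ := exists_contractible_cone M N b hMb hNb hMp hNp e
  exact ⟨φ, ⟨h⟩, Groth.Agent.H89.CxStable.nonempty_iso φ h⟩

end Groth.Agent.H89.CxStableD
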