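import Mathlib

/-!
# Dualizable graded modules and complexes (helper89)

* `mapExactPairing`: a monoidal functor carries an exact pairing to an exact pairing.
* `graded_main`: if `X` has a left dual `Y` in ℤ-graded `R`-modules, then `X` is concentrated in
  finitely many degrees and each `X q` is a finitely generated projective module.
-/

open CategoryTheory MonoidalCategory Limits Functor.LaxMonoidal Functor.OplaxMonoidal
universe v₁ v₂ u₁ u₂ u
namespace Groth.Agent.H89.DualCx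

section General

variable {C : Type u₁} [Category.{v₁} C] [MonoidalCategory C]
  {D : Type u₂} [Category.{v₂} D] [MonoidalCategory D] (F : C ⥤ D) [F.Monoidal]

theorem map_coev_eval (X Y : C) [ExactPairing X Y] :
    F.obj Y ◁ (ε F ≫ F.map (η_ X Y) ≫ δ F X Y) ≫ (α_ _ _ _).inv ≫
        (μ F Y X ≫ F.map (ε_ X Y) ≫ η F) ▷ _ =
      (ρ_ (F.obj Y)).hom ≫ (λ_ (F.obj Y)).inv := by
  have h := congrArg F.map (ExactPairing.coevaluation_evaluation X Y)
  simp only [Functor.map_comp, Functor.Monoidal.map_whiskerLeft, Functor.Monoidal.map_whiskerRight,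
      Functor.Monoidal.map_associator_inv, Functor.Monoidal.map_rightUnitor,
      Functor.Monoidal.map_leftUnitor_inv] at h
  have h' := μ F Y (𝟙_ C) ≫= (h =≫ δ F (𝟙_ C) Y)
  simp only [Category.assoc, Functor.Monoidal.μ_δ, Functor.Monoidal.μ_δ_assoc, Category.comp_id] at h'
  have e1 : F.obj Y ◁ ε F ≫ F.obj Y ◁ η F = 𝟙 _ := by
    rw [← MonoidalCategory.whiskerLeft_comp, Functor.Monoidal.ε_η, MonoidalCategory.whiskerLeft_id]
  have e2 : ε F ▷ F.obj Y ≫ η F ▷ F.obj Y = 𝟙 _ := by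
    rw [← MonoidalCategory.comp_whiskerRight, Functor.Monoidal.ε_η, MonoidalCategory.id_whiskerRight]
  calc _ = F.obj Y ◁ ε F ≫ (F.obj Y ◁ F.map (η_ X Y) ≫ F.obj Y ◁ δ F X Y ≫ (α_ _ _ _).inv ≫
        μ F Y X ▷ F.obj Y ≫ F.map (ε_ X Y) ▷ F.obj Y) ≫ η F ▷ F.obj Y := by
        simp only [MonoidalCategory.whiskerLeft_comp, MonoidalCategory.comp_whiskerRight, Category.assoc]
    _ = _ := by
        rw [h']
        simp only [Category.assoc]
        rw [reassoc_of% e1, e2, Category.comp_id]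

theorem map_eval_coev (X Y : C) [ExactPairing X Y] :
    (ε F ≫ F.map (η_ X Y) ≫ δ F X Y) ▷ F.obj X ≫ (α_ _ _ _).hom ≫
        F.obj X ◁ (μ F Y X ≫ F.map (ε_ X Y) ≫ η F) =
      (λ_ (F.obj X)).hom ≫ (ρ_ (F.obj X)).inv := by
  have h := congrArg F.map (ExactPairing.evaluation_coevaluation X Y)
  simp only [Functor.map_comp, Functor.Monoidal.map_whiskerLeft, Functor.Monoidal.map_whiskerRight,
      Functor.Monoidal.map_associator, Functor.Monoidal.map_leftUnitor,
      Functor.Monoidal.map_rightUnitor_inv] at h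
  have h' := μ F (𝟙_ C) X ≫= (h =≫ δ F X (𝟙_ C))
  simp only [Category.assoc, Functor.Monoidal.μ_δ, Functor.Monoidal.μ_δ_assoc, Category.comp_id] at h'
  have e1 : F.obj X ◁ ε F ≫ F.obj X ◁ η F = 𝟙 _ := by
    rw [← MonoidalCategory.whiskerLeft_comp, Functor.Monoidal.ε_η, MonoidalCategory.whiskerLeft_id]
  have e2 : ε F ▷ F.obj X ≫ η F ▷ F.obj X = 𝟙 _ := by
    rw [← MonoidalCategory.comp_whiskerRight, Functor.Monoidal.ε_η, MonoidalCategory.id_whiskerRight]
  calc _ = ε F ▷ F.obj X ≫ (F.map (η_ X Y) ▷ F.obj X ≫ δ F X Y ▷ F.obj X ≫ (α_ _ _ _).hom ≫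
        F.obj X ◁ μ F Y X ≫ F.obj X ◁ F.map (ε_ X Y)) ≫ F.obj X ◁ η F := by
        simp only [MonoidalCategory.whiskerLeft_comp, MonoidalCategory.comp_whiskerRight, Category.assoc]
    _ = _ := by
        rw [h']
        simp only [Category.assoc]
        rw [reassoc_of% e2, e1, Category.comp_id]

/-- A monoidal functor carries an exact pairing to an exact pairing. -/
@[reducible] noncomputable def mapExactPairing (X Y : C) [ExactPairing X Y] :
    ExactPairing (F.obj X) (F.obj Y) where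
  coevaluation' := ε F ≫ F.map (η_ X Y) ≫ δ F X Y
  evaluation' := μ F Y X ≫ F.map (ε_ X Y) ≫ η F
  coevaluation_evaluation' := map_coev_eval F X Y
  evaluation_coevaluation' := map_eval_coev F X Y

end General

section Graded

open GradedObject.Monoidal

variable {R : Type u} [CommRing R]

/-- ℤ-graded `R`-modules -/
abbrev G (R : Type u) [CommRing R] := GradedObject ℤ (ModuleCat.{u} R)

theorem unit_subsingleton (j : ℤ) (hj : j ≠ 0) : Subsingleton ((𝟙_ (G R)) j : ModuleCat.{u} R) := by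
  have hI : IsInitial ((𝟙_ (G R)) j : ModuleCat.{u} R) :=
    isInitialTensorUnitApply (I := ℤ) (C := ModuleCat.{u} R) j hj
  have hz : IsZero ((𝟙_ (G R)) j : ModuleCat.{u} R) := by
    rw [IsZero.iff_id_eq_zero]
    exact hI.hom_ext _ _
  exact ModuleCat.subsingleton_of_isZero hz

theorem unit_finite (j : ℤ) : Module.Finite R ((𝟙_ (G R)) j : ModuleCat.{u} R) := by
  by_cases hj : j = 0
  · subst hj
    have e : ((𝟙_ (G R)) 0 : ModuleCat.{u} R) ≅ 𝟙_ (ModuleCat.{u} R) :=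
      tensorUnit₀ (I := ℤ) (C := ModuleCat.{u} R)
    exact Module.Finite.equiv (e.symm.toLinearEquiv : R ≃ₗ[R] _)
  · have := unit_subsingleton (R := R) j hj
    infer_instance

theorem unit_projective (j : ℤ) : Module.Projective R ((𝟙_ (G R)) j : ModuleCat.{u} R) := by
  by_cases hj : j = 0
  · subst hj
    have e : ((𝟙_ (G R)) 0 : ModuleCat.{u} R) ≅ 𝟙_ (ModuleCat.{u} R) :=
      tensorUnit₀ (I := ℤ) (C := ModuleCat.{u} R)
    let e' : R ≃ₗ[R] ((𝟙_ (G R)) 0 : ModuleCat.{u} R) := e.symm.toLinearEquiv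
    exact Module.Projective.of_equiv' (M := R) e'
  · have := unit_subsingleton (R := R) j hj
    infer_instance

variable (X Y : G R)

/-- generators of a degree `n` piece of a graded tensor product -/
def gens (n : ℤ) : Set ((X ⊗ Y : G R) n) :=
  {m | ∃ (p p' : ℤ) (h : p + p' = n) (a : X p) (b : Y p'),
    m = (ιTensorObj X Y p p' n h).hom (a ⊗ₜ[R] b)}

theorem span_gens (n : ℤ) : Submodule.span R (gens X Y n) = ⊤ := by
  set S := Submodule.span R (gens X Y n) with hS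
  have key : ModuleCat.ofHom S.mkQ = (0 : (X ⊗ Y : G R) n ⟶ ModuleCat.of R (_ ⧸ S)) := by
    apply GradedObject.Monoidal.tensorObj_ext
    intro p p' h
    apply ModuleCat.MonoidalCategory.tensor_ext
    intro a b
    have : (ιTensorObj X Y p p' n h).hom (a ⊗ₜ[R] b) ∈ S :=
      Submodule.subset_span ⟨p, p', h, a, b, rfl⟩
    simpa using (Submodule.Quotient.mk_eq_zero S).2 this
  rw [eq_top_iff]
  intro m _
  have := congrArg (fun f => f.hom m) key
  exact (Submodule.Quotient.mk_eq_zero S).1 this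

variable [ExactPairing X Y]

/-- the composite whose value at `η ⊗ x` is `x` -/
noncomputable def Psi (q : ℤ) : ((X ⊗ Y : G R) 0 ⊗ X q : ModuleCat.{u} R) ⟶ X q :=
  ιTensorObj (X ⊗ Y) X 0 q q (zero_add q) ≫ (α_ X Y X).hom q ≫ (X ◁ ε_ X Y) q ≫ (ρ_ X).hom q

theorem Psi_aux (q p p' : ℤ) (h : p + p' = 0) :
    (ιTensorObj X Y p p' 0 h ▷ X q) ≫ ιTensorObj (X ⊗ Y) X 0 q q (zero_add q) ≫
      (α_ X Y X).hom q ≫ (X ◁ ε_ X Y) q =
      (α_ (X p) (Y p') (X q)).hom ≫ (X p ◁ ιTensorObj Y X p' q (p' + q) rfl) ≫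
        (X p ◁ (ε_ X Y) (p' + q)) ≫ ιTensorObj X (𝟙_ (G R)) p (p' + q) q (by omega) := by
  have h' : p + p' + q = q := by omega
  have s1 : ιTensorObj₃' X Y X p p' q q h' =
      ιTensorObj X Y p p' 0 h ▷ X q ≫ ιTensorObj (X ⊗ Y) X 0 q q (zero_add q) :=
    ιTensorObj₃'_eq X Y X p p' q q h' 0 h
  have s2 : ιTensorObj₃' X Y X p p' q q h' ≫ (α_ X Y X).hom q =
      (α_ (X p) (Y p') (X q)).hom ≫ ιTensorObj₃ X Y X p p' q q h' :=
    ιTensorObj₃'_associator_hom X Y X p p' q q h'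
  have s3 : ιTensorObj₃ X Y X p p' q q h' =
      X p ◁ ιTensorObj Y X p' q (p' + q) rfl ≫ ιTensorObj X (Y ⊗ X) p (p' + q) q (by omega) :=
    ιTensorObj₃_eq X Y X p p' q q h' (p' + q) rfl
  have s4 : ιTensorObj X (Y ⊗ X) p (p' + q) q (by omega) ≫ (X ◁ ε_ X Y) q =
      (X p ◁ (ε_ X Y) (p' + q)) ≫ ιTensorObj X (𝟙_ (G R)) p (p' + q) q (by omega) := by
    have := ι_tensorHom (𝟙 X) (ε_ X Y) p (p' + q) q (by omega)
    rw [show (𝟙 X : X ⟶ X) p = 𝟙 (X p) from rfl, MonoidalCategory.id_tensorHom] at this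
    exact this
  rw [← Category.assoc, ← s1, ← Category.assoc, s2, s3]
  simp only [Category.assoc]
  rw [s4]

theorem Psi_gen (q p p' : ℤ) (h : p + p' = 0) (a : X p) (b : Y p') (x : X q) :
    (Psi X Y q).hom (((ιTensorObj X Y p p' 0 h).hom (a ⊗ₜ[R] b)) ⊗ₜ[R] x) =
      ((ρ_ X).hom q).hom ((ιTensorObj X (𝟙_ (G R)) p (p' + q) q (by omega)).hom
        (a ⊗ₜ[R] ((ε_ X Y) (p' + q)).hom ((ιTensorObj Y X p' q (p' + q) rfl).hom (b ⊗ₜ[R] x)))) := by
  have e := Psi_aux X Y q p p' h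
  have e' := congrArg (fun f => (f ≫ (ρ_ X).hom q).hom ((a ⊗ₜ[R] b) ⊗ₜ[R] x)) e
  simp only [Category.assoc] at e'
  exact e'

/-- the unit element of the graded unit in degree 0 -/
noncomputable def one₀ : ((𝟙_ (G R)) 0 : ModuleCat.{u} R) :=
  (tensorUnit₀ (I := ℤ) (C := ModuleCat.{u} R)).inv.hom (1 : R)

theorem Psi_coev (q : ℤ) (x : X q) :
    (Psi X Y q).hom ((((η_ X Y) 0).hom (one₀ (R := R))) ⊗ₜ[R] x) = x := by
  have t := ExactPairing.evaluation_coevaluation X Y
  have t1 : ιTensorObj (𝟙_ (G R)) X 0 q q (zero_add q) ≫ (η_ X Y ▷ X) q =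
      ((η_ X Y) 0 ▷ X q) ≫ ιTensorObj (X ⊗ Y) X 0 q q (zero_add q) := by
    have := ι_tensorHom (η_ X Y) (𝟙 X) 0 q q (zero_add q)
    rw [show (𝟙 X : X ⟶ X) q = 𝟙 (X q) from rfl, MonoidalCategory.tensorHom_id] at this
    exact this
  have t2 : (λ_ X).inv q = (λ_ (X q)).inv ≫ (tensorUnit₀ (I := ℤ) (C := ModuleCat.{u} R)).inv ▷ X q ≫
      ιTensorObj (𝟙_ (G R)) X 0 q q (zero_add q) := leftUnitor_inv_apply X q
  have t3 : (λ_ (X q)).inv ≫ (tensorUnit₀ (I := ℤ) (C := ModuleCat.{u} R)).inv ▷ X q ≫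
      ((η_ X Y) 0 ▷ X q) ≫ Psi X Y q = 𝟙 (X q) := by
    have t4 : (η_ X Y ▷ X) q ≫ (α_ X Y X).hom q ≫ (X ◁ ε_ X Y) q = (λ_ X).hom q ≫ (ρ_ X).inv q :=
      congrFun t q
    have t5 : (λ_ X).inv q ≫ (λ_ X).hom q = 𝟙 _ := congrFun (λ_ X).inv_hom_id q
    have t6 : (ρ_ X).inv q ≫ (ρ_ X).hom q = 𝟙 _ := congrFun (ρ_ X).inv_hom_id q
    unfold Psi
    rw [reassoc_of% t1.symm, reassoc_of% t4, t6, Category.comp_id]
    rw [← Category.assoc, ← Category.assoc]
    rw [Category.assoc ((λ_ (X q)).inv), ← t2, t5]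
  have := congrArg (fun f => f.hom x) t3
  exact this

include Y in
/-- Finite decomposition of the identity of `X q`, uniformly in `q`. -/
theorem exists_decomp : ∃ (n : ℕ) (p p' : Fin n → ℤ) (_ : ∀ i, p i + p' i = 0),
    ∀ q : ℤ, ∃ (F : ∀ i, X q →ₗ[R] ((𝟙_ (G R)) (p' i + q) : ModuleCat.{u} R))
      (Gm : ∀ i, ((𝟙_ (G R)) (p' i + q) : ModuleCat.{u} R) →ₗ[R] X q),
      ∀ x : X q, x = ∑ i, Gm i (F i x) := by
  have hc : ((η_ X Y) 0).hom (one₀ (R := R)) ∈ Submodule.span R (gens X Y 0) := by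
    rw [span_gens]; trivial
  obtain ⟨n, f, g, hfg⟩ := Submodule.mem_span_set'.1 hc
  choose p p' hp a b hab using fun i => (g i).2
  refine ⟨n, p, p', hp, fun q => ?_⟩
  refine ⟨fun i => ((ε_ X Y) (p' i + q)).hom ∘ₗ (ιTensorObj Y X (p' i) q (p' i + q) rfl).hom ∘ₗ
      (TensorProduct.mk R (Y (p' i)) (X q) (b i)),
    fun i => f i • (((ρ_ X).hom q).hom ∘ₗ
      (ιTensorObj X (𝟙_ (G R)) (p i) (p' i + q) q (by have := hp i; omega)).hom ∘ₗ
      (TensorProduct.mk R (X (p i)) ((𝟙_ (G R)) (p' i + q) : ModuleCat.{u} R) (a i))), fun x => ?_⟩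
  conv_lhs => rw [← Psi_coev X Y q x, ← hfg]
  rw [TensorProduct.sum_tmul, map_sum]
  refine Finset.sum_congr rfl fun i _ => ?_
  rw [← TensorProduct.smul_tmul', map_smul, hab i, Psi_gen X Y q (p i) (p' i) (hp i)]
  rfl

include Y in
/-- Main theorem on graded modules: a graded module with a left dual is concentrated in finitely many
degrees and is degreewise finitely generated projective. -/
theorem graded_main : (∃ B : ℤ, ∀ q : ℤ, (q < -B ∨ B < q) → IsZero (X q)) ∧
    ∀ q : ℤ, Module.Finite R (X q) ∧ Module.Projective R (X q) := by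
  obtain ⟨n, p, p', hp, H⟩ := exists_decomp X Y
  constructor
  · refine ⟨∑ i, |p i|, fun q hq => ?_⟩
    obtain ⟨F, Gm, hx⟩ := H q
    have hne : ∀ i, p' i + q ≠ 0 := by
      intro i h0
      have h1 : |p i| ≤ ∑ j, |p j| :=
        Finset.single_le_sum (f := fun j => |p j|) (fun j _ => abs_nonneg _) (Finset.mem_univ i)
      have h2 := hp i
      have h3 : q = p i := by omega
      rw [← h3] at h1
      rcases hq with hq | hq
      · have := neg_abs_le q; omega
      · have := le_abs_self q; omega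
    have : Subsingleton (X q) := by
      refine ⟨fun x y => ?_⟩
      rw [hx x, hx y]
      refine Finset.sum_congr rfl fun i _ => ?_
      have := unit_subsingleton (R := R) (p' i + q) (hne i)
      rw [Subsingleton.elim (F i x) (F i y)]
    exact ModuleCat.isZero_of_subsingleton _
  · intro q
    obtain ⟨F, Gm, hx⟩ := H q
    have hfin : ∀ i, Module.Finite R ((𝟙_ (G R)) (p' i + q) : ModuleCat.{u} R) :=
      fun i => unit_finite _
    have hproj : ∀ i, Module.Projective R ((𝟙_ (G R)) (p' i + q) : ModuleCat.{u} R) :=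
      fun i => unit_projective _
    let S : X q →ₗ[R] (Π₀ i, ((𝟙_ (G R)) (p' i + q) : ModuleCat.{u} R)) :=
      (DFinsupp.linearEquivFunOnFintype (R := R)).symm.toLinearMap ∘ₗ LinearMap.pi F
    let T : (Π₀ i, ((𝟙_ (G R)) (p' i + q) : ModuleCat.{u} R)) →ₗ[R] X q :=
      (∑ i, Gm i ∘ₗ LinearMap.proj i) ∘ₗ (DFinsupp.linearEquivFunOnFintype (R := R)).toLinearMap
    have hTS : ∀ x, T (S x) = x := by
      intro x
      simp only [S, T, LinearMap.comp_apply, LinearEquiv.coe_coe, LinearEquiv.apply_symm_apply,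
        LinearMap.sum_apply, LinearMap.proj_apply, LinearMap.pi_apply]
      exact (hx x).symm
    constructor
    · have : Module.Finite R (Π₀ i, ((𝟙_ (G R)) (p' i + q) : ModuleCat.{u} R)) :=
        Module.Finite.equiv (DFinsupp.linearEquivFunOnFintype (R := R)).symm
      exact Module.Finite.of_surjective T fun x => ⟨S x, hTS x⟩
    · exact Module.Projective.of_split S T (LinearMap.ext hTS)

end Graded

end Groth.Agent.H89.DualCx
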