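import Groth.Prelude.Def_EssEt
import Mathlib

set_option autoImplicit false
universe u

namespace Groth.Agent.H89

open EGA4loc

/-- An essentially etale local algebra is quasi-finite, formally unramified and essentially of finite
type, and its structure map is local. -/
theorem essEt_props (A : Type u) [CommRing A] [IsLocalRing A]
    (B : Type u) [CommRing B] [IsLocalRing B] [Algebra A B] (hB : EGA4loc.IsEssentiallyEtale A B) :
    Algebra.QuasiFinite A B ∧ Algebra.FormallyUnramified A B ∧ Algebra.EssFiniteType A B ∧
      (IsLocalRing.maximalIdeal B).comap (algebraMap A B) = IsLocalRing.maximalIdeal A := by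
  obtain ⟨C, _, _, q, _, hC, hq, ⟨e⟩⟩ := hB
  refine ⟨?_, ?_, ?_, ?_⟩
  · exact (Algebra.QuasiFinite.iff_of_algEquiv e).mpr inferInstance
  · exact Algebra.FormallyUnramified.of_equiv e.symm
  · exact Algebra.EssFiniteType.of_surjective e.symm.toAlgHom e.symm.surjective
  · -- the maximal ideal of `B` corresponds to that of the localization
    have h1 : (IsLocalRing.maximalIdeal B) =
        (IsLocalRing.maximalIdeal (Localization.AtPrime q)).comap e.toRingEquiv.toRingHom := by
      have : IsLocalHom e.toRingEquiv.toRingHom := by
        constructor
        intro b hb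
        have := hb.map e.symm.toRingEquiv.toRingHom
        simpa using this
      have h4 := ((IsLocalRing.local_hom_TFAE e.toRingEquiv.toRingHom).out 0 4).mp this
      exact h4.symm
    rw [h1, Ideal.comap_comap]
    have h2 : (e.toRingEquiv.toRingHom).comp (algebraMap A B) =
        algebraMap A (Localization.AtPrime q) := by
      ext a
      simp
    rw [h2, IsScalarTower.algebraMap_eq A C (Localization.AtPrime q), ← Ideal.comap_comap]
    have h3 : Ideal.comap (algebraMap C (Localization.AtPrime q))
        (IsLocalRing.maximalIdeal (Localization.AtPrime q)) = q :=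
      Localization.AtPrime.under_maximalIdeal (I := q)
    rw [h3, hq]

end Groth.Agent.H89
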