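import Groth.Prelude.Def_EssEt
import Mathlib
import Groth.Agent.H89.EssEt

set_option autoImplicit false
universe u

namespace Groth.Agent.H89

open EGA4loc

attribute [local instance] MvPolynomial.algebraMvPolynomial

/-- Descent of a finitely presented algebra along a localization: if `D'` is a localization of `D`
at `M` and `E` is a finitely presented `D'`-algebra, then `E` is the localization at (the image of)
`M` of a finitely presented `D`-algebra `F`. -/
theorem exists_fp_descent (D : Type u) [CommRing D] (M : Submonoid D) (D' : Type u) [CommRing D']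
    [Algebra D D'] [IsLocalization M D'] (E : Type u) [CommRing E] [Algebra D' E] [Algebra D E]
    [IsScalarTower D D' E] [Algebra.FinitePresentation D' E] :
    ∃ (F : Type u) (_ : CommRing F) (_ : Algebra D F) (_ : Algebra F E) (_ : IsScalarTower D F E),
      Algebra.FinitePresentation D F ∧ IsLocalization (Algebra.algebraMapSubmonoid F M) E := by
  classical
  obtain ⟨n, f, hf, hker⟩ := Algebra.FinitePresentation.out (R := D') (A := E)
  have hloc : IsLocalization (M.map (MvPolynomial.C (σ := Fin n)))
      (MvPolynomial (Fin n) D') := MvPolynomial.isLocalization M D'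
  obtain ⟨gens, hgens⟩ := hker
  have hsurj : ∀ p : MvPolynomial (Fin n) D', ∃ (r : MvPolynomial (Fin n) D)
      (s : M.map (MvPolynomial.C (σ := Fin n))),
      p * algebraMap (MvPolynomial (Fin n) D) (MvPolynomial (Fin n) D') s
        = algebraMap (MvPolynomial (Fin n) D) (MvPolynomial (Fin n) D') r := fun p => by
    obtain ⟨⟨r, s⟩, h⟩ := IsLocalization.surj (M.map (MvPolynomial.C (σ := Fin n))) p
    exact ⟨r, s, h⟩
  choose num den hnd using hsurj
  let K' : Ideal (MvPolynomial (Fin n) D) := Ideal.span (num '' (gens : Set _))
  have hK'fg : K'.FG := ⟨gens.image num, by simp [K']⟩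
  have hK' : K'.map (algebraMap (MvPolynomial (Fin n) D) (MvPolynomial (Fin n) D'))
      = RingHom.ker f.toRingHom := by
    rw [← hgens, Ideal.map_span]
    apply le_antisymm
    · rw [Ideal.span_le]
      rintro _ ⟨_, ⟨p, hp, rfl⟩, rfl⟩
      rw [← hnd p]
      exact Ideal.mul_mem_right _ _ (Ideal.subset_span hp)
    · rw [Ideal.span_le]
      intro p hp
      have hu : IsUnit (algebraMap (MvPolynomial (Fin n) D) (MvPolynomial (Fin n) D') (den p)) :=
        IsLocalization.map_units _ (den p)
      have hmem : p * algebraMap (MvPolynomial (Fin n) D) (MvPolynomial (Fin n) D') (den p) ∈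
          Ideal.span (algebraMap (MvPolynomial (Fin n) D) (MvPolynomial (Fin n) D') ''
            (num '' (gens : Set _))) := by
        rw [hnd p]
        exact Ideal.subset_span ⟨_, ⟨p, hp, rfl⟩, rfl⟩
      exact (Ideal.mul_unit_mem_iff_mem _ hu).mp hmem
  -- the ring map `F → E`
  let g₀ : MvPolynomial (Fin n) D →+* E :=
    (f : MvPolynomial (Fin n) D' →+* E).comp
      (algebraMap (MvPolynomial (Fin n) D) (MvPolynomial (Fin n) D'))
  have hg₀ : ∀ a ∈ K', g₀ a = 0 := by
    intro a ha
    have : algebraMap (MvPolynomial (Fin n) D) (MvPolynomial (Fin n) D') a ∈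
        RingHom.ker f.toRingHom := by
      rw [← hK']; exact Ideal.mem_map_of_mem _ ha
    exact this
  let g : (MvPolynomial (Fin n) D ⧸ K') →+* E := Ideal.Quotient.lift K' g₀ hg₀
  let algFE : Algebra (MvPolynomial (Fin n) D ⧸ K') E := g.toAlgebra
  refine ⟨MvPolynomial (Fin n) D ⧸ K', inferInstance, inferInstance, algFE, ?_, ?_, ?_⟩
  · apply IsScalarTower.of_algebraMap_eq
    intro d
    change algebraMap D E d = g (Ideal.Quotient.mk K' (MvPolynomial.C d))
    rw [Ideal.Quotient.lift_mk]
    change algebraMap D E d = f (MvPolynomial.map (algebraMap D D') (MvPolynomial.C d))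
    rw [MvPolynomial.map_C, IsScalarTower.algebraMap_apply D D' E]
    have := f.commutes (algebraMap D D' d)
    rw [MvPolynomial.algebraMap_eq] at this
    exact this.symm
  · exact Algebra.FinitePresentation.quotient hK'fg
  · have key := IsLocalization.of_surjective (M := M.map (MvPolynomial.C (σ := Fin n)))
      (S := MvPolynomial (Fin n) D') (R' := MvPolynomial (Fin n) D ⧸ K') (S' := E)
      (Ideal.Quotient.mk K') Ideal.Quotient.mk_surjective
      (f : MvPolynomial (Fin n) D' →+* E) hf (by
        ext a <;> rfl) (by
        rw [Ideal.mk_ker, hK']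
        exact le_rfl)
    have hM : (M.map (MvPolynomial.C (σ := Fin n))).map (Ideal.Quotient.mk K')
        = Algebra.algebraMapSubmonoid (MvPolynomial (Fin n) D ⧸ K') M := by
      ext x
      simp only [Submonoid.mem_map, Algebra.algebraMapSubmonoid]
      constructor
      · rintro ⟨_, ⟨d, hd, rfl⟩, rfl⟩
        exact ⟨d, hd, rfl⟩
      · rintro ⟨d, hd, rfl⟩
        exact ⟨_, ⟨d, hd, rfl⟩, rfl⟩
    rw [← hM]
    exact key


/-- Key step for transitivity of essentially etale algebras. -/
theorem essEt_trans_key (A : Type u) [CommRing A] (D : Type u) [CommRing D] [Algebra A D]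
    [Algebra.FinitePresentation A D]
    (q : Ideal D) [q.IsPrime] (B : Type u) [CommRing B] [Algebra D B] [Algebra A B]
    [IsScalarTower A D B] [IsLocalization.AtPrime B q] [Algebra.FormallyEtale A B]
    (E : Type u) [CommRing E] [Algebra B E] [Algebra A E] [IsScalarTower A B E] [Algebra.Etale B E]
    (r : Ideal E) [r.IsPrime] :
    ∃ (G : Type u) (_ : CommRing G) (_ : Algebra A G) (t : Ideal G) (_ : t.IsPrime),
      Algebra.Etale A G ∧ t.comap (algebraMap A G) = r.comap (algebraMap A E) ∧
      Nonempty (Localization.AtPrime r ≃ₐ[A] Localization.AtPrime t) := by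
  let : Algebra D E := ((algebraMap B E).comp (algebraMap D B)).toAlgebra
  have : IsScalarTower D B E := IsScalarTower.of_algebraMap_eq (fun _ => rfl)
  have : IsScalarTower A D E := IsScalarTower.of_algebraMap_eq (fun a => by
    rw [IsScalarTower.algebraMap_apply A B E, IsScalarTower.algebraMap_apply A D B]; rfl)
  obtain ⟨F, _, _, _, _, hFP, hloc⟩ := exists_fp_descent D q.primeCompl B E
  let : Algebra A F := ((algebraMap D F).comp (algebraMap A D)).toAlgebra
  have : IsScalarTower A D F := IsScalarTower.of_algebraMap_eq (fun _ => rfl)
  have : IsScalarTower A F E := IsScalarTower.of_algebraMap_eq (fun a => by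
    rw [IsScalarTower.algebraMap_apply A D E, IsScalarTower.algebraMap_apply D F E]; rfl)
  have : Algebra.FinitePresentation A F := Algebra.FinitePresentation.trans A D F
  -- the prime s
  let s : Ideal F := r.comap (algebraMap F E)
  have : s.IsPrime := Ideal.comap_isPrime _ _
  have hT : IsLocalization.AtPrime (Localization.AtPrime r) s :=
    IsLocalization.isLocalization_isLocalization_atPrime_isLocalization
      (Algebra.algebraMapSubmonoid F q.primeCompl) (Localization.AtPrime r) r
  have : Algebra.FormallyEtale E (Localization.AtPrime r) :=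
    Algebra.FormallyEtale.of_isLocalization r.primeCompl
  have : Algebra.FormallyEtale A E := Algebra.FormallyEtale.comp A B E
  have : Algebra.FormallyEtale A (Localization.AtPrime r) :=
    Algebra.FormallyEtale.comp A E (Localization.AtPrime r)
  let e1 : Localization.AtPrime r ≃ₐ[F] Localization.AtPrime s :=
    IsLocalization.algEquiv s.primeCompl (Localization.AtPrime r) (Localization.AtPrime s)
  have : Algebra.FormallyEtale A (Localization.AtPrime s) :=
    Algebra.FormallyEtale.of_equiv (e1.restrictScalars A)
  obtain ⟨g, hg, het⟩ := Algebra.exists_etale_of_isEtaleAt (R := A) s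
  let t : Ideal (Localization.Away g) := s.map (algebraMap F (Localization.Away g))
  have hdisj : Disjoint (Submonoid.powers g : Set F) (s : Set F) := by
    rw [Set.disjoint_left]
    rintro _ ⟨k, rfl⟩ hk
    exact hg (Ideal.IsPrime.mem_of_pow_mem inferInstance k hk)
  have htp : t.IsPrime :=
    IsLocalization.isPrime_of_isPrime_disjoint (Submonoid.powers g) (Localization.Away g) s
      inferInstance hdisj
  have hts : t.comap (algebraMap F (Localization.Away g)) = s :=
    IsLocalization.under_map_of_isPrime_disjoint (Submonoid.powers g) (Localization.Away g)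
      inferInstance hdisj
  have hT2 : IsLocalization.AtPrime (Localization.AtPrime t)
      (t.comap (algebraMap F (Localization.Away g))) :=
    IsLocalization.isLocalization_isLocalization_atPrime_isLocalization
      (Submonoid.powers g) (Localization.AtPrime t) t
  have hT3 : IsLocalization s.primeCompl (Localization.AtPrime t) := by
    have hcompl : (t.comap (algebraMap F (Localization.Away g))).primeCompl = s.primeCompl := by
      ext x
      change x ∉ t.comap _ ↔ x ∉ s
      rw [hts]
    rw [← hcompl]
    exact hT2
  let e2 : Localization.AtPrime s ≃ₐ[F] Localization.AtPrime t :=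
    IsLocalization.algEquiv s.primeCompl (Localization.AtPrime s) (Localization.AtPrime t)
  refine ⟨Localization.Away g, inferInstance, inferInstance, t, htp, het, ?_,
    ⟨(e1.trans e2).restrictScalars A⟩⟩
  rw [IsScalarTower.algebraMap_eq A F (Localization.Away g), ← Ideal.comap_comap, hts,
    IsScalarTower.algebraMap_eq A F E, ← Ideal.comap_comap]

end Groth.Agent.H89
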