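import Mathlib

set_option autoImplicit false

namespace Groth.Agent.H89.EulerAbel

open Filter Topology Finset

/-- The recurrence satisfied by the coefficients of `2 / (e^t + 1)`. -/
theorem E_rec (E : ℕ → ℚ)
    (hE : PowerSeries.mk (fun j => E j / (j.factorial : ℚ)) * (PowerSeries.exp ℚ + 1) = 2) (m : ℕ) :
    2 * E m + ∑ j ∈ range m, (m.choose j : ℚ) * E j = if m = 0 then 2 else 0 := by
  have h := congrArg (PowerSeries.coeff m) hE
  rw [PowerSeries.coeff_mul, Finset.Nat.sum_antidiagonal_eq_sum_range_succ_mk] at h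
  simp only [PowerSeries.coeff_mk, map_add, PowerSeries.coeff_exp, PowerSeries.coeff_one] at h
  have h2 : (PowerSeries.coeff m) (2 : PowerSeries ℚ) = if m = 0 then 2 else 0 := by
    have : (2 : PowerSeries ℚ) = PowerSeries.C (2 : ℚ) := by
      rw [map_ofNat]
    rw [this, PowerSeries.coeff_C]
  rw [h2] at h
  have hm : (m.factorial : ℚ) ≠ 0 := by exact_mod_cast m.factorial_ne_zero
  -- multiply by m!
  have h3 : (m.factorial : ℚ) * ∑ x ∈ range m.succ, E x / (x.factorial : ℚ) *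
      ((algebraMap ℚ ℚ) (1 / ((m - x).factorial : ℚ)) + if m - x = 0 then 1 else 0)
      = (m.factorial : ℚ) * if m = 0 then 2 else 0 := by rw [h]
  have h4 : (m.factorial : ℚ) * (if m = 0 then (2 : ℚ) else 0) = if m = 0 then 2 else 0 := by
    by_cases h0 : m = 0
    · subst h0; simp
    · simp [h0]
  rw [h4, Finset.mul_sum, Finset.sum_range_succ] at h3
  rw [← h3]
  have h5 : (m.factorial : ℚ) * (E m / (m.factorial : ℚ) *
      ((algebraMap ℚ ℚ) (1 / ((m - m).factorial : ℚ)) + if m - m = 0 then 1 else 0)) = 2 * E m := by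
    simp only [Nat.sub_self, Nat.factorial_zero, Nat.cast_one, div_one, map_one, if_true]
    field_simp
    ring
  rw [h5, add_comm]
  congr 1
  refine Finset.sum_congr rfl (fun j hj => ?_)
  have hj' : j < m := Finset.mem_range.mp hj
  have hne : m - j ≠ 0 := by omega
  rw [if_neg hne, add_zero, Nat.cast_choose ℚ hj'.le]
  have hjf : (j.factorial : ℚ) ≠ 0 := by exact_mod_cast j.factorial_ne_zero
  have hmjf : ((m - j).factorial : ℚ) ≠ 0 := by exact_mod_cast (m - j).factorial_ne_zero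
  simp only [Algebra.algebraMap_self, RingHom.id_apply]
  field_simp

end Groth.Agent.H89.EulerAbel

namespace Groth.Agent.H89.EulerAbel

open Filter Topology Finset

/-- `F m y = ∑ k, k^m y^k`. -/
noncomputable def F (m : ℕ) (y : ℂ) : ℂ := ∑' k : ℕ, (k : ℂ) ^ m * y ^ k

theorem summable_F (m : ℕ) {y : ℂ} (hy : ‖y‖ < 1) :
    Summable (fun k : ℕ => (k : ℂ) ^ m * y ^ k) :=
  summable_pow_mul_geometric_of_norm_lt_one m hy

theorem F_rec (m : ℕ) {y : ℂ} (hy : ‖y‖ < 1) :
    F m y = (if m = 0 then 1 else 0) + y * ∑ j ∈ range (m + 1), (m.choose j : ℂ) * F j y := by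
  unfold F
  rw [(summable_F m hy).tsum_eq_zero_add]
  congr 1
  · by_cases h0 : m = 0
    · subst h0; simp
    · simp [h0]
  · have h1 : ∀ k : ℕ, ((k + 1 : ℕ) : ℂ) ^ m * y ^ (k + 1)
        = y * ∑ j ∈ range (m + 1), (m.choose j : ℂ) * ((k : ℂ) ^ j * y ^ k) := by
      intro k
      rw [Nat.cast_add, Nat.cast_one, add_pow, Finset.sum_mul, Finset.mul_sum]
      refine Finset.sum_congr rfl (fun j _ => ?_)
      rw [one_pow, mul_one, pow_succ]
      ring
    simp_rw [h1]
    rw [tsum_mul_left]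
    congr 1
    rw [Summable.tsum_finsetSum]
    · refine Finset.sum_congr rfl (fun j _ => ?_)
      rw [tsum_mul_left]
    · intro j _
      exact (summable_F j hy).mul_left _

theorem F_eq (m : ℕ) {y : ℂ} (hy : ‖y‖ < 1) :
    F m y = ((if m = 0 then 1 else 0) + y * ∑ j ∈ range m, (m.choose j : ℂ) * F j y) / (1 - y) := by
  have h1 := F_rec m hy
  rw [Finset.sum_range_succ, Nat.choose_self, Nat.cast_one, one_mul] at h1
  have hne : (1 : ℂ) - y ≠ 0 := by
    intro h
    have : y = 1 := by linear_combination -h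
    rw [this] at hy
    simp at hy
  rw [eq_div_iff hne]
  linear_combination h1

theorem tendsto_F (E : ℕ → ℚ)
    (hE : PowerSeries.mk (fun j => E j / (j.factorial : ℚ)) * (PowerSeries.exp ℚ + 1) = 2) (m : ℕ) :
    Tendsto (fun y : ℝ => F m (y : ℂ)) (𝓝[Set.Ioo (-1 : ℝ) 1] (-1 : ℝ))
      (𝓝 (((E m : ℚ) : ℂ) / 2)) := by
  induction m using Nat.strong_induction_on with
  | _ m ih =>
    have hcoe : Tendsto (fun y : ℝ => (y : ℂ)) (𝓝[Set.Ioo (-1 : ℝ) 1] (-1 : ℝ)) (𝓝 (-1 : ℂ)) := by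
      have := (Complex.continuous_ofReal.tendsto (-1 : ℝ)).mono_left
        (nhdsWithin_le_nhds (s := Set.Ioo (-1 : ℝ) 1))
      simpa using this
    have hG : Tendsto (fun y : ℝ => ((if m = 0 then (1 : ℂ) else 0) +
        (y : ℂ) * ∑ j ∈ range m, (m.choose j : ℂ) * F j (y : ℂ)) / (1 - (y : ℂ)))
        (𝓝[Set.Ioo (-1 : ℝ) 1] (-1 : ℝ))
        (𝓝 (((if m = 0 then (1 : ℂ) else 0) +
          (-1 : ℂ) * ∑ j ∈ range m, (m.choose j : ℂ) * (((E j : ℚ) : ℂ) / 2)) / (1 - (-1 : ℂ)))) := by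
      refine Tendsto.div ?_ (tendsto_const_nhds.sub hcoe) (by norm_num)
      refine tendsto_const_nhds.add (hcoe.mul ?_)
      refine tendsto_finsetSum _ (fun j hj => ?_)
      exact tendsto_const_nhds.mul (ih j (Finset.mem_range.mp hj))
    have hval : ((if m = 0 then (1 : ℂ) else 0) +
          (-1 : ℂ) * ∑ j ∈ range m, (m.choose j : ℂ) * (((E j : ℚ) : ℂ) / 2)) / (1 - (-1 : ℂ))
        = ((E m : ℚ) : ℂ) / 2 := by
      have hrec := E_rec E hE m
      have hrecC : (2 : ℂ) * ((E m : ℚ) : ℂ) + ∑ j ∈ range m, (m.choose j : ℂ) * ((E j : ℚ) : ℂ)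
          = if m = 0 then 2 else 0 := by
        have := congrArg (fun q : ℚ => (q : ℂ)) hrec
        simp only [Rat.cast_add, Rat.cast_mul, Rat.cast_sum, Rat.cast_natCast, Rat.cast_ofNat] at this
        rw [this]
        split_ifs <;> simp
      have hsum : ∑ j ∈ range m, (m.choose j : ℂ) * (((E j : ℚ) : ℂ) / 2)
          = (∑ j ∈ range m, (m.choose j : ℂ) * ((E j : ℚ) : ℂ)) / 2 := by
        rw [Finset.sum_div]
        refine Finset.sum_congr rfl (fun j _ => ?_)
        ring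
      rw [hsum]
      have h2 : (1 : ℂ) - (-1) = 2 := by norm_num
      rw [h2]
      by_cases h0 : m = 0
      · simp only [h0, if_true] at hrecC ⊢
        simp only [range_zero, sum_empty, add_zero] at hrecC ⊢
        linear_combination (-1 / 4 : ℂ) * hrecC
      · simp only [h0, if_false] at hrecC ⊢
        linear_combination (-1 / 4 : ℂ) * hrecC
    rw [← hval]
    refine hG.congr' ?_
    filter_upwards [self_mem_nhdsWithin] with y hy
    have hy' : ‖(y : ℂ)‖ < 1 := by
      rw [Complex.norm_real, Real.norm_eq_abs, abs_lt]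
      exact ⟨hy.1, hy.2⟩
    exact (F_eq m hy').symm

end Groth.Agent.H89.EulerAbel

namespace Groth.Agent.H89.EulerAbel

open Filter Topology Finset

section T

variable {T : Type*} [NormedCommRing T] [NormedAlgebra ℂ T]

theorem term_eq (P : Polynomial T) (y : ℂ) (k : ℕ) :
    y ^ k • P.eval (k : T)
      = ∑ j ∈ range (P.natDegree + 1), ((k : ℂ) ^ j * y ^ k) • P.coeff j := by
  rw [Polynomial.eval_eq_sum_range, Finset.smul_sum]
  refine Finset.sum_congr rfl (fun j _ => ?_)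
  have h1 : (k : T) = algebraMap ℂ T (k : ℂ) := (map_natCast (algebraMap ℂ T) k).symm
  rw [h1, ← map_pow, mul_comm (P.coeff j), ← Algebra.smul_def, smul_smul, mul_comm]

theorem summable_term (P : Polynomial T) {y : ℂ} (hy : ‖y‖ < 1) :
    Summable (fun k : ℕ => y ^ k • P.eval (k : T)) := by
  simp_rw [term_eq]
  refine summable_sum (fun j _ => ?_)
  exact (summable_F j hy).smul_const (P.coeff j)

theorem tsum_term (P : Polynomial T) {y : ℂ} (hy : ‖y‖ < 1) :
    ∑' k : ℕ, y ^ k • P.eval (k : T) = ∑ j ∈ range (P.natDegree + 1), F j y • P.coeff j := by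
  simp_rw [term_eq]
  rw [Summable.tsum_finsetSum]
  · refine Finset.sum_congr rfl (fun j _ => ?_)
    rw [(summable_F j hy).tsum_smul_const]
    rfl
  · intro j _
    exact (summable_F j hy).smul_const (P.coeff j)

theorem main (E : ℕ → ℚ)
    (hE : PowerSeries.mk (fun j => E j / (j.factorial : ℚ)) * (PowerSeries.exp ℚ + 1) = 2)
    (P : Polynomial T) :
    (∀ y : ℂ, ‖y‖ < 1 → Summable (fun k : ℕ => y ^ k • P.eval (k : T))) ∧
    Tendsto (fun y : ℝ => ∑' k : ℕ, ((y : ℂ) ^ k) • P.eval (k : T)) (𝓝[Set.Ioo (-1 : ℝ) 1] (-1 : ℝ))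
      (𝓝 ((2 : ℂ)⁻¹ • ∑ j ∈ Finset.range (P.natDegree + 1), ((E j : ℚ) : ℂ) • P.coeff j)) := by
  refine ⟨fun y hy => summable_term P hy, ?_⟩
  have hG : Tendsto (fun y : ℝ => ∑ j ∈ range (P.natDegree + 1), F j (y : ℂ) • P.coeff j)
      (𝓝[Set.Ioo (-1 : ℝ) 1] (-1 : ℝ))
      (𝓝 (∑ j ∈ range (P.natDegree + 1), (((E j : ℚ) : ℂ) / 2) • P.coeff j)) := by
    refine tendsto_finsetSum _ (fun j _ => ?_)
    exact (tendsto_F E hE j).smul_const (P.coeff j)
  have hval : (2 : ℂ)⁻¹ • ∑ j ∈ Finset.range (P.natDegree + 1), ((E j : ℚ) : ℂ) • P.coeff j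
      = ∑ j ∈ range (P.natDegree + 1), (((E j : ℚ) : ℂ) / 2) • P.coeff j := by
    rw [Finset.smul_sum]
    refine Finset.sum_congr rfl (fun j _ => ?_)
    rw [smul_smul]
    congr 1
    ring
  rw [hval]
  refine hG.congr' ?_
  filter_upwards [self_mem_nhdsWithin] with y hy
  have hy' : ‖(y : ℂ)‖ < 1 := by
    rw [Complex.norm_real, Real.norm_eq_abs, abs_lt]
    exact ⟨hy.1, hy.2⟩
  exact (tsum_term P hy').symm

end T

end Groth.Agent.H89.EulerAbel
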