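import Mathlib

set_option autoImplicit false
universe u

namespace Groth.Agent.H89

open CategoryTheory Abelian

section

variable {A : Type u} [CommRing A]
variable {F M : Type u} [AddCommGroup F] [Module A F] [AddCommGroup M] [Module A M]

/-- Every class in `Ext¹(M, Y)` comes from a map on the kernel of a projective cover; it is killed
by `a` as soon as `a • φ` extends to `F` for all `φ`. -/
theorem smul_ext_one_eq_zero_of_extension [Module.Projective A F]
    (π : F →ₗ[A] M) (hπ : Function.Surjective π) (Y : ModuleCat.{u} A) (a : A)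
    (hext : ∀ φ : LinearMap.ker π →ₗ[A] Y, ∃ ψ : F →ₗ[A] Y, ∀ k : LinearMap.ker π,
      ψ k = a • φ k)
    (x : Ext (ModuleCat.of A M) Y 1) : a • x = 0 := by
  have hS := LinearMap.shortExact_shortComplexKer hπ
  have : Projective π.shortComplexKer.X₂ := by
    change Projective (ModuleCat.of A F)
    infer_instance
  obtain ⟨y, hy⟩ := precomp_extClass_surjective_of_projective_X₂ Y hS 0 x
  obtain ⟨φc, rfl⟩ := (Ext.mk₀_bijective (X := π.shortComplexKer.X₁) (Y := Y)).2 y
  obtain ⟨ψ, hψ⟩ := hext φc.hom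
  have hfac : a • φc = π.shortComplexKer.f ≫ ModuleCat.ofHom ψ := by
    ext k
    exact (hψ k).symm
  rw [← hy]
  change a • hS.extClass.comp (Ext.mk₀ φc) (add_comm 1 0) = 0
  rw [← Ext.comp_smul, ← Ext.mk₀_smul, hfac, ← Ext.mk₀_comp_mk₀]
  exact hS.extClass_comp_assoc _

/-- `Ext¹(M, Y) = 0` as soon as every map from the kernel of a projective cover extends. -/
theorem ext_one_subsingleton_of_extension [Module.Projective A F]
    (π : F →ₗ[A] M) (hπ : Function.Surjective π) (Y : ModuleCat.{u} A)
    (hext : ∀ φ : LinearMap.ker π →ₗ[A] Y, ∃ ψ : F →ₗ[A] Y, ∀ k : LinearMap.ker π, ψ k = φ k) :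
    Subsingleton (Ext (ModuleCat.of A M) Y 1) := by
  refine subsingleton_of_forall_eq 0 (fun x => ?_)
  have := smul_ext_one_eq_zero_of_extension π hπ Y 1 (fun φ => by simpa using hext φ) x
  simpa using this

/-- Dimension shifting: a scalar killing `Ext^i(K, Y)` kills `Ext^(i+1)(M, Y)`. -/
theorem smul_ext_succ_eq_zero_of_ker [Module.Projective A F]
    (π : F →ₗ[A] M) (hπ : Function.Surjective π) (Y : ModuleCat.{u} A) (a : A) (i : ℕ)
    (hK : ∀ y : Ext (ModuleCat.of A (LinearMap.ker π)) Y i, a • y = 0)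
    (x : Ext (ModuleCat.of A M) Y (i + 1)) : a • x = 0 := by
  have hS := LinearMap.shortExact_shortComplexKer hπ
  have : Projective π.shortComplexKer.X₂ := by
    change Projective (ModuleCat.of A F)
    infer_instance
  obtain ⟨y, hy⟩ := precomp_extClass_surjective_of_projective_X₂ Y hS i x
  rw [← hy]
  change a • hS.extClass.comp y (add_comm 1 i) = 0
  rw [← Ext.comp_smul]
  have : a • y = 0 := hK y
  rw [this, Ext.comp_zero]

/-- Dimension shifting for vanishing. -/
theorem ext_succ_subsingleton_of_ker [Module.Projective A F]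
    (π : F →ₗ[A] M) (hπ : Function.Surjective π) (Y : ModuleCat.{u} A) (i : ℕ)
    (hK : Subsingleton (Ext (ModuleCat.of A (LinearMap.ker π)) Y i)) :
    Subsingleton (Ext (ModuleCat.of A M) Y (i + 1)) := by
  refine subsingleton_of_forall_eq 0 (fun x => ?_)
  have := smul_ext_succ_eq_zero_of_ker π hπ Y 1 i (fun y => by rw [one_smul]; exact Subsingleton.elim _ _) x
  simpa using this

end

end Groth.Agent.H89

namespace Groth.Agent.H89

open CategoryTheory Abelian

section

variable {A : Type u} [CommRing A]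
variable {F M : Type u} [AddCommGroup F] [Module A F] [AddCommGroup M] [Module A M]

/-- If `Ext¹(M, Y) = 0`, maps from the kernel of a surjection `F → M` to `Y` extend to `F`. -/
theorem exists_extension_of_ext_one_subsingleton
    (π : F →ₗ[A] M) (hπ : Function.Surjective π) (Y : ModuleCat.{u} A)
    (h : Subsingleton (Ext (ModuleCat.of A M) Y 1)) (φ : LinearMap.ker π →ₗ[A] Y) :
    ∃ ψ : F →ₗ[A] Y, ∀ k : LinearMap.ker π, ψ k = φ k := by
  have hS := LinearMap.shortExact_shortComplexKer hπ
  let φc : π.shortComplexKer.X₁ ⟶ Y := ModuleCat.ofHom φ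
  obtain ⟨x₂, hx₂⟩ := Ext.contravariant_sequence_exact₁ hS Y (Ext.mk₀ φc) (add_zero 1)
    (Subsingleton.elim (h := h) _ _)
  obtain ⟨ψc, rfl⟩ := (Ext.mk₀_bijective (X := π.shortComplexKer.X₂) (Y := Y)).2 x₂
  rw [Ext.mk₀_comp_mk₀] at hx₂
  have hfac : π.shortComplexKer.f ≫ ψc = φc := (Ext.mk₀_bijective _ _).1 hx₂
  refine ⟨ψc.hom, fun k => ?_⟩
  have := congrArg (fun f => f.hom k) hfac
  exact this

end

end Groth.Agent.H89
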