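import Mathlib
import Groth.Agent.H89.FlatExt

/-!
# Flatness of a fibre product of rings (helper89)

If `B' = B ×_A A'` with `B → A` surjective, and `B`, `A'`, `A` are flat over `R`, then so is `B'`.
-/

set_option autoImplicit false
universe u

namespace Groth.Agent.H89

theorem flat_of_fibre_square {R B' B A' A : Type u} [CommRing R] [CommRing B'] [CommRing B]
    [CommRing A'] [CommRing A] (φ' : R →+* B') (p : B' →+* B) (p' : B' →+* A') (i : B →+* A)
    (ρ : A' →+* A) (hK : i.comp p = ρ.comp p')
    (hinj : ∀ s t : B', p s = p t → p' s = p' t → s = t)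
    (hglue : ∀ (x : B) (y : A'), i x = ρ y → ∃ s : B', p s = x ∧ p' s = y)
    (hsurj : Function.Surjective i)
    (hB : (p.comp φ').Flat) (hA' : (p'.comp φ').Flat) (hA : (i.comp (p.comp φ')).Flat) :
    φ'.Flat := by
  let algB' : Algebra R B' := φ'.toAlgebra
  let algB : Algebra R B := (p.comp φ').toAlgebra
  let algA' : Algebra R A' := (p'.comp φ').toAlgebra
  let algA : Algebra R A := (i.comp (p.comp φ')).toAlgebra
  have fB : Module.Flat R B := hB
  have fA' : Module.Flat R A' := hA'
  have fA : Module.Flat R A := hA
  have fBA' : Module.Flat R (B × A') := flat_prod R B A'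
  let pL : B' →ₗ[R] B :=
    { toFun := p
      map_add' := map_add p
      map_smul' := fun r b => by
        change p (φ' r * b) = p (φ' r) * p b
        exact map_mul p _ _ }
  let pL' : B' →ₗ[R] A' :=
    { toFun := p'
      map_add' := map_add p'
      map_smul' := fun r b => by
        change p' (φ' r * b) = p' (φ' r) * p' b
        exact map_mul p' _ _ }
  let iL : B →ₗ[R] A :=
    { toFun := i
      map_add' := map_add i
      map_smul' := fun r b => by
        change i (p (φ' r) * b) = i (p (φ' r)) * i b
        exact map_mul i _ _ }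
  let ρL : A' →ₗ[R] A :=
    { toFun := ρ
      map_add' := map_add ρ
      map_smul' := fun r b => by
        change ρ (p' (φ' r) * b) = i (p (φ' r)) * ρ b
        rw [map_mul]
        congr 1
        exact (congrArg (fun f => f (φ' r)) hK).symm }
  let g : B' →ₗ[R] B × A' := pL.prod pL'
  let f : B × A' →ₗ[R] A := iL.coprod (-ρL)
  have hg : Function.Injective g := by
    intro s t hst
    have h1 : p s = p t := congrArg Prod.fst hst
    have h2 : p' s = p' t := congrArg Prod.snd hst
    exact hinj s t h1 h2
  have hf : Function.Surjective f := by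
    intro a
    obtain ⟨b, rfl⟩ := hsurj a
    refine ⟨(b, 0), ?_⟩
    change i b + -ρ 0 = i b
    rw [map_zero, neg_zero, add_zero]
  have hex : Function.Exact g f := by
    intro z
    constructor
    · intro hz
      have hz' : i z.1 + -ρ z.2 = 0 := hz
      have : i z.1 = ρ z.2 := by
        rw [← sub_eq_add_neg, sub_eq_zero] at hz'
        exact hz'
      obtain ⟨s, hs1, hs2⟩ := hglue z.1 z.2 this
      exact ⟨s, Prod.ext hs1 hs2⟩
    · rintro ⟨s, rfl⟩
      change i (p s) + -ρ (p' s) = 0
      have := congrArg (fun f => f s) hK
      simp only [RingHom.comp_apply] at this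
      rw [this, add_neg_cancel]
  exact flat_of_exact_of_flat g f hg hf hex

end Groth.Agent.H89
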