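import Mathlib

/-!
# Lifting and equalizing finitely supported families of elements along a filtered colimit of
commutative rings (helper89)
-/

set_option autoImplicit false
universe u
open CategoryTheory CategoryTheory.Limits

namespace Groth.Agent.H89.FiltLift

variable {J : Type u} [SmallCategory J] [IsFiltered J]
  (F : J ⥤ CommRingCat.{u}) (c : Cocone F) (hc : IsColimit c)

include hc in
/-- every element of the colimit comes from a stage above a given one -/
theorem exists_rep_above (x : c.pt) (k : J) :
    ∃ (j : J) (_ : k ⟶ j) (y : F.obj j), (c.ι.app j).hom y = x :=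
  Concrete.exists_hom_ι_eq_of_isColimit F hc x k

omit [IsFiltered J] in
lemma ι_map {j j' : J} (f : j ⟶ j') (y : F.obj j) :
    (c.ι.app j').hom ((F.map f).hom y) = (c.ι.app j).hom y := by
  have hw := c.w f
  rw [← hw]
  rfl

include hc in
/-- lifting a finitely supported family -/
theorem exists_lift {K : Type*} (S : Finset K) (x : K → c.pt) (hx : ∀ k, k ∉ S → x k = 0) :
    ∃ (j : J) (y : K → F.obj j),
      (∀ k, (c.ι.app j).hom (y k) = x k) ∧ ∀ k, k ∉ S → y k = 0 := by
  classical
  induction S using Finset.induction_on generalizing x with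
  | empty =>
    obtain ⟨j⟩ := IsFiltered.nonempty (C := J)
    exact ⟨j, fun _ => 0, fun k => by rw [map_zero, hx k (Finset.notMem_empty k)],
      fun _ _ => rfl⟩
  | insert a S ha ih =>
    obtain ⟨j, y, hy, hy0⟩ := ih (Function.update x a 0) (by
      intro k hk
      by_cases hka : k = a
      · subst hka
        simp
      · rw [Function.update_of_ne hka]
        exact hx k (by simp [hka, hk]))
    obtain ⟨j', f, z, hz⟩ := exists_rep_above F c hc (x a) j
    refine ⟨j', fun k => if k = a then z else (F.map f).hom (y k), ?_, ?_⟩
    · intro k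
      by_cases hka : k = a
      · subst hka
        simp [hz]
      · simp only [if_neg hka]
        have := hy k
        rw [Function.update_of_ne hka] at this
        rw [← this]
        exact ι_map F c f (y k)
    · intro k hk
      have hka : k ≠ a := by
        rintro rfl
        exact hk (Finset.mem_insert_self _ _)
      simp only [if_neg hka]
      rw [hy0 k (fun h => hk (Finset.mem_insert_of_mem h)), map_zero]

include hc in
/-- equalizing a finitely supported family of pairs -/
theorem exists_equalize {K : Type*} (S : Finset K) (j : J) (y y' : K → F.obj j)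
    (h : ∀ k, (c.ι.app j).hom (y k) = (c.ι.app j).hom (y' k))
    (hS : ∀ k, k ∉ S → y k = y' k) :
    ∃ (j' : J) (f : j ⟶ j'), ∀ k, (F.map f).hom (y k) = (F.map f).hom (y' k) := by
  classical
  induction S using Finset.induction_on generalizing j y y' with
  | empty => exact ⟨j, 𝟙 j, fun k => by rw [hS k (Finset.notMem_empty k)]⟩
  | insert a S ha ih =>
    obtain ⟨k0, f0, g0, hfg⟩ := Concrete.isColimit_exists_of_rep_eq F hc (y a) (y' a) (h a)
    have hcoeq : f0 ≫ IsFiltered.coeqHom f0 g0 = g0 ≫ IsFiltered.coeqHom f0 g0 :=
      IsFiltered.coeq_condition f0 g0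
    have h1 : (F.map (f0 ≫ IsFiltered.coeqHom f0 g0)).hom (y a) =
        (F.map (f0 ≫ IsFiltered.coeqHom f0 g0)).hom (y' a) := by
      conv_rhs => rw [hcoeq]
      rw [F.map_comp, F.map_comp]
      change (F.map (IsFiltered.coeqHom f0 g0)).hom ((F.map f0).hom (y a)) =
        (F.map (IsFiltered.coeqHom f0 g0)).hom ((F.map g0).hom (y' a))
      exact congrArg _ hfg
    obtain ⟨j', f, hf⟩ := ih (IsFiltered.coeq f0 g0)
      (fun k => (F.map (f0 ≫ IsFiltered.coeqHom f0 g0)).hom (y k))
      (fun k => (F.map (f0 ≫ IsFiltered.coeqHom f0 g0)).hom (y' k))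
      (fun k => by rw [ι_map, ι_map]; exact h k)
      (fun k hk => by
        by_cases hka : k = a
        · subst hka
          exact h1
        · rw [hS k (by simp [hka, hk])])
    refine ⟨j', (f0 ≫ IsFiltered.coeqHom f0 g0) ≫ f, fun k => ?_⟩
    rw [F.map_comp]
    exact hf k

end Groth.Agent.H89.FiltLift
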