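import Groth.Agent.H89.ZarFppf2
import Groth.Agent.H89.AdeqExtB
import Groth.Agent.H42.GaGm3
import Groth.Prelude.Def_CGrpSh2

/-!
# fppf cohomology of the additive group over an affine base vanishes (helper89)

* `GaO.adequateMod_unitMod S`: the structure sheaf `O` of the big fppf site of `S`, as a module over itself, is adequate.
* `GaO.gaIso S : pts(𝔾_{a,S}) ≅ O` as abelian fppf sheaves (helper42's `gaFn` lemmas).
* `GaO.subsingleton_H_OAb`, `GaO.subsingleton_H_Ga`: `H^{q+1}_fppf(X, O) = 0 = H^{q+1}_fppf(X, 𝔾_a)` for `X` affine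
  (by `AQ.subsingleton_H_of_cechAcyclic`, the Čech/Cartan machinery for adequate modules).
* generic `Ext` lemmas: `subsingleton_ext_of_iso`, `subsingleton_ext_of_isZero`, `subsingleton_ext_middle`.
-/

set_option autoImplicit false
set_option linter.style.haveILetI false
set_option linter.unusedSectionVars false
universe u
open CategoryTheory Limits Opposite Adeq AlgebraicGeometry TopologicalSpace MonObj MonoidalCategory CartesianMonoidalCategory TensorProduct

namespace Groth.Agent.H89.GaO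
open Groth.Agent.H89.AQ

section ExtGen
open Abelian
variable {𝒜 : Type*} [Category 𝒜] [Abelian 𝒜] [HasExt 𝒜] (Z₀ : 𝒜)

theorem subsingleton_ext_of_iso {F F' : 𝒜} (e : F ≅ F') (n : ℕ) (h : Subsingleton (Ext Z₀ F n)) :
    Subsingleton (Ext Z₀ F' n) := by
  refine subsingleton_of_forall_eq 0 (fun z => ?_)
  have hz : z = (z.comp (Ext.mk₀ e.inv) (add_zero n)).comp (Ext.mk₀ e.hom) (add_zero n) := by
    rw [Ext.comp_assoc_of_third_deg_zero, Ext.mk₀_comp_mk₀, e.inv_hom_id, Ext.comp_mk₀_id]
  rw [hz, Subsingleton.elim (z.comp (Ext.mk₀ e.inv) (add_zero n)) 0, Ext.zero_comp]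

theorem subsingleton_ext_of_isZero {F : 𝒜} (hF : IsZero F) (n : ℕ) : Subsingleton (Ext Z₀ F n) := by
  refine subsingleton_of_forall_eq 0 (fun z => ?_)
  have hz : z = z.comp (Ext.mk₀ (𝟙 F)) (add_zero n) := (Ext.comp_mk₀_id z).symm
  rw [hz, hF.eq_of_src (𝟙 F) 0, Ext.mk₀_zero, Ext.comp_zero]

theorem subsingleton_ext_middle {S : ShortComplex 𝒜} (hS : S.ShortExact) (n : ℕ)
    (h₁ : Subsingleton (Ext Z₀ S.X₁ n)) (h₃ : Subsingleton (Ext Z₀ S.X₃ n)) :
    Subsingleton (Ext Z₀ S.X₂ n) := by
  refine subsingleton_of_forall_eq 0 (fun x₂ => ?_)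
  obtain ⟨x₁, rfl⟩ := Ext.covariant_sequence_exact₂ Z₀ hS x₂ (Subsingleton.elim _ _)
  rw [Subsingleton.elim x₁ 0, Ext.zero_comp]

end ExtGen

end Groth.Agent.H89.GaO

namespace Groth.Agent.H89.GaO
open Groth.Agent.H89.AQ

variable {S : Scheme.{u}} {R : CommRingCat.{u}} (c : Spec R ⟶ S)
local notation "Kf" => Scheme.fppfPrecoverage

/-- `B ⊗_R R ≃ B` -/
noncomputable def ridB (B : Alg R) : ((B : Type u) ⊗[R] ULift.{u+1} R) ≃ₗ[B] B :=
  (TensorProduct.AlgebraTensorModule.congr (LinearEquiv.refl B B) ULift.moduleEquiv).trans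
    (TensorProduct.AlgebraTensorModule.rid R B B)

theorem ridB_tmul (B : Alg R) (b : B) (r : ULift.{u+1} R) : ridB B (b ⊗ₜ r) = r.down • b := by
  simp [ridB]

/-- the comparison map on sections -/
noncomputable def eU (B : Alg R) (x : ((underline R).obj (ModuleCat.of R (ULift.{u+1} R))).obj (pt B)) :
    ((toMVF Kf c).obj (BigSite.unitMod Kf S)).obj (pt B) :=
  toSect Kf c B (ridB B x)

theorem toSect_bijective (B : Alg R) : Function.Bijective (toSect Kf c B) := by
  have h1 : Function.Bijective (Scheme.ΓSpecIso (CommRingCat.of B)).inv.hom :=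
    ConcreteCategory.bijective_of_isIso (Scheme.ΓSpecIso (CommRingCat.of B)).inv
  exact (ULift.ringEquiv.symm : Γ(Spec (CommRingCat.of B), ⊤) ≃+* ULift.{u + 1} Γ(Spec (CommRingCat.of B), ⊤)).bijective.comp h1

theorem eU_bijective (B : Alg R) : Function.Bijective (eU c B) :=
  (toSect_bijective c B).comp (ridB B).bijective

theorem eU_add (B : Alg R) (x y : ((underline R).obj (ModuleCat.of R (ULift.{u+1} R))).obj (pt B)) :
    eU c B (x + y) = eU c B x + eU c B y := by
  have h : ∀ x y : (B : Type u) ⊗[R] ULift.{u+1} R,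
      toSect Kf c B (ridB B (x + y)) = toSect Kf c B (ridB B x) + toSect Kf c B (ridB B y) := by
    intro x y
    rw [map_add, map_add]
  exact h x y

theorem eU_smul (B : Alg R) (b : B) (x : ((underline R).obj (ModuleCat.of R (ULift.{u+1} R))).obj (pt B)) :
    eU c B (b • x) = b • eU c B x := by
  have h : ∀ x : (B : Type u) ⊗[R] ULift.{u+1} R,
      toSect Kf c B (ridB B (b • x)) = toSect Kf c B b * toSect Kf c B (ridB B x) := by
    intro x
    rw [map_smul, smul_eq_mul, map_mul]
  exact h x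

end Groth.Agent.H89.GaO

namespace Groth.Agent.H89.GaO
open Groth.Agent.H89.AQ

variable {S : Scheme.{u}} {R : CommRingCat.{u}} (c : Spec R ⟶ S)
local notation "Kf" => Scheme.fppfPrecoverage

theorem toSect_nat {B B' : Alg R} (g : B ⟶ B') (b : B) :
    tmap ((toMVF Kf c).obj (BigSite.unitMod Kf S)) g (toSect Kf c B b) = toSect Kf c B' (g.hom b) := by
  apply ULift.ext
  change ((Scheme.ΓSpecIso (CommRingCat.of B)).inv ≫
        (Spec.map (CommRingCat.ofHom g.hom.toRingHom)).appTop) b =
      (CommRingCat.ofHom g.hom.toRingHom ≫ (Scheme.ΓSpecIso (CommRingCat.of B')).inv) b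
  rw [Scheme.ΓSpecIso_inv_naturality]

theorem ridB_nat {B B' : Alg R} (g : B ⟶ B') (x : (B : Type u) ⊗[R] ULift.{u+1} R) :
    ridB B' ((g.hom.toLinearMap.rTensor (ULift.{u+1} R)) x) = g.hom (ridB B x) := by
  induction x using TensorProduct.induction_on with
  | zero => simp
  | tmul b r =>
    rw [LinearMap.rTensor_tmul, ridB_tmul, ridB_tmul]
    simp
  | add x y hx hy => rw [map_add, map_add, map_add, map_add, hx, hy]

theorem eU_nat {B B' : Alg R} (g : B ⟶ B')
    (x : ((underline R).obj (ModuleCat.of R (ULift.{u+1} R))).obj (pt B)) :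
    eU c B' (tmap _ g x) = tmap _ g (eU c B x) := by
  have h : ∀ x : (B : Type u) ⊗[R] ULift.{u+1} R,
      toSect Kf c B' (ridB B' ((g.hom.toLinearMap.rTensor (ULift.{u+1} R)) x)) =
        tmap ((toMVF Kf c).obj (BigSite.unitMod Kf S)) g (toSect Kf c B (ridB B x)) := by
    intro x
    rw [ridB_nat, toSect_nat]
  exact h x

theorem adequate_toMVF_unitMod : adequate R ((toMVF Kf c).obj (BigSite.unitMod Kf S)) :=
  adequate_of_equiv (eU c) (eU_bijective c) (eU_add c) (eU_smul c) (fun g x => eU_nat c g x)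
    (Groth.Agent.H89.AQL.adequate_underline _)

theorem adequateMod_unitMod (S : Scheme.{u}) : adequateMod Kf S (BigSite.unitMod Kf S) :=
  affineOpenCover_adequateMod_fppf S _ (fun _ c => adequate_toMVF_unitMod c)

end Groth.Agent.H89.GaO

namespace Groth.Agent.H89.GaO

variable (S : Scheme.{u})
local notation "Kf" => Scheme.fppfPrecoverage

/-- the abelian sheaf underlying the structure sheaf of the big fppf site -/
noncomputable abbrev OAb : BigSite.Ab Kf S := (BigSite.toAbMod Kf S).obj (BigSite.unitMod Kf S)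

/-- `x ↦ gaFn x` on sections -/
noncomputable def gaFun (T : (Over S)ᵒᵖ) :
    (CGrpSh.pts Kf (Red.Ga S)).obj.obj T →+ (OAb S).obj.obj T where
  toFun x := (ULift.up (Red.gaFn x.down.toMul) : ULift.{u+1} Γ((unop T).left, ⊤))
  map_zero' := by
    apply ULift.ext
    exact Groth.Agent.H42.gaFn_one
  map_add' x y := by
    apply ULift.ext
    exact Groth.Agent.H42.gaFn_mul x.down.toMul y.down.toMul

theorem gaFun_bijective (T : (Over S)ᵒᵖ) : Function.Bijective (gaFun S T) := by
  constructor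
  · intro x y h
    have h1 : Red.gaFn x.down.toMul = Red.gaFn y.down.toMul := congrArg ULift.down h
    exact ULift.ext _ _ (Groth.Agent.H42.gaFn_injective h1)
  · intro t
    obtain ⟨x, hx⟩ := Groth.Agent.H42.gaFn_surjective (S := S) (X := unop T)
      (t : ULift.{u+1} Γ((unop T).left, ⊤)).down
    exact ⟨ULift.up (Additive.ofMul x), ULift.ext _ _ hx⟩

/-- the morphism of sheaves `𝔾_a → O` -/
noncomputable def gaHom : CGrpSh.pts Kf (Red.Ga S) ⟶ OAb S :=
  ⟨{ app := fun T => AddCommGrpCat.ofHom (gaFun S T)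
     naturality := fun T T' f => by
      ext x
      apply ULift.ext
      exact Groth.Agent.H42.gaFn_comp f.unop x.down.toMul }⟩

end Groth.Agent.H89.GaO


namespace Groth.Agent.H89.GaO
open Groth.Agent.H89.AQ

local notation "Kf" => Scheme.fppfPrecoverage

instance isIso_gaHom (S : Scheme.{u}) : IsIso (gaHom S) := by
  haveI : ∀ T, IsIso ((gaHom S).hom.app T) := fun T => by
    rw [ConcreteCategory.isIso_iff_bijective]
    exact gaFun_bijective S T
  have h1 : IsIso (gaHom S).hom := NatIso.isIso_of_isIso_app _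
  haveI : IsIso ((sheafToPresheaf (QuotSh.J Kf S) AddCommGrpCat.{u + 1}).map (gaHom S)) := h1
  exact isIso_of_reflects_iso (gaHom S) (sheafToPresheaf (QuotSh.J Kf S) AddCommGrpCat.{u + 1})

/-- `𝔾_a ≅ O` as abelian sheaves on the big fppf site -/
noncomputable def gaIso (S : Scheme.{u}) : CGrpSh.pts Kf (Red.Ga S) ≅ OAb S := asIso (gaHom S)

theorem cechAcyclic_OAb (S : Scheme.{u}) : CechAcyclic (OAb S) :=
  cechAcyclic_of_adequate (BigSite.unitMod Kf S) (adequateMod_unitMod S)

theorem subsingleton_H_OAb (X : Scheme.{u}) [IsAffine X] (q : ℕ) :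
    Subsingleton (BigSite.H Kf X (OAb X) (q + 1)) :=
  subsingleton_H_of_cechAcyclic q (OAb X) (cechAcyclic_OAb X)

theorem subsingleton_H_Ga (X : Scheme.{u}) [IsAffine X] (q : ℕ) :
    Subsingleton (BigSite.H Kf X (CGrpSh.pts Kf (Red.Ga X)) (q + 1)) :=
  subsingleton_ext_of_iso _ (gaIso X).symm (q + 1) (subsingleton_H_OAb X q)

end Groth.Agent.H89.GaO
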