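import Mathlib

/-!
# Counting generators after a partition of unity (helper89)
-/

set_option autoImplicit false
universe u

namespace Groth.Agent.H89.GenCount

/-- Pure algebra: if a family `b i` spans the unit ideal and, after localizing at each `b i`,
`M` is generated by the images of `x i j` (`j : Fin n`), then the `x i j` generate `M`. -/
theorem span_eq_top_of_localized {R : Type*} [CommRing R] {M : Type*} [AddCommGroup M] [Module R M]
    {I J : Type*} (b : I → R) (hb : Ideal.span (Set.range b) = ⊤) (x : I → J → M)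
    (h : ∀ (i : I) (m : M), ∃ k : ℕ, b i ^ k • m ∈ Submodule.span R (Set.range (x i))) :
    Submodule.span R (Set.range fun p : I × J => x p.1 p.2) = ⊤ := by
  rw [eq_top_iff]
  intro m _
  refine Submodule.mem_of_span_eq_top_of_smul_pow_mem _ (Set.range b) hb m ?_
  rintro ⟨_, i, rfl⟩
  obtain ⟨k, hk⟩ := h i m
  refine ⟨k, Submodule.span_mono ?_ hk⟩
  rintro _ ⟨j, rfl⟩
  exact ⟨(i, j), rfl⟩

open Submodule in
theorem exists_of_span_localized {R S M G : Type*} [CommRing R] [CommRing S] [Algebra R S] (b : R)
    [IsLocalization.Away b S] [AddCommGroup M] [Module R M] [AddCommGroup G] [Module R G]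
    [Module S G] [IsScalarTower R S G] (f : M →ₗ[R] G) [IsLocalizedModule.Away b f]
    {J : Type*} (y : J → G) (hy : span S (Set.range y) = ⊤) :
    ∃ x : J → M, ∀ m : M, ∃ k : ℕ, b ^ k • m ∈ span R (Set.range x) := by
  have hsurj : ∀ j, ∃ xs : M × (Submonoid.powers b), xs.2 • y j = f xs.1 := fun j =>
    IsLocalizedModule.surj (Submonoid.powers b) f (y j)
  choose xs hxs using hsurj
  refine ⟨fun j => (xs j).1, fun m => ?_⟩
  have hle : span S (Set.range y) ≤ span S (f '' Set.range fun j => (xs j).1) := by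
    rw [span_le]
    rintro _ ⟨j, rfl⟩
    have hu : IsUnit (algebraMap R S ((xs j).2 : R)) :=
      IsLocalization.map_units S (xs j).2
    obtain ⟨u, hu'⟩ := hu
    have h1 : (algebraMap R S ((xs j).2 : R)) • y j = f (xs j).1 := by
      rw [algebraMap_smul]; exact hxs j
    have h2 : y j = (↑u⁻¹ : S) • f (xs j).1 := by
      rw [← h1, ← hu', smul_smul, Units.inv_mul, one_smul]
    rw [h2]
    exact smul_mem _ _ (subset_span ⟨(xs j).1, ⟨j, rfl⟩, rfl⟩)
  have htop : (span R (Set.range fun j => (xs j).1)).localized' S (Submonoid.powers b) f = ⊤ := by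
    rw [localized'_span, eq_top_iff, ← hy]
    exact hle
  have hm : f m ∈ (span R (Set.range fun j => (xs j).1)).localized' S (Submonoid.powers b) f := by
    rw [htop]; trivial
  obtain ⟨z, hz, s, hzs⟩ := (mem_localized' S (Submonoid.powers b) f _ _).mp hm
  rw [IsLocalizedModule.mk'_eq_iff] at hzs
  -- `f z = s • f m = f (s • m)`
  have h3 : f z = f (s • m) := by
    rw [hzs]
    exact (f.map_smul (s : R) m).symm
  obtain ⟨t, ht⟩ := (IsLocalizedModule.eq_iff_exists (Submonoid.powers b) f).mp h3
  obtain ⟨k, hk⟩ := (Submonoid.mem_powers_iff _ _).mp (t * s).2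
  refine ⟨k, ?_⟩
  have : b ^ k • m = t • z := by
    rw [hk, ht, Submonoid.coe_mul, mul_smul]
    rfl
  rw [this]
  exact smul_mem _ _ hz

end Groth.Agent.H89.GenCount
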