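import Mathlib
import Groth.Agent.H3.PairIdem

/-!
# Henselian pairs and lifting of open-closed subsets along finite morphisms
-/

set_option autoImplicit false
universe u

open CategoryTheory CategoryTheory.Limits AlgebraicGeometry PrimeSpectrum

namespace Groth.Agent.H89.HensClopen

/-- Every open-closed subset of `Z` is the preimage under `p` of exactly one open-closed subset. -/
def ClopenLift {Z Y : Type*} [TopologicalSpace Z] [TopologicalSpace Y] (p : Z → Y) : Prop :=
  ∀ V : Set Z, IsClopen V → ∃! U : Set Y, IsClopen U ∧ p ⁻¹' U = V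

theorem clopenLift_of_homeo {Z Y Z' Y' : Type*} [TopologicalSpace Z] [TopologicalSpace Y]
    [TopologicalSpace Z'] [TopologicalSpace Y'] (eY : Y ≃ₜ Y') (eZ : Z ≃ₜ Z')
    {p : Z → Y} {p' : Z' → Y'} (h : ∀ z, eY (p z) = p' (eZ z)) (H : ClopenLift p) :
    ClopenLift p' := by
  intro V' hV'
  have hV : IsClopen (eZ ⁻¹' V') := hV'.preimage eZ.continuous
  obtain ⟨U, ⟨hU, hUV⟩, huniq⟩ := H _ hV
  refine ⟨eY.symm ⁻¹' U, ⟨hU.preimage eY.symm.continuous, ?_⟩, ?_⟩
  · ext z'
    obtain ⟨z, rfl⟩ := eZ.surjective z'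
    have h1 : eY.symm (p' (eZ z)) = p z := by rw [← h z, eY.symm_apply_apply]
    have h2 : p z ∈ U ↔ z ∈ eZ ⁻¹' V' := by rw [← hUV]; rfl
    simp only [Set.mem_preimage, h1]
    exact h2
  · rintro U'' ⟨hU'', hU''V⟩
    have h3 : eY ⁻¹' U'' = U := by
      apply huniq
      refine ⟨hU''.preimage eY.continuous, ?_⟩
      ext z
      simp only [Set.mem_preimage, h z]
      rw [← hU''V]; rfl
    rw [← h3]
    ext y'
    simp
  
theorem clopenLift_of_range_eq {Z Z' Y : Type*} [TopologicalSpace Z] [TopologicalSpace Y]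
    [TopologicalSpace Z'] {p : Z → Y} {p' : Z' → Y} (hp : Topology.IsEmbedding p)
    (hp' : Topology.IsEmbedding p') (hr : Set.range p = Set.range p') (H : ClopenLift p) :
    ClopenLift p' := by
  let eZ : Z ≃ₜ Z' :=
    hp.toHomeomorph.trans ((Homeomorph.setCongr hr).trans hp'.toHomeomorph.symm)
  have h : ∀ z, p z = p' (eZ z) := by
    intro z
    have h1 : (hp'.toHomeomorph (eZ z) : Y) = p z := by
      simp only [eZ, Homeomorph.trans_apply, Homeomorph.apply_symm_apply]
      rfl
    rw [← h1]; rfl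
  exact clopenLift_of_homeo (Homeomorph.refl Y) eZ h H

theorem preimage_comap_basicOpen {B C : Type*} [CommRing B] [CommRing C] (f : B →+* C) (e : B) :
    PrimeSpectrum.comap f ⁻¹' (basicOpen e : Set (PrimeSpectrum B)) = basicOpen (f e) := by
  ext q
  simp [PrimeSpectrum.mem_basicOpen]

/-- Ring-level statement: open-closed subsets lift uniquely along `Spec (B/J) → Spec B` iff
idempotents lift uniquely. -/
theorem clopenLift_comap_iff_bijOn {B : Type*} [CommRing B] (J : Ideal B) :
    ClopenLift (PrimeSpectrum.comap (Ideal.Quotient.mk J)) ↔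
      Set.BijOn (Ideal.Quotient.mk J) {e : B | IsIdempotentElem e} {e | IsIdempotentElem e} := by
  constructor
  · intro H
    refine ⟨fun e he => he.map _, ?_, ?_⟩
    · intro e he e' he' hee'
      have hV : IsClopen (basicOpen (Ideal.Quotient.mk J e) : Set (PrimeSpectrum (B ⧸ J))) :=
        PrimeSpectrum.isClopen_iff.mpr ⟨_, he.map _, rfl⟩
      obtain ⟨U, -, huniq⟩ := H _ hV
      have h1 : (basicOpen e : Set (PrimeSpectrum B)) = U :=
        huniq _ ⟨PrimeSpectrum.isClopen_iff.mpr ⟨_, he, rfl⟩, preimage_comap_basicOpen _ _⟩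
      have h2 : (basicOpen e' : Set (PrimeSpectrum B)) = U :=
        huniq _ ⟨PrimeSpectrum.isClopen_iff.mpr ⟨_, he', rfl⟩, by
          rw [preimage_comap_basicOpen, hee']⟩
      exact PrimeSpectrum.basicOpen_injOn_isIdempotentElem he he'
        (SetLike.ext' (h1.trans h2.symm))
    · intro ē hē
      have hV : IsClopen (basicOpen ē : Set (PrimeSpectrum (B ⧸ J))) :=
        PrimeSpectrum.isClopen_iff.mpr ⟨_, hē, rfl⟩
      obtain ⟨U, ⟨hU, hUV⟩, -⟩ := H _ hV
      obtain ⟨e, he, rfl⟩ := PrimeSpectrum.isClopen_iff.mp hU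
      refine ⟨e, he, ?_⟩
      rw [preimage_comap_basicOpen] at hUV
      exact PrimeSpectrum.basicOpen_injOn_isIdempotentElem (he.map _) hē (SetLike.ext' hUV)
  · intro H V hV
    obtain ⟨ē, hē, rfl⟩ := PrimeSpectrum.isClopen_iff.mp hV
    obtain ⟨e, he, rfl⟩ := H.surjOn hē
    refine ⟨basicOpen e, ⟨PrimeSpectrum.isClopen_iff.mpr ⟨_, he, rfl⟩,
      preimage_comap_basicOpen _ _⟩, ?_⟩
    rintro U' ⟨hU', hU'V⟩
    obtain ⟨e', he', rfl⟩ := PrimeSpectrum.isClopen_iff.mp hU'
    rw [preimage_comap_basicOpen] at hU'V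
    have h1 : Ideal.Quotient.mk J e' = Ideal.Quotient.mk J e :=
      PrimeSpectrum.basicOpen_injOn_isIdempotentElem (he'.map _) (he.map _) (SetLike.ext' hU'V)
    rw [H.injOn he' he h1]

theorem fst_clopenLift_iff {A : Type u} [CommRing A] (I : Ideal A) {Y : Scheme.{u}}
    (B : CommRingCat.{u}) (e : Y ≅ Spec B) (ψ : CommRingCat.of A ⟶ B)
    (g : Y ⟶ Spec (CommRingCat.of A)) (hg : g = e.hom ≫ Spec.map ψ) :
    ClopenLift (pullback.fst g (Spec.map (CommRingCat.ofHom (Ideal.Quotient.mk I)))).base ↔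
      Set.BijOn (Ideal.Quotient.mk (I.map ψ.hom)) {e | IsIdempotentElem e}
        {e | IsIdempotentElem e} := by
  rw [← clopenLift_comap_iff_bijOn]
  set i := Spec.map (CommRingCat.ofHom (Ideal.Quotient.mk I)) with hi
  have hci : IsClosedImmersion i :=
    IsClosedImmersion.spec_of_surjective _ Ideal.Quotient.mk_surjective
  set J := I.map ψ.hom with hJ
  let eY : Y ≃ₜ PrimeSpectrum B := Scheme.homeoOfIso e
  let p' : PrimeSpectrum (B ⧸ J) → Y := fun z => eY.symm (PrimeSpectrum.comap (Ideal.Quotient.mk J) z)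
  have hp : Topology.IsEmbedding (pullback.fst g i).base :=
    (pullback.fst g i).isClosedEmbedding.isEmbedding
  have hp' : Topology.IsEmbedding p' :=
    eY.symm.isEmbedding.comp
      (PrimeSpectrum.isClosedEmbedding_comap_of_surjective _ _
        Ideal.Quotient.mk_surjective).isEmbedding
  have hr : Set.range (pullback.fst g i).base = Set.range p' := by
    rw [Scheme.Pullback.range_fst]
    have hri : Set.range i.base = zeroLocus (I : Set A) := by
      have h1 := _root_.range_comap_of_surjective _ (Ideal.Quotient.mk I)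
        Ideal.Quotient.mk_surjective
      rw [Ideal.mk_ker] at h1
      exact h1
    have hrJ : Set.range (PrimeSpectrum.comap (Ideal.Quotient.mk J)) = zeroLocus (J : Set B) := by
      have h1 := _root_.range_comap_of_surjective _ (Ideal.Quotient.mk J)
        Ideal.Quotient.mk_surjective
      rw [Ideal.mk_ker] at h1
      exact h1
    have hgy : ∀ y : Y, g.base y = PrimeSpectrum.comap ψ.hom (eY y) := by
      intro y; subst hg; rfl
    have hz : ∀ x : PrimeSpectrum B, PrimeSpectrum.comap ψ.hom x ∈ zeroLocus (I : Set A) ↔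
        x ∈ zeroLocus (J : Set B) := by
      intro x
      rw [← Set.mem_preimage, PrimeSpectrum.preimage_comap_zeroLocus, hJ, Ideal.map,
        PrimeSpectrum.zeroLocus_span]
    ext y
    rw [Set.mem_preimage]
    have hy1 : g.base y ∈ Set.range i.base ↔ eY y ∈ Set.range (PrimeSpectrum.comap (Ideal.Quotient.mk J)) := by
      have a1 : g.base y ∈ Set.range i.base ↔
          PrimeSpectrum.comap ψ.hom (eY y) ∈ zeroLocus (I : Set A) := by
        rw [← hgy]; exact Eq.to_iff (congrArg (fun s => g.base y ∈ s) hri)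
      exact a1.trans ((hz _).trans
        (Eq.to_iff (congrArg (fun s => (eY y : PrimeSpectrum B) ∈ s) hrJ.symm)))
    refine hy1.trans ?_
    constructor
    · rintro ⟨z, hz'⟩
      exact ⟨z, by simp only [p', hz', Homeomorph.symm_apply_apply]⟩
    · rintro ⟨z, rfl⟩
      exact ⟨z, by simp only [p', Homeomorph.apply_symm_apply]⟩
  constructor
  · intro H
    have H' : ClopenLift p' := clopenLift_of_range_eq hp hp' hr H
    exact clopenLift_of_homeo eY (Homeomorph.refl _) (fun z => eY.apply_symm_apply _) H'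
  · intro H
    have H' : ClopenLift p' :=
      clopenLift_of_homeo eY.symm (Homeomorph.refl _) (fun z => rfl) H
    exact clopenLift_of_range_eq hp' hp hr.symm H'

end Groth.Agent.H89.HensClopen
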