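import Mathlib

set_option autoImplicit false
universe u

open TensorProduct CategoryTheory CategoryTheory.Limits

namespace Groth.Agent.H89.KerPushout

theorem ker_includeRight_of_flat {R A B : Type u} [CommRing R] [CommRing A] [CommRing B]
    [Algebra R A] [Algebra R B] [Module.Flat R B] (x : B)
    (hx : (1 : A) ⊗ₜ[R] x = 0) :
    x ∈ (RingHom.ker (algebraMap R A)).map (algebraMap R B) := by
  set K := RingHom.ker (algebraMap R A) with hK
  -- the injection R/K → A
  let ι : (R ⧸ K) →ₗ[R] A :=
    (Ideal.Quotient.liftₐ K (Algebra.ofId R A) (fun a ha => ha)).toLinearMap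
  have hι : Function.Injective ι := by
    rw [← LinearMap.ker_eq_bot, LinearMap.ker_eq_bot']
    intro y hy
    obtain ⟨r, rfl⟩ := Ideal.Quotient.mk_surjective y
    have : algebraMap R A r = 0 := hy
    exact Ideal.Quotient.eq_zero_iff_mem.mpr this
  have hinj : Function.Injective (LinearMap.rTensor B ι) :=
    Module.Flat.rTensor_preserves_injective_linearMap ι hι
  have h1 : (1 : R ⧸ K) ⊗ₜ[R] x = 0 := by
    apply hinj
    rw [LinearMap.rTensor_tmul, map_zero]
    have : ι 1 = 1 := map_one (Ideal.Quotient.liftₐ K (Algebra.ofId R A) (fun a ha => ha))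
    rw [this]; exact hx
  have h2 := congrArg (TensorProduct.quotTensorEquivQuotSMul B K) h1
  rw [map_zero] at h2
  have h3 : TensorProduct.quotTensorEquivQuotSMul B K ((1 : R ⧸ K) ⊗ₜ[R] x) =
      Submodule.Quotient.mk x := by
    have := TensorProduct.quotTensorEquivQuotSMul_mk_tmul (M := B) K 1 x
    simpa using this
  rw [h3, Submodule.Quotient.mk_eq_zero] at h2
  rw [Ideal.smul_top_eq_map] at h2
  exact h2

theorem mem_map_ker_of_isPushout {R A B P : CommRingCat.{u}} {a : R ⟶ A} {b : R ⟶ B}
    {a' : A ⟶ P} {b' : B ⟶ P} (H : IsPushout a b a' b') (hb : b.hom.Flat) (x : B)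
    (hx : b'.hom x = 0) : x ∈ (RingHom.ker a.hom).map b.hom := by
  let _ : Algebra R A := a.hom.toAlgebra
  let _ : Algebra R B := b.hom.toAlgebra
  have hflat : Module.Flat R B := hb
  have H' := CommRingCat.isPushout_tensorProduct R A B
  have H'' : IsPushout (CommRingCat.ofHom (algebraMap R A)) (CommRingCat.ofHom (algebraMap R B))
      a' b' := H
  let e := H'.isoIsPushout _ _ H''
  have h1 : b' = CommRingCat.ofHom
      (Algebra.TensorProduct.includeRight : B →ₐ[R] A ⊗[R] B).toRingHom ≫ e.hom :=
    (IsPushout.inr_isoIsPushout_hom _ _ H' H'').symm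
  have h2 : e.hom.hom ((1 : A) ⊗ₜ[R] x) = 0 := by
    rw [h1] at hx
    exact hx
  have h3 : (1 : A) ⊗ₜ[R] x = 0 := by
    have hinj : Function.Injective e.hom.hom :=
      (ConcreteCategory.bijective_of_isIso e.hom).injective
    apply hinj
    rw [h2, map_zero]
  exact ker_includeRight_of_flat x h3

end Groth.Agent.H89.KerPushout
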