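import Mathlib
import Groth.Agent.H89.SchemeIdem
import Groth.Agent.H89.KerPushout
import Groth.Agent.H3.GabberAdjoin

set_option autoImplicit false
universe u

open CategoryTheory CategoryTheory.Limits AlgebraicGeometry TopologicalSpace Opposite

namespace Groth.Agent.H89.HensCouple

/-!
# Henselian couples of qcqs schemes give henselian pairs of global sections
-/

/-- Flat base change of global sections: the sections of `X ×_S T` for `S`, `T` affine,
`T → S` flat and `X` qcqs. -/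
theorem isPushout_appTop {X S T P : Scheme.{u}} [IsAffine S] [IsAffine T] [CompactSpace X]
    [QuasiSeparatedSpace X] {c : X ⟶ S} {f : T ⟶ S} [Flat f] {fst : P ⟶ X} {snd : P ⟶ T}
    (H : IsPullback fst snd c f) :
    IsPushout c.appTop f.appTop fst.appTop snd.appTop := by
  have hUST : (⊤ : T.Opens) ≤ f ⁻¹ᵁ ⊤ := le_rfl
  have hUSX : (⊤ : X.Opens) ≤ c ⁻¹ᵁ ⊤ := le_rfl
  have hUY : (⊤ : P.Opens) = fst ⁻¹ᵁ ⊤ ⊓ snd ⁻¹ᵁ ⊤ := by
    simp
  have h1 := isIso_pushoutSection_of_isQuasiSeparated_of_flat_right H hUST hUSX hUY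
    (isAffineOpen_top S) (isAffineOpen_top T) isCompact_univ
    (isQuasiSeparated_univ_iff.mpr inferInstance)
  have h2 := (isIso_pushoutSection_iff H hUST hUSX hUY).mp h1
  convert h2 using 1 <;> simp only [Scheme.Hom.appLE, Scheme.Hom.appTop] <;>
    exact (Category.comp_id _).symm.trans (congrArg _ (CategoryTheory.Functor.map_id _ _).symm)

theorem exists_idem_lift {X X₀ : Scheme.{u}} (i : X₀ ⟶ X) [IsClosedImmersion i] [CompactSpace X]
    [QuasiSeparatedSpace X]
    (hX : ∀ (Y : Scheme.{u}) (g : Y ⟶ X), IsFinite g →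
      ∀ V : Set ↥(pullback g i), IsClopen V →
        ∃! U : Set ↥Y, IsClopen U ∧ (pullback.fst g i).base ⁻¹' U = V)
    (C : Type u) [CommRing C] [Algebra Γ(X, ⊤) C] [Module.Finite Γ(X, ⊤) C]
    [Module.Flat Γ(X, ⊤) C] (b : C)
    (hb : b * b - b ∈ (RingHom.ker i.appTop.hom).map (algebraMap Γ(X, ⊤) C)) :
    ∃ e : C, IsIdempotentElem e ∧ e - b ∈ (RingHom.ker i.appTop.hom).map (algebraMap Γ(X, ⊤) C) := by
  let ψ : Γ(X, ⊤) ⟶ CommRingCat.of C := CommRingCat.ofHom (algebraMap Γ(X, ⊤) C)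
  let c : X ⟶ Spec Γ(X, ⊤) := X.toSpecΓ
  let f : Spec (CommRingCat.of C) ⟶ Spec Γ(X, ⊤) := Spec.map ψ
  have hψflat : ψ.hom.Flat := RingHom.flat_algebraMap_iff.mpr inferInstance
  have hψfin : ψ.hom.Finite := RingHom.finite_algebraMap.mpr inferInstance
  have hfflat : Flat f := Flat.SpecMap_iff.mpr hψflat
  have hffin : IsFinite f := (IsFinite.SpecMap_iff ψ).mpr hψfin
  let g := pullback.fst c f
  let q := pullback.snd c f
  have hgfin : IsFinite g := inferInstance
  let φ := pullback.fst g i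
  let σ := pullback.snd g i
  have hcX₀ : CompactSpace X₀ := QuasiCompact.compactSpace_of_compactSpace i
  have hqX₀ : QuasiSeparatedSpace X₀ := quasiSeparatedSpace_of_quasiSeparated i
  -- the two pullback squares
  have H1 : IsPullback g q c f := IsPullback.of_hasPullback c f
  have H2 : IsPullback σ (φ ≫ q) (i ≫ c) f :=
    ((IsPullback.of_hasPullback g i).paste_horiz H1.flip).flip
  have P1 : IsPushout c.appTop f.appTop g.appTop q.appTop := isPushout_appTop H1
  have P2 : IsPushout (i ≫ c).appTop f.appTop σ.appTop (φ ≫ q).appTop := isPushout_appTop H2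
  have hcapp : c.appTop = (Scheme.ΓSpecIso Γ(X, ⊤)).hom := Scheme.toSpecΓ_appTop X
  -- `q.appTop` is an isomorphism
  have hciso : IsIso c.appTop := by rw [hcapp]; infer_instance
  have hqiso : IsIso q.appTop := by
    have h1 : q.appTop = pushout.inr c.appTop f.appTop ≫ P1.isoPushout.inv :=
      (P1.inr_isoPushout_inv).symm
    rw [h1]; infer_instance
  let γ : CommRingCat.of C ⟶ Γ(pullback c f, ⊤) :=
    (Scheme.ΓSpecIso (CommRingCat.of C)).inv ≫ q.appTop
  have hγiso : IsIso γ := inferInstance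
  have hγbij : Function.Bijective γ.hom := ConcreteCategory.bijective_of_isIso γ
  have P2' : IsPushout i.appTop ψ σ.appTop (γ ≫ φ.appTop) := by
    refine IsPushout.of_iso P2 (Scheme.ΓSpecIso Γ(X, ⊤)) (Iso.refl _)
      (Scheme.ΓSpecIso (CommRingCat.of C)) (Iso.refl _) ?_ ?_ ?_ ?_
    · rw [Scheme.Hom.comp_appTop, hcapp]; simp
    · exact Scheme.ΓSpecIso_naturality ψ
    · simp
    · rw [Scheme.Hom.comp_appTop]; simp [γ]
  set J := RingHom.ker i.appTop.hom with hJ
  have hK : ∀ x ∈ J.map (algebraMap Γ(X, ⊤) C), (γ ≫ φ.appTop).hom x = 0 := by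
    intro x hx
    have hle : J.map (algebraMap Γ(X, ⊤) C) ≤ RingHom.ker (γ ≫ φ.appTop).hom := by
      rw [Ideal.map_le_iff_le_comap]
      intro j hj
      rw [Ideal.mem_comap, RingHom.mem_ker]
      have h1 : (γ ≫ φ.appTop).hom (algebraMap Γ(X, ⊤) C j) = (ψ ≫ γ ≫ φ.appTop).hom j := rfl
      rw [h1, ← P2'.w]
      have h2 : (i.appTop ≫ σ.appTop).hom j = σ.appTop.hom (i.appTop.hom j) := rfl
      rw [h2, (RingHom.mem_ker).mp hj, map_zero]
    exact hle hx
  set ε := (γ ≫ φ.appTop).hom b with hε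
  have hεidem : IsIdempotentElem ε := by
    have h1 := hK _ hb
    rw [map_sub, map_mul, sub_eq_zero] at h1
    exact h1
  obtain ⟨e', he', heε⟩ :=
    Groth.Agent.H89.SchemeIdem.exists_idem_lift_of_clopenLift φ (hX _ g hgfin) ε hεidem
  obtain ⟨e, rfl⟩ := hγbij.surjective e'
  have heidem : IsIdempotentElem e := by
    apply hγbij.injective
    rw [map_mul]; exact he'
  refine ⟨e, heidem, ?_⟩
  apply Groth.Agent.H89.KerPushout.mem_map_ker_of_isPushout P2' hψflat
  have h3 : (γ ≫ φ.appTop).hom e = φ.appTop.hom (γ.hom e) := rfl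
  rw [map_sub, h3]
  exact sub_eq_zero.mpr heε

theorem isEmpty_of_one_eq_zero (Z : Scheme.{u}) (h : (1 : Γ(Z, ⊤)) = 0) : IsEmpty Z := by
  constructor
  intro z
  have h1 : z ∈ Z.basicOpen (1 : Γ(Z, ⊤)) := by rw [Scheme.basicOpen_one]; trivial
  rw [h, Scheme.basicOpen_zero] at h1
  exact h1

theorem ker_le_jacobson {X X₀ : Scheme.{u}} (i : X₀ ⟶ X)
    (hX : ∀ (Y : Scheme.{u}) (g : Y ⟶ X), IsFinite g →
      ∀ V : Set ↥(pullback g i), IsClopen V →
        ∃! U : Set ↥Y, IsClopen U ∧ (pullback.fst g i).base ⁻¹' U = V) :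
    RingHom.ker i.appTop.hom ≤ Ideal.jacobson ⊥ := by
  intro b hb
  rw [Ideal.mem_jacobson_bot]
  intro y
  set u : Γ(X, ⊤) := b * y + 1 with hu
  let ψ : Γ(X, ⊤) ⟶ CommRingCat.of (Γ(X, ⊤) ⧸ Ideal.span {u}) :=
    CommRingCat.ofHom (Ideal.Quotient.mk _)
  let c : X ⟶ Spec Γ(X, ⊤) := X.toSpecΓ
  let f : Spec (CommRingCat.of (Γ(X, ⊤) ⧸ Ideal.span {u})) ⟶ Spec Γ(X, ⊤) := Spec.map ψ
  have hfci : IsClosedImmersion f :=
    IsClosedImmersion.spec_of_surjective ψ Ideal.Quotient.mk_surjective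
  let g := pullback.fst c f
  let q := pullback.snd c f
  have hgfin : IsFinite g := inferInstance
  let φ := pullback.fst g i
  let σ := pullback.snd g i
  have hcapp : c.appTop = (Scheme.ΓSpecIso Γ(X, ⊤)).hom := Scheme.toSpecΓ_appTop X
  -- `1 = 0` on `Z₀`
  have h10 : (1 : Γ(pullback g i, ⊤)) = 0 := by
    let θ : Γ(X, ⊤) ⟶ Γ(Spec Γ(X, ⊤), ⊤) := (Scheme.ΓSpecIso Γ(X, ⊤)).inv
    have hpath : (σ ≫ i ≫ c).appTop = (φ ≫ q ≫ f).appTop := by
      congr 1
      rw [← pullback.condition (f := c) (g := f), ← Category.assoc, ← Category.assoc,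
        pullback.condition (f := g) (g := i)]
    have hm1 : θ ≫ (σ ≫ i ≫ c).appTop = i.appTop ≫ σ.appTop := by
      rw [Scheme.Hom.comp_appTop, Scheme.Hom.comp_appTop, hcapp]
      simp only [θ, Category.assoc, Iso.inv_hom_id_assoc]
    let ρ : CommRingCat.of (Γ(X, ⊤) ⧸ Ideal.span {u}) ⟶ Γ(pullback g i, ⊤) :=
      (Scheme.ΓSpecIso (CommRingCat.of (Γ(X, ⊤) ⧸ Ideal.span {u}))).inv ≫ q.appTop ≫ φ.appTop
    have hm2 : θ ≫ (φ ≫ q ≫ f).appTop = ψ ≫ ρ := by
      rw [Scheme.Hom.comp_appTop, Scheme.Hom.comp_appTop]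
      simp only [θ, f, Category.assoc]
      rw [← Category.assoc, ← Scheme.ΓSpecIso_inv_naturality, Category.assoc]
    have hm : i.appTop ≫ σ.appTop = ψ ≫ ρ :=
      hm1.symm.trans ((congrArg (fun m => θ ≫ m) hpath).trans hm2)
    have h1 : σ.appTop.hom (i.appTop.hom u) = ρ.hom (ψ.hom u) :=
      congrArg (fun m => m.hom u) hm
    have hiu : i.appTop.hom u = 1 := by
      rw [hu, map_add, map_mul, (RingHom.mem_ker).mp hb, zero_mul, zero_add, map_one]
    have hψu : ψ.hom u = 0 :=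
      Ideal.Quotient.eq_zero_iff_mem.mpr (Ideal.mem_span_singleton_self u)
    calc (1 : Γ(pullback g i, ⊤)) = σ.appTop.hom 1 := (map_one σ.appTop.hom).symm
      _ = σ.appTop.hom (i.appTop.hom u) := (congrArg σ.appTop.hom hiu).symm
      _ = ρ.hom (ψ.hom u) := h1
      _ = ρ.hom 0 := congrArg ρ.hom hψu
      _ = 0 := map_zero ρ.hom
  have hZ₀ : IsEmpty ↥(pullback g i) := isEmpty_of_one_eq_zero _ h10
  -- hence `Z` is empty
  have hZ : IsEmpty ↥(pullback c f) := by
    obtain ⟨U, -, huniq⟩ := hX _ g hgfin ∅ isClopen_empty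
    have h1 : (∅ : Set ↥(pullback c f)) = U :=
      huniq ∅ ⟨isClopen_empty, Set.preimage_empty⟩
    have h2 : (Set.univ : Set ↥(pullback c f)) = U :=
      huniq Set.univ ⟨isClopen_univ, Set.eq_empty_of_isEmpty _⟩
    rw [← Set.univ_eq_empty_iff, h2, h1]
  -- so `u` is invertible at every point
  apply RingedSpace.isUnit_of_isUnit_germ
  intro x hx
  rw [← Scheme.mem_basicOpen _ _ _ hx]
  by_contra hxu
  have h1 : x ∈ Set.range g.base := by
    rw [Scheme.Pullback.range_fst]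
    have hrf : Set.range f.base = PrimeSpectrum.zeroLocus ((Ideal.span {u} : Ideal Γ(X, ⊤)) : Set Γ(X, ⊤)) := by
      have h2 := _root_.range_comap_of_surjective _ (Ideal.Quotient.mk (Ideal.span {u}))
        Ideal.Quotient.mk_surjective
      rw [Ideal.mk_ker] at h2
      exact h2
    obtain ⟨cx, hcxdef⟩ : ∃ cx : PrimeSpectrum Γ(X, ⊤), cx = c.base x := ⟨_, rfl⟩
    have hcx : cx ∉ (PrimeSpectrum.basicOpen u : Set (PrimeSpectrum Γ(X, ⊤))) := by
      intro h3
      apply hxu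
      rw [← Scheme.toSpecΓ_preimage_basicOpen]
      rw [hcxdef] at h3
      exact h3
    have hcx' : cx ∈ PrimeSpectrum.zeroLocus ((Ideal.span {u} : Ideal Γ(X, ⊤)) : Set Γ(X, ⊤)) := by
      rw [PrimeSpectrum.zeroLocus_span, PrimeSpectrum.mem_zeroLocus, Set.singleton_subset_iff]
      by_contra h4
      exact hcx h4
    rw [Set.mem_preimage, ← hcxdef]
    exact Eq.mpr (congrArg (fun s => cx ∈ s) hrf) hcx'
  obtain ⟨z, -⟩ := h1
  exact hZ.false z

end Groth.Agent.H89.HensCouple
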