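import Mathlib
import Groth.Agent.H89.ClopenGlue

/-!
# Henselian couples and disjoint unions of schemes (helper89)
-/

set_option autoImplicit false
universe u
open CategoryTheory CategoryTheory.Limits AlgebraicGeometry

namespace Groth.Agent.H89.HensSigma

variable {ι : Type u} (X X₀ : ι → Scheme.{u}) (i : ∀ j, X₀ j ⟶ X j)

lemma exists_sigmaι_eq (x : ↥(∐ X)) : ∃ (j : ι) (y : X j), Sigma.ι X j y = x := by
  obtain ⟨⟨j, y⟩, rfl⟩ := (sigmaMk X).surjective x
  exact ⟨j, y, (sigmaMk_mk X j y).symm⟩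

lemma sigmaι_index_eq {j k : ι} (y : X j) (y' : X k) (h : Sigma.ι X j y = Sigma.ι X k y') :
    j = k := by
  have := (sigmaι_eq_iff X j k y y').1 h
  exact (Sigma.mk.inj_iff.1 this).1

lemma map_sigmaι_apply (j : ι) (z : X₀ j) :
    (Limits.Sigma.map i) (Sigma.ι X₀ j z) = Sigma.ι X j (i j z) := by
  rw [← Scheme.Hom.comp_apply, ← Scheme.Hom.comp_apply, Sigma.ι_map]

/-- the components of a coproduct of morphisms are cartesian -/
lemma isPullback_sigma (j : ι) :
    IsPullback (i j) (Sigma.ι X₀ j) (Sigma.ι X j) (Limits.Sigma.map i) := by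
  refine IsOpenImmersion.isPullback _ _ _ _ (Sigma.ι_map i j) ?_
  apply SetLike.coe_injective
  rw [Scheme.Hom.coe_preimage, Scheme.Hom.coe_opensRange, Scheme.Hom.coe_opensRange]
  ext x
  obtain ⟨k, z, rfl⟩ := exists_sigmaι_eq X₀ x
  simp only [Set.mem_preimage, Set.mem_range]
  constructor
  · rintro ⟨y, hy⟩
    rw [map_sigmaι_apply] at hy
    obtain rfl := sigmaι_index_eq X y (i k z) hy
    exact ⟨z, rfl⟩
  · rintro ⟨z', hz'⟩
    rw [← hz', map_sigmaι_apply]
    exact ⟨_, rfl⟩

instance isClosedImmersion_sigmaι (j : ι) : IsClosedImmersion (Sigma.ι X j) := by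
  apply IsClosedImmersion.of_isPreimmersion
  rw [← isOpen_compl_iff]
  have : (Set.range (Sigma.ι X j))ᶜ = ⋃ (k : ι) (_ : k ≠ j), Set.range (Sigma.ι X k) := by
    ext x
    obtain ⟨k, y, rfl⟩ := exists_sigmaι_eq X x
    simp only [Set.mem_compl_iff, Set.mem_range, Set.mem_iUnion]
    constructor
    · intro h
      refine ⟨k, ?_, y, rfl⟩
      rintro rfl
      exact h ⟨y, rfl⟩
    · rintro ⟨k', hk', y', hy'⟩ ⟨y'', hy''⟩
      have h1 := sigmaι_index_eq X y' y hy'
      have h2 := sigmaι_index_eq X y'' y hy''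
      exact hk' (h1.trans h2.symm)
  rw [this]
  exact isOpen_iUnion fun k => isOpen_iUnion fun _ => (Sigma.ι X k).isOpenEmbedding.isOpen_range

section Forward

theorem forward
    (hA : ∀ (Y : Scheme.{u}) (g : Y ⟶ ∐ X), IsFinite g →
      ∀ V : Set ↥(pullback g (Limits.Sigma.map i)), IsClopen V →
        ∃! U : Set ↥Y, IsClopen U ∧ (pullback.fst g (Limits.Sigma.map i)).base ⁻¹' U = V)
    (j : ι) (Y : Scheme.{u}) (g : Y ⟶ X j) (hg : IsFinite g)
    (V : Set ↥(pullback g (i j))) (hV : IsClopen V) :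
    ∃! U : Set ↥Y, IsClopen U ∧ (pullback.fst g (i j)).base ⁻¹' U = V := by
  have hfin : IsFinite (g ≫ Sigma.ι X j) := inferInstance
  have hpb : IsPullback (pullback.fst g (i j)) (pullback.snd g (i j) ≫ Sigma.ι X₀ j)
      (g ≫ Sigma.ι X j) (Limits.Sigma.map i) :=
    ((IsPullback.of_hasPullback g (i j)).flip.paste_horiz (isPullback_sigma X X₀ i j).flip).flip
  refine ClopenGlue.existsUnique_of_homeo (Scheme.homeoOfIso hpb.isoPullback) _ _ (fun x => ?_)
    (hA Y _ hfin) V hV
  have h1 := hpb.isoPullback_hom_fst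
  have h2 := congrArg (fun m => (m : _ ⟶ Y) x) h1
  simpa only [Scheme.Hom.comp_apply, Scheme.homeoOfIso_apply] using h2

end Forward

section Backward

variable {Y : Scheme.{u}} (g : Y ⟶ ∐ X)

/-- the part of `Y` over the `j`-th component -/
noncomputable abbrev Yj (j : ι) : Scheme.{u} := pullback g (Sigma.ι X j)

/-- its inclusion -/
noncomputable abbrev o (j : ι) : Yj X g j ⟶ Y := pullback.fst g (Sigma.ι X j)

/-- its structure map -/
noncomputable abbrev gj (j : ι) : Yj X g j ⟶ X j := pullback.snd g (Sigma.ι X j)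

/-- the comparison of fibre products -/
noncomputable abbrev b (j : ι) :
    pullback (gj X g j) (i j) ⟶ pullback g (Limits.Sigma.map i) :=
  pullback.map (gj X g j) (i j) g (Limits.Sigma.map i) (o X g j) (Sigma.ι X₀ j) (Sigma.ι X j)
    pullback.condition.symm (Sigma.ι_map i j).symm

lemma isPullback_b (j : ι) :
    IsPullback (b X X₀ i g j) (pullback.fst (gj X g j) (i j))
      (pullback.fst g (Limits.Sigma.map i)) (o X g j) := by
  have outer : IsPullback (pullback.snd (gj X g j) (i j) ≫ Sigma.ι X₀ j)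
      (pullback.fst (gj X g j) (i j)) (Limits.Sigma.map i) (gj X g j ≫ Sigma.ι X j) :=
    (IsPullback.of_hasPullback (gj X g j) (i j)).flip.paste_horiz
      (isPullback_sigma X X₀ i j).flip
  have hsnd : b X X₀ i g j ≫ pullback.snd g (Limits.Sigma.map i) =
      pullback.snd (gj X g j) (i j) ≫ Sigma.ι X₀ j := pullback.lift_snd _ _ _
  have hfst : b X X₀ i g j ≫ pullback.fst g (Limits.Sigma.map i) =
      pullback.fst (gj X g j) (i j) ≫ o X g j := pullback.lift_fst _ _ _
  have hcond : o X g j ≫ g = gj X g j ≫ Sigma.ι X j := pullback.condition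
  refine IsPullback.of_right ?_ hfst (IsPullback.of_hasPullback g (Limits.Sigma.map i)).flip
  rw [hsnd, hcond]
  exact outer

theorem backward
    (hB : ∀ j : ι, ∀ (Y : Scheme.{u}) (g : Y ⟶ X j), IsFinite g →
      ∀ V : Set ↥(pullback g (i j)), IsClopen V →
        ∃! U : Set ↥Y, IsClopen U ∧ (pullback.fst g (i j)).base ⁻¹' U = V)
    (hg : IsFinite g)
    (V : Set ↥(pullback g (Limits.Sigma.map i))) (hV : IsClopen V) :
    ∃! U : Set ↥Y, IsClopen U ∧ (pullback.fst g (Limits.Sigma.map i)).base ⁻¹' U = V := by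
  refine ClopenGlue.existsUnique_of_cover (ι := ι)
    (p := (pullback.fst g (Limits.Sigma.map i)).base)
    (Pj := fun j => ↥(pullback (gj X g j) (i j))) (Yj := fun j => ↥(Yj X g j))
    (o := fun j => (o X g j).base) (b := fun j => (b X X₀ i g j).base)
    (q := fun j => (pullback.fst (gj X g j) (i j)).base)
    (fun j => (o X g j).isOpenEmbedding) (fun j => (b X X₀ i g j).continuous)
    ?_ ?_ ?_ ?_ ?_ V hV
  · intro j x
    have h1 := (isPullback_b X X₀ i g j).w
    have h2 := congrArg (fun m => (m : _ ⟶ Y) x) h1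
    simpa only [Scheme.Hom.comp_apply] using h2
  · intro j x hx
    have hpb := isPullback_b X X₀ i g j
    have hr := Scheme.Pullback.range_fst (pullback.fst g (Limits.Sigma.map i)) (o X g j)
    have hx' : x ∈ Set.range (pullback.fst (pullback.fst g (Limits.Sigma.map i)) (o X g j)) := by
      rw [hr]
      exact hx
    obtain ⟨z, rfl⟩ := hx'
    refine ⟨hpb.isoPullback.inv z, ?_⟩
    have h1 := hpb.isoPullback_inv_fst
    have h2 := congrArg (fun m => (m : _ ⟶ pullback g (Limits.Sigma.map i)) z) h1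
    simpa only [Scheme.Hom.comp_apply] using h2
  · intro y
    obtain ⟨j, w, hw⟩ := exists_sigmaι_eq X (g y)
    refine ⟨j, ?_⟩
    have hr := Scheme.Pullback.range_fst g (Sigma.ι X j)
    change y ∈ Set.range (pullback.fst g (Sigma.ι X j))
    rw [hr]
    exact ⟨w, hw⟩
  · intro j k y y' h
    have hc1 : g (o X g j y) = Sigma.ι X j (gj X g j y) := by
      rw [← Scheme.Hom.comp_apply, ← Scheme.Hom.comp_apply, pullback.condition]
    have hc2 : g (o X g k y') = Sigma.ι X k (gj X g k y') := by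
      rw [← Scheme.Hom.comp_apply, ← Scheme.Hom.comp_apply, pullback.condition]
    have h' : g (o X g j y) = g (o X g k y') := congrArg _ h
    rw [hc1, hc2] at h'
    exact sigmaι_index_eq X _ _ h'
  · intro j W hW
    exact hB j (Yj X g j) (gj X g j) inferInstance W hW

end Backward

end Groth.Agent.H89.HensSigma
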