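import Mathlib
import Groth.Prelude.Def_DRing4

/-!
# Hom-tensor adjunction for complexes of modules (helper89)

`homCxIso K L M : Hom•(K, Hom•(L, M)) ≅ Hom•(K ⊗ L, M)` (no signs are needed with Mathlib's conventions).
-/

set_option autoImplicit false
universe u
open CategoryTheory CategoryTheory.Limits MonoidalCategory CochainComplex CochainComplex.HomComplex HomologicalComplex

namespace Groth.Agent.H89.HomTensor

variable {A : Type u} [CommRing A] (K L M : DRing.Cx A)

lemma ι_comp_d (p q j j' : ℤ) (hj : p + q = j) (hj' : j + 1 = j') :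
    ιTensorObj K L p q j hj ≫ (K ⊗ L).d j j' =
      (K.d p (p + 1) ▷ L.X q) ≫ ιTensorObj K L (p + 1) q j' (by omega) +
        p.negOnePow • ((K.X p ◁ L.d q (q + 1)) ≫ ιTensorObj K L p (q + 1) j' (by omega)) := by
  change ιMapBifunctor K L (curriedTensor (ModuleCat.{u} A)) (ComplexShape.up ℤ) p q j hj ≫
    (mapBifunctor K L (curriedTensor (ModuleCat.{u} A)) (ComplexShape.up ℤ)).d j j' = _
  rw [mapBifunctor.d_eq, Preadditive.comp_add, mapBifunctor.ι_D₁, mapBifunctor.ι_D₂,
    mapBifunctor.d₁_eq K L (curriedTensor (ModuleCat.{u} A)) (ComplexShape.up ℤ)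
      (show (ComplexShape.up ℤ).Rel p (p + 1) from rfl) q j' (by change p + 1 + q = j'; omega),
    mapBifunctor.d₂_eq K L (curriedTensor (ModuleCat.{u} A)) (ComplexShape.up ℤ) p
      (show (ComplexShape.up ℤ).Rel q (q + 1) from rfl) j' (by change p + (q + 1) = j'; omega)]
  congr 1
  exact one_smul _ _

/-- evaluating a cochain at `(q, q')` as a linear map -/
noncomputable def evalLin (n q q' : ℤ) (h : q + n = q') : Cochain L M n →ₗ[A] (L.X q →ₗ[A] M.X q') where
  toFun z := (z.v q q' h).hom
  map_add' z z' := by simp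
  map_smul' a z := by simp

/-- the bilinear map attached to a cochain with values in the Hom complex -/
noncomputable def bil {n : ℤ} (z : Cochain K (DRing.homCx L M) n) (p q j' : ℤ) (h : p + q + n = j') :
    K.X p →ₗ[A] L.X q →ₗ[A] M.X j' :=
  (evalLin L M (p + n) q j' (by omega)) ∘ₗ (z.v p (p + n) rfl).hom

lemma bil_apply {n : ℤ} (z : Cochain K (DRing.homCx L M) n) (p q j' : ℤ) (h : p + q + n = j')
    (k : K.X p) (l : L.X q) :
    bil K L M z p q j' h k l =
      ((((z.v p (p + n) rfl).hom k : Cochain L M (p + n))).v q j' (by omega)).hom l := rfl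

lemma bil_add {n : ℤ} (z z' : Cochain K (DRing.homCx L M) n) (p q j' : ℤ) (h : p + q + n = j') :
    bil K L M (z + z') p q j' h = bil K L M z p q j' h + bil K L M z' p q j' h := by
  unfold bil
  rw [Cochain.add_v, ModuleCat.hom_add]
  exact LinearMap.comp_add _ _ _

lemma bil_smul {n : ℤ} (a : A) (z : Cochain K (DRing.homCx L M) n) (p q j' : ℤ)
    (h : p + q + n = j') :
    bil K L M (a • z) p q j' h = a • bil K L M z p q j' h := by
  unfold bil
  rw [Cochain.smul_v, ModuleCat.hom_smul]
  apply LinearMap.ext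
  intro k
  exact (evalLin L M (p + n) q j' (by omega)).map_smul a _

/-- the forward map -/
noncomputable def fwd {n : ℤ} (z : Cochain K (DRing.homCx L M) n) : Cochain (K ⊗ L) M n :=
  Cochain.mk fun j j' hj => mapBifunctorDesc (fun p q (hpq : p + q = j) =>
    ModuleCat.ofHom (TensorProduct.lift (bil K L M z p q j' (by omega))))

lemma ι_fwd_v {n : ℤ} (z : Cochain K (DRing.homCx L M) n) (p q j j' : ℤ) (hpq : p + q = j)
    (hj : j + n = j') :
    ιTensorObj K L p q j hpq ≫ (fwd K L M z).v j j' hj =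
      ModuleCat.ofHom (TensorProduct.lift (bil K L M z p q j' (by omega))) := by
  simp [fwd]

lemma ι_fwd_v_apply {n : ℤ} (z : Cochain K (DRing.homCx L M) n) (p q j j' : ℤ) (hpq : p + q = j)
    (hj : j + n = j') (k : K.X p) (l : L.X q) :
    ((fwd K L M z).v j j' hj).hom ((ιTensorObj K L p q j hpq).hom (k ⊗ₜ[A] l)) =
      bil K L M z p q j' (by omega) k l := by
  have := congrArg (fun f => f.hom (k ⊗ₜ[A] l)) (ι_fwd_v K L M z p q j j' hpq hj)
  exact this.trans (TensorProduct.lift.tmul _ _)

/-- the curried components of a cochain on the tensor product -/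
noncomputable def cur {n : ℤ} (w : Cochain (K ⊗ L) M n) (p q j' : ℤ) (h : p + q + n = j') :
    K.X p →ₗ[A] L.X q →ₗ[A] M.X j' :=
  TensorProduct.curry (ιTensorObj K L p q (p + q) rfl ≫ w.v (p + q) j' h).hom

lemma cur_apply {n : ℤ} (w : Cochain (K ⊗ L) M n) (p q j' : ℤ) (h : p + q + n = j')
    (k : K.X p) (l : L.X q) :
    cur K L M w p q j' h k l =
      (w.v (p + q) j' h).hom ((ιTensorObj K L p q (p + q) rfl).hom (k ⊗ₜ[A] l)) := rfl

/-- the backward map -/
noncomputable def bwd {n : ℤ} (w : Cochain (K ⊗ L) M n) : Cochain K (DRing.homCx L M) n :=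
  Cochain.mk fun p p' hp => ModuleCat.ofHom
    { toFun := fun k => (Cochain.mk fun q q' hq =>
          ModuleCat.ofHom (cur K L M w p q q' (by omega) k) : Cochain L M p')
      map_add' := fun k k' => by
        ext q q' hq
        simp
      map_smul' := fun a k => by
        ext q q' hq
        simp }

lemma bwd_v_apply {n : ℤ} (w : Cochain (K ⊗ L) M n) (p p' : ℤ) (hp : p + n = p') (k : K.X p)
    (q q' : ℤ) (hq : q + p' = q') :
    ((((bwd K L M w).v p p' hp).hom k : Cochain L M p')).v q q' hq =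
      ModuleCat.ofHom (cur K L M w p q q' (by omega) k) := rfl

lemma fwd_bwd {n : ℤ} (w : Cochain (K ⊗ L) M n) : fwd K L M (bwd K L M w) = w := by
  refine Cochain.ext _ _ (fun j j' hj => ?_)
  apply mapBifunctor.hom_ext
  intro p q hpq'
  have hpq : p + q = j := hpq'
  subst hpq
  refine (ι_fwd_v K L M (bwd K L M w) p q (p + q) j' rfl hj).trans ?_
  apply ModuleCat.hom_ext
  apply TensorProduct.ext'
  intro k l
  rfl

lemma bwd_fwd {n : ℤ} (z : Cochain K (DRing.homCx L M) n) : bwd K L M (fwd K L M z) = z := by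
  refine Cochain.ext _ _ (fun p p' hp => ?_)
  subst hp
  apply ModuleCat.hom_ext
  apply LinearMap.ext
  intro k
  apply Cochain.ext
  intro q q' hq
  apply ModuleCat.hom_ext
  apply LinearMap.ext
  intro l
  exact ι_fwd_v_apply K L M z p q (p + q) q' rfl (by omega) k l

lemma fwd_add {n : ℤ} (z z' : Cochain K (DRing.homCx L M) n) :
    fwd K L M (z + z') = fwd K L M z + fwd K L M z' := by
  refine Cochain.ext _ _ (fun j j' hj => ?_)
  apply mapBifunctor.hom_ext
  intro p q hpq'
  have hpq : p + q = j := hpq'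
  subst hpq
  rw [Cochain.add_v, Preadditive.comp_add]
  refine (ι_fwd_v K L M _ p q (p + q) j' rfl hj).trans ?_
  refine Eq.trans ?_ (congrArg₂ (· + ·) (ι_fwd_v K L M z p q (p + q) j' rfl hj).symm
    (ι_fwd_v K L M z' p q (p + q) j' rfl hj).symm)
  apply ModuleCat.hom_ext
  apply TensorProduct.ext'
  intro k l
  simp [bil_add]

lemma fwd_smul {n : ℤ} (a : A) (z : Cochain K (DRing.homCx L M) n) :
    fwd K L M (a • z) = a • fwd K L M z := by
  refine Cochain.ext _ _ (fun j j' hj => ?_)
  apply mapBifunctor.hom_ext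
  intro p q hpq'
  have hpq : p + q = j := hpq'
  subst hpq
  rw [Cochain.smul_v, Linear.comp_smul]
  refine (ι_fwd_v K L M _ p q (p + q) j' rfl hj).trans ?_
  refine Eq.trans ?_ (congrArg (a • ·) (ι_fwd_v K L M z p q (p + q) j' rfl hj).symm)
  apply ModuleCat.hom_ext
  apply TensorProduct.ext'
  intro k l
  simp [bil_smul]

/-- the degreewise linear equivalence -/
noncomputable def equiv (n : ℤ) : Cochain K (DRing.homCx L M) n ≃ₗ[A] Cochain (K ⊗ L) M n where
  toFun := fwd K L M
  invFun := bwd K L M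
  map_add' := fwd_add K L M
  map_smul' := fwd_smul K L M
  left_inv := bwd_fwd K L M
  right_inv := fwd_bwd K L M

lemma units_smul_hom_apply {X Y : ModuleCat.{u} A} (e : ℤˣ) (f : X ⟶ Y) (x : X) :
    (e • f).hom x = e • f.hom x := by
  rcases Int.units_eq_one_or e with rfl | rfl <;> simp

lemma δ_v_apply {r s : ℤ} (hrs : r + 1 = s) (c : Cochain L M r) (q q' : ℤ) (hq : q + s = q')
    (l : L.X q) :
    ((δ r s c).v q q' hq).hom l =
      (M.d (q' - 1) q').hom ((c.v q (q' - 1) (by omega)).hom l) +
        s.negOnePow • (c.v (q + 1) q' (by omega)).hom ((L.d q (q + 1)).hom l) := by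
  rw [δ_v r s hrs c q q' hq (q' - 1) (q + 1) rfl rfl]
  simp

/-- the identity, from the degree `r` term of the Hom complex to cochains -/
noncomputable def toC (r : ℤ) : ((DRing.homCx L M).X r : Type u) →ₗ[A] Cochain L M r :=
  LinearMap.id (M := Cochain L M r)

lemma bil_eq {n : ℤ} (z : Cochain K (DRing.homCx L M) n) (p p' q j' : ℤ) (hp : p + n = p')
    (h : p + q + n = j') (k : K.X p) (l : L.X q) :
    bil K L M z p q j' h k l =
      ((toC L M p' ((z.v p p' hp).hom k)).v q j' (by omega)).hom l := by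
  subst hp
  rfl

lemma δ_hom_v_apply {n m : ℤ} (hnm : n + 1 = m) (z : Cochain K (DRing.homCx L M) n) (p p' : ℤ)
    (hp : p + m = p') (k : K.X p) :
    toC L M p' (((δ n m z).v p p' hp).hom k) =
      δ (p' - 1) p' (toC L M (p' - 1) ((z.v p (p' - 1) (by omega)).hom k)) +
        m.negOnePow • toC L M p' ((z.v (p + 1) p' (by omega)).hom ((K.d p (p + 1)).hom k)) := by
  rw [δ_v n m hnm z p p' hp (p' - 1) (p + 1) rfl rfl]
  rw [ModuleCat.hom_add, LinearMap.add_apply, map_add, units_smul_hom_apply, map_zsmul_unit]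
  rfl

lemma bil_δ {n m : ℤ} (hnm : n + 1 = m) (z : Cochain K (DRing.homCx L M) n) (p q j' : ℤ)
    (h : p + q + m = j') (k : K.X p) (l : L.X q) :
    bil K L M (δ n m z) p q j' h k l =
      (M.d (j' - 1) j').hom (bil K L M z p q (j' - 1) (by omega) k l) +
        (p + m).negOnePow • bil K L M z p (q + 1) j' (by omega) k ((L.d q (q + 1)).hom l) +
        m.negOnePow • bil K L M z (p + 1) q j' (by omega) ((K.d p (p + 1)).hom k) l := by
  rw [bil_eq K L M (δ n m z) p (p + m) q j' rfl h k l, δ_hom_v_apply K L M hnm z p (p + m) rfl k,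
    Cochain.add_v, Cochain.units_smul_v, ModuleCat.hom_add, LinearMap.add_apply,
    units_smul_hom_apply, δ_v_apply L M (by omega) _ q j' (by omega) l,
    bil_eq K L M z p (p + m - 1) q (j' - 1) (by omega) (by omega) k l,
    bil_eq K L M z p (p + m - 1) (q + 1) j' (by omega) (by omega) k _,
    bil_eq K L M z (p + 1) (p + m) q j' (by omega) (by omega) _ l]

lemma fwd_δ (n m : ℤ) (z : Cochain K (DRing.homCx L M) n) :
    fwd K L M (δ n m z) = δ n m (fwd K L M z) := by
  by_cases hnm : n + 1 = m
  swap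
  · rw [δ_shape _ _ hnm, δ_shape _ _ hnm]
    exact (equiv K L M m).map_zero
  refine Cochain.ext _ _ (fun j j' hj => ?_)
  apply mapBifunctor.hom_ext
  intro p q hpq'
  have hpq : p + q = j := hpq'
  subst hpq
  refine (ι_fwd_v K L M _ p q (p + q) j' rfl hj).trans ?_
  have e1 : ιTensorObj K L p q (p + q) rfl ≫ (δ n m (fwd K L M z)).v (p + q) j' hj =
      ModuleCat.ofHom (TensorProduct.lift (bil K L M z p q (j' - 1) (by omega))) ≫
          M.d (j' - 1) j' +
      m.negOnePow • ((K.d p (p + 1) ▷ L.X q) ≫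
          ModuleCat.ofHom (TensorProduct.lift (bil K L M z (p + 1) q j' (by omega))) +
        p.negOnePow • ((K.X p ◁ L.d q (q + 1)) ≫
          ModuleCat.ofHom (TensorProduct.lift (bil K L M z p (q + 1) j' (by omega))))) := by
    rw [δ_v n m hnm (fwd K L M z) (p + q) j' hj (j' - 1) (p + q + 1) rfl rfl,
      Preadditive.comp_add, ← Category.assoc,
      ι_fwd_v K L M z p q (p + q) (j' - 1) rfl (by omega),
      Linear.comp_units_smul, ← Category.assoc, ι_comp_d K L p q (p + q) (p + q + 1) rfl rfl,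
      Preadditive.add_comp, Category.assoc,
      ι_fwd_v K L M z (p + 1) q (p + q + 1) j' (by omega) (by omega),
      Linear.units_smul_comp, Category.assoc,
      ι_fwd_v K L M z p (q + 1) (p + q + 1) j' (by omega) (by omega)]
  refine Eq.trans ?_ e1.symm
  apply ModuleCat.hom_ext
  apply TensorProduct.ext'
  intro k l
  refine (TensorProduct.lift.tmul _ _).trans ?_
  rw [bil_δ K L M hnm z p q j' (by omega) k l]
  rw [ModuleCat.hom_add, LinearMap.add_apply, units_smul_hom_apply, ModuleCat.hom_add,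
    LinearMap.add_apply, units_smul_hom_apply, ModuleCat.hom_comp, ModuleCat.hom_comp,
    ModuleCat.hom_comp, LinearMap.comp_apply, LinearMap.comp_apply, LinearMap.comp_apply,
    ModuleCat.MonoidalCategory.whiskerRight_apply, ModuleCat.MonoidalCategory.whiskerLeft_apply]
  erw [TensorProduct.lift.tmul, TensorProduct.lift.tmul, TensorProduct.lift.tmul]
  rw [Int.negOnePow_add, smul_add, smul_smul, mul_comm m.negOnePow p.negOnePow]
  abel

/-- The Hom-tensor adjunction isomorphism of complexes `Hom•(K, Hom•(L, M)) ≅ Hom•(K ⊗ L, M)`. -/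
noncomputable def homCxIso : DRing.homCx K (DRing.homCx L M) ≅ DRing.homCx (K ⊗ L) M :=
  HomologicalComplex.Hom.isoOfComponents (fun i => (equiv K L M i).toModuleIso) (by
    intro i j _
    apply ModuleCat.hom_ext
    apply LinearMap.ext
    intro z
    exact (fwd_δ K L M i j z).symm)

end Groth.Agent.H89.HomTensor
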