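import Groth.Prelude.Def_LiftSq
import Mathlib

set_option autoImplicit false

universe v₆ u₆ v₅ u₅ v₄ u₄ v₃ u₃ v₂ u₂ v u

open CategoryTheory

namespace Groth.Agent.H89.LS

open LiftSq

variable {C : Type u} [Category.{v} C]
  {𝒜 : BasedCategory.{v₂, u₂} C} {ℬ : BasedCategory.{v₃, u₃} C}
  {𝒳 : BasedCategory.{v₄, u₄} C} {𝒴 : BasedCategory.{v₅, u₅} C} {𝒵 : BasedCategory.{v₆, u₆} C}

/-- Right whiskering of a 2-isomorphism. -/
def wrIso {F G : 𝒜 ⥤ᵇ ℬ} (e : F ≅ G) (H : ℬ ⥤ᵇ 𝒳) :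
    BasedFunctor.comp F H ≅ BasedFunctor.comp G H where
  hom := BasedCategory.whiskerRight e.hom H
  inv := BasedCategory.whiskerRight e.inv H
  hom_inv_id := by rw [← whiskerRight_comp', e.hom_inv_id, whiskerRight_id']
  inv_hom_id := by rw [← whiskerRight_comp', e.inv_hom_id, whiskerRight_id']

theorem app_eq {F G : 𝒜 ⥤ᵇ ℬ} {α β : F ⟶ G} (h : α = β) (a : 𝒜.obj) :
    α.toNatTrans.app a = β.toNatTrans.app a := by rw [h]

theorem comp_app {F G H : 𝒜 ⥤ᵇ ℬ} (α : F ⟶ G) (β : G ⟶ H) (a : 𝒜.obj) :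
    (α ≫ β).toNatTrans.app a = α.toNatTrans.app a ≫ β.toNatTrans.app a := rfl

theorem id_app (F : 𝒜 ⥤ᵇ ℬ) (a : 𝒜.obj) : (𝟙 F : F ⟶ F).toNatTrans.app a = 𝟙 _ := rfl

theorem hom_ext' {F G : 𝒜 ⥤ᵇ ℬ} {α β : F ⟶ G}
    (h : ∀ a : 𝒜.obj, α.toNatTrans.app a = β.toNatTrans.app a) : α = β := by
  apply BasedNatTrans.homCategory.ext
  ext a
  exact h a

section

variable {j : 𝒜 ⥤ᵇ ℬ} {f : 𝒳 ⥤ᵇ 𝒴}

theorem lift_w_app {sq : Sq j f} (d : sq.Lift) (a : 𝒜.obj) :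
    d.isoBot.hom.toNatTrans.app (j.toFunctor.obj a) ≫
      f.toFunctor.map (d.isoTop.hom.toNatTrans.app a) = sq.iso.hom.toNatTrans.app a :=
  app_eq d.w a

theorem hom_w_top_app {sq : Sq j f} {d d' : sq.Lift} (θ : d ⟶ d') (a : 𝒜.obj) :
    θ.hom.toNatTrans.app (j.toFunctor.obj a) ≫ d'.isoTop.hom.toNatTrans.app a
      = d.isoTop.hom.toNatTrans.app a :=
  app_eq θ.w_top a

theorem hom_w_bot_app {sq : Sq j f} {d d' : sq.Lift} (θ : d ⟶ d') (b : ℬ.obj) :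
    d.isoBot.hom.toNatTrans.app b ≫ f.toFunctor.map (θ.hom.toNatTrans.app b)
      = d'.isoBot.hom.toNatTrans.app b :=
  app_eq θ.w_bot b

/-- Build a morphism of dotted arrows from componentwise identities. -/
def mkHom {sq : Sq j f} {d d' : sq.Lift} (α : d.fn ⟶ d'.fn)
    (h₁ : ∀ a : 𝒜.obj, α.toNatTrans.app (j.toFunctor.obj a) ≫ d'.isoTop.hom.toNatTrans.app a
      = d.isoTop.hom.toNatTrans.app a)
    (h₂ : ∀ b : ℬ.obj, d.isoBot.hom.toNatTrans.app b ≫ f.toFunctor.map (α.toNatTrans.app b)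
      = d'.isoBot.hom.toNatTrans.app b) : d ⟶ d' where
  hom := α
  w_top := hom_ext' h₁
  w_bot := hom_ext' h₂

/-- Build a dotted arrow from a componentwise identity. -/
def mkLift (sq : Sq j f) (fn : ℬ ⥤ᵇ 𝒳) (isoTop : BasedFunctor.comp j fn ≅ sq.top)
    (isoBot : sq.bot ≅ BasedFunctor.comp fn f)
    (h : ∀ a : 𝒜.obj, isoBot.hom.toNatTrans.app (j.toFunctor.obj a) ≫
      f.toFunctor.map (isoTop.hom.toNatTrans.app a) = sq.iso.hom.toNatTrans.app a) : sq.Lift where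
  fn := fn
  isoTop := isoTop
  isoBot := isoBot
  w := hom_ext' h

end

section Aux

variable {D E : Type*} [Category D] [Category E]

theorem aux1 (G : D ⥤ E) {X : E} {Y Y' Y'' : D} (p : X ⟶ G.obj Y) (q : Y ⟶ Y') (r : Y' ⟶ Y'')
    (s : Y ⟶ Y'') (t : X ⟶ G.obj Y'') (h1 : q ≫ r = s) (h2 : p ≫ G.map s = t) :
    (p ≫ G.map q) ≫ G.map r = t := by
  subst h1; subst h2; simp

theorem aux2 {X Y : D} (u v : X ⟶ Y) (h : 𝟙 X ≫ u = v) : u = v := by
  rw [← h, Category.id_comp]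

theorem aux3 (G : D ⥤ E) {X : E} {Y Y' : D} (p : X ⟶ G.obj Y) (u v : Y ⟶ Y')
    (t : X ⟶ G.obj Y') (h : u = v) (h1 : p ≫ G.map v = t) : p ≫ G.map u = t := by
  subst h; exact h1

theorem aux4 (G : D ⥤ E) {X Y Z : D} (x : X ⟶ Y) (y : Y ⟶ Z) (z : X ⟶ Z) (h : x ≫ y = z) :
    G.map x ≫ G.map y = G.map z := by
  rw [← G.map_comp, h]

theorem aux5 {X Y : D} (u v : X ⟶ Y) (h : u = v) : 𝟙 X ≫ u = v := by
  rw [h, Category.id_comp]

end Aux

/-- Squares that can be uniquely filled in against `f` and against `g` can be uniquely filled in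
against `f ⋙ g`. -/
theorem liftsUniquely_comp (j : 𝒜 ⥤ᵇ ℬ) (f : 𝒳 ⥤ᵇ 𝒴) (g : 𝒴 ⥤ᵇ 𝒵)
    (hf : LiftsUniquely j f) (hg : LiftsUniquely j g) :
    LiftsUniquely j (BasedFunctor.comp f g) := by
  intro sq
  let sqg : Sq j g := ⟨BasedFunctor.comp sq.top f, sq.bot, sq.iso⟩
  constructor
  · -- existence
    obtain ⟨⟨dg⟩, -⟩ := hg sqg
    let sqf : Sq j f := ⟨sq.top, dg.fn, dg.isoTop⟩
    obtain ⟨⟨df⟩, -⟩ := hf sqf
    refine ⟨mkLift sq df.fn df.isoTop (dg.isoBot ≪≫ wrIso df.isoBot g) ?_⟩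
    intro a
    have h1 := lift_w_app df a
    have h2 := lift_w_app dg a
    exact aux1 g.toFunctor _ _ _ _ _ h1 h2
  · -- uniqueness
    intro d d'
    let dgt : sqg.Lift := mkLift sqg (BasedFunctor.comp d.fn f) (wrIso d.isoTop f) d.isoBot
      (fun a => lift_w_app d a)
    let dgt' : sqg.Lift := mkLift sqg (BasedFunctor.comp d'.fn f) (wrIso d'.isoTop f) d'.isoBot
      (fun a => lift_w_app d' a)
    have hgU := (hg sqg).2
    obtain ⟨uβ⟩ := hgU dgt dgt'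
    obtain ⟨uβ'⟩ := hgU dgt' dgt
    obtain ⟨u11⟩ := hgU dgt dgt
    obtain ⟨u22⟩ := hgU dgt' dgt'
    let β : dgt ⟶ dgt' := uβ.default
    let β' : dgt' ⟶ dgt := uβ'.default
    have hββ' : β ≫ β' = 𝟙 dgt := (u11.uniq _).trans (u11.uniq _).symm
    have hβ'β : β' ≫ β = 𝟙 dgt' := (u22.uniq _).trans (u22.uniq _).symm
    let βiso : BasedFunctor.comp d.fn f ≅ BasedFunctor.comp d'.fn f :=
      { hom := β.hom
        inv := β'.hom
        hom_inv_id := congrArg Sq.Lift.Hom.hom hββ'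
        inv_hom_id := congrArg Sq.Lift.Hom.hom hβ'β }
    let sqf : Sq j f := ⟨sq.top, BasedFunctor.comp d.fn f, wrIso d.isoTop f⟩
    let e : sqf.Lift := mkLift sqf d.fn d.isoTop (Iso.refl _) (fun a => Category.id_comp _)
    let e' : sqf.Lift := mkLift sqf d'.fn d'.isoTop βiso (fun a => hom_w_top_app β a)
    obtain ⟨uα⟩ := (hf sqf).2 e e'
    let α₀ : e ⟶ e' := uα.default
    have hα₀bot : ∀ b : ℬ.obj, f.toFunctor.map (α₀.hom.toNatTrans.app b)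
        = β.hom.toNatTrans.app b := by
      intro b
      have := hom_w_bot_app α₀ b
      exact aux2 _ _ this
    -- the morphism d ⟶ d'
    let θ₀ : d ⟶ d' := mkHom α₀.hom (fun a => hom_w_top_app α₀ a) (fun b => by
      have h1 := hom_w_bot_app β b
      exact aux3 g.toFunctor _ _ _ _ (hα₀bot b) h1)
    refine ⟨⟨⟨θ₀⟩, fun θ => ?_⟩⟩
    -- uniqueness
    have hθβ : (mkHom (d := dgt) (d' := dgt') (BasedCategory.whiskerRight θ.hom f)
        (fun a => by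
          have h1 := hom_w_top_app θ a
          exact aux4 f.toFunctor _ _ _ h1)
        (fun b => hom_w_bot_app θ b)) = β := uβ.uniq _
    have hθβ' : ∀ b : ℬ.obj, f.toFunctor.map (θ.hom.toNatTrans.app b)
        = β.hom.toNatTrans.app b := by
      intro b
      exact congrArg (fun t => t.hom.toNatTrans.app b) hθβ
    have hθα : (mkHom (d := e) (d' := e') θ.hom (fun a => hom_w_top_app θ a)
        (fun b => aux5 _ _ (hθβ' b))) = α₀ := uα.uniq _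
    have h3 : θ.hom = α₀.hom := congrArg (fun t : e ⟶ e' => t.hom) hθα
    apply Sq.Lift.hom_ext
    exact h3

end Groth.Agent.H89.LS
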