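import Groth.Prelude.Def_LiftSq
import Groth.Prelude.Def_FibCat2
import Mathlib
import Groth.Agent.H89.LiftSqComp

set_option autoImplicit false

universe v₆ u₆ v₅ u₅ v₄ u₄ v₃ u₃ v₂ u₂ v u

open CategoryTheory CategoryTheory.Limits

namespace Groth.Agent.H89.LS

open LiftSq FibCat

variable {C : Type u} [Category.{v} C]
  {𝒳 : BasedCategory.{v₂, u₂} C} {𝒴 : BasedCategory.{v₃, u₃} C} {𝒮 : BasedCategory.{v₄, u₄} C}
  (F : 𝒳 ⥤ᵇ 𝒮) (G : 𝒴 ⥤ᵇ 𝒮) {𝒲 : BasedCategory.{v₅, u₅} C}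

/-- Build a 2-morphism into the fibre product from its two projections. -/
def fpHomMk (G₁ G₂ : 𝒲 ⥤ᵇ fp F G)
    (α : BasedFunctor.comp G₁ (fpFst F G) ⟶ BasedFunctor.comp G₂ (fpFst F G))
    (β : BasedFunctor.comp G₁ (fpSnd F G) ⟶ BasedFunctor.comp G₂ (fpSnd F G))
    (h : ∀ w : 𝒲.obj, F.toFunctor.map (α.toNatTrans.app w) ≫ (G₂.toFunctor.obj w).obj.iso.hom
        = (G₁.toFunctor.obj w).obj.iso.hom ≫ G.toFunctor.map (β.toNatTrans.app w)) : G₁ ⟶ G₂ where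
  toNatTrans :=
    { app := fun w => ObjectProperty.homMk ⟨α.toNatTrans.app w, β.toNatTrans.app w, h w⟩
      naturality := fun w w' g => by
        apply ObjectProperty.hom_ext
        apply CategoricalPullback.hom_ext
        · exact α.toNatTrans.naturality g
        · exact β.toNatTrans.naturality g }
  isHomLift' := fun w => by
    have h1 := α.isHomLift' w
    exact @BasedFunctor.isHomLift_map _ _ _ _ (fpFst F G) _ _ _ _ (𝟙 (𝒲.p.obj w))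
      (ObjectProperty.homMk ⟨α.toNatTrans.app w, β.toNatTrans.app w, h w⟩) h1

@[simp] theorem fpHomMk_fst (G₁ G₂ : 𝒲 ⥤ᵇ fp F G)
    (α : BasedFunctor.comp G₁ (fpFst F G) ⟶ BasedFunctor.comp G₂ (fpFst F G))
    (β : BasedFunctor.comp G₁ (fpSnd F G) ⟶ BasedFunctor.comp G₂ (fpSnd F G))
    (h : ∀ w : 𝒲.obj, F.toFunctor.map (α.toNatTrans.app w) ≫ (G₂.toFunctor.obj w).obj.iso.hom
        = (G₁.toFunctor.obj w).obj.iso.hom ≫ G.toFunctor.map (β.toNatTrans.app w)) (w : 𝒲.obj) :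
    ((fpHomMk F G G₁ G₂ α β h).toNatTrans.app w).hom.fst = α.toNatTrans.app w := rfl

@[simp] theorem fpHomMk_snd (G₁ G₂ : 𝒲 ⥤ᵇ fp F G)
    (α : BasedFunctor.comp G₁ (fpFst F G) ⟶ BasedFunctor.comp G₂ (fpFst F G))
    (β : BasedFunctor.comp G₁ (fpSnd F G) ⟶ BasedFunctor.comp G₂ (fpSnd F G))
    (h : ∀ w : 𝒲.obj, F.toFunctor.map (α.toNatTrans.app w) ≫ (G₂.toFunctor.obj w).obj.iso.hom
        = (G₁.toFunctor.obj w).obj.iso.hom ≫ G.toFunctor.map (β.toNatTrans.app w)) (w : 𝒲.obj) :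
    ((fpHomMk F G G₁ G₂ α β h).toNatTrans.app w).hom.snd = β.toNatTrans.app w := rfl

/-- 2-morphisms into the fibre product are determined by their two projections. -/
theorem fp_hom_ext {G₁ G₂ : 𝒲 ⥤ᵇ fp F G} (γ γ' : G₁ ⟶ G₂)
    (h1 : ∀ w : 𝒲.obj, (γ.toNatTrans.app w).hom.fst = (γ'.toNatTrans.app w).hom.fst)
    (h2 : ∀ w : 𝒲.obj, (γ.toNatTrans.app w).hom.snd = (γ'.toNatTrans.app w).hom.snd) : γ = γ' := by
  apply hom_ext'
  intro w
  apply ObjectProperty.hom_ext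
  apply CategoricalPullback.hom_ext
  · exact h1 w
  · exact h2 w

/-- Components of the first projection whiskered. -/
theorem whiskerRight_fpFst_app {G₁ G₂ : 𝒲 ⥤ᵇ fp F G} (γ : G₁ ⟶ G₂) (w : 𝒲.obj) :
    (BasedCategory.whiskerRight γ (fpFst F G)).toNatTrans.app w = (γ.toNatTrans.app w).hom.fst := rfl

theorem whiskerRight_fpSnd_app {G₁ G₂ : 𝒲 ⥤ᵇ fp F G} (γ : G₁ ⟶ G₂) (w : 𝒲.obj) :
    (BasedCategory.whiskerRight γ (fpSnd F G)).toNatTrans.app w = (γ.toNatTrans.app w).hom.snd := rfl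

theorem fpIso_hom_app (x : (fp F G).obj) :
    (fpIso F G).hom.toNatTrans.app x = x.obj.iso.hom := rfl

theorem fp_hom_w {x x' : (fp F G).obj} (φ : x ⟶ x') :
    F.toFunctor.map φ.hom.fst ≫ x'.obj.iso.hom = x.obj.iso.hom ≫ G.toFunctor.map φ.hom.snd :=
  φ.hom.w


theorem iso_hom_inv_app {𝒵 : BasedCategory.{v₆, u₆} C} {H₁ H₂ : 𝒲 ⥤ᵇ 𝒵} (α : H₁ ≅ H₂) (w : 𝒲.obj) :
    α.hom.toNatTrans.app w ≫ α.inv.toNatTrans.app w = 𝟙 _ := by
  have := app_eq α.hom_inv_id w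
  rw [comp_app] at this
  exact this

theorem iso_inv_hom_app {𝒵 : BasedCategory.{v₆, u₆} C} {H₁ H₂ : 𝒲 ⥤ᵇ 𝒵} (α : H₁ ≅ H₂) (w : 𝒲.obj) :
    α.inv.toNatTrans.app w ≫ α.hom.toNatTrans.app w = 𝟙 _ := by
  have := app_eq α.inv_hom_id w
  rw [comp_app] at this
  exact this

section AuxBC

variable {D D' E : Type*} [Category D] [Category D'] [Category E]

theorem auxInv (P : D ⥤ E) (Q : D' ⥤ E) {X X' : D} {Y Y' : D'} (a : X ⟶ X') (a' : X' ⟶ X) (b : Y ⟶ Y')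
    (b' : Y' ⟶ Y) (i : P.obj X ⟶ Q.obj Y) (i' : P.obj X' ⟶ Q.obj Y')
    (ha : a' ≫ a = 𝟙 _) (hb : b ≫ b' = 𝟙 _)
    (h : P.map a ≫ i' = i ≫ Q.map b) : P.map a' ≫ i = i' ≫ Q.map b' := by
  have h1 : P.map a' ≫ P.map a = 𝟙 _ := by rw [← P.map_comp, ha, P.map_id]
  have h2 : Q.map b ≫ Q.map b' = 𝟙 _ := by rw [← Q.map_comp, hb, Q.map_id]
  calc P.map a' ≫ i = P.map a' ≫ i ≫ (Q.map b ≫ Q.map b') := by rw [h2, Category.comp_id]
    _ = P.map a' ≫ (i ≫ Q.map b) ≫ Q.map b' := by simp only [Category.assoc]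
    _ = P.map a' ≫ (P.map a ≫ i') ≫ Q.map b' := by rw [h]
    _ = (P.map a' ≫ P.map a) ≫ i' ≫ Q.map b' := by simp only [Category.assoc]
    _ = i' ≫ Q.map b' := by rw [h1, Category.id_comp]

end AuxBC

/-- Build a 2-isomorphism into the fibre product from its two projections. -/
def fpIsoMk (G₁ G₂ : 𝒲 ⥤ᵇ fp F G)
    (α : BasedFunctor.comp G₁ (fpFst F G) ≅ BasedFunctor.comp G₂ (fpFst F G))
    (β : BasedFunctor.comp G₁ (fpSnd F G) ≅ BasedFunctor.comp G₂ (fpSnd F G))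
    (h : ∀ w : 𝒲.obj, F.toFunctor.map (α.hom.toNatTrans.app w) ≫ (G₂.toFunctor.obj w).obj.iso.hom
        = (G₁.toFunctor.obj w).obj.iso.hom ≫ G.toFunctor.map (β.hom.toNatTrans.app w)) :
    G₁ ≅ G₂ where
  hom := fpHomMk F G G₁ G₂ α.hom β.hom h
  inv := fpHomMk F G G₂ G₁ α.inv β.inv (fun w =>
    auxInv F.toFunctor G.toFunctor _ _ _ _ _ _ (iso_inv_hom_app α w) (iso_hom_inv_app β w) (h w))
  hom_inv_id := by
    apply fp_hom_ext
    · intro w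
      exact iso_hom_inv_app α w
    · intro w
      exact iso_hom_inv_app β w
  inv_hom_id := by
    apply fp_hom_ext
    · intro w
      exact iso_inv_hom_app α w
    · intro w
      exact iso_inv_hom_app β w


/-- Left whiskering of a 2-isomorphism. -/
def wlIso {𝒵 : BasedCategory.{v₆, u₆} C} (H : 𝒲 ⥤ᵇ 𝒳) {K L : 𝒳 ⥤ᵇ 𝒵} (e : K ≅ L) :
    BasedFunctor.comp H K ≅ BasedFunctor.comp H L where
  hom := BasedCategory.whiskerLeft H e.hom
  inv := BasedCategory.whiskerLeft H e.inv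
  hom_inv_id := by rw [← whiskerLeft_comp', e.hom_inv_id, whiskerLeft_id']
  inv_hom_id := by rw [← whiskerLeft_comp', e.inv_hom_id, whiskerLeft_id']

variable {𝒜 : BasedCategory.{v₅, u₅} C} {ℬ : BasedCategory.{v₆, u₆} C}

/-- The square against `G` induced by a square against the base change of `G`. -/
def sqBC {j : 𝒜 ⥤ᵇ ℬ} (sq : Sq j (fpFst F G)) : Sq j G where
  top := BasedFunctor.comp sq.top (fpSnd F G)
  bot := BasedFunctor.comp sq.bot F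
  iso := (wrIso sq.iso F : BasedFunctor.comp j (BasedFunctor.comp sq.bot F) ≅
      BasedFunctor.comp sq.top (BasedFunctor.comp (fpFst F G) F)) ≪≫
    (wlIso sq.top (fpIso F G))

theorem sqBC_iso_app {j : 𝒜 ⥤ᵇ ℬ} (sq : Sq j (fpFst F G)) (a : 𝒜.obj) :
    (sqBC F G sq).iso.hom.toNatTrans.app a =
      F.toFunctor.map (sq.iso.hom.toNatTrans.app a) ≫ (sq.top.toFunctor.obj a).obj.iso.hom := rfl


theorem fpLift_fst {𝒵 : BasedCategory.{v₆, u₆} C} (a : 𝒵 ⥤ᵇ 𝒳) (b : 𝒵 ⥤ᵇ 𝒴)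
    (e : BasedFunctor.comp a F ≅ BasedFunctor.comp b G) :
    BasedFunctor.comp (fpLift a b e) (fpFst F G) = a := rfl

theorem fpLift_snd {𝒵 : BasedCategory.{v₆, u₆} C} (a : 𝒵 ⥤ᵇ 𝒳) (b : 𝒵 ⥤ᵇ 𝒴)
    (e : BasedFunctor.comp a F ≅ BasedFunctor.comp b G) :
    BasedFunctor.comp (fpLift a b e) (fpSnd F G) = b := rfl

theorem fpLift_obj_iso {𝒵 : BasedCategory.{v₆, u₆} C} (a : 𝒵 ⥤ᵇ 𝒳) (b : 𝒵 ⥤ᵇ 𝒴)
    (e : BasedFunctor.comp a F ≅ BasedFunctor.comp b G) (z : 𝒵.obj) :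
    ((fpLift a b e).toFunctor.obj z).obj.iso.hom = e.hom.toNatTrans.app z := rfl


/-- Existence half of base change. -/
theorem hasLift_fpFst (j : 𝒜 ⥤ᵇ ℬ) (sq : Sq j (fpFst F G)) (df : (sqBC F G sq).Lift) :
    sq.HasLift := by
  let fn' : ℬ ⥤ᵇ fp F G := fpLift sq.bot df.fn df.isoBot
  let isoTop' : BasedFunctor.comp j fn' ≅ sq.top :=
    fpIsoMk F G (BasedFunctor.comp j fn') sq.top sq.iso df.isoTop (fun a => (lift_w_app df a).symm)
  refine ⟨mkLift sq fn' isoTop' (Iso.refl _) (fun a => ?_)⟩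
  exact Category.id_comp _


section AuxBC2

variable {D D' E : Type*} [Category D] [Category D'] [Category E]

theorem aux6 (P : D ⥤ E) (Q : D' ⥤ E) {X X' X'' : D} {Y' Y'' : D'} (p : X ⟶ X') (q : X' ⟶ X'')
    (r : X ⟶ X'') (i' : P.obj X' ⟶ Q.obj Y') (i'' : P.obj X'' ⟶ Q.obj Y'') (s : Y' ⟶ Y'')
    (h1 : p ≫ q = r) (h2 : P.map q ≫ i'' = i' ≫ Q.map s) :
    (P.map p ≫ i') ≫ Q.map s = P.map r ≫ i'' := by
  subst h1
  rw [Category.assoc, ← h2, P.map_comp, Category.assoc]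

theorem aux7 (P : D ⥤ E) {X X₁ X₂ : D} {Z Z' : E} (u : X ⟶ X₁) (u' : X₁ ⟶ X) (v : X ⟶ X₂)
    (i : P.obj X₁ ⟶ Z) (i' : P.obj X₂ ⟶ Z') (g : Z ⟶ Z') (hu : u' ≫ u = 𝟙 _)
    (h : (P.map u ≫ i) ≫ g = P.map v ≫ i') : P.map (u' ≫ v) ≫ i' = i ≫ g := by
  rw [P.map_comp, Category.assoc, ← h, Category.assoc, ← Category.assoc, ← P.map_comp, hu,
    P.map_id, Category.id_comp]

theorem aux8 {X X₁ X₂ T : D} (u : X ⟶ X₁) (u' : X₁ ⟶ X) (v : X ⟶ X₂) (t₁ : X₁ ⟶ T)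
    (t₂ : X₂ ⟶ T) (s : X ⟶ T) (hu : u' ≫ u = 𝟙 _) (h1 : u ≫ t₁ = s) (h2 : v ≫ t₂ = s) :
    (u' ≫ v) ≫ t₂ = t₁ := by
  rw [Category.assoc, h2, ← h1, ← Category.assoc, hu, Category.id_comp]

theorem aux9 {X X₁ X₂ : D} (u : X ⟶ X₁) (u' : X₁ ⟶ X) (v : X ⟶ X₂) (x : X₁ ⟶ X₂)
    (hu : u' ≫ u = 𝟙 _) (h : u ≫ x = v) : x = u' ≫ v := by
  rw [← h, ← Category.assoc, hu, Category.id_comp]

theorem aux10 {X X₁ X₂ : D} (u : X ⟶ X₁) (u' : X₁ ⟶ X) (v : X ⟶ X₂)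
    (hu : u ≫ u' = 𝟙 _) : u ≫ (u' ≫ v) = v := by
  rw [← Category.assoc, hu, Category.id_comp]

end AuxBC2

/-- The dotted arrow against `G` induced by a dotted arrow against the base change of `G`. -/
def liftBC {j : 𝒜 ⥤ᵇ ℬ} {sq : Sq j (fpFst F G)} (d : sq.Lift) : (sqBC F G sq).Lift :=
  mkLift (sqBC F G sq) (BasedFunctor.comp d.fn (fpSnd F G)) (wrIso d.isoTop (fpSnd F G))
    ((wrIso d.isoBot F : BasedFunctor.comp sq.bot F ≅
      BasedFunctor.comp d.fn (BasedFunctor.comp (fpFst F G) F)) ≪≫ wlIso d.fn (fpIso F G))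
    (fun a => aux6 F.toFunctor G.toFunctor _ _ _ _ _ _ (lift_w_app d a)
      (fp_hom_w F G (d.isoTop.hom.toNatTrans.app a)))

theorem liftBC_isoBot_app {j : 𝒜 ⥤ᵇ ℬ} {sq : Sq j (fpFst F G)} (d : sq.Lift) (b : ℬ.obj) :
    (liftBC F G d).isoBot.hom.toNatTrans.app b =
      F.toFunctor.map (d.isoBot.hom.toNatTrans.app b) ≫ (d.fn.toFunctor.obj b).obj.iso.hom := rfl

theorem liftBC_isoTop_app {j : 𝒜 ⥤ᵇ ℬ} {sq : Sq j (fpFst F G)} (d : sq.Lift) (a : 𝒜.obj) :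
    (liftBC F G d).isoTop.hom.toNatTrans.app a = (d.isoTop.hom.toNatTrans.app a).hom.snd := rfl


/-- Uniqueness half of base change. -/
theorem uniqLift_fpFst (j : 𝒜 ⥤ᵇ ℬ) (sq : Sq j (fpFst F G))
    (hU : (sqBC F G sq).UniqLift) : sq.UniqLift := by
  intro d d'
  obtain ⟨uβ⟩ := hU (liftBC F G d) (liftBC F G d')
  let β : liftBC F G d ⟶ liftBC F G d' := uβ.default
  let α : BasedFunctor.comp d.fn (fpFst F G) ⟶ BasedFunctor.comp d'.fn (fpFst F G) :=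
    d.isoBot.inv ≫ d'.isoBot.hom
  have hα : ∀ b : ℬ.obj, α.toNatTrans.app b =
      d.isoBot.inv.toNatTrans.app b ≫ d'.isoBot.hom.toNatTrans.app b := fun b => rfl
  have hcompat : ∀ b : ℬ.obj,
      F.toFunctor.map (α.toNatTrans.app b) ≫ (d'.fn.toFunctor.obj b).obj.iso.hom =
        (d.fn.toFunctor.obj b).obj.iso.hom ≫ G.toFunctor.map (β.hom.toNatTrans.app b) := by
    intro b
    rw [hα]
    exact aux7 F.toFunctor _ _ _ _ _ _ (iso_inv_hom_app d.isoBot b) (hom_w_bot_app β b)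
  let θh : d.fn ⟶ d'.fn := fpHomMk F G d.fn d'.fn α β.hom hcompat
  let θ₀ : d ⟶ d' := mkHom θh
    (fun a => by
      apply ObjectProperty.hom_ext
      apply CategoricalPullback.hom_ext
      · change α.toNatTrans.app (j.toFunctor.obj a) ≫ (d'.isoTop.hom.toNatTrans.app a).hom.fst =
          (d.isoTop.hom.toNatTrans.app a).hom.fst
        rw [hα]
        exact aux8 _ _ _ _ _ _ (iso_inv_hom_app d.isoBot _) (lift_w_app d a) (lift_w_app d' a)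
      · exact hom_w_top_app β a)
    (fun b => by
      change d.isoBot.hom.toNatTrans.app b ≫ α.toNatTrans.app b = d'.isoBot.hom.toNatTrans.app b
      rw [hα]
      exact aux10 _ _ _ (iso_hom_inv_app d.isoBot b))
  refine ⟨⟨⟨θ₀⟩, fun θ => ?_⟩⟩
  -- uniqueness
  let βθ : liftBC F G d ⟶ liftBC F G d' :=
    mkHom (d := liftBC F G d) (d' := liftBC F G d')
      (BasedCategory.whiskerRight θ.hom (fpSnd F G))
      (fun a => by
        have h1 := hom_w_top_app θ a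
        exact congrArg (fun t => t.hom.snd) h1)
      (fun b => aux6 F.toFunctor G.toFunctor _ _ _ _ _ _ (hom_w_bot_app θ b)
        (fp_hom_w F G (θ.hom.toNatTrans.app b)))
  have hβθ : βθ = β := uβ.uniq _
  apply Sq.Lift.hom_ext
  apply fp_hom_ext
  · intro b
    change (θ.hom.toNatTrans.app b).hom.fst = α.toNatTrans.app b
    rw [hα]
    exact aux9 _ _ _ _ (iso_inv_hom_app d.isoBot b) (hom_w_bot_app θ b)
  · intro b
    exact congrArg (fun t : liftBC F G d ⟶ liftBC F G d' => t.hom.toNatTrans.app b) hβθ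

/-- Squares that can be uniquely filled in against `G` can be uniquely filled in against any base
change of `G`. -/
theorem liftsUniquely_fpFst (j : 𝒜 ⥤ᵇ ℬ) (hG : LiftsUniquely j G) :
    LiftsUniquely j (fpFst F G) := by
  intro sq
  obtain ⟨⟨df⟩, hU⟩ := hG (sqBC F G sq)
  exact ⟨hasLift_fpFst F G j sq df, uniqLift_fpFst F G j sq hU⟩

end Groth.Agent.H89.LS
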