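import Mathlib
import Groth.Prelude.Def_DRing2

/-!
# Complexes of finite free modules given by square matrices, their matrix endomorphisms, and
base change (helper89)
-/

set_option autoImplicit false
universe u
open CategoryTheory

namespace Groth.Agent.H89.MatCx

section Basic

variable (A : Type u) [CommRing A] (N : ℕ)

/-- the free module `A^N` -/
noncomputable def X : ModuleCat.{u} A := ModuleCat.of A (Fin N → A)

variable {A N}

/-- the endomorphism of `A^N` given by a matrix -/
noncomputable def lin (M : Matrix (Fin N) (Fin N) A) : X A N ⟶ X A N :=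
  ModuleCat.ofHom (Matrix.toLin' M)

lemma lin_comp (M M' : Matrix (Fin N) (Fin N) A) : lin M ≫ lin M' = lin (M' * M) := by
  apply ModuleCat.hom_ext
  change (Matrix.toLin' M').comp (Matrix.toLin' M) = Matrix.toLin' (M' * M)
  rw [Matrix.toLin'_mul]

lemma lin_zero : lin (0 : Matrix (Fin N) (Fin N) A) = 0 := by
  apply ModuleCat.hom_ext
  change Matrix.toLin' (0 : Matrix (Fin N) (Fin N) A) = 0
  exact map_zero _

lemma lin_one : lin (1 : Matrix (Fin N) (Fin N) A) = 𝟙 _ := by
  apply ModuleCat.hom_ext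
  change Matrix.toLin' (1 : Matrix (Fin N) (Fin N) A) = LinearMap.id
  exact Matrix.toLin'_one

lemma lin_toMatrix' (f : (Fin N → A) →ₗ[A] (Fin N → A)) :
    lin (LinearMap.toMatrix' f) = ModuleCat.ofHom f := by
  apply ModuleCat.hom_ext
  change Matrix.toLin' (LinearMap.toMatrix' f) = f
  exact Matrix.toLin'_toMatrix' f

/-- the complex with all terms `A^N` and differentials the matrices `D i` -/
noncomputable abbrev cx (D : ℤ → Matrix (Fin N) (Fin N) A) (hD : ∀ i, D (i + 1) * D i = 0) :
    DRing.Cx A :=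
  CochainComplex.of (fun _ => X A N) (fun i => lin (D i))
    (fun i => by rw [lin_comp, hD, lin_zero])

variable (D : ℤ → Matrix (Fin N) (Fin N) A) (hD : ∀ i, D (i + 1) * D i = 0)

lemma cx_d (i : ℤ) : (cx D hD).d i (i + 1) = lin (D i) := by
  exact CochainComplex.of_d (fun _ => X A N) (fun i => lin (D i)) i

/-- the endomorphism given by matrices -/
noncomputable def endo (e : ℤ → Matrix (Fin N) (Fin N) A)
    (he : ∀ i, e (i + 1) * D i = D i * e i) : cx D hD ⟶ cx D hD :=
  CochainComplex.ofHom (fun i => lin (e i))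
    (fun i => by rw [cx_d, lin_comp, lin_comp, he])

lemma endo_f (e : ℤ → Matrix (Fin N) (Fin N) A) (he : ∀ i, e (i + 1) * D i = D i * e i)
    (i : ℤ) : (endo D hD e he).f i = lin (e i) := rfl

lemma endo_comp_endo (e : ℤ → Matrix (Fin N) (Fin N) A)
    (he : ∀ i, e (i + 1) * D i = D i * e i) (hee : ∀ i, e i * e i = e i) :
    endo D hD e he ≫ endo D hD e he = endo D hD e he := by
  ext i : 1
  rw [HomologicalComplex.comp_f, endo_f, lin_comp, hee]

end Basic

section BaseChange

variable {A B : Type u} [CommRing A] [CommRing B] (φ : A →+* B) (N : ℕ)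

/-- `B ⊗_A A^N ≅ B^N` -/
noncomputable def freeIso :
    (ModuleCat.extendScalars.{u, u, u} φ).obj (X A N) ≅ X B N :=
  let _alg : Algebra A B := φ.toAlgebra
  LinearEquiv.toModuleIso (TensorProduct.piScalarRight A B B (Fin N))

open ChangeOfRings in
lemma freeIso_hom_tmul (b : B) (v : Fin N → A) :
    (freeIso φ N).hom.hom (b ⊗ₜ[A,φ] v) = fun k => φ (v k) * b := by
  let _alg : Algebra A B := φ.toAlgebra
  funext k
  change (TensorProduct.piScalarRight A B B (Fin N)) (b ⊗ₜ[A] v) k = _
  rw [TensorProduct.piScalarRight_apply, TensorProduct.piScalarRightHom_tmul]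
  rfl

variable {N}

open ChangeOfRings in
lemma freeIso_naturality (M : Matrix (Fin N) (Fin N) A) :
    (ModuleCat.extendScalars.{u, u, u} φ).map (lin M) ≫ (freeIso φ N).hom =
      (freeIso φ N).hom ≫ lin (M.map φ) := by
  apply ModuleCat.ExtendScalars.hom_ext
  intro (v : Fin N → A)
  have e1 := freeIso_hom_tmul φ N (1 : B) ((lin M).hom v)
  have e2 := freeIso_hom_tmul φ N (1 : B) v
  change (freeIso φ N).hom.hom ((1 : B) ⊗ₜ[A,φ] ((lin M).hom v)) =
    (lin (M.map φ)).hom ((freeIso φ N).hom.hom ((1 : B) ⊗ₜ[A,φ] v))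
  rw [e1, e2]
  funext k
  change φ (M.mulVec v k) * 1 = (M.map φ).mulVec (fun k => φ (v k) * 1) k
  rw [mul_one]
  have h := RingHom.map_mulVec φ M v k
  rw [h]
  congr 2
  funext l
  simp

variable (D : ℤ → Matrix (Fin N) (Fin N) A) (hD : ∀ i, D (i + 1) * D i = 0)

include hD in
lemma map_sq (i : ℤ) : (D (i + 1)).map φ * (D i).map φ = 0 := by
  rw [← Matrix.map_mul, hD]
  ext p q
  simp

/-- base change of a matrix complex -/
noncomputable def bcIso :
    ((ModuleCat.extendScalars.{u, u, u} φ).mapHomologicalComplex (ComplexShape.up ℤ)).obj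
      (cx D hD) ≅ cx (fun i => (D i).map φ) (map_sq φ D hD) :=
  HomologicalComplex.Hom.isoOfComponents (fun _ => freeIso φ N) (by
    intro i j hij
    obtain rfl : i + 1 = j := hij
    rw [Functor.mapHomologicalComplex_obj_d, cx_d, cx_d]
    exact (freeIso_naturality φ (D i)).symm)

lemma bcIso_hom_f (i : ℤ) : (bcIso φ D hD).hom.f i = (freeIso φ N).hom := rfl

lemma bcIso_naturality (e : ℤ → Matrix (Fin N) (Fin N) A)
    (he : ∀ i, e (i + 1) * D i = D i * e i)
    (he' : ∀ i, (e (i + 1)).map φ * (D i).map φ = (D i).map φ * (e i).map φ) :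
    ((ModuleCat.extendScalars.{u, u, u} φ).mapHomologicalComplex (ComplexShape.up ℤ)).map
      (endo D hD e he) ≫ (bcIso φ D hD).hom =
    (bcIso φ D hD).hom ≫ endo (fun i => (D i).map φ) (map_sq φ D hD)
      (fun i => (e i).map φ) he' := by
  ext i : 1
  rw [HomologicalComplex.comp_f, HomologicalComplex.comp_f, bcIso_hom_f,
    Functor.mapHomologicalComplex_map_f, endo_f, endo_f]
  exact freeIso_naturality φ (e i)

end BaseChange

end Groth.Agent.H89.MatCx
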