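import Mathlib
import Groth.Agent.H89.FiltLift

/-!
# Descending matrix data (differentials + idempotents) along a filtered colimit of rings (helper89)
-/

set_option autoImplicit false
universe u
open CategoryTheory CategoryTheory.Limits

namespace Groth.Agent.H89.MatDescent

open Groth.Agent.H89.FiltLift

variable {J : Type u} [SmallCategory J] [IsFiltered J]
  (F : J ⥤ CommRingCat.{u}) (c : Cocone F) (hc : IsColimit c)

omit [IsFiltered J] in
lemma map_map_eq {N : ℕ} {j j' : J} (f : j ⟶ j') (M : Matrix (Fin N) (Fin N) (F.obj j)) :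
    (M.map (F.map f).hom).map (c.ι.app j').hom = M.map (c.ι.app j).hom := by
  ext p q
  exact ι_map F c f (M p q)

include hc in
theorem exists_descent (N : ℕ) (D e : ℤ → Matrix (Fin N) (Fin N) c.pt) (a b : ℤ)
    (h0 : ∀ i, i < a ∨ b < i → D i = 0 ∧ e i = 0)
    (hD : ∀ i, D (i + 1) * D i = 0) (he : ∀ i, e (i + 1) * D i = D i * e i)
    (hee : ∀ i, e i * e i = e i) :
    ∃ (j : J) (D' e' : ℤ → Matrix (Fin N) (Fin N) (F.obj j)),
      (∀ i, (D' i).map (c.ι.app j).hom = D i) ∧ (∀ i, (e' i).map (c.ι.app j).hom = e i) ∧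
      (∀ i, D' (i + 1) * D' i = 0) ∧ (∀ i, e' (i + 1) * D' i = D' i * e' i) ∧
      (∀ i, e' i * e' i = e' i) ∧ (∀ i, i < a ∨ b < i → D' i = 0 ∧ e' i = 0) := by
  classical
  -- step 1: lift the entries
  let x : ℤ × Fin N × Fin N × Bool → c.pt := fun k =>
    if k.2.2.2 then D k.1 k.2.1 k.2.2.1 else e k.1 k.2.1 k.2.2.1
  let S : Finset (ℤ × Fin N × Fin N × Bool) :=
    Finset.Icc a b ×ˢ (Finset.univ ×ˢ (Finset.univ ×ˢ Finset.univ))
  have hout : ∀ i : ℤ, i ∉ Finset.Icc a b → i < a ∨ b < i := by
    intro i hi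
    rw [Finset.mem_Icc] at hi
    by_contra hcon
    apply hi
    constructor
    · by_contra h1
      exact hcon (Or.inl (lt_of_not_ge h1))
    · by_contra h1
      exact hcon (Or.inr (lt_of_not_ge h1))
  have hx : ∀ k, k ∉ S → x k = 0 := by
    rintro ⟨i, p, q, t⟩ hk
    have hi : i ∉ Finset.Icc a b := by
      intro hi
      apply hk
      simp only [S, Finset.mem_product, Finset.mem_univ, and_true]
      exact hi
    obtain ⟨h1, h2⟩ := h0 i (hout i hi)
    cases t
    · change (if false = true then D i p q else e i p q) = 0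
      rw [if_neg (by simp), h2]
      rfl
    · change (if true = true then D i p q else e i p q) = 0
      rw [if_pos rfl, h1]
      rfl
  obtain ⟨j0, y, hy, hy0⟩ := exists_lift F c hc S x hx
  let D0 : ℤ → Matrix (Fin N) (Fin N) (F.obj j0) := fun i => Matrix.of fun p q => y (i, p, q, true)
  let e0 : ℤ → Matrix (Fin N) (Fin N) (F.obj j0) :=
    fun i => Matrix.of fun p q => y (i, p, q, false)
  have hD0 : ∀ i, (D0 i).map (c.ι.app j0).hom = D i := by
    intro i
    ext p q
    exact hy (i, p, q, true)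
  have he0 : ∀ i, (e0 i).map (c.ι.app j0).hom = e i := by
    intro i
    ext p q
    have := hy (i, p, q, false)
    rw [Matrix.map_apply]
    exact this
  have hz0 : ∀ i, i ∉ Finset.Icc a b → D0 i = 0 ∧ e0 i = 0 := by
    intro i hi
    have hk : ∀ p q t, (i, p, q, t) ∉ S := by
      intro p q t hk
      apply hi
      simp only [S, Finset.mem_product, Finset.mem_univ, and_true] at hk
      exact hk
    constructor
    · ext p q
      exact hy0 _ (hk p q true)
    · ext p q
      exact hy0 _ (hk p q false)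
  -- step 2: equalize the equations
  let z : ℤ × Fin N × Fin N × Fin 3 → F.obj j0 := fun k =>
    if k.2.2.2 = 0 then (D0 (k.1 + 1) * D0 k.1) k.2.1 k.2.2.1
    else if k.2.2.2 = 1 then (e0 (k.1 + 1) * D0 k.1) k.2.1 k.2.2.1
    else (e0 k.1 * e0 k.1) k.2.1 k.2.2.1
  let z' : ℤ × Fin N × Fin N × Fin 3 → F.obj j0 := fun k =>
    if k.2.2.2 = 0 then 0
    else if k.2.2.2 = 1 then (D0 k.1 * e0 k.1) k.2.1 k.2.2.1
    else (e0 k.1) k.2.1 k.2.2.1
  let S' : Finset (ℤ × Fin N × Fin N × Fin 3) :=
    Finset.Icc a b ×ˢ (Finset.univ ×ˢ (Finset.univ ×ˢ Finset.univ))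
  have hmap : ∀ (M M' : Matrix (Fin N) (Fin N) (F.obj j0)) (p q : Fin N),
      (c.ι.app j0).hom ((M * M') p q) =
        (M.map (c.ι.app j0).hom * M'.map (c.ι.app j0).hom) p q := by
    intro M M' p q
    rw [← Matrix.map_mul]
    rfl
  have hzz : ∀ k, (c.ι.app j0).hom (z k) = (c.ι.app j0).hom (z' k) := by
    rintro ⟨i, p, q, t⟩
    by_cases ht0 : t = 0
    · subst ht0
      change (c.ι.app j0).hom ((D0 (i + 1) * D0 i) p q) = (c.ι.app j0).hom 0
      rw [hmap, hD0, hD0, hD, map_zero]
      rfl
    · by_cases ht1 : t = 1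
      · subst ht1
        change (c.ι.app j0).hom ((e0 (i + 1) * D0 i) p q) =
          (c.ι.app j0).hom ((D0 i * e0 i) p q)
        rw [hmap, hmap, hD0, he0, he0, he]
      · change (c.ι.app j0).hom (if t = 0 then _ else if t = 1 then _ else _) =
          (c.ι.app j0).hom (if t = 0 then _ else if t = 1 then _ else _)
        rw [if_neg ht0, if_neg ht1, if_neg ht0, if_neg ht1, hmap, he0, hee, ← he0]
        rfl
  have hS' : ∀ k, k ∉ S' → z k = z' k := by
    rintro ⟨i, p, q, t⟩ hk
    have hi : i ∉ Finset.Icc a b := by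
      intro hi
      apply hk
      simp only [S', Finset.mem_product, Finset.mem_univ, and_true]
      exact hi
    obtain ⟨h1, h2⟩ := hz0 i hi
    change (if t = 0 then (D0 (i + 1) * D0 i) p q
      else if t = 1 then (e0 (i + 1) * D0 i) p q else (e0 i * e0 i) p q) =
      (if t = 0 then 0 else if t = 1 then (D0 i * e0 i) p q else (e0 i) p q)
    rw [h1, h2]
    simp
  obtain ⟨j, f, hf⟩ := exists_equalize F c hc S' j0 z z' hzz hS'
  have hmapf : ∀ (M M' : Matrix (Fin N) (Fin N) (F.obj j0)),
      (M * M').map (F.map f).hom = M.map (F.map f).hom * M'.map (F.map f).hom := by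
    intro M M'
    exact Matrix.map_mul
  refine ⟨j, fun i => (D0 i).map (F.map f).hom, fun i => (e0 i).map (F.map f).hom,
    fun i => ?_, fun i => ?_, fun i => ?_, fun i => ?_, fun i => ?_, fun i hi => ?_⟩
  · rw [map_map_eq, hD0]
  · rw [map_map_eq, he0]
  · rw [← hmapf]
    ext p q
    have := hf (i, p, q, 0)
    change (F.map f).hom ((D0 (i + 1) * D0 i) p q) = (F.map f).hom 0 at this
    rw [Matrix.map_apply, this, map_zero]
    rfl
  · rw [← hmapf, ← hmapf]
    ext p q
    have := hf (i, p, q, 1)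
    change (F.map f).hom ((e0 (i + 1) * D0 i) p q) = (F.map f).hom ((D0 i * e0 i) p q) at this
    rw [Matrix.map_apply, Matrix.map_apply, this]
  · rw [← hmapf]
    ext p q
    have := hf (i, p, q, 2)
    change (F.map f).hom ((e0 i * e0 i) p q) = (F.map f).hom ((e0 i) p q) at this
    exact this
  · have hi' : i ∉ Finset.Icc a b := by
      rw [Finset.mem_Icc]
      rintro ⟨h1, h2⟩
      rcases hi with hi | hi
      · exact absurd h1 (not_le.2 hi)
      · exact absurd h2 (not_le.2 hi)
    obtain ⟨h1, h2⟩ := hz0 i hi'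
    constructor
    · change (D0 i).map (F.map f).hom = 0
      rw [h1]
      ext p q
      simp
    · change (e0 i).map (F.map f).hom = 0
      rw [h2]
      ext p q
      simp

end Groth.Agent.H89.MatDescent
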