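import Groth.Prelude.Def_EtMil
import Groth.Agent.H89.FlatExt

set_option autoImplicit false
set_option linter.unusedSectionVars false
universe u

namespace Groth.Agent.H89

open TensorProduct

section
variable (R B' B A' A : Type u) [CommRing R] [CommRing B'] [CommRing B] [CommRing A'] [CommRing A]
    [Algebra B' B] [Algebra B' A'] [Algebra B A] [Algebra A' A] [Algebra B' A]
    [IsScalarTower B' B A] [IsScalarTower B' A' A]
    [Algebra R B'] [Algebra R B] [Algebra R A'] [Algebra R A]
    [IsScalarTower R B' B] [IsScalarTower R B' A'] [IsScalarTower R B' A] [IsScalarTower R B A] [IsScalarTower R A' A]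

/-- The map `B' → B × A'` of a Milnor square, as an `R`-linear map. -/
noncomputable def milnorIncl : B' →ₗ[R] B × A' :=
  LinearMap.prod (IsScalarTower.toAlgHom R B' B).toLinearMap (IsScalarTower.toAlgHom R B' A').toLinearMap

/-- The difference map `B × A' → A` of a Milnor square, as an `R`-linear map. -/
noncomputable def milnorDiff : B × A' →ₗ[R] A :=
  LinearMap.coprod (IsScalarTower.toAlgHom R B A).toLinearMap (-(IsScalarTower.toAlgHom R A' A).toLinearMap)

@[simp] theorem milnorIncl_apply (b' : B') :
    milnorIncl R B' B A' b' = (algebraMap B' B b', algebraMap B' A' b') := rfl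

@[simp] theorem milnorDiff_apply (x : B × A') :
    milnorDiff R B A' A x = algebraMap B A x.1 - algebraMap A' A x.2 := by
  simp [milnorDiff, sub_eq_add_neg]

variable {B' B A' A}

theorem milnorIncl_injective (hsq : EtMil.IsFibreSquare B' B A' A) :
    Function.Injective (milnorIncl R B' B A') := by
  intro x y hxy
  simp only [milnorIncl_apply, Prod.mk.injEq] at hxy
  obtain ⟨z, -, hz⟩ := hsq.2 (algebraMap B' B y) (algebraMap B' A' y)
    (by rw [← IsScalarTower.algebraMap_apply, ← IsScalarTower.algebraMap_apply])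
  rw [hz x ⟨hxy.1, hxy.2⟩, hz y ⟨rfl, rfl⟩]

theorem milnorDiff_surjective (hsq : EtMil.IsFibreSquare B' B A' A) :
    Function.Surjective (milnorDiff R B A' A) := by
  intro a
  obtain ⟨a', rfl⟩ := hsq.1 a
  exact ⟨(0, -a'), by simp⟩

theorem milnor_exact (hsq : EtMil.IsFibreSquare B' B A' A) :
    Function.Exact (milnorIncl R B' B A') (milnorDiff R B A' A) := by
  intro x
  constructor
  · intro hx
    rw [milnorDiff_apply, sub_eq_zero] at hx
    obtain ⟨z, ⟨hz1, hz2⟩, -⟩ := hsq.2 x.1 x.2 hx
    exact ⟨z, by rw [milnorIncl_apply, hz1, hz2]⟩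
  · rintro ⟨z, rfl⟩
    rw [milnorIncl_apply, milnorDiff_apply, sub_eq_zero,
      ← IsScalarTower.algebraMap_apply, ← IsScalarTower.algebraMap_apply]

end

end Groth.Agent.H89
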