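import Groth.Agent.H87.Mil6
import Groth.Agent.H89.DualBC

set_option autoImplicit false
universe u

namespace Groth.Agent.H89.MilnorPic

open TensorProduct Function Module

variable {B' B A' A : Type u} [CommRing B'] [CommRing B] [CommRing A'] [CommRing A]
  [Algebra B' B] [Algebra B' A'] [Algebra B A] [Algebra A' A] [Algebra B' A]
  [IsScalarTower B' B A] [IsScalarTower B' A' A]

/-- a finite projective module over the corner of a Milnor square whose two base changes are
invertible is invertible -/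
theorem invertible_of_pair (hsq : EtMil.IsFibreSquare B' B A' A) (P : Type u) [AddCommGroup P]
    [Module B' P] [Module.Finite B' P] [Module.Projective B' P]
    [Module.Invertible B (B ⊗[B'] P)] [Module.Invertible A' (A' ⊗[B'] P)] :
    Module.Invertible B' P := by
  have h1 : Bijective ((contractLeft B' P).lTensor B) :=
    DualBC.lTensor_contractLeft_bijective B' B P
  have h2 : Bijective ((contractLeft B' P).lTensor A') :=
    DualBC.lTensor_contractLeft_bijective B' A' P
  have := @Groth.Agent.H87.Mil.bijective_of_pair B' B A' A _ _ _ _ _ _ _ _ _ _ _ hsq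
    (Module.Dual B' P ⊗[B'] P) B' _ _ _ _ _ (contractLeft B' P)
  exact ⟨this h1 h2⟩

/-- In a Milnor square with `Pic A` trivial, every invertible `B`-module lifts to an invertible
`B'`-module. -/
theorem exists_lift (hsq : EtMil.IsFibreSquare B' B A' A) [Subsingleton (CommRing.Pic A)]
    (L : Type u) [AddCommGroup L] [Module B L] [Module.Invertible B L] :
    ∃ (G : Type u) (_ : AddCommGroup G) (_ : Module B' G), Module.Invertible B' G ∧
      Nonempty (B ⊗[B'] G ≃ₗ[B] L) := by
  let _ : Module B' L := Module.compHom L (algebraMap B' B)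
  have : IsScalarTower B' B L := IsScalarTower.of_algebraMap_smul (fun r x => rfl)
  have hfree : Module.Free A (A ⊗[B] L) := inferInstance
  obtain ⟨e1⟩ := Module.Invertible.free_iff_linearEquiv.mp hfree
  let e2 : A ⊗[A'] A' ≃ₗ[A] A := TensorProduct.AlgebraTensorModule.rid A' A A
  let φ : A ⊗[B] L ≃ₗ[A] A ⊗[A'] A' := e1 ≪≫ₗ e2.symm
  have hfin : Module.Finite B' ↥(EtMil.glue B' φ) := Groth.Agent.H87.Mil.glue_finite φ hsq
  have hproj : Module.Projective B' ↥(EtMil.glue B' φ) :=
    Groth.Agent.H87.Mil.glue_projective φ hsq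
  let f1 : B ⊗[B'] ↥(EtMil.glue B' φ) ≃ₗ[B] L :=
    LinearEquiv.ofBijective _ (Groth.Agent.H87.Mil.glueFst_bijective φ hsq)
  let f2 : A' ⊗[B'] ↥(EtMil.glue B' φ) ≃ₗ[A'] A' :=
    LinearEquiv.ofBijective _ (Groth.Agent.H87.Mil.glueSnd_bijective φ hsq)
  have h1 : Module.Invertible B (B ⊗[B'] ↥(EtMil.glue B' φ)) := Module.Invertible.congr f1.symm
  have h2 : Module.Invertible A' (A' ⊗[B'] ↥(EtMil.glue B' φ)) := Module.Invertible.congr f2.symm
  exact ⟨↥(EtMil.glue B' φ), inferInstance, inferInstance, invertible_of_pair hsq _, ⟨f1⟩⟩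

open CommRing in
/-- In a Milnor square with `Pic A` trivial, `Pic B' → Pic B` is surjective. -/
theorem pic_mapAlgebra_surjective (hsq : EtMil.IsFibreSquare B' B A' A)
    [Subsingleton (CommRing.Pic A)] : Surjective (Pic.mapAlgebra B' B) := by
  intro M
  obtain ⟨G, _, _, hG, ⟨f⟩⟩ := exists_lift hsq (A := A) (A' := A') M
  refine ⟨Pic.mk B' G, ?_⟩
  rw [Pic.mapAlgebra_apply, Pic.mk_eq_iff]
  exact ⟨(AlgebraTensorModule.congr (LinearEquiv.refl _ _) (Pic.mk.linearEquiv B' G)) ≪≫ₗ f⟩

end Groth.Agent.H89.MilnorPic
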