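import Groth.Prelude.Def_W4c5qllcourbesmultMultCrv
import Mathlib

set_option autoImplicit false
universe u

namespace Groth.Agent.H89

open MultCrv Polynomial

/-- `z ^ n = 0` in `R[X]/(X^n)`. -/
theorem z_pow_self (R : Type*) [CommRing R] (n : ℕ) : MultCrv.z R n ^ n = 0 := by
  unfold MultCrv.z
  rw [← map_pow, Ideal.Quotient.eq_zero_iff_mem]
  exact Ideal.subset_span rfl

theorem mem_filt_iff (R : Type*) [CommRing R] (n : ℕ) (M : Type*) [AddCommGroup M]
    [Module (MultCrv.Rn R n) M] (i : ℕ) (v : M) :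
    v ∈ MultCrv.filt R n M i ↔ ∃ w : M, MultCrv.z R n ^ i • w = v := by
  unfold MultCrv.filt
  simp [LinearMap.mem_range]

theorem mem_filt2_iff (R : Type*) [CommRing R] (n : ℕ) (M : Type*) [AddCommGroup M]
    [Module (MultCrv.Rn R n) M] (i : ℕ) (v : M) :
    v ∈ MultCrv.filt2 R n M i ↔ MultCrv.z R n ^ i • v = 0 := by
  unfold MultCrv.filt2
  simp [Submodule.mem_torsionBy_iff]

end Groth.Agent.H89

namespace Groth.Agent.H89

open MultCrv Polynomial

theorem finite_Rn (R : Type*) [CommRing R] (n : ℕ) : Module.Finite R (MultCrv.Rn R n) :=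
  (Polynomial.monic_X_pow n).finite_adjoinRoot

theorem finite_of_finite_Rn (R : Type*) [CommRing R] (n : ℕ) (M : Type*) [AddCommGroup M]
    [Module (MultCrv.Rn R n) M] [Module R M] [IsScalarTower R (MultCrv.Rn R n) M]
    [Module.Finite (MultCrv.Rn R n) M] : Module.Finite R M :=
  haveI := finite_Rn R n
  Module.Finite.trans (MultCrv.Rn R n) M

/-- `R`-scalars commute with `Rn`-scalars. -/
theorem smul_comm_Rn (R : Type*) [CommRing R] (n : ℕ) (M : Type*) [AddCommGroup M]
    [Module (MultCrv.Rn R n) M] [Module R M] [IsScalarTower R (MultCrv.Rn R n) M]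
    (r : R) (a : MultCrv.Rn R n) (m : M) : r • (a • m) = a • (r • m) := by
  rw [← smul_assoc, ← one_smul (MultCrv.Rn R n) m, ← smul_assoc r (1 : MultCrv.Rn R n) m,
    smul_smul a, one_smul]
  congr 1
  rw [mul_smul_comm, mul_one]

/-- A finite `Rn`-module all of whose `z`-torsion is `R`-torsion-free is `R`-torsion-free. -/
theorem isTorsionFree_of_filt2_one (R : Type*) [CommRing R] [IsDomain R] (n : ℕ) (M : Type*)
    [AddCommGroup M] [Module (MultCrv.Rn R n) M] [Module R M] [IsScalarTower R (MultCrv.Rn R n) M]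
    (h : ∀ (r : R) (u : M), u ∈ MultCrv.filt2 R n M 1 → r • u = 0 → r = 0 ∨ u = 0) :
    Module.IsTorsionFree R M := by
  classical
  rw [Module.isTorsionFree_iff_smul_eq_zero]
  intro r u hru
  by_contra hcon
  obtain ⟨hr, hne⟩ := not_or.mp hcon
  have hex : ∃ k : ℕ, MultCrv.z R n ^ k • u = 0 :=
    ⟨n, by rw [z_pow_self]; exact zero_smul (MultCrv.Rn R n) u⟩
  have hk := Nat.find_spec hex
  have hk0 : Nat.find hex ≠ 0 := by
    intro h0
    rw [h0, pow_zero, one_smul] at hk
    exact hne hk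
  obtain ⟨k, hk1⟩ := Nat.exists_eq_succ_of_ne_zero hk0
  have hmin : ¬ MultCrv.z R n ^ k • u = 0 := Nat.find_min hex (by omega)
  apply hmin
  refine (h r _ ?_ ?_).resolve_left hr
  · rw [mem_filt2_iff, pow_one, smul_smul, ← pow_succ']
    rw [hk1] at hk
    exact hk
  · rw [smul_comm_Rn, hru, smul_zero]

end Groth.Agent.H89
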