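import Groth.Prelude.Def_W4c5qllcourbesmultMultCrv
import Mathlib
import Groth.Agent.H89.MultCrvBasic

set_option autoImplicit false
universe u

namespace Groth.Agent.H89

open MultCrv Polynomial

/-- The `i`-th coefficient functional on `R[X]/(X^n)` (meaningful for `i < n`). -/
noncomputable def cf (R : Type*) [CommRing R] (n i : ℕ) : Rn R n →ₗ[R] R :=
  (Polynomial.lcoeff R i) ∘ₗ (AdjoinRoot.modByMonicHom (monic_X_pow n))

theorem cf_mk (R : Type*) [CommRing R] (n i : ℕ) (hi : i < n) (p : R[X]) :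
    cf R n i (Ideal.Quotient.mk _ p) = p.coeff i := by
  change (p %ₘ (X ^ n)).coeff i = p.coeff i
  conv_rhs => rw [← Polynomial.modByMonic_add_div p (X ^ n : R[X])]
  rw [coeff_add, coeff_X_pow_mul', if_neg (by omega), add_zero]

theorem z_pow_eq_zero (R : Type*) [CommRing R] (n k : ℕ) (hk : n ≤ k) : z R n ^ k = 0 := by
  obtain ⟨j, rfl⟩ := Nat.exists_eq_add_of_le hk
  rw [pow_add, z_pow_self, zero_mul]

/-- Every element is the sum of its coefficients times powers of `z`. -/
theorem sum_cf_smul (R : Type*) [CommRing R] (n : ℕ) (a : Rn R n) :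
    ∑ i ∈ Finset.range n, cf R n i a • z R n ^ i = a := by
  obtain ⟨p, rfl⟩ := Ideal.Quotient.mk_surjective a
  induction p using Polynomial.induction_on' with
  | add p q hp hq =>
    rw [map_add]
    simp only [map_add, add_smul, Finset.sum_add_distrib]
    rw [hp, hq]
  | monomial k r =>
    have hmk : (Ideal.Quotient.mk (Ideal.span {(X : R[X]) ^ n})) (monomial k r)
        = r • z R n ^ k := by
      rw [← smul_X_eq_monomial]
      rfl
    by_cases hk : k < n
    · rw [Finset.sum_eq_single k]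
      · rw [cf_mk R n k hk, coeff_monomial, if_pos rfl, hmk]
      · intro i hi hik
        rw [cf_mk R n i (Finset.mem_range.mp hi), coeff_monomial, if_neg (Ne.symm hik), zero_smul]
      · intro h
        exact absurd (Finset.mem_range.mpr hk) h
    · have h0 : (Ideal.Quotient.mk (Ideal.span {(X : R[X]) ^ n})) (monomial k r) = 0 := by
        rw [hmk, z_pow_eq_zero R n k (by omega), smul_zero]
      rw [h0]
      simp

theorem cf_top_z_pow_mul (R : Type*) [CommRing R] (n j : ℕ) (hj : j + 1 ≤ n) (a : Rn R n) :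
    cf R n (n - 1) (z R n ^ j * a) = cf R n (n - 1 - j) a := by
  obtain ⟨p, rfl⟩ := Ideal.Quotient.mk_surjective a
  have : z R n ^ j * (Ideal.Quotient.mk (Ideal.span {(X : R[X]) ^ n})) p
      = (Ideal.Quotient.mk (Ideal.span {(X : R[X]) ^ n})) (X ^ j * p) := by
    rw [map_mul, map_pow]
  rw [this, cf_mk R n _ (by omega), cf_mk R n _ (by omega), coeff_X_pow_mul', if_pos (by omega)]

theorem cf_top_z_pow (R : Type*) [CommRing R] (n i : ℕ) (hn : 1 ≤ n) :
    cf R n (n - 1) (z R n ^ i) = if i = n - 1 then 1 else 0 := by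
  have : z R n ^ i = (Ideal.Quotient.mk (Ideal.span {(X : R[X]) ^ n})) (X ^ i) := by
    rw [map_pow]
  rw [this, cf_mk R n _ (by omega), coeff_X_pow]
  by_cases h : i = n - 1
  · rw [if_pos h, if_pos h.symm]
  · rw [if_neg h, if_neg (Ne.symm h)]

end Groth.Agent.H89

namespace Groth.Agent.H89

open MultCrv Polynomial

section Frob

variable {R : Type*} [CommRing R] {n : ℕ} {N : Type*} [AddCommGroup N] [Module (Rn R n) N]
  [Module R N] [IsScalarTower R (Rn R n) N]

/-- The `R`-linear map `m ↦ ∑ i < n, l (z^(n-1-i) m) z^i` attached to an `R`-linear form `l`. -/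
noncomputable def frobR (l : N →ₗ[R] R) : N →ₗ[R] Rn R n where
  toFun m := ∑ i ∈ Finset.range n, l (z R n ^ (n - 1 - i) • m) • z R n ^ i
  map_add' m m' := by
    simp only [smul_add, map_add, add_smul, Finset.sum_add_distrib]
  map_smul' r m := by
    simp only [RingHom.id_apply, Finset.smul_sum]
    refine Finset.sum_congr rfl (fun i _ => ?_)
    rw [← smul_comm_Rn R n N r, map_smul, smul_eq_mul, mul_smul]

theorem frobR_apply (l : N →ₗ[R] R) (m : N) :
    frobR l m = ∑ i ∈ Finset.range n, l (z R n ^ (n - 1 - i) • m) • z R n ^ i := rfl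

theorem frobR_z_smul (hn : 1 ≤ n) (l : N →ₗ[R] R) (m : N) :
    frobR l (z R n • m) = z R n * frobR l m := by
  obtain ⟨k, rfl⟩ := Nat.exists_eq_add_of_le' hn
  rw [frobR_apply, frobR_apply, Finset.sum_range_succ', Finset.mul_sum, Finset.sum_range_succ]
  have h0 : z R (k + 1) ^ (k + 1 - 1 - 0) • z R (k + 1) • m = 0 := by
    rw [smul_smul, ← pow_succ]
    have : k + 1 - 1 - 0 + 1 = k + 1 := by omega
    rw [this, z_pow_self]
    exact zero_smul (Rn R (k + 1)) m
  rw [h0, map_zero, zero_smul, add_zero]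
  have h1 : z R (k + 1) * l (z R (k + 1) ^ (k + 1 - 1 - k) • m) • z R (k + 1) ^ k = 0 := by
    rw [mul_smul_comm, ← pow_succ', z_pow_self, smul_zero]
  rw [h1, add_zero]
  refine Finset.sum_congr rfl (fun i hi => ?_)
  have hi' := Finset.mem_range.mp hi
  rw [mul_smul_comm, ← pow_succ', smul_smul, ← pow_succ]
  have : k + 1 - 1 - (i + 1) + 1 = k + 1 - 1 - i := by omega
  rw [this]

theorem frobR_z_pow_smul (hn : 1 ≤ n) (l : N →ₗ[R] R) (j : ℕ) (m : N) :
    frobR l (z R n ^ j • m) = z R n ^ j * frobR l m := by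
  induction j with
  | zero => simp
  | succ j ih => rw [pow_succ', mul_smul, frobR_z_smul hn, ih, mul_assoc]

theorem frobR_smul (hn : 1 ≤ n) (l : N →ₗ[R] R) (a : Rn R n) (m : N) :
    frobR l (a • m) = a * frobR l m := by
  conv_lhs => rw [← sum_cf_smul R n a]
  conv_rhs => rw [← sum_cf_smul R n a]
  rw [Finset.sum_smul, map_sum, Finset.sum_mul]
  refine Finset.sum_congr rfl (fun i _ => ?_)
  rw [smul_assoc, map_smul, frobR_z_pow_smul hn, smul_mul_assoc]

/-- The `A`-linear form attached to an `R`-linear form (Frobenius duality for `A = R[X]/(X^n)`). -/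
noncomputable def frob (hn : 1 ≤ n) (l : N →ₗ[R] R) : N →ₗ[Rn R n] Rn R n where
  toFun m := frobR l m
  map_add' m m' := map_add _ _ _
  map_smul' a m := by
    rw [RingHom.id_apply, smul_eq_mul]
    exact frobR_smul hn l a m

theorem frob_apply (hn : 1 ≤ n) (l : N →ₗ[R] R) (m : N) :
    frob hn l m = ∑ i ∈ Finset.range n, l (z R n ^ (n - 1 - i) • m) • z R n ^ i := rfl

/-- The top coefficient of `frob l` is `l`. -/
theorem cf_top_frob (hn : 1 ≤ n) (l : N →ₗ[R] R) (m : N) :
    cf R n (n - 1) (frob hn l m) = l m := by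
  rw [frob_apply, map_sum, Finset.sum_eq_single (n - 1)]
  · rw [map_smul, cf_top_z_pow R n _ hn, if_pos rfl, Nat.sub_self, pow_zero, one_smul, smul_eq_mul,
      mul_one]
  · intro i _ hi
    rw [map_smul, cf_top_z_pow R n _ hn, if_neg hi, smul_zero]
  · intro h
    exact absurd (Finset.mem_range.mpr (by omega)) h

/-- Reconstruction: an `A`-linear form is `frob` of its top coefficient. -/
theorem frob_cf_top_comp (hn : 1 ≤ n) (φ : N →ₗ[Rn R n] Rn R n) :
    frob hn ((cf R n (n - 1)) ∘ₗ (φ.restrictScalars R)) = φ := by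
  ext m
  rw [frob_apply]
  conv_rhs => rw [← sum_cf_smul R n (φ m)]
  refine Finset.sum_congr rfl (fun i hi => ?_)
  have hi' := Finset.mem_range.mp hi
  congr 1
  rw [LinearMap.comp_apply, LinearMap.restrictScalars_apply, map_smul, smul_eq_mul,
    cf_top_z_pow_mul R n _ (by omega)]
  have : n - 1 - (n - 1 - i) = i := by omega
  rw [this]

end Frob

end Groth.Agent.H89

namespace Groth.Agent.H89

open MultCrv Polynomial

section Extension

variable {R : Type*} [CommRing R] {n : ℕ} {N : Type*} [AddCommGroup N] [Module (Rn R n) N]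
  [Module R N] [IsScalarTower R (Rn R n) N]

/-- If `K ≤ N` admits an `R`-linear retraction, every `A`-linear form on `K` extends to `N`. -/
theorem exists_extension_of_retraction (hn : 1 ≤ n) (K : Submodule (Rn R n) N)
    (ρ : N →ₗ[R] K) (hρ : ∀ k : K, ρ (k : N) = k) (φ : K →ₗ[Rn R n] Rn R n) :
    ∃ ψ : N →ₗ[Rn R n] Rn R n, ∀ k : K, ψ k = φ k := by
  refine ⟨frob hn (((cf R n (n - 1)) ∘ₗ (φ.restrictScalars R)) ∘ₗ ρ), fun k => ?_⟩
  conv_rhs => rw [← frob_cf_top_comp hn φ]
  rw [frob_apply, frob_apply]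
  refine Finset.sum_congr rfl (fun i _ => ?_)
  congr 1
  rw [LinearMap.comp_apply, ← Submodule.coe_smul, hρ]

/-- An `R`-linear retraction onto the kernel of a surjection onto an `R`-projective module. -/
theorem exists_retraction_ker {Q : Type*} [AddCommGroup Q] [Module (Rn R n) Q] [Module R Q]
    [IsScalarTower R (Rn R n) Q] [Module.Projective R Q]
    (g : N →ₗ[Rn R n] Q) (hg : Function.Surjective g) :
    ∃ ρ : N →ₗ[R] LinearMap.ker g, ∀ k : LinearMap.ker g, ρ (k : N) = k := by
  obtain ⟨s, hs⟩ := Module.projective_lifting_property (g.restrictScalars R) LinearMap.id hg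
  have hs' : ∀ q, g (s q) = q := fun q => LinearMap.congr_fun hs q
  refine ⟨{ toFun := fun x => ⟨x - s (g x), ?_⟩, map_add' := ?_, map_smul' := ?_ }, ?_⟩
  · rw [LinearMap.mem_ker, map_sub, hs', sub_self]
  · intro x y
    apply Subtype.ext
    simp only [map_add, Submodule.coe_add]
    abel
  · intro r x
    apply Subtype.ext
    have : g (r • x) = r • g x := (g.restrictScalars R).map_smul r x
    simp only [RingHom.id_apply, this, map_smul, Submodule.coe_smul_of_tower, smul_sub]
  · intro k
    apply Subtype.ext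
    have : g (k : N) = 0 := k.2
    simp [this]

/-- Forms on the kernel of a surjection onto an `R`-projective module extend. -/
theorem exists_extension_ker (hn : 1 ≤ n) {Q : Type*} [AddCommGroup Q] [Module (Rn R n) Q]
    [Module R Q] [IsScalarTower R (Rn R n) Q] [Module.Projective R Q]
    (g : N →ₗ[Rn R n] Q) (hg : Function.Surjective g)
    (φ : LinearMap.ker g →ₗ[Rn R n] Rn R n) :
    ∃ ψ : N →ₗ[Rn R n] Rn R n, ∀ k : LinearMap.ker g, ψ k = φ k := by
  obtain ⟨ρ, hρ⟩ := exists_retraction_ker g hg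
  exact exists_extension_of_retraction hn _ ρ hρ φ

end Extension

end Groth.Agent.H89
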