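import Groth.Prelude.Def_W4c5qllcourbesmultMultCrv
import Mathlib
import Groth.Agent.H89.MultCrvBasic
import Groth.Agent.H89.MultCrvDual

set_option autoImplicit false
universe u

namespace Groth.Agent.H89

open MultCrv Polynomial

section Cover

variable {R : Type*} [CommRing R] {n : ℕ}

/-- An endomorphism congruent to the identity modulo `z` is bijective. -/
theorem bijective_of_sub_mem_filt_one {F : Type*} [AddCommGroup F] [Module (Rn R n) F]
    (θ : F →ₗ[Rn R n] F) (h : ∀ x, θ x - x ∈ filt R n F 1) : Function.Bijective θ := by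
  let N : Module.End (Rn R n) F := 1 - θ
  have hN : ∀ x, N x ∈ filt R n F 1 := by
    intro x
    have : N x = -(θ x - x) := by
      change x - θ x = _
      abel
    rw [this]
    exact Submodule.neg_mem _ (h x)
  have hNk : ∀ k : ℕ, ∀ x, (N ^ k) x ∈ filt R n F k := by
    intro k
    induction k with
    | zero =>
      intro x
      rw [mem_filt_iff]
      exact ⟨x, by simp⟩
    | succ k ih =>
      intro x
      rw [pow_succ, Module.End.mul_apply]
      obtain ⟨w, hw⟩ := (mem_filt_iff R n F 1 _).mp (hN x)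
      rw [← hw, map_smul]
      obtain ⟨w', hw'⟩ := (mem_filt_iff R n F k _).mp (ih w)
      rw [mem_filt_iff]
      refine ⟨w', ?_⟩
      rw [← hw', smul_smul, pow_one, ← pow_succ']
  have hnil : IsNilpotent N := by
    refine ⟨n, ?_⟩
    ext x
    obtain ⟨w, hw⟩ := (mem_filt_iff R n F n _).mp (hNk n x)
    rw [← hw, z_pow_self]
    exact zero_smul (Rn R n) w
  have hu : IsUnit (1 - N) := hnil.isUnit_one_sub
  have hθ : (1 - N : Module.End (Rn R n) F) = θ := by
    change 1 - (1 - θ) = θ
    abel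
  rw [hθ] at hu
  exact (Module.End.isUnit_iff _).mp hu

/-- Two projective covers whose kernels lie in `z F`, `z F₀` are isomorphic over the target. -/
theorem exists_equiv_of_ker_le {F F₀ M : Type*} [AddCommGroup F] [Module (Rn R n) F]
    [AddCommGroup F₀] [Module (Rn R n) F₀] [AddCommGroup M] [Module (Rn R n) M]
    [Module.Projective (Rn R n) F] [Module.Projective (Rn R n) F₀]
    (φ : F →ₗ[Rn R n] M) (φ₀ : F₀ →ₗ[Rn R n] M)
    (hφ : Function.Surjective φ) (hφ₀ : Function.Surjective φ₀)
    (hk : LinearMap.ker φ ≤ filt R n F 1) (hk₀ : LinearMap.ker φ₀ ≤ filt R n F₀ 1) :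
    ∃ ψ : F ≃ₗ[Rn R n] F₀, φ₀ ∘ₗ ψ.toLinearMap = φ := by
  obtain ⟨ψ, hψ⟩ := Module.projective_lifting_property φ₀ φ hφ₀
  obtain ⟨ψ', hψ'⟩ := Module.projective_lifting_property φ φ₀ hφ
  have h1 : Function.Bijective (ψ' ∘ₗ ψ) := by
    apply bijective_of_sub_mem_filt_one
    intro x
    apply hk
    rw [LinearMap.mem_ker, map_sub, LinearMap.comp_apply]
    have := LinearMap.congr_fun hψ' (ψ x)
    rw [LinearMap.comp_apply] at this
    rw [this]
    have := LinearMap.congr_fun hψ x
    rw [LinearMap.comp_apply] at this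
    rw [this, sub_self]
  have h2 : Function.Bijective (ψ ∘ₗ ψ') := by
    apply bijective_of_sub_mem_filt_one
    intro x
    apply hk₀
    rw [LinearMap.mem_ker, map_sub, LinearMap.comp_apply]
    have := LinearMap.congr_fun hψ (ψ' x)
    rw [LinearMap.comp_apply] at this
    rw [this]
    have := LinearMap.congr_fun hψ' x
    rw [LinearMap.comp_apply] at this
    rw [this, sub_self]
  have hinj : Function.Injective ψ := by
    have : Function.Injective (ψ' ∘ ψ) := h1.1
    exact this.of_comp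
  have hsurj : Function.Surjective ψ := by
    have : Function.Surjective (ψ ∘ ψ') := h2.2
    exact this.of_comp
  exact ⟨LinearEquiv.ofBijective ψ ⟨hinj, hsurj⟩, by ext x; exact LinearMap.congr_fun hψ x⟩

/-- The kernels of two such covers are isomorphic. -/
theorem nonempty_ker_equiv_of_ker_le {F F₀ M : Type*} [AddCommGroup F] [Module (Rn R n) F]
    [AddCommGroup F₀] [Module (Rn R n) F₀] [AddCommGroup M] [Module (Rn R n) M]
    [Module.Projective (Rn R n) F] [Module.Projective (Rn R n) F₀]
    (φ : F →ₗ[Rn R n] M) (φ₀ : F₀ →ₗ[Rn R n] M)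
    (hφ : Function.Surjective φ) (hφ₀ : Function.Surjective φ₀)
    (hk : LinearMap.ker φ ≤ filt R n F 1) (hk₀ : LinearMap.ker φ₀ ≤ filt R n F₀ 1) :
    Nonempty (LinearMap.ker φ ≃ₗ[Rn R n] LinearMap.ker φ₀) := by
  obtain ⟨ψ, hψ⟩ := exists_equiv_of_ker_le φ φ₀ hφ hφ₀ hk hk₀
  have h1 : LinearMap.ker φ = (LinearMap.ker φ₀).comap ψ.toLinearMap := by
    rw [← hψ, LinearMap.ker_comp]
  exact ⟨(LinearEquiv.ofEq _ _ h1).trans (LinearEquiv.ofSubmodule' ψ (LinearMap.ker φ₀))⟩

end Cover

end Groth.Agent.H89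

namespace Groth.Agent.H89

open MultCrv Polynomial

section Ann

variable (R : Type*) [CommRing R] (n : ℕ)

theorem cf_z_pow_mul (j k : ℕ) (hjk : j ≤ k) (hk : k < n) (a : Rn R n) :
    cf R n k (z R n ^ j * a) = cf R n (k - j) a := by
  obtain ⟨p, rfl⟩ := Ideal.Quotient.mk_surjective a
  have : z R n ^ j * (Ideal.Quotient.mk (Ideal.span {(X : R[X]) ^ n})) p
      = (Ideal.Quotient.mk (Ideal.span {(X : R[X]) ^ n})) (X ^ j * p) := by
    rw [map_mul, map_pow]
  rw [this, cf_mk R n _ hk, cf_mk R n _ (by omega), coeff_X_pow_mul', if_pos hjk]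

/-- The annihilator of `z^j` in `R[X]/(X^n)` is generated by `z^(n-j)`. -/
theorem z_pow_mul_eq_zero_iff (j : ℕ) (hj : j ≤ n) (a : Rn R n) :
    z R n ^ j * a = 0 ↔ a ∈ Ideal.span {z R n ^ (n - j)} := by
  constructor
  · intro h
    have hc : ∀ i, i < n - j → cf R n i a = 0 := by
      intro i hi
      have h1 := cf_z_pow_mul R n j (i + j) (by omega) (by omega) a
      rw [h, map_zero, Nat.add_sub_cancel] at h1
      exact h1.symm
    rw [← sum_cf_smul R n a]
    refine Ideal.sum_mem _ (fun i _ => ?_)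
    by_cases hi : i < n - j
    · rw [hc i hi, zero_smul]
      exact Ideal.zero_mem _
    · have h2 : z R n ^ i = z R n ^ (n - j) * z R n ^ (i - (n - j)) := by
        rw [← pow_add]
        congr 1
        omega
      rw [h2]
      exact Submodule.smul_of_tower_mem _ _ (Ideal.mul_mem_right _ _ (Ideal.subset_span rfl))
  · intro h
    rw [Ideal.mem_span_singleton'] at h
    obtain ⟨b, rfl⟩ := h
    rw [mul_comm b, ← mul_assoc, ← pow_add]
    have : j + (n - j) = n := by omega
    rw [this, z_pow_self, zero_mul]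

/-- `z^j A ≅ A/(z^(n-j))`. -/
noncomputable def spanZPowEquiv (j : ℕ) (hj : j ≤ n) :
    (Ideal.span {z R n ^ j} : Ideal (Rn R n)) ≃ₗ[Rn R n] (Rn R n ⧸ Ideal.span {z R n ^ (n - j)}) := by
  let μ : Rn R n →ₗ[Rn R n] (Ideal.span {z R n ^ j} : Ideal (Rn R n)) :=
    LinearMap.codRestrict _ (LinearMap.mulLeft (Rn R n) (z R n ^ j)) (fun a => by
      rw [LinearMap.mulLeft_apply]
      exact Ideal.mul_mem_right _ _ (Ideal.subset_span rfl))
  have hμs : Function.Surjective μ := by
    rintro ⟨x, hx⟩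
    obtain ⟨b, rfl⟩ := Ideal.mem_span_singleton'.mp hx
    exact ⟨b, Subtype.ext (by simp [μ, mul_comm])⟩
  have hμk : LinearMap.ker μ = Ideal.span {z R n ^ (n - j)} := by
    ext a
    rw [LinearMap.mem_ker, ← z_pow_mul_eq_zero_iff R n j hj a]
    constructor
    · intro h
      have := congrArg Subtype.val h
      simpa [μ] using this
    · intro h
      apply Subtype.ext
      simpa [μ] using h
  exact ((Submodule.quotEquivOfEq _ _ hμk).symm.trans (μ.quotKerEquivOfSurjective hμs)).symm

end Ann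

end Groth.Agent.H89

namespace Groth.Agent.H89

open MultCrv Polynomial

section Model

variable (R : Type*) [CommRing R] (n : ℕ) (m : Fin n → ℕ)

/-- The free module covering the model quasi-free module. -/
abbrev F₀ : Type _ := (i : Fin n) → (Fin (m i) → Rn R n)

/-- The standard cover of the model quasi-free module. -/
noncomputable def stdCover : F₀ R n m →ₗ[Rn R n] QFModel R n m :=
  (QFModel.equivPi R n m).symm.toLinearMap ∘ₗ
    LinearMap.pi (fun i => LinearMap.pi (fun k =>
      (Submodule.mkQ (Ideal.span {z R n ^ (i.1 + 1)})) ∘ₗ (LinearMap.proj k) ∘ₗ (LinearMap.proj i)))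

theorem stdCover_apply (x : F₀ R n m) (i : Fin n) (k : Fin (m i)) :
    QFModel.equivPi R n m (stdCover R n m x) i k
      = Submodule.Quotient.mk (p := (Ideal.span {z R n ^ (i.1 + 1)} : Ideal (Rn R n))) (x i k) := by
  unfold stdCover
  rw [LinearMap.comp_apply, LinearEquiv.coe_coe, LinearEquiv.apply_symm_apply]
  rfl

theorem stdCover_surjective : Function.Surjective (stdCover R n m) := by
  intro y
  have h : ∀ i k, ∃ a : Rn R n,
      Submodule.Quotient.mk (p := (Ideal.span {z R n ^ (i.1 + 1)} : Ideal (Rn R n))) a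
        = QFModel.equivPi R n m y i k :=
    fun i k => Submodule.Quotient.mk_surjective _ _
  choose a ha using h
  refine ⟨a, ?_⟩
  apply (QFModel.equivPi R n m).injective
  funext i k
  rw [stdCover_apply, ha]

theorem mem_ker_stdCover_iff (x : F₀ R n m) :
    x ∈ LinearMap.ker (stdCover R n m) ↔
      ∀ i k, x i k ∈ (Ideal.span {z R n ^ (i.1 + 1)} : Ideal (Rn R n)) := by
  rw [LinearMap.mem_ker]
  constructor
  · intro h i k
    have h1 := stdCover_apply R n m x i k
    rw [h, map_zero] at h1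
    exact (Submodule.Quotient.mk_eq_zero _).mp h1.symm
  · intro h
    apply (QFModel.equivPi R n m).injective
    rw [map_zero]
    funext i k
    rw [stdCover_apply]
    exact (Submodule.Quotient.mk_eq_zero _).mpr (h i k)

theorem ker_stdCover_le : LinearMap.ker (stdCover R n m) ≤ filt R n (F₀ R n m) 1 := by
  intro x hx
  rw [mem_ker_stdCover_iff] at hx
  have h : ∀ i k, ∃ b : Rn R n, b * z R n ^ (i.1 + 1) = x i k :=
    fun i k => Ideal.mem_span_singleton'.mp (hx i k)
  choose b hb using h
  rw [mem_filt_iff]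
  refine ⟨fun i k => b i k * z R n ^ i.1, ?_⟩
  funext i k
  rw [← hb i k]
  change z R n ^ 1 * (b i k * z R n ^ i.1) = _
  ring

/-- The kernel of the standard cover is the product of the ideals `(z^(i+1))`. -/
noncomputable def kerStdCoverEquiv :
    LinearMap.ker (stdCover R n m) ≃ₗ[Rn R n]
      ((i : Fin n) → (Fin (m i) → (Ideal.span {z R n ^ (i.1 + 1)} : Ideal (Rn R n)))) where
  toFun x := fun i k => ⟨x.1 i k, (mem_ker_stdCover_iff R n m x.1).mp x.2 i k⟩
  invFun y := ⟨fun i k => (y i k).1, (mem_ker_stdCover_iff R n m _).mpr (fun i k => (y i k).2)⟩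
  map_add' x y := rfl
  map_smul' a x := rfl
  left_inv x := rfl
  right_inv y := rfl

end Model

end Groth.Agent.H89

namespace Groth.Agent.H89

open MultCrv Polynomial

section Reindex

variable (R : Type*) [CommRing R] (n : ℕ) (m : Fin n → ℕ)

/-- The index involution `i ↦ n - 2 - i` (fixing `n - 1`). -/
def revIdx (i : Fin n) : Fin n := if h : i.1 + 1 < n then ⟨n - 2 - i.1, by omega⟩ else i

theorem revIdx_invol : Function.Involutive (revIdx n) := by
  intro i
  unfold revIdx
  by_cases h : i.1 + 1 < n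
  · have h2 : (n - 2 - i.1) + 1 < n := by omega
    rw [dif_pos h]
    simp only
    rw [dif_pos h2]
    apply Fin.ext
    simp only
    omega
  · rw [dif_neg h, dif_neg h]

/-- The component equivalence in the generic case. -/
theorem nonempty_compEquiv_pos (i i' : Fin n) (h1 : i.1 + 1 + (i'.1 + 1) = n)
    (h2 : revType n m i' = m i) :
    Nonempty ((Fin (m i) → (Ideal.span {z R n ^ (i.1 + 1)} : Ideal (Rn R n))) ≃ₗ[Rn R n]
      (Fin (revType n m i') → Oi R n (i'.1 + 1))) := by
  have e1 : (Fin (m i) → (Ideal.span {z R n ^ (i.1 + 1)} : Ideal (Rn R n))) ≃ₗ[Rn R n]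
      (Fin (m i) → (Rn R n ⧸ Ideal.span {z R n ^ (n - (i.1 + 1))})) :=
    LinearEquiv.piCongrRight (fun _ => spanZPowEquiv R n (i.1 + 1) (by omega))
  have hidx : n - (i.1 + 1) = i'.1 + 1 := by omega
  have hI : (Ideal.span {z R n ^ (n - (i.1 + 1))} : Ideal (Rn R n))
      = Ideal.span {z R n ^ (i'.1 + 1)} := by rw [hidx]
  have e2 : (Fin (m i) → (Rn R n ⧸ Ideal.span {z R n ^ (n - (i.1 + 1))})) ≃ₗ[Rn R n]
      (Fin (m i) → Oi R n (i'.1 + 1)) :=
    LinearEquiv.piCongrRight (fun _ => Submodule.quotEquivOfEq _ _ hI)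
  have e3 : (Fin (m i) → Oi R n (i'.1 + 1)) ≃ₗ[Rn R n]
      (Fin (revType n m i') → Oi R n (i'.1 + 1)) :=
    LinearEquiv.funCongrLeft (Rn R n) _ (finCongr h2)
  exact ⟨e1.trans (e2.trans e3)⟩

/-- The component equivalence in the degenerate case (both sides trivial). -/
theorem nonempty_compEquiv_neg (i' : Fin n) (h : ¬ i'.1 + 1 < n) :
    Nonempty ((Fin (m i') → (Ideal.span {z R n ^ (i'.1 + 1)} : Ideal (Rn R n))) ≃ₗ[Rn R n]
      (Fin (revType n m i') → Oi R n (i'.1 + 1))) := by
  have h0 : z R n ^ (i'.1 + 1) = 0 := z_pow_eq_zero R n _ (by omega)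
  have hs1 : Subsingleton (Ideal.span {z R n ^ (i'.1 + 1)} : Ideal (Rn R n)) := by
    rw [h0]
    constructor
    intro a b
    apply Subtype.ext
    have ha := a.2
    have hb := b.2
    rw [Ideal.mem_span_singleton'] at ha hb
    obtain ⟨x, hx⟩ := ha
    obtain ⟨y, hy⟩ := hb
    rw [← hx, ← hy, mul_zero, mul_zero]
  have hr : revType n m i' = 0 := by
    unfold revType
    rw [dif_neg h]
  have hs2 : IsEmpty (Fin (revType n m i')) := by
    rw [hr]
    infer_instance
  exact ⟨LinearEquiv.ofSubsingleton _ _⟩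

theorem nonempty_compEquiv (i' : Fin n) :
    Nonempty ((Fin (m (revIdx n i')) →
        (Ideal.span {z R n ^ ((revIdx n i').1 + 1)} : Ideal (Rn R n))) ≃ₗ[Rn R n]
      (Fin (revType n m i') → Oi R n (i'.1 + 1))) := by
  by_cases h : i'.1 + 1 < n
  · have hrev : revIdx n i' = ⟨n - 2 - i'.1, by omega⟩ := by
      unfold revIdx
      rw [dif_pos h]
    apply nonempty_compEquiv_pos
    · rw [hrev]
      simp only
      omega
    · rw [hrev]
      unfold revType
      rw [dif_pos h]
  · have hrev : revIdx n i' = i' := by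
      unfold revIdx
      rw [dif_neg h]
    rw [hrev]
    exact nonempty_compEquiv_neg R n m i' h

/-- The product of the ideals `(z^(i+1))^(m i)` is the model quasi-free module of reversed type. -/
theorem nonempty_prodSpan_equiv :
    Nonempty (((i : Fin n) → (Fin (m i) → (Ideal.span {z R n ^ (i.1 + 1)} : Ideal (Rn R n))))
      ≃ₗ[Rn R n] QFModel R n (revType n m)) := by
  let σ : Equiv.Perm (Fin n) := (revIdx_invol n).toPerm
  have e1 := LinearEquiv.piCongrLeft' (Rn R n)
    (fun i : Fin n => (Fin (m i) → (Ideal.span {z R n ^ (i.1 + 1)} : Ideal (Rn R n)))) σ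
  have e2 : ((i' : Fin n) → (Fin (m (σ.symm i')) →
      (Ideal.span {z R n ^ ((σ.symm i').1 + 1)} : Ideal (Rn R n)))) ≃ₗ[Rn R n]
      ((i' : Fin n) → (Fin (revType n m i') → Oi R n (i'.1 + 1))) :=
    LinearEquiv.piCongrRight (fun i' => (nonempty_compEquiv R n m i').some)
  exact ⟨(e1.trans e2).trans (QFModel.equivPi R n (revType n m)).symm⟩

end Reindex

end Groth.Agent.H89

namespace Groth.Agent.H89

open MultCrv Polynomial

/-- The kernel of a surjection from a free module onto a quasi-free module that is bijective modulo `z`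
is quasi-free of the reversed type. -/
theorem isQuasiFreeOfType_ker_revType (R : Type u) [CommRing R] (n : ℕ) (m : Fin n → ℕ)
    (M : Type u) [AddCommGroup M] [Module (Rn R n) M] (hM : IsQuasiFreeOfType R n M m) (r : ℕ)
    (φ : (Fin r → Rn R n) →ₗ[Rn R n] M) (hφ : Function.Surjective φ)
    (hφz : ∀ f : Fin r → Rn R n, φ f ∈ filt R n M 1 → f ∈ filt R n (Fin r → Rn R n) 1) :
    IsQuasiFreeOfType R n ↥(LinearMap.ker φ) (revType n m) := by
  obtain ⟨e⟩ := hM
  let φ' : (Fin r → Rn R n) →ₗ[Rn R n] QFModel R n m := e.toLinearMap ∘ₗ φ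
  have hφ' : Function.Surjective φ' := e.surjective.comp hφ
  have hker : LinearMap.ker φ' = LinearMap.ker φ := LinearEquiv.ker_comp e φ
  have hk : LinearMap.ker φ' ≤ filt R n (Fin r → Rn R n) 1 := by
    intro x hx
    rw [hker, LinearMap.mem_ker] at hx
    apply hφz
    rw [hx]
    exact Submodule.zero_mem _
  obtain ⟨e1⟩ := nonempty_ker_equiv_of_ker_le φ' (stdCover R n m) hφ' (stdCover_surjective R n m)
    hk (ker_stdCover_le R n m)
  obtain ⟨e2⟩ := nonempty_prodSpan_equiv R n m
  exact ⟨(LinearEquiv.ofEq _ _ hker.symm).trans (e1.trans ((kerStdCoverEquiv R n m).trans e2))⟩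

end Groth.Agent.H89
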