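import Groth.Prelude.Def_W4c5qllcourbesmultMultCrv
import Mathlib
import Groth.Agent.H89.MultCrvBasic
import Groth.Agent.H89.MultCrvDual

set_option autoImplicit false
universe u

namespace Groth.Agent.H89

open MultCrv Polynomial

section

variable {R : Type*} [CommRing R] {n : ℕ} {N N' : Type*} [AddCommGroup N] [Module (Rn R n) N]
  [Module R N] [IsScalarTower R (Rn R n) N] [AddCommGroup N'] [Module (Rn R n) N']
  [Module R N'] [IsScalarTower R (Rn R n) N']

/-- An `R`-linear map commuting with `z` is `A`-linear. -/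
theorem map_smul_of_map_z_smul (f : N →ₗ[R] N') (hz : ∀ m, f (z R n • m) = z R n • f m)
    (a : Rn R n) (m : N) : f (a • m) = a • f m := by
  have hpow : ∀ (j : ℕ) (m : N), f (z R n ^ j • m) = z R n ^ j • f m := by
    intro j
    induction j with
    | zero => intro m; simp
    | succ j ih => intro m; rw [pow_succ', mul_smul, hz, ih, mul_smul]
  conv_lhs => rw [← sum_cf_smul R n a]
  conv_rhs => rw [← sum_cf_smul R n a]
  rw [Finset.sum_smul, map_sum, Finset.sum_smul]
  refine Finset.sum_congr rfl (fun i _ => ?_)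
  rw [smul_assoc, map_smul, hpow, smul_assoc]

/-- The `A`-linear map with the same underlying function as an `R`-linear map commuting with `z`. -/
def linearMapOfZ (f : N →ₗ[R] N') (hz : ∀ m, f (z R n • m) = z R n • f m) : N →ₗ[Rn R n] N' where
  toFun := f
  map_add' := f.map_add
  map_smul' a m := map_smul_of_map_z_smul f hz a m

omit [IsScalarTower R (Rn R n) N] [Module R N] in
theorem z_smul_eq_zero_of_mem_filt2_one (m : N) (h : m ∈ filt2 R n N 1) : z R n • m = 0 := by
  rw [mem_filt2_iff, pow_one] at h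
  exact h

/-- If `F/K` is `R`-torsion-free (and finitely generated) there is an `A`-linear `θ : F → K` restricting to
`z^(n-1)` on `K`. -/
theorem exists_zpow_retraction [IsDomain R] [IsPrincipalIdealRing R] (hn : 1 ≤ n)
    [Module.Finite (Rn R n) N] (K : Submodule (Rn R n) N)
    (hK : Module.IsTorsionFree R (N ⧸ K)) :
    ∃ θ : N →ₗ[Rn R n] K, ∀ k : K, θ (k : N) = z R n ^ (n - 1) • k := by
  -- K' = {v | z^(n-1) v ∈ K}
  let K' : Submodule (Rn R n) N :=
    Submodule.comap ((z R n ^ (n - 1)) • (LinearMap.id : N →ₗ[Rn R n] N)) K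
  have hmemK' : ∀ v : N, v ∈ K' ↔ z R n ^ (n - 1) • v ∈ K := fun v => Iff.rfl
  have hz0 : ∀ v : N, z R n ^ (n - 1) • (z R n • v) = 0 := by
    intro v
    rw [smul_smul, ← pow_succ]
    have : n - 1 + 1 = n := by omega
    rw [this, z_pow_self]
    exact zero_smul (Rn R n) v
  have hz0' : ∀ v : N, z R n • (z R n ^ (n - 1) • v) = 0 := by
    intro v
    rw [smul_smul, ← pow_succ']
    have : n - 1 + 1 = n := by omega
    rw [this, z_pow_self]
    exact zero_smul (Rn R n) v
  have hzK' : ∀ v : N, z R n • v ∈ K' := by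
    intro v
    rw [hmemK', hz0]
    exact K.zero_mem
  have hKK' : K ≤ K' := fun v hv => K.smul_mem _ hv
  -- F/K' is R-torsion-free
  have htf : Module.IsTorsionFree R (N ⧸ K') := by
    rw [Module.isTorsionFree_iff_smul_eq_zero]
    intro r x hrx
    obtain ⟨v, rfl⟩ := Submodule.Quotient.mk_surjective K' x
    by_cases hr : r = 0
    · exact Or.inl hr
    · right
      rw [← Submodule.Quotient.mk_smul, Submodule.Quotient.mk_eq_zero, hmemK'] at hrx
      rw [Submodule.Quotient.mk_eq_zero, hmemK']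
      rw [← smul_comm_Rn R n N] at hrx
      have h2 : r • (Submodule.Quotient.mk (z R n ^ (n - 1) • v) : N ⧸ K) = 0 := by
        rw [← Submodule.Quotient.mk_smul, Submodule.Quotient.mk_eq_zero]
        exact hrx
      have h3 := ((Module.isTorsionFree_iff_smul_eq_zero.mp hK) r _ h2).resolve_left hr
      exact (Submodule.Quotient.mk_eq_zero K).mp h3
  have hfinR : Module.Finite R N := finite_of_finite_Rn R n N
  have hfinQ : Module.Finite R (N ⧸ K') :=
    Module.Finite.of_surjective (K'.mkQ.restrictScalars R) (Submodule.mkQ_surjective K')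
  have hfree : Module.Free R (N ⧸ K') := Module.free_of_finite_type_torsion_free'
  obtain ⟨ρ, hρ⟩ := exists_retraction_ker (R := R) K'.mkQ (Submodule.mkQ_surjective K')
  have hker : ∀ v : N, v ∈ K' → v ∈ LinearMap.ker K'.mkQ := by
    intro v hv
    rw [Submodule.ker_mkQ]
    exact hv
  have hker' : ∀ v : N, v ∈ LinearMap.ker K'.mkQ → v ∈ K' := by
    intro v hv
    rw [Submodule.ker_mkQ] at hv
    exact hv
  -- the R-linear map θ₀ v = z^(n-1) • ρ v
  let θ₀ : N →ₗ[R] N :=
    (((z R n ^ (n - 1)) • (LinearMap.id : N →ₗ[Rn R n] N)).restrictScalars R) ∘ₗ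
      ((LinearMap.ker K'.mkQ).subtype.restrictScalars R) ∘ₗ ρ
  have hθ₀ : ∀ v, θ₀ v = z R n ^ (n - 1) • ((ρ v : LinearMap.ker K'.mkQ) : N) := fun v => rfl
  have hθ₀K : ∀ v, θ₀ v ∈ K := by
    intro v
    rw [hθ₀, ← hmemK']
    exact hker' _ (ρ v).2
  have hθ₀z : ∀ v, θ₀ (z R n • v) = z R n • θ₀ v := by
    intro v
    have h1 : ρ (z R n • v) = ⟨z R n • v, hker _ (hzK' v)⟩ := hρ ⟨z R n • v, hker _ (hzK' v)⟩
    rw [hθ₀, hθ₀, h1]
    change z R n ^ (n - 1) • (z R n • v) = _
    rw [hz0, hz0']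
  refine ⟨(linearMapOfZ θ₀ hθ₀z).codRestrict K hθ₀K, fun k => ?_⟩
  apply Subtype.ext
  rw [LinearMap.codRestrict_apply]
  change θ₀ (k : N) = _
  have h1 : ρ (k : N) = ⟨(k : N), hker _ (hKK' k.2)⟩ := hρ ⟨(k : N), hker _ (hKK' k.2)⟩
  rw [hθ₀, h1]
  rfl

end

end Groth.Agent.H89
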