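import Groth.Prelude.Def_W4c5qllcourbesmultMultCrv
import Mathlib
import Groth.Agent.H89.MultCrvBasic
import Groth.Agent.H89.MultCrvDual
import Groth.Agent.H89.ExtShift
import Groth.Agent.H89.MultCrvRetract

set_option autoImplicit false
universe u

namespace Groth.Agent.H89

open MultCrv Polynomial CategoryTheory Abelian

/-- `R[X]/(X^n)` is `R`-torsion-free. -/
theorem isTorsionFree_Rn (R : Type*) [CommRing R] [IsDomain R] (n : ℕ) :
    Module.IsTorsionFree R (Rn R n) := by
  rw [Module.isTorsionFree_iff_smul_eq_zero]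
  intro r a hra
  by_cases hr : r = 0
  · exact Or.inl hr
  · right
    rw [← sum_cf_smul R n a]
    apply Finset.sum_eq_zero
    intro i _
    have h1 : cf R n i (r • a) = 0 := by rw [hra, map_zero]
    rw [map_smul, smul_eq_mul] at h1
    rw [(mul_eq_zero.mp h1).resolve_left hr, zero_smul]

/-- An `A`-submodule of an `R`-torsion-free module is `R`-torsion-free. -/
theorem isTorsionFree_submodule' {R A P : Type*} [CommRing R] [IsDomain R] [Ring A]
    [SMul R A] [AddCommGroup P] [Module A P] [Module R P] [IsScalarTower R A P]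
    [Module.IsTorsionFree R P] (Q : Submodule A P) : Module.IsTorsionFree R Q := by
  rw [Module.isTorsionFree_iff_smul_eq_zero]
  intro r k hrk
  have h1 : r • (k : P) = 0 := by
    rw [← Submodule.coe_smul_of_tower, hrk, Submodule.coe_zero]
  rcases (Module.isTorsionFree_iff_smul_eq_zero.mp inferInstance) r (k : P) h1 with h | h
  · exact Or.inl h
  · exact Or.inr (Subtype.ext h)

theorem isTorsionFree_pi_Rn (R : Type*) [CommRing R] [IsDomain R] (n : ℕ) (ι : Type*) :
    Module.IsTorsionFree R (ι → Rn R n) := by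
  have := isTorsionFree_Rn R n
  rw [Module.isTorsionFree_iff_smul_eq_zero]
  intro r a hra
  by_cases hr : r = 0
  · exact Or.inl hr
  · right
    funext j
    have h1 : r • a j = 0 := congrFun hra j
    exact ((Module.isTorsionFree_iff_smul_eq_zero.mp inferInstance) r (a j) h1).resolve_left hr

/-- `Ext^i_A(M, A) = 0` for `i ≥ 1` and `M` finitely generated torsion-free. -/
theorem ext_self_subsingleton_of_isTorsionFree (R : Type u) [CommRing R] [IsDomain R]
    [IsDiscreteValuationRing R] (n : ℕ) (hn : 1 ≤ n) (i : ℕ) (hi : 1 ≤ i) :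
    ∀ (M : Type u) [AddCommGroup M] [Module (Rn R n) M] [Module R M]
      [IsScalarTower R (Rn R n) M] [Module.Finite (Rn R n) M] [Module.IsTorsionFree R M],
      Subsingleton (Ext (ModuleCat.of (Rn R n) M) (ModuleCat.of (Rn R n) (Rn R n)) i) := by
  induction i, hi using Nat.le_induction with
  | base =>
    intro M _ _ _ _ _ _
    obtain ⟨r, π, hπ⟩ := Module.Finite.exists_fin' (Rn R n) M
    have hfin : Module.Finite R M := finite_of_finite_Rn R n M
    have hfree : Module.Free R M := Module.free_of_finite_type_torsion_free'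
    exact ext_one_subsingleton_of_extension π hπ _ (fun φ => exists_extension_ker hn π hπ φ)
  | succ i hi ih =>
    intro M _ _ _ _ _ _
    obtain ⟨r, π, hπ⟩ := Module.Finite.exists_fin' (Rn R n) M
    have := isTorsionFree_pi_Rn R n (Fin r)
    have : Module.IsTorsionFree R (LinearMap.ker π) := isTorsionFree_submodule' _
    exact ext_succ_subsingleton_of_ker π hπ _ i (ih (LinearMap.ker π))

end Groth.Agent.H89

namespace Groth.Agent.H89

open MultCrv Polynomial CategoryTheory Abelian

/-- `Ext^i_A(M, A) = 0` for `i ≥ 2` and `M` finitely generated. -/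
theorem ext_self_subsingleton_of_two_le (R : Type u) [CommRing R] [IsDomain R]
    [IsDiscreteValuationRing R] (n : ℕ) (hn : 1 ≤ n) (i : ℕ) (hi : 2 ≤ i)
    (M : Type u) [AddCommGroup M] [Module (Rn R n) M] [Module.Finite (Rn R n) M] :
    Subsingleton (Ext (ModuleCat.of (Rn R n) M) (ModuleCat.of (Rn R n) (Rn R n)) i) := by
  obtain ⟨j, rfl⟩ := Nat.exists_eq_add_of_le' (show 1 ≤ i by omega)
  obtain ⟨r, π, hπ⟩ := Module.Finite.exists_fin' (Rn R n) M
  have := isTorsionFree_pi_Rn R n (Fin r)
  have : Module.IsTorsionFree R (LinearMap.ker π) := isTorsionFree_submodule' _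
  exact ext_succ_subsingleton_of_ker π hπ _ j
    (ext_self_subsingleton_of_isTorsionFree R n hn j (by omega) (LinearMap.ker π))

end Groth.Agent.H89

namespace Groth.Agent.H89

open MultCrv Polynomial CategoryTheory Abelian

/-- The quotient of `F` by the kernel of a surjection onto a torsion-free module is torsion-free. -/
theorem isTorsionFree_quot_ker {R A F M : Type*} [CommRing R] [IsDomain R] [CommRing A]
    [SMul R A] [AddCommGroup F] [Module A F] [Module R F] [IsScalarTower R A F]
    [AddCommGroup M] [Module A M] [Module R M] [IsScalarTower R A M] [Module.IsTorsionFree R M]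
    (π : F →ₗ[A] M) : Module.IsTorsionFree R (F ⧸ LinearMap.ker π) := by
  refine Function.Injective.moduleIsTorsionFree (R := R) (N := M)
    ((LinearMap.ker π).liftQ π le_rfl) ?_ ?_
  · rw [← LinearMap.ker_eq_bot]
    exact Submodule.ker_liftQ_eq_bot _ _ _ le_rfl
  · intro r x
    exact LinearMap.map_smul_of_tower _ r x

/-- `z^(n-1)` kills `Ext¹(M, N)` for `M` finitely generated and torsion-free. -/
theorem zpow_smul_ext_one_eq_zero (R : Type u) [CommRing R] [IsDomain R]
    [IsDiscreteValuationRing R] (n : ℕ) (hn : 1 ≤ n)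
    (M : Type u) [AddCommGroup M] [Module (Rn R n) M] [Module R M]
    [IsScalarTower R (Rn R n) M] [Module.Finite (Rn R n) M] [Module.IsTorsionFree R M]
    (Y : ModuleCat.{u} (Rn R n)) (x : Ext (ModuleCat.of (Rn R n) M) Y 1) :
    (z R n ^ (n - 1)) • x = 0 := by
  obtain ⟨r, π, hπ⟩ := Module.Finite.exists_fin' (Rn R n) M
  have hK : Module.IsTorsionFree R ((Fin r → Rn R n) ⧸ LinearMap.ker π) :=
    isTorsionFree_quot_ker π
  obtain ⟨θ, hθ⟩ := exists_zpow_retraction (R := R) hn (LinearMap.ker π) hK
  refine smul_ext_one_eq_zero_of_extension π hπ Y _ (fun φ => ⟨φ ∘ₗ θ, fun k => ?_⟩) x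
  rw [LinearMap.comp_apply, hθ k, map_smul]

/-- `z^(n-1)` kills `Ext^i(M, N)` for `M` finitely generated and `i ≥ 2`. -/
theorem zpow_smul_ext_eq_zero_of_two_le (R : Type u) [CommRing R] [IsDomain R]
    [IsDiscreteValuationRing R] (n : ℕ) (hn : 1 ≤ n) (i : ℕ) (hi : 2 ≤ i)
    (Y : ModuleCat.{u} (Rn R n)) :
    ∀ (M : Type u) [AddCommGroup M] [Module (Rn R n) M] [Module.Finite (Rn R n) M]
      (x : Ext (ModuleCat.of (Rn R n) M) Y i), (z R n ^ (n - 1)) • x = 0 := by
  induction i, hi using Nat.le_induction with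
  | base =>
    intro M _ _ _ x
    obtain ⟨r, π, hπ⟩ := Module.Finite.exists_fin' (Rn R n) M
    have := isTorsionFree_pi_Rn R n (Fin r)
    have : Module.IsTorsionFree R (LinearMap.ker π) := isTorsionFree_submodule' _
    exact smul_ext_succ_eq_zero_of_ker π hπ Y _ 1
      (fun y => zpow_smul_ext_one_eq_zero R n hn (LinearMap.ker π) Y y) x
  | succ i hi ih =>
    intro M _ _ _ x
    obtain ⟨r, π, hπ⟩ := Module.Finite.exists_fin' (Rn R n) M
    exact smul_ext_succ_eq_zero_of_ker π hπ Y _ i (fun y => ih (LinearMap.ker π) y) x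

end Groth.Agent.H89

namespace Groth.Agent.H89

open MultCrv Polynomial CategoryTheory Abelian

/-- If `K ≤ F` is finite free over `R`, `F` is torsion-free and every `R`-linear form on `K` extends to
`F`, then `F/K` is torsion-free. -/
theorem isTorsionFree_quot_of_forms_extend {R A F : Type*} [CommRing R] [IsDomain R] [CommRing A]
    [SMul R A] [AddCommGroup F] [Module A F] [Module R F] [IsScalarTower R A F]
    [Module.IsTorsionFree R F] (K : Submodule A F) [Module.Free R K] [Module.Finite R K]
    (hext : ∀ l : K →ₗ[R] R, ∃ μ : F →ₗ[R] R, ∀ k : K, μ k = l k) :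
    Module.IsTorsionFree R (F ⧸ K) := by
  classical
  rw [Module.isTorsionFree_iff_smul_eq_zero]
  intro r x hrx
  obtain ⟨v, rfl⟩ := Submodule.Quotient.mk_surjective K x
  by_cases hr : r = 0
  · exact Or.inl hr
  · right
    rw [← Submodule.Quotient.mk_smul, Submodule.Quotient.mk_eq_zero] at hrx
    rw [Submodule.Quotient.mk_eq_zero]
    let b := Module.Free.chooseBasis R K
    choose μ hμ using fun j => hext (b.coord j)
    let k₀ : K := ⟨r • v, hrx⟩
    have h1 : k₀ = ∑ j, (b.coord j k₀) • b j := (b.sum_repr k₀).symm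
    have h2 : ∀ j, b.coord j k₀ = r * μ j v := by
      intro j
      rw [← hμ j k₀]
      change μ j (r • v) = _
      rw [map_smul, smul_eq_mul]
    have h3 : r • v = r • ((∑ j, (μ j v) • b j : K) : F) := by
      have h4 : (k₀ : F) = r • v := rfl
      rw [← h4, h1, ← Submodule.coe_smul_of_tower, Finset.smul_sum]
      congr 1
      refine Finset.sum_congr rfl (fun j _ => ?_)
      rw [h2, mul_smul]
    have h5 := ((Module.isTorsionFree_iff_smul_eq_zero.mp
      (inferInstance : Module.IsTorsionFree R F)) r (v - ((∑ j, (μ j v) • b j : K) : F))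
      (by rw [smul_sub, h3, sub_self])).resolve_left hr
    rw [sub_eq_zero] at h5
    rw [h5]
    exact Submodule.coe_mem _

/-- `Ext¹_A(M, A) = 0` forces `M` to be torsion-free over `R`. -/
theorem isTorsionFree_of_ext_one_self_subsingleton (R : Type u) [CommRing R] [IsDomain R]
    [IsDiscreteValuationRing R] (n : ℕ) (hn : 1 ≤ n)
    (M : Type u) [AddCommGroup M] [Module (Rn R n) M] [Module R M]
    [IsScalarTower R (Rn R n) M] [Module.Finite (Rn R n) M]
    (h : Subsingleton (Ext (ModuleCat.of (Rn R n) M) (ModuleCat.of (Rn R n) (Rn R n)) 1)) :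
    Module.IsTorsionFree R M := by
  obtain ⟨r, π, hπ⟩ := Module.Finite.exists_fin' (Rn R n) M
  have := isTorsionFree_pi_Rn R n (Fin r)
  have htfK : Module.IsTorsionFree R (LinearMap.ker π) := isTorsionFree_submodule' _
  have hfinK : Module.Finite R (LinearMap.ker π) := finite_of_finite_Rn R n _
  have hfreeK : Module.Free R (LinearMap.ker π) := Module.free_of_finite_type_torsion_free'
  have hQ : Module.IsTorsionFree R ((Fin r → Rn R n) ⧸ LinearMap.ker π) := by
    apply isTorsionFree_quot_of_forms_extend
    intro l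
    obtain ⟨ψ, hψ⟩ := exists_extension_of_ext_one_subsingleton π hπ _ h (frob hn l)
    refine ⟨(cf R n (n - 1)) ∘ₗ (ψ.restrictScalars R), fun k => ?_⟩
    rw [LinearMap.comp_apply, LinearMap.restrictScalars_apply]
    have := hψ k
    change ψ (k : Fin r → Rn R n) = frob hn l k at this
    rw [this, cf_top_frob]
  -- transport along M ≃ F/K
  let e := π.quotKerEquivOfSurjective hπ
  refine Function.Injective.moduleIsTorsionFree (R := R)
    (N := (Fin r → Rn R n) ⧸ LinearMap.ker π) e.symm e.symm.injective ?_
  intro c m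
  exact LinearMap.map_smul_of_tower e.symm.toLinearMap c m

end Groth.Agent.H89
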