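import Groth.Prelude.Def_W4c5qllcourbesmultMultCrv
import Mathlib
import Groth.Agent.H89.MultCrvBasic

set_option autoImplicit false
universe u

namespace Groth.Agent.H89

open MultCrv Polynomial

/-- Rank additivity for a quotient by an `A`-submodule, counted over `R`. -/
theorem finrank_quotient_add_finrank' {R A P : Type*} [CommRing R] [IsDomain R] [Ring A]
    [SMul R A] [AddCommGroup P] [Module A P] [Module R P] [IsScalarTower R A P]
    [Module.Finite R P] [IsNoetherianRing R] (Q : Submodule A P) :
    Module.finrank R (P ⧸ Q) + Module.finrank R Q = Module.finrank R P := by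
  have h := Submodule.finrank_quotient_add_finrank (Q.restrictScalars R)
  have e1 : Module.finrank R (P ⧸ Q.restrictScalars R) = Module.finrank R (P ⧸ Q) :=
    (Submodule.Quotient.restrictScalarsEquiv R Q).finrank_eq
  have e2 : Module.finrank R (Q.restrictScalars R) = Module.finrank R Q := rfl
  omega

end Groth.Agent.H89

namespace Groth.Agent.H89

open MultCrv Polynomial

theorem finite_submodule' {R A P : Type*} [CommRing R] [Ring A]
    [SMul R A] [AddCommGroup P] [Module A P] [Module R P] [IsScalarTower R A P]
    [Module.Finite R P] [IsNoetherianRing R] (Q : Submodule A P) : Module.Finite R Q := by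
  have : IsNoetherian R P := isNoetherian_of_isNoetherianRing_of_finite R P
  exact (inferInstance : Module.Finite R (Q.restrictScalars R))

/-- Rank additivity for a subquotient `Q₂/Q₁`, counted over `R`. -/
theorem finrank_subquotient_add_finrank' {R A P : Type*} [CommRing R] [IsDomain R] [Ring A]
    [SMul R A] [AddCommGroup P] [Module A P] [Module R P] [IsScalarTower R A P]
    [Module.Finite R P] [IsNoetherianRing R] (Q₁ Q₂ : Submodule A P) (h : Q₁ ≤ Q₂) :
    Module.finrank R (↥Q₂ ⧸ Submodule.comap Q₂.subtype Q₁) + Module.finrank R Q₁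
      = Module.finrank R Q₂ := by
  have : Module.Finite R Q₂ := finite_submodule' Q₂
  have h1 := finrank_quotient_add_finrank' (R := R) (Submodule.comap Q₂.subtype Q₁)
  have e : Module.finrank R ↥(Submodule.comap Q₂.subtype Q₁) = Module.finrank R Q₁ :=
    ((Submodule.comapSubtypeEquivOfLe h).restrictScalars R).finrank_eq
  omega

/-- Rank-nullity for an `A`-linear endomorphism, counted over `R`. -/
theorem finrank_range_add_finrank_ker' {R A P : Type*} [CommRing R] [IsDomain R] [Ring A]
    [SMul R A] [AddCommGroup P] [Module A P] [Module R P] [IsScalarTower R A P]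
    [Module.Finite R P] [IsNoetherianRing R] (f : P →ₗ[A] P) :
    Module.finrank R (LinearMap.range f) + Module.finrank R (LinearMap.ker f)
      = Module.finrank R P := by
  have h1 := finrank_quotient_add_finrank' (R := R) (LinearMap.ker f)
  have e : Module.finrank R (P ⧸ LinearMap.ker f) = Module.finrank R (LinearMap.range f) :=
    (f.quotKerEquivRange.restrictScalars R).finrank_eq
  omega

theorem filt2_eq_ker (R : Type*) [CommRing R] (n : ℕ) (M : Type*) [AddCommGroup M]
    [Module (MultCrv.Rn R n) M] (i : ℕ) :
    MultCrv.filt2 R n M i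
      = LinearMap.ker ((MultCrv.z R n ^ i) • (LinearMap.id : M →ₗ[MultCrv.Rn R n] M)) := by
  ext v
  rw [mem_filt2_iff]
  simp

theorem filt_succ_le (R : Type*) [CommRing R] (n : ℕ) (M : Type*) [AddCommGroup M]
    [Module (MultCrv.Rn R n) M] (i : ℕ) :
    MultCrv.filt R n M (i + 1) ≤ MultCrv.filt R n M i := by
  intro v hv
  rw [mem_filt_iff] at hv ⊢
  obtain ⟨w, rfl⟩ := hv
  exact ⟨MultCrv.z R n • w, by rw [smul_smul, ← pow_succ]⟩

theorem filt2_le_succ (R : Type*) [CommRing R] (n : ℕ) (M : Type*) [AddCommGroup M]
    [Module (MultCrv.Rn R n) M] (i : ℕ) :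
    MultCrv.filt2 R n M i ≤ MultCrv.filt2 R n M (i + 1) := by
  intro v hv
  rw [mem_filt2_iff] at hv ⊢
  rw [pow_succ', mul_smul, hv, smul_zero]

/-- `rank z^i M + rank M^(i) = rank M`. -/
theorem finrank_filt_add_finrank_filt2 (R : Type*) [CommRing R] [IsDomain R] [IsNoetherianRing R]
    (n : ℕ) (M : Type*) [AddCommGroup M]
    [Module (MultCrv.Rn R n) M] [Module R M] [IsScalarTower R (MultCrv.Rn R n) M]
    [Module.Finite R M] (i : ℕ) :
    Module.finrank R (MultCrv.filt R n M i) + Module.finrank R (MultCrv.filt2 R n M i)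
      = Module.finrank R M := by
  rw [filt2_eq_ker]
  exact finrank_range_add_finrank_ker' (R := R)
    ((MultCrv.z R n ^ i) • (LinearMap.id : M →ₗ[MultCrv.Rn R n] M))

end Groth.Agent.H89
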