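import Groth.Prelude.Def_W4c5qllcourbesmultMultCrv
import Mathlib
import Groth.Agent.H89.MultCrvBasic
import Groth.Agent.H89.MultCrvRank
import Groth.Agent.H89.MultCrvDual

set_option autoImplicit false
universe u

namespace Groth.Agent.H89

open MultCrv Polynomial

/-- Torsion-freeness of a quotient by an `A`-submodule, elementwise. -/
theorem isTorsionFree_quotient_iff {R A P : Type*} [CommRing R] [IsDomain R] [Ring A]
    [SMul R A] [AddCommGroup P] [Module A P] [Module R P] [IsScalarTower R A P]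
    (Q : Submodule A P) :
    Module.IsTorsionFree R (P ⧸ Q) ↔ ∀ r : R, r ≠ 0 → ∀ p : P, r • p ∈ Q → p ∈ Q := by
  rw [Module.isTorsionFree_iff_smul_eq_zero]
  constructor
  · intro h r hr p hp
    have h1 : r • (Submodule.Quotient.mk p : P ⧸ Q) = 0 := by
      rw [← Submodule.Quotient.mk_smul, Submodule.Quotient.mk_eq_zero]
      exact hp
    exact (Submodule.Quotient.mk_eq_zero Q).mp ((h r _ h1).resolve_left hr)
  · intro h r x hrx
    obtain ⟨p, rfl⟩ := Submodule.Quotient.mk_surjective Q x
    by_cases hr : r = 0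
    · exact Or.inl hr
    · right
      rw [← Submodule.Quotient.mk_smul, Submodule.Quotient.mk_eq_zero] at hrx
      rw [Submodule.Quotient.mk_eq_zero]
      exact h r hr p hrx

section

variable (R : Type*) [CommRing R] (n : ℕ) (M : Type*) [AddCommGroup M] [Module (Rn R n) M]
  [Module R M] [IsScalarTower R (Rn R n) M]

/-- Elementwise torsion-freeness condition for `G1 i`. -/
def T1 (i : ℕ) : Prop :=
  ∀ r : R, r ≠ 0 → ∀ v : M, v ∈ filt R n M i → r • v ∈ filt R n M (i + 1) → v ∈ filt R n M (i + 1)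

/-- Elementwise torsion-freeness condition for `Gam2 i`. -/
def T2 (i : ℕ) : Prop :=
  ∀ r : R, r ≠ 0 → ∀ u : M, u ∈ filt2 R n M (i + 1) →
    (∃ b : M, b ∈ filt2 R n M (i + 2) ∧ r • u - z R n • b ∈ filt2 R n M i) →
    ∃ b : M, b ∈ filt2 R n M (i + 2) ∧ u - z R n • b ∈ filt2 R n M i

variable [IsDomain R]

theorem isTorsionFree_G1_iff (i : ℕ) :
    Module.IsTorsionFree R (G1 R n M i) ↔ T1 R n M i := by
  unfold G1
  rw [isTorsionFree_quotient_iff]
  constructor
  · intro h r hr v hv hrv
    have := h r hr ⟨v, hv⟩ (by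
      rw [Submodule.mem_comap]
      exact hrv)
    rw [Submodule.mem_comap] at this
    exact this
  · intro h r hr p hp
    rw [Submodule.mem_comap] at hp ⊢
    exact h r hr p.1 p.2 hp

omit [Module R M] [IsScalarTower R (Rn R n) M] [IsDomain R] in
theorem mem_range_lamG2_iff (i : ℕ) (u : filt2 R n M (i + 1)) :
    (Submodule.Quotient.mk u : G2 R n M (i + 1)) ∈ LinearMap.range (lamG2 R n M i) ↔
      ∃ b : M, b ∈ filt2 R n M (i + 2) ∧ (u : M) - z R n • b ∈ filt2 R n M i := by
  constructor
  · rintro ⟨x, hx⟩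
    obtain ⟨b, rfl⟩ := Submodule.Quotient.mk_surjective _ x
    refine ⟨b.1, b.2, ?_⟩
    have h1 : lamG2 R n M i (Submodule.Quotient.mk b) =
        Submodule.Quotient.mk (zDown R n M (i + 1) b) := rfl
    rw [h1, Submodule.Quotient.eq, Submodule.mem_comap] at hx
    have e : i + 1 - 1 = i := by omega
    rw [e] at hx
    have h2 : ((zDown R n M (i + 1) b - u : filt2 R n M (i + 1)) : M) = z R n • (b : M) - u := rfl
    change ((zDown R n M (i + 1) b - u : filt2 R n M (i + 1)) : M) ∈ filt2 R n M i at hx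
    rw [h2] at hx
    have := (filt2 R n M i).neg_mem hx
    rwa [neg_sub] at this
  · rintro ⟨b, hb, hub⟩
    refine ⟨Submodule.Quotient.mk ⟨b, hb⟩, ?_⟩
    have h1 : lamG2 R n M i (Submodule.Quotient.mk ⟨b, hb⟩) =
        Submodule.Quotient.mk (zDown R n M (i + 1) ⟨b, hb⟩) := rfl
    rw [h1, Submodule.Quotient.eq, Submodule.mem_comap]
    have e : i + 1 - 1 = i := by omega
    rw [e]
    change ((zDown R n M (i + 1) ⟨b, hb⟩ - u : filt2 R n M (i + 1)) : M) ∈ filt2 R n M i
    have h2 : ((zDown R n M (i + 1) ⟨b, hb⟩ - u : filt2 R n M (i + 1)) : M)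
        = z R n • b - u := rfl
    rw [h2]
    have := (filt2 R n M i).neg_mem hub
    rwa [neg_sub] at this

theorem isTorsionFree_Gam2_iff (i : ℕ) :
    Module.IsTorsionFree R (Gam2 R n M i) ↔ T2 R n M i := by
  unfold Gam2
  rw [isTorsionFree_quotient_iff]
  constructor
  · intro h r hr u hu hru
    have h1 := h r hr (Submodule.Quotient.mk ⟨u, hu⟩) (by
      rw [← Submodule.Quotient.mk_smul]
      exact (mem_range_lamG2_iff R n M i (r • ⟨u, hu⟩)).mpr hru)
    exact (mem_range_lamG2_iff R n M i ⟨u, hu⟩).mp h1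
  · intro h r hr x hx
    obtain ⟨u, rfl⟩ := Submodule.Quotient.mk_surjective _ x
    rw [← Submodule.Quotient.mk_smul] at hx
    have h1 := (mem_range_lamG2_iff R n M i (r • u)).mp hx
    exact (mem_range_lamG2_iff R n M i u).mpr (h r hr u.1 u.2 h1)

end

end Groth.Agent.H89

namespace Groth.Agent.H89

open MultCrv Polynomial

section

variable (R : Type*) [CommRing R] (n : ℕ) (M : Type*) [AddCommGroup M] [Module (Rn R n) M]
  [Module R M] [IsScalarTower R (Rn R n) M]

theorem T2_of_T1 (i : ℕ) (h : T1 R n M i) : T2 R n M i := by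
  intro r hr u hu hex
  obtain ⟨b, hb, hrub⟩ := hex
  have hρ : ∀ m : M, r • m = (algebraMap R (Rn R n) r) • m :=
    fun m => (algebraMap_smul (Rn R n) r m).symm
  rw [mem_filt2_iff] at hu hb hrub
  rw [hρ] at hrub
  have hv : z R n ^ i • u ∈ filt R n M i := (mem_filt_iff R n M i _).mpr ⟨u, rfl⟩
  have hrv : r • (z R n ^ i • u) ∈ filt R n M (i + 1) := by
    rw [mem_filt_iff]
    refine ⟨b, ?_⟩
    rw [hρ]
    linear_combination (norm := module) (-1 : Rn R n) • hrub
  have h1 := h r hr _ hv hrv
  rw [mem_filt_iff] at h1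
  obtain ⟨w, hw⟩ := h1
  refine ⟨w, ?_, ?_⟩
  · rw [mem_filt2_iff]
    linear_combination (norm := module) z R n • hw + hu
  · rw [mem_filt2_iff]
    linear_combination (norm := module) (-1 : Rn R n) • hw

theorem T1_of_T2_of_T1_succ (i : ℕ) (h2 : T2 R n M i) (h1 : T1 R n M (i + 1)) : T1 R n M i := by
  intro r hr v hv hrv
  have hρ : ∀ m : M, r • m = (algebraMap R (Rn R n) r) • m :=
    fun m => (algebraMap_smul (Rn R n) r m).symm
  rw [mem_filt_iff] at hv hrv
  obtain ⟨m, hm⟩ := hv
  obtain ⟨w, hw⟩ := hrv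
  rw [hρ] at hw
  -- z • v ∈ z^(i+2) M
  have hzv : z R n • v ∈ filt R n M (i + 1) := by
    rw [mem_filt_iff]
    exact ⟨m, by linear_combination (norm := module) z R n • hm⟩
  have hrzv : r • (z R n • v) ∈ filt R n M (i + 1 + 1) := by
    rw [mem_filt_iff]
    refine ⟨w, ?_⟩
    rw [hρ]
    linear_combination (norm := module) z R n • hw
  have h3 := h1 r hr _ hzv hrzv
  rw [mem_filt_iff] at h3
  obtain ⟨w', hw'⟩ := h3
  -- u = m - z w'
  have hu : m - z R n • w' ∈ filt2 R n M (i + 1) := by
    rw [mem_filt2_iff]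
    linear_combination (norm := module) z R n • hm - hw'
  have hex : ∃ b : M, b ∈ filt2 R n M (i + 2) ∧
      r • (m - z R n • w') - z R n • b ∈ filt2 R n M i := by
    refine ⟨w - r • w', ?_, ?_⟩
    · rw [mem_filt2_iff, hρ]
      linear_combination (norm := module) z R n • hw - (algebraMap R (Rn R n) r) • hw'
    · rw [mem_filt2_iff, hρ, hρ]
      linear_combination (norm := module) (algebraMap R (Rn R n) r) • hm - hw
  obtain ⟨b₂, hb₂, hub₂⟩ := h2 r hr _ hu hex
  rw [mem_filt2_iff] at hub₂
  rw [mem_filt_iff]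
  refine ⟨b₂ + w', ?_⟩
  linear_combination (norm := module) hm - hub₂

theorem T1_of_le (i : ℕ) (hi : n ≤ i) : T1 R n M i := by
  intro r _ v hv _
  rw [mem_filt_iff] at hv
  obtain ⟨m, rfl⟩ := hv
  have h0 : z R n ^ i • m = 0 := by
    rw [z_pow_eq_zero R n i hi]
    exact zero_smul (Rn R n) m
  rw [h0]
  exact Submodule.zero_mem _

theorem forall_T1_iff_forall_T2 :
    (∀ i : ℕ, i < n → T1 R n M i) ↔ (∀ i : ℕ, i < n → T2 R n M i) := by
  constructor
  · intro h i hi
    exact T2_of_T1 R n M i (h i hi)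
  · intro h
    have key : ∀ k : ℕ, ∀ i : ℕ, i + k = n → T1 R n M i := by
      intro k
      induction k with
      | zero =>
        intro i hi
        exact T1_of_le R n M i (by omega)
      | succ k ih =>
        intro i hi
        exact T1_of_T2_of_T1_succ R n M i (h i (by omega)) (ih (i + 1) (by omega))
    intro i hi
    exact key (n - i) i (by omega)

end

end Groth.Agent.H89

namespace Groth.Agent.H89

open MultCrv Polynomial

theorem finite_quotient' {R A P : Type*} [CommRing R] [Ring A]
    [SMul R A] [AddCommGroup P] [Module A P] [Module R P] [IsScalarTower R A P]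
    [Module.Finite R P] (Q : Submodule A P) : Module.Finite R (P ⧸ Q) :=
  Module.Finite.of_surjective (Q.mkQ.restrictScalars R) (Submodule.mkQ_surjective Q)

theorem free_G1_iff_free_Gam2 (R : Type u) [CommRing R] [IsDomain R] [IsDiscreteValuationRing R]
    (n : ℕ) (M : Type u) [AddCommGroup M] [Module (Rn R n) M] [Module R M]
    [IsScalarTower R (Rn R n) M] [Module.Finite (Rn R n) M] :
    (∀ i : ℕ, i < n → Module.Free R (G1 R n M i)) ↔
      (∀ i : ℕ, i < n → Module.Free R (Gam2 R n M i)) := by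
  have hfin : Module.Finite R M := finite_of_finite_Rn R n M
  have hfinG1 : ∀ i, Module.Finite R (G1 R n M i) := by
    intro i
    have : Module.Finite R (filt R n M i) := finite_submodule' _
    exact finite_quotient' _
  have hfinGam : ∀ i, Module.Finite R (Gam2 R n M i) := by
    intro i
    have : Module.Finite R (filt2 R n M (i + 1)) := finite_submodule' _
    have : Module.Finite R (G2 R n M (i + 1)) := finite_quotient' _
    exact finite_quotient' _
  have h1 : ∀ i, Module.Free R (G1 R n M i) ↔ T1 R n M i := by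
    intro i
    have := hfinG1 i
    rw [Module.free_iff_isTorsionFree, isTorsionFree_G1_iff]
  have h2 : ∀ i, Module.Free R (Gam2 R n M i) ↔ T2 R n M i := by
    intro i
    have := hfinGam i
    rw [Module.free_iff_isTorsionFree, isTorsionFree_Gam2_iff]
  simp only [h1, h2]
  exact forall_T1_iff_forall_T2 R n M

end Groth.Agent.H89
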