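import Groth.Prelude.Def_W4c5qllcourbesmultMultCrv
import Mathlib
import Groth.Agent.H89.MultCrvBasic
import Groth.Agent.H89.MultCrvDual
import Groth.Agent.H89.MultCrvExt

set_option autoImplicit false
universe u

namespace Groth.Agent.H89

open MultCrv Polynomial

section

variable {R : Type*} [CommRing R] {n : ℕ} {N : Type*} [AddCommGroup N] [Module (Rn R n) N]
  [Module R N] [IsScalarTower R (Rn R n) N]

/-- `frob` is additive and `R`-homogeneous in the form. -/
theorem frob_add (hn : 1 ≤ n) (l l' : N →ₗ[R] R) : frob hn (l + l') = frob hn l + frob hn l' := by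
  ext m
  rw [LinearMap.add_apply, frob_apply, frob_apply, frob_apply, ← Finset.sum_add_distrib]
  refine Finset.sum_congr rfl (fun i _ => ?_)
  rw [LinearMap.add_apply, add_smul]

theorem frob_smul (hn : 1 ≤ n) (r : R) (l : N →ₗ[R] R) : frob hn (r • l) = r • frob hn l := by
  ext m
  rw [LinearMap.smul_apply, frob_apply, frob_apply, Finset.smul_sum]
  refine Finset.sum_congr rfl (fun i _ => ?_)
  rw [LinearMap.smul_apply, smul_eq_mul, mul_smul]

/-- `frob` as an `R`-linear map from `R`-forms to `A`-forms. -/
noncomputable def frobₗ (hn : 1 ≤ n) : (N →ₗ[R] R) →ₗ[R] (N →ₗ[Rn R n] Rn R n) where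
  toFun := frob hn
  map_add' := frob_add hn
  map_smul' := frob_smul hn

/-- Two `A`-linear forms with the same top coefficient agree. -/
theorem eq_of_cf_top_eq (hn : 1 ≤ n) (φ φ' : N →ₗ[Rn R n] Rn R n)
    (h : ∀ m, cf R n (n - 1) (φ m) = cf R n (n - 1) (φ' m)) : φ = φ' := by
  rw [← frob_cf_top_comp hn φ, ← frob_cf_top_comp hn φ']
  congr 1
  ext m
  exact h m

end

/-- Torsion-free finitely generated modules over `R[X]/(X^n)` are reflexive. -/
theorem isReflexive_of_isTorsionFree (R : Type u) [CommRing R] [IsDomain R]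
    [IsDiscreteValuationRing R] (n : ℕ) (hn : 1 ≤ n)
    (M : Type u) [AddCommGroup M] [Module (Rn R n) M] [Module R M]
    [IsScalarTower R (Rn R n) M] [Module.Finite (Rn R n) M] [Module.IsTorsionFree R M] :
    Module.IsReflexive (Rn R n) M := by
  have hfin : Module.Finite R M := finite_of_finite_Rn R n M
  have hfree : Module.Free R M := Module.free_of_finite_type_torsion_free'
  have hrefl : Module.IsReflexive R M := inferInstance
  have hbij := Module.bijective_dual_eval R M
  refine ⟨⟨?_, ?_⟩⟩
  · -- injective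
    rw [injective_iff_map_eq_zero]
    intro m hm
    by_contra hne
    have h1 : Module.Dual.eval R M m ≠ 0 := by
      intro h0
      exact hne ((injective_iff_map_eq_zero _).mp hbij.1 m h0)
    obtain ⟨l, hl⟩ : ∃ l : Module.Dual R M, l m ≠ 0 := by
      by_contra hcon
      apply h1
      ext l
      by_contra h2
      exact hcon ⟨l, h2⟩
    apply hl
    have h3 : Module.Dual.eval (Rn R n) M m (frob hn l) = 0 := by rw [hm]; rfl
    rw [Module.Dual.eval_apply] at h3
    rw [← cf_top_frob hn l m, h3, map_zero]
  · -- surjective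
    intro ξ
    let Ξ : Module.Dual R (Module.Dual R M) :=
      (cf R n (n - 1)) ∘ₗ (ξ.restrictScalars R) ∘ₗ (frobₗ (N := M) hn)
    obtain ⟨m, hm⟩ := hbij.2 Ξ
    refine ⟨m, ?_⟩
    apply eq_of_cf_top_eq hn
    intro φ
    rw [Module.Dual.eval_apply]
    have h1 := LinearMap.congr_fun hm ((cf R n (n - 1)) ∘ₗ (φ.restrictScalars R))
    rw [Module.Dual.eval_apply] at h1
    change cf R n (n - 1) (φ m) = cf R n (n - 1) (ξ (frob hn _)) at h1
    rw [frob_cf_top_comp] at h1
    exact h1

/-- The `A`-dual of any module is `R`-torsion-free. -/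
theorem isTorsionFree_dual (R : Type*) [CommRing R] [IsDomain R] (n : ℕ)
    (N : Type*) [AddCommGroup N] [Module (Rn R n) N] :
    Module.IsTorsionFree R (Module.Dual (Rn R n) N) := by
  have := isTorsionFree_Rn R n
  rw [Module.isTorsionFree_iff_smul_eq_zero]
  intro r φ hrφ
  by_cases hr : r = 0
  · exact Or.inl hr
  · right
    ext m
    have h1 : r • φ m = 0 := by
      rw [← LinearMap.smul_apply, hrφ, LinearMap.zero_apply]
    exact ((Module.isTorsionFree_iff_smul_eq_zero.mp inferInstance) r (φ m) h1).resolve_left hr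

/-- Reflexive modules over `R[X]/(X^n)` are `R`-torsion-free. -/
theorem isTorsionFree_of_isReflexive (R : Type u) [CommRing R] [IsDomain R] (n : ℕ)
    (M : Type u) [AddCommGroup M] [Module (Rn R n) M] [Module R M]
    [IsScalarTower R (Rn R n) M] [Module.IsReflexive (Rn R n) M] :
    Module.IsTorsionFree R M := by
  have := isTorsionFree_dual R n (Module.Dual (Rn R n) M)
  refine Function.Injective.moduleIsTorsionFree (R := R)
    (N := Module.Dual (Rn R n) (Module.Dual (Rn R n) M)) (Module.Dual.eval (Rn R n) M)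
    (Module.bijective_dual_eval (Rn R n) M).1 ?_
  intro c m
  exact LinearMap.map_smul_of_tower (Module.Dual.eval (Rn R n) M) c m

end Groth.Agent.H89
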