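import Mathlib
import Groth.Prelude.Def_W4c5algebraiztannakaNis

/-!
# Nisnevich covers of bounded length: helper lemmas (helper89)

* `isCompact_of_isConstructible`: constructible subsets of a compact space are compact.
* `isConstructible_image_of_isCompact_isOpen`: image of a compact open under an embedding with
  constructible range into a prespectral quasi-separated space is constructible.
* `isNisCoverLen_iff_nat`: `ℕ`-indexed reformulation of `IsNisCoverLen`.
-/

set_option autoImplicit false

open CategoryTheory AlgebraicGeometry Topology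

universe u

namespace Groth.Agent.H89.NisCover

section Top

variable {X Y : Type*} [TopologicalSpace X] [TopologicalSpace Y]

/-- Constructible subsets of a compact space are compact. -/
theorem isCompact_of_isConstructible [CompactSpace X] {s : Set X} (hs : IsConstructible s) :
    IsCompact s := by
  induction s, hs using BooleanSubalgebra.closure_sdiff_sup_induction with
  | isSublattice =>
    exact ⟨fun s hs t ht ↦ ⟨hs.1.union ht.1, hs.2.union ht.2⟩,
      fun s hs t ht ↦ ⟨hs.1.inter ht.1, hs.2.inter_isOpen ht.2 ht.1⟩⟩
  | bot_mem => exact ⟨isOpen_empty, .empty⟩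
  | top_mem => exact ⟨isOpen_univ, .univ⟩
  | sdiff U hU V hV => exact hU.2.isCompact.diff hV.1
  | sup s _ t _ hs' ht' => exact hs'.union ht'

/-- The image of a compact open set under an embedding with constructible range into a
prespectral quasi-separated space is constructible. -/
theorem isConstructible_image_of_isCompact_isOpen [PrespectralSpace Y] [QuasiSeparatedSpace Y]
    {i : X → Y} (hi : IsEmbedding i) (hr : IsConstructible (Set.range i))
    {O : Set X} (hOc : IsCompact O) (hOo : IsOpen O) : IsConstructible (i '' O) := by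
  obtain ⟨O', hO'o, rfl⟩ := hi.isInducing.isOpen_iff.mp hOo
  have hsub : i '' (i ⁻¹' O') ⊆ O' := Set.image_preimage_subset _ _
  obtain ⟨W, hWc, hWo, hKW, hWO'⟩ :=
    PrespectralSpace.exists_isCompact_and_isOpen_between (hOc.image hi.continuous) hO'o hsub
  have : i '' (i ⁻¹' O') = Set.range i ∩ W := by
    ext y
    constructor
    · rintro ⟨x, hx, rfl⟩
      exact ⟨⟨x, rfl⟩, hKW ⟨x, hx, rfl⟩⟩
    · rintro ⟨⟨x, rfl⟩, hxW⟩
      exact ⟨x, hWO' hxW, rfl⟩
  rw [this]
  exact hr.inter (hWc.isConstructible hWo)

/-- For an embedding `i : X → Y` with constructible range into a compact prespectral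
quasi-separated space and a continuous map `t : X → Z` pulling compact opens back to compact
sets, the set `i '' (t ⁻¹' s)` is constructible for every constructible `s`. -/
theorem isConstructible_image_preimage {Z : Type*} [TopologicalSpace Z] [CompactSpace Z]
    [PrespectralSpace Y] [QuasiSeparatedSpace Y]
    {i : X → Y} (hi : IsEmbedding i) (hr : IsConstructible (Set.range i))
    {t : X → Z} (ht : Continuous t)
    (htc : ∀ U : Set Z, IsOpen U → IsCompact U → IsCompact (t ⁻¹' U))
    {s : Set Z} (hs : IsConstructible s) : IsConstructible (i '' (t ⁻¹' s)) := by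
  induction hs using IsConstructible.empty_union_induction with
  | open_retrocompact U hUopen hUcomp =>
    exact isConstructible_image_of_isCompact_isOpen hi hr (htc U hUopen hUcomp.isCompact)
      (hUopen.preimage ht)
  | union s hs t' ht' hs' ht'' =>
    rw [Set.preimage_union, Set.image_union]
    exact hs'.union ht''
  | compl s hs hs' =>
    rw [Set.preimage_compl, Set.image_compl_eq_range_sdiff_image hi.injective]
    exact hr.sdiff hs'

/-- If `C ⊆ Y` is closed, `C'` is closed, `i` is an embedding with range `C' \ C`
and `E` is closed in the source, then `C ∪ i '' E` is closed. -/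
theorem isClosed_union_image {i : X → Y} (hi : IsEmbedding i) {C C' : Set Y}
    (hC : IsClosed C) (hC' : IsClosed C') (hr : Set.range i = C' \ C)
    {E : Set X} (hE : IsClosed E) : IsClosed (C ∪ i '' E) := by
  have h1 : i '' E = Set.range i ∩ closure (i '' E) := by
    ext y
    constructor
    · rintro ⟨x, hx, rfl⟩
      exact ⟨⟨x, rfl⟩, subset_closure ⟨x, hx, rfl⟩⟩
    · rintro ⟨⟨x, rfl⟩, hx⟩
      have : x ∈ closure E := by
        rw [hi.isInducing.closure_eq_preimage_closure_image]
        exact hx
      rw [hE.closure_eq] at this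
      exact ⟨x, this, rfl⟩
  have h2 : C ∪ i '' E = C ∪ (C' ∩ closure (i '' E)) := by
    conv_lhs => rw [h1, hr]
    ext y
    simp only [Set.mem_union, Set.mem_inter_iff, Set.mem_sdiff]
    constructor
    · rintro (h | ⟨⟨h1, _⟩, h3⟩)
      · exact Or.inl h
      · exact Or.inr ⟨h1, h3⟩
    · rintro (h | ⟨h1, h3⟩)
      · exact Or.inl h
      · by_cases hy : y ∈ C
        · exact Or.inl hy
        · exact Or.inr ⟨⟨h1, hy⟩, h3⟩
  rw [h2]
  exact hC.union (hC'.inter isClosed_closure)

end Top

section Nat

open W4c5algebraiztannaka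

variable {U Y : Scheme.{u}}

/-- `ℕ`-indexed reformulation of `IsNisCoverLen`. -/
theorem isNisCoverLen_iff_nat (f : U ⟶ Y) (m : ℕ) :
    IsNisCoverLen f m ↔ Etale f ∧ ∃ Z : ℕ → Set Y,
      Z 0 = ∅ ∧ Z m = Set.univ ∧ (∀ a, Z a ⊆ Z (a + 1)) ∧
      (∀ a, IsClosed (Z a) ∧ IsConstructible (Z a)) ∧
      ∀ a, a < m → HasSectOver f (Z (a + 1) \ Z a) := by
  constructor
  · rintro ⟨hE, Z, hZ0, hZm, hmono, hcc, hsect⟩
    refine ⟨hE, fun a => Z ⟨min a m, by omega⟩, ?_, ?_, ?_, ?_, ?_⟩
    · simpa using hZ0
    · simpa [Fin.last] using hZm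
    · intro a
      apply hmono
      simp only [Fin.mk_le_mk]
      omega
    · intro a
      exact hcc _
    · intro a ha
      have := hsect ⟨a, ha⟩
      have e1 : (⟨min (a + 1) m, by omega⟩ : Fin (m + 1)) = (⟨a, ha⟩ : Fin m).succ := by
        ext; simp; omega
      have e2 : (⟨min a m, by omega⟩ : Fin (m + 1)) = (⟨a, ha⟩ : Fin m).castSucc := by
        ext; simp; omega
      simp only [e1, e2]
      exact this
  · rintro ⟨hE, Z, hZ0, hZm, hstep, hcc, hsect⟩
    refine ⟨hE, fun k => Z k, ?_, ?_, ?_, ?_, ?_⟩
    · simpa using hZ0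
    · simpa using hZm
    · have : Monotone Z := monotone_nat_of_le_succ hstep
      intro a b hab
      exact this (by exact_mod_cast hab)
    · intro k
      exact hcc _
    · intro k
      simpa using hsect k k.2

end Nat

end Groth.Agent.H89.NisCover
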