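import Mathlib
import Groth.Agent.H44.AffineFree
import Groth.Agent.H44.PullbackTilde

/-!
# Pullbacks of free modules, and generators after pulling back to an affine scheme (helper89)

* `final_opensMap`: `Opens.map f` is a final functor.
* `pullbackFreeIso`, `pullbackFreeModIso`: pullback of a free module is free.
* `exists_span_of_epi_pullback`: if `f : U ⟶ Spec R`, `t : Spec S ⟶ U` with `t ≫ f = Spec ψ`
  and `O_U^N ⟶ f^* M~` is an epimorphism then `S ⊗_R M` is generated by `N` elements.
-/

set_option autoImplicit false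
universe u
open CategoryTheory Limits AlgebraicGeometry TopologicalSpace Opposite

namespace Groth.Agent.H89.PullFree

instance final_opensMap {X Y : TopCat.{u}} (f : X ⟶ Y) : (Opens.map f).Final := by
  apply Functor.final_of_exists_of_isFiltered
  · intro V
    exact ⟨⊤, ⟨homOfLE (by intro x _; trivial)⟩⟩
  · intro V U s s'
    exact ⟨U, 𝟙 _, Subsingleton.elim _ _⟩

section
variable {X Y : Scheme.{u}} (f : X ⟶ Y)

set_option backward.isDefEq.respectTransparency.types false in
/-- The pullback of a free sheaf of modules is free. -/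
noncomputable def pullbackFreeIso (I : Type u) :
    (Scheme.Modules.pullback f).obj (SheafOfModules.free (R := Y.ringCatSheaf) I) ≅
      SheafOfModules.free (R := X.ringCatSheaf) I :=
  SheafOfModules.pullbackObjFreeIso f.toRingCatSheafHom I

/-- The pullback of the prelude's free module of rank `n` is free of rank `n`. -/
noncomputable def pullbackFreeModIso (n : ℕ) :
    (Scheme.Modules.pullback f).obj (FlatMod.freeMod Y n) ≅ FlatMod.freeMod X n :=
  (Scheme.Modules.pullback f).mapIso (Groth.Agent.H44.freeModIsoFree Y n) ≪≫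
    pullbackFreeIso f _ ≪≫ (Groth.Agent.H44.freeModIsoFree X n).symm

end

set_option backward.isDefEq.respectTransparency false in
/-- If `O_U^N ⟶ f^* M~` is an epimorphism, `f : U ⟶ Spec R`, and `t : Spec S ⟶ U` satisfies
`t ≫ f = Spec ψ`, then the base change of `M` along `ψ` is generated by `N` elements. -/
theorem exists_span_of_epi_pullback {R S : CommRingCat.{u}} {U : Scheme.{u}} (f : U ⟶ Spec R)
    (t : Spec S ⟶ U) (ψ : R ⟶ S) (h : t ≫ f = Spec.map ψ) (M : ModuleCat.{u} R) (N : ℕ)
    (φ : FlatMod.freeMod U N ⟶ (Scheme.Modules.pullback f).obj (tilde M)) [Epi φ] :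
    ∃ x : Fin N → ((ModuleCat.extendScalars ψ.hom).obj M : Type u),
      Submodule.span S (Set.range x) = ⊤ := by
  let e1 : (Scheme.Modules.pullback t).obj ((Scheme.Modules.pullback f).obj (tilde M)) ≅
      (Scheme.Modules.pullback (t ≫ f)).obj (tilde M) :=
    (Scheme.Modules.pullbackComp t f).app (tilde M)
  let e2 : (Scheme.Modules.pullback (t ≫ f)).obj (tilde M) ≅
      (Scheme.Modules.pullback (Spec.map ψ)).obj (tilde M) :=
    (Scheme.Modules.pullbackCongr h).app (tilde M)
  let e3 : (Scheme.Modules.pullback (Spec.map ψ)).obj (tilde M) ≅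
      tilde ((ModuleCat.extendScalars ψ.hom).obj M) :=
    (Groth.Agent.H44.pullbackTildeIso ψ).app M
  let π : SheafOfModules.free (R := (Spec S).ringCatSheaf) (ULift.{u} (Fin N)) ⟶
      tilde ((ModuleCat.extendScalars ψ.hom).obj M) :=
    (pullbackFreeIso t _).inv ≫
      (Scheme.Modules.pullback t).map ((Groth.Agent.H44.freeModIsoFree U N).inv ≫ φ) ≫
        e1.hom ≫ e2.hom ≫ e3.hom
  have h0 : Epi ((Groth.Agent.H44.freeModIsoFree U N).inv ≫ φ) := epi_comp _ _
  have h1 : Epi ((Scheme.Modules.pullback t).map ((Groth.Agent.H44.freeModIsoFree U N).inv ≫ φ)) :=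
    inferInstance
  have hπ : Epi π := by
    have h2 : Epi (e1.hom ≫ e2.hom ≫ e3.hom) := inferInstance
    have h3 : Epi ((Scheme.Modules.pullback t).map
        ((Groth.Agent.H44.freeModIsoFree U N).inv ≫ φ) ≫ e1.hom ≫ e2.hom ≫ e3.hom) :=
      epi_comp _ _
    exact epi_comp _ _
  obtain ⟨x, hx⟩ := Groth.Agent.H44.exists_span_eq_top_of_epi_free
    (tilde ((ModuleCat.extendScalars ψ.hom).obj M)) π
  let e4 := (tilde.toTildeΓNatIso.app ((ModuleCat.extendScalars ψ.hom).obj M)).symm.toLinearEquiv
  exact ⟨fun i => e4 (x ⟨i⟩),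
    Groth.Agent.H44.span_range_comp_equiv e4 Equiv.ulift.symm x hx⟩

end Groth.Agent.H89.PullFree
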