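import Mathlib
import Groth.Agent.H89.NisCover
import Groth.Agent.H89.PullFree

/-!
# Generators of a module from generators after a Nisnevich cover of bounded length (helper89)

* `exists_section_over_closed`: a section over a locally closed stratum restricts to a section
  over an affine closed subscheme supported on a given closed subset of the stratum.
* `exists_lift_generators`: lifting generators along a surjective ring map, with Nakayama.
* `exists_generators_of_strata`: the induction on strata.
-/

set_option autoImplicit false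
universe u
open CategoryTheory Limits AlgebraicGeometry TopologicalSpace Opposite TensorProduct

namespace Groth.Agent.H89.NisGen

/-- Given an immersion `g : T ⟶ Spec R` and a closed subset `C` of `Spec R` contained in the range
of `g`, there is a quotient `ψ : R → S` and a morphism `Spec S ⟶ T` over `Spec R` whose image
contains `C`. -/
theorem exists_section_over_closed {R : CommRingCat.{u}} {T : Scheme.{u}} (g : T ⟶ Spec R)
    [IsImmersion g] (C : Set (PrimeSpectrum R)) (hC : IsClosed C)
    (hCg : ∀ p ∈ C, ∃ x : T, g x = p) :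
    ∃ (S : CommRingCat.{u}) (ψ : R ⟶ S) (t : Spec S ⟶ T),
      Function.Surjective ψ.hom ∧ t ≫ g = Spec.map ψ ∧
      ∀ p ∈ C, RingHom.ker ψ.hom ≤ p.asIdeal := by
  let J0 : Ideal R := PrimeSpectrum.vanishingIdeal C
  let i0 : Spec (CommRingCat.of (R ⧸ J0)) ⟶ Spec R :=
    Spec.map (CommRingCat.ofHom (Ideal.Quotient.mk J0))
  have hi0 : ∀ y : Spec (CommRingCat.of (R ⧸ J0)), (i0 y : PrimeSpectrum R) ∈ C := by
    intro y
    have h1 : (i0 y : PrimeSpectrum R) ∈ PrimeSpectrum.zeroLocus (J0 : Set R) := by
      intro a ha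
      change a ∈ ((i0 y : PrimeSpectrum R)).asIdeal
      change Ideal.Quotient.mk J0 a ∈ (y : PrimeSpectrum _).asIdeal
      rw [Ideal.Quotient.eq_zero_iff_mem.mpr ha]
      exact Ideal.zero_mem _
    rw [PrimeSpectrum.zeroLocus_vanishingIdeal_eq_closure, hC.closure_eq] at h1
    exact h1
  let q := pullback.snd g i0
  have hq : Function.Surjective q := by
    intro y
    obtain ⟨x, hx⟩ := hCg _ (hi0 y)
    obtain ⟨z, -, hz⟩ := Scheme.Pullback.exists_preimage_pullback (f := g) (g := i0) x y hx
    exact ⟨z, hz⟩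
  have hqc : IsClosedImmersion q := by
    apply IsClosedImmersion.of_isPreimmersion
    rw [Set.range_eq_univ.mpr hq]
    exact isClosed_univ
  obtain ⟨I, e, he⟩ := IsClosedImmersion.Spec_iff.mp hqc
  let S : CommRingCat.{u} := CommRingCat.of ((R ⧸ J0) ⧸ I)
  let ψ : R ⟶ S :=
    CommRingCat.ofHom (Ideal.Quotient.mk J0) ≫ CommRingCat.ofHom (Ideal.Quotient.mk I)
  refine ⟨S, ψ, e.inv ≫ pullback.fst g i0, ?_, ?_, ?_⟩
  · exact (Ideal.Quotient.mk_surjective).comp Ideal.Quotient.mk_surjective
  · rw [Category.assoc, pullback.condition]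
    change e.inv ≫ q ≫ i0 = _
    rw [he, Category.assoc, Iso.inv_hom_id_assoc, ← Spec.map_comp]
  · intro p hp a ha
    have hJ0 : p ∈ PrimeSpectrum.zeroLocus (J0 : Set R) := by
      rw [PrimeSpectrum.zeroLocus_vanishingIdeal_eq_closure]
      exact subset_closure hp
    have hr := _root_.range_comap_of_surjective _ (Ideal.Quotient.mk J0)
      Ideal.Quotient.mk_surjective
    rw [Ideal.mk_ker] at hr
    rw [← hr] at hJ0
    obtain ⟨p', hp'⟩ := hJ0
    obtain ⟨z, hz⟩ := hq p'
    have hI : I ≤ p'.asIdeal := by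
      intro b hb
      have h2 : q z = (Spec.map (CommRingCat.ofHom (Ideal.Quotient.mk I))) (e.hom z) := by
        rw [he]; rfl
      have h3 : p' = (Spec.map (CommRingCat.ofHom (Ideal.Quotient.mk I))) (e.hom z) := by
        rw [← h2, hz]
      rw [h3]
      change Ideal.Quotient.mk I b ∈ ((e.hom z : PrimeSpectrum _)).asIdeal
      rw [Ideal.Quotient.eq_zero_iff_mem.mpr hb]
      exact Ideal.zero_mem _
    have h4 : Ideal.Quotient.mk J0 a ∈ I := by
      have : Ideal.Quotient.mk I (Ideal.Quotient.mk J0 a) = 0 := ha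
      exact Ideal.Quotient.eq_zero_iff_mem.mp this
    have h5 := hI h4
    rw [← hp']
    exact h5

/-- If `R → S` is surjective and `S ⊗ M` is generated over `S` by `N` elements, then there are `N`
elements of `M` and `r ≡ 1` modulo the kernel killing the quotient of `M` by their span. -/
theorem exists_lift_generators {R S : Type u} [CommRing R] [CommRing S] [Algebra R S]
    (hs : Function.Surjective (algebraMap R S)) (M : Type u) [AddCommGroup M] [Module R M]
    [Module.Finite R M] (N : ℕ) (x : Fin N → S ⊗[R] M) (hx : Submodule.span S (Set.range x) = ⊤) :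
    ∃ (y : Fin N → M) (r : R), r - 1 ∈ RingHom.ker (algebraMap R S) ∧
      ∀ m : M ⧸ Submodule.span R (Set.range y), r • m = 0 := by
  have hmk := TensorProduct.mk_surjective R M S hs
  choose y hy using fun i => hmk (x i)
  refine ⟨y, ?_⟩
  set P := Submodule.span R (Set.range y) with hP
  let M' := M ⧸ P
  let F : S ⊗[R] M →ₗ[S] S ⊗[R] M' := LinearMap.baseChange S P.mkQ
  have hF0 : F = 0 := by
    have h1 : Submodule.span S (Set.range x) ≤ LinearMap.ker F := by
      rw [Submodule.span_le]
      rintro _ ⟨i, rfl⟩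
      rw [SetLike.mem_coe, LinearMap.mem_ker, ← hy i]
      change F ((1 : S) ⊗ₜ[R] y i) = 0
      rw [LinearMap.baseChange_tmul]
      have : P.mkQ (y i) = 0 := by
        rw [Submodule.mkQ_apply, Submodule.Quotient.mk_eq_zero]
        exact Submodule.subset_span ⟨i, rfl⟩
      rw [this, TensorProduct.tmul_zero]
    rw [hx, top_le_iff] at h1
    exact LinearMap.ker_eq_top.mp h1
  have hsub : Subsingleton (S ⊗[R] M') := by
    refine ⟨fun a b => ?_⟩
    have hsurj : Function.Surjective F :=
      LinearMap.lTensor_surjective S (Submodule.mkQ_surjective P)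
    obtain ⟨a', rfl⟩ := hsurj a
    obtain ⟨b', rfl⟩ := hsurj b
    rw [hF0]; rfl
  set K := RingHom.ker (algebraMap R S) with hK
  have e0 : (R ⧸ K) ≃ₐ[R] S :=
    Ideal.quotientKerAlgEquivOfSurjective (f := Algebra.ofId R S) hs
  have e1 : (R ⧸ K) ⊗[R] M' ≃ₗ[R] S ⊗[R] M' := LinearEquiv.rTensor M' e0.toLinearEquiv
  have e2 := TensorProduct.quotTensorEquivQuotSMul M' K
  have hsub2 : Subsingleton (M' ⧸ (K • ⊤ : Submodule R M')) :=
    (e2.symm.trans e1).toEquiv.subsingleton
  have htop : (K • ⊤ : Submodule R M') = ⊤ := Submodule.Quotient.subsingleton_iff.mp hsub2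
  have hfg : (⊤ : Submodule R M').FG := Module.finite_def.mp inferInstance
  obtain ⟨r, hr, hr0⟩ := Submodule.exists_sub_one_mem_and_smul_eq_zero_of_fg_of_le_smul K
    (⊤ : Submodule R M') hfg (by rw [htop])
  exact ⟨r, hr, fun m => hr0 m Submodule.mem_top⟩

/-- Concatenating two finite families. -/
theorem exists_fin_range_union {M : Type*} {p q n : ℕ} (a : Fin p → M) (b : Fin q → M)
    (h : n = p + q) : ∃ s : Fin n → M, Set.range s = Set.range a ∪ Set.range b := by
  subst h
  exact ⟨Sum.elim a b ∘ finSumFinEquiv.symm, by rw [EquivLike.range_comp, Set.Sum.elim_range]⟩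

end Groth.Agent.H89.NisGen
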