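import Mathlib
import Groth.Agent.H89.NisGen

/-!
# Induction on the strata of a Nisnevich cover of bounded length (helper89)
-/

set_option autoImplicit false
universe u
open CategoryTheory Limits AlgebraicGeometry TopologicalSpace Opposite TensorProduct
open W4c5algebraiztannaka

namespace Groth.Agent.H89.NisGen2

open Groth.Agent.H89.NisGen

set_option backward.isDefEq.respectTransparency false in
theorem exists_generators_of_strata {R : CommRingCat.{u}} {U : Scheme.{u}} (f : U ⟶ Spec R)
    (N m : ℕ) (Z : ℕ → Set (Spec R)) (hZm : Z m = Set.univ)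
    (hcl : ∀ a, IsClosed (Z a))
    (hsect : ∀ a, a < m → HasSectOver f (Z (a + 1) \ Z a)) :
    ∀ (d k : ℕ), k + d = m → ∀ (M : ModuleCat.{u} R) [Module.Finite R M],
      (∃ φ : FlatMod.freeMod U N ⟶ (Scheme.Modules.pullback f).obj (tilde M), Epi φ) →
      (∀ p : PrimeSpectrum R, p ∈ Z k → p ∉ Module.support R M) →
      ∃ s : Fin (N * d) → M, Submodule.span R (Set.range s) = ⊤ := by
  intro d
  induction d with
  | zero =>
    intro k hk M _ _ hsupp
    have hk' : k = m := by omega
    subst hk'
    have h0 : Module.support R M = ∅ := by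
      ext p
      simp only [Set.mem_empty_iff_false, iff_false]
      exact hsupp p (by rw [hZm]; trivial)
    have hsub : Subsingleton M := Module.support_eq_empty_iff.mp h0
    refine ⟨fun _ => 0, ?_⟩
    rw [eq_top_iff]
    intro x _
    rw [Subsingleton.elim x 0]
    exact Submodule.zero_mem _
  | succ d ih =>
    intro k hk M hfin hφ hsupp
    obtain ⟨φ, hφe⟩ := hφ
    have hkm : k < m := by omega
    obtain ⟨T, g, s, hg, hrange, hsf⟩ := hsect k hkm
    let C : Set (PrimeSpectrum R) := Module.support R M ∩ Z (k + 1)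
    have hCcl : IsClosed C := Module.isClosed_support.inter (hcl (k + 1))
    have hCg : ∀ p ∈ C, ∃ x : T, g x = p := by
      intro p hp
      have : p ∈ Z (k + 1) \ Z k := ⟨hp.2, fun h => hsupp p h hp.1⟩
      rw [← hrange] at this
      exact this
    obtain ⟨S, ψ, t, hψ, ht, hker⟩ := exists_section_over_closed g C hCcl hCg
    have htf : (t ≫ s) ≫ f = Spec.map ψ := by rw [Category.assoc, hsf, ht]
    obtain ⟨x, hx⟩ := Groth.Agent.H89.PullFree.exists_span_of_epi_pullback f (t ≫ s) ψ htf M N φ
    let alg : Algebra R S := ψ.hom.toAlgebra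
    let e := Groth.Agent.H44.extendScalarsEquiv (A := R) (B := S) M
    have hx' : Submodule.span S (Set.range fun i => e (x i)) = ⊤ :=
      Groth.Agent.H44.span_range_comp_equiv e (Equiv.refl _) x hx
    obtain ⟨y, r, hr, hr0⟩ := exists_lift_generators (R := R) (S := S) hψ M N _ hx'
    set P := Submodule.span R (Set.range y) with hP
    let M' : ModuleCat.{u} R := ModuleCat.of R (M ⧸ P)
    have hfin' : Module.Finite R M' := Module.Finite.quotient R P
    let π : M ⟶ M' := ModuleCat.ofHom P.mkQ
    have hπ : Epi π := (ModuleCat.epi_iff_surjective π).mpr (Submodule.mkQ_surjective P)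
    have hπ2 : Epi ((tilde.functor R).map π) := inferInstance
    have hπ3 : Epi ((Scheme.Modules.pullback f).map ((tilde.functor R).map π)) := inferInstance
    have hφ' : ∃ φ' : FlatMod.freeMod U N ⟶ (Scheme.Modules.pullback f).obj (tilde M'), Epi φ' :=
      ⟨φ ≫ (Scheme.Modules.pullback f).map ((tilde.functor R).map π), epi_comp _ _⟩
    have hsupp' : ∀ p : PrimeSpectrum R, p ∈ Z (k + 1) → p ∉ Module.support R M' := by
      intro p hpZ hpM'
      by_cases hpM : p ∈ Module.support R M
      · have hkp : RingHom.ker ψ.hom ≤ p.asIdeal := hker p ⟨hpM, hpZ⟩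
        have hann : r ∈ Module.annihilator R M' := Module.mem_annihilator.mpr hr0
        have hrp : r ∈ p.asIdeal := (Module.mem_support_iff_of_finite.mp hpM') hann
        have h1 : (1 : R) ∈ p.asIdeal := by
          have := p.asIdeal.sub_mem hrp (hkp hr)
          simpa using this
        exact p.isPrime.ne_top ((Ideal.eq_top_iff_one _).mpr h1)
      · exact hpM (Module.support_subset_of_surjective P.mkQ (Submodule.mkQ_surjective P) hpM')
    obtain ⟨s', hs'⟩ := ih (k + 1) (by omega) M' hφ' hsupp'
    choose s'' hs'' using fun i => Submodule.mkQ_surjective P (s' i)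
    obtain ⟨σ, hσ⟩ := exists_fin_range_union s'' y (n := N * (d + 1)) (by ring)
    refine ⟨σ, ?_⟩
    rw [hσ, Submodule.span_union, ← hP, sup_comm, ← Submodule.map_mkQ_eq_top, Submodule.map_span,
      ← Set.range_comp]
    have : (⇑P.mkQ ∘ s'') = s' := funext hs''
    rw [this]
    exact hs'

end Groth.Agent.H89.NisGen2
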