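import Groth.Prelude.Def_W4c5normfunctorschNorm
import Mathlib

set_option autoImplicit false
universe u

open scoped TensorProduct

namespace Groth.Agent.H89

/-- Polynomial laws over a commutative ring are determined by their values on test algebras that
are rings. -/
theorem polyLaw_ext_ring {R : Type u} [CommRing R] {M N : Type u} [AddCommGroup M] [Module R M]
    [AddCommGroup N] [Module R N] (F G : M →ₚₗ[R] N)
    (h : ∀ (S : Type u) [CommRing S] [Algebra R S] (x : S ⊗[R] M), F.toFun' S x = G.toFun' S x) :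
    F = G := by
  apply PolynomialLaw.ext
  funext S _ _ t
  obtain ⟨n, ψ, p, rfl⟩ := PolynomialLaw.exists_lift t
  rw [← PolynomialLaw.isCompat_apply', ← PolynomialLaw.isCompat_apply', h]


theorem bcAlong_tmul {R : Type u} [CommRing R] {Q : Type u} [CommRing Q] [Algebra R Q]
    {X : Type u} [AddCommGroup X] [Module R X]
    {Y : Type u} [AddCommGroup Y] [Module R Y] [Module Q Y] [IsScalarTower R Q Y]
    (g : X →ₗ[R] Y) (P : Type u) [CommRing P] [Algebra R P] [Algebra Q P]
    [IsScalarTower R Q P] (p : P) (x : X) :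
    PolLaw.bcAlong g P (p ⊗ₜ[R] x) = p ⊗ₜ[Q] g x := by
  simp [PolLaw.bcAlong]

open PolLaw in
theorem normBC_key {R R' Q Q' : Type u} [CommRing R] [CommRing R'] [Algebra R R']
    [CommRing Q] [Algebra R Q] [CommRing Q'] [Algebra R Q'] [Algebra Q Q'] [Algebra R' Q']
    [IsScalarTower R Q Q'] [IsScalarTower R R' Q'] [Algebra.IsPushout R R' Q Q']
    [Module.Free R R'] [Module.Finite R R'] [Module.Free Q Q'] [Module.Finite Q Q']
    (d : ℕ) (hd : Module.finrank R R' = d) (hd' : Module.finrank Q Q' = d)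
    {C : Type u} [CommRing C] [Algebra R C] (γ : PolLaw.MulLaw R R' C d) (hγ : PolLaw.IsGammaD γ)
    (π : C →ₐ[R] R) (hπ : PolLaw.MulLaw.postcomp π γ = PolLaw.normLaw R R' d hd)
    {C' : Type u} [CommRing C'] [Algebra R C'] [Algebra Q C'] [IsScalarTower R Q C']
    (γ' : PolLaw.MulLaw Q Q' C' d) (hγ' : PolLaw.IsGammaD γ')
    (π' : C' →ₐ[Q] Q) (hπ' : PolLaw.MulLaw.postcomp π' γ' = PolLaw.normLaw Q Q' d hd')
    (θ : C →ₐ[R] C')
    (hθ : ∀ (P : Type u) [CommRing P] [Algebra R P] [Algebra Q P] [IsScalarTower R Q P]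
      (z : P ⊗[R] R'),
      γ'.law.toFun' P (PolLaw.bcAlong (IsScalarTower.toAlgHom R R' Q').toLinearMap P z) =
        PolLaw.bcAlong θ.toLinearMap P (γ.law.toFun' P z)) :
    ∀ c : C, π' (θ c) = algebraMap R Q (π c) := by
  let f₁ : C →ₐ[R] Q := (π'.restrictScalars R).comp θ
  let f₂ : C →ₐ[R] Q := (Algebra.ofId R Q).comp π
  suffices hf : f₂ = f₁ by
    intro c
    exact (congrArg (fun f : C →ₐ[R] Q => f c) hf).symm
  obtain ⟨f, -, hfu⟩ := hγ Q (PolLaw.MulLaw.postcomp f₁ γ)
  have h1 : f₁ = f := hfu f₁ rfl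
  have h2 : f₂ = f := by
    apply hfu f₂
    change PolLaw.postcomp f₂.toLinearMap γ.law = PolLaw.postcomp f₁.toLinearMap γ.law
    apply polyLaw_ext_ring
    intro S _ _ x
    change f₂.toLinearMap.lTensor S (γ.law.toFun' S x) = f₁.toLinearMap.lTensor S (γ.law.toFun' S x)
    have hL : f₂.toLinearMap.lTensor S (γ.law.toFun' S x) = (Algebra.norm S x) ⊗ₜ[R] (1 : Q) := by
      have e1 : π.toLinearMap.lTensor S (γ.law.toFun' S x) = (Algebra.norm S x) ⊗ₜ[R] (1 : R) := by
        have := congrArg (fun F : PolLaw.MulLaw R R' R d => F.law.toFun' S x) hπ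
        rw [← PolLaw.normLaw_apply R R' d hd S x]
        exact this
      have e2 : f₂.toLinearMap = (Algebra.ofId R Q).toLinearMap ∘ₗ π.toLinearMap := rfl
      rw [e2, LinearMap.lTensor_comp, LinearMap.comp_apply, e1, LinearMap.lTensor_tmul]
      simp
    -- pass to the `Q`-algebra `T = Q ⊗ S`
    let ι : S →ₐ[R] Q ⊗[R] S := Algebra.TensorProduct.includeRight
    have hcompat : γ.law.toFun' (Q ⊗[R] S) (ι.toLinearMap.rTensor R' x) =
        ι.toLinearMap.rTensor C (γ.law.toFun' S x) :=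
      (PolynomialLaw.isCompat_apply' ι x).symm
    have h3 := hθ (Q ⊗[R] S) (ι.toLinearMap.rTensor R' x)
    rw [hcompat] at h3
    set w : (Q ⊗[R] S) ⊗[Q] Q' := PolLaw.bcAlong (Q := Q)
      (IsScalarTower.toAlgHom R R' Q').toLinearMap (Q ⊗[R] S) (ι.toLinearMap.rTensor R' x) with hw
    have h4 : π'.toLinearMap.lTensor (Q ⊗[R] S) (γ'.law.toFun' (Q ⊗[R] S) w) =
        (Algebra.norm (Q ⊗[R] S) w) ⊗ₜ[Q] (1 : Q) := by
      have := congrArg (fun F : PolLaw.MulLaw Q Q' Q d => F.law.toFun' (Q ⊗[R] S) w) hπ'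
      rw [← PolLaw.normLaw_apply Q Q' d hd' (Q ⊗[R] S) w]
      exact this
    rw [h3] at h4
    -- the norm of `w`
    have hpush : Algebra.IsPushout R Q R' Q' := Algebra.IsPushout.symm inferInstance
    let E : (Q ⊗[R] S) ⊗[R] R' ≃ₐ[Q ⊗[R] S] (Q ⊗[R] S) ⊗[Q] Q' :=
      (Algebra.TensorProduct.cancelBaseChange R Q (Q ⊗[R] S) (Q ⊗[R] S) R').symm.trans
        (Algebra.TensorProduct.congr AlgEquiv.refl (Algebra.IsPushout.equiv R Q R' Q'))
    have hE : ∀ y, E y = PolLaw.bcAlong (Q := Q)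
        (IsScalarTower.toAlgHom R R' Q').toLinearMap (Q ⊗[R] S) y := by
      intro y
      induction y using TensorProduct.induction_on with
      | zero => simp
      | tmul t r' =>
        rw [bcAlong_tmul]
        simp [E, Algebra.IsPushout.equiv_tmul]
      | add y y' h h' => rw [map_add, map_add, h, h']
    have hnorm : Algebra.norm (Q ⊗[R] S) w = ι (Algebra.norm S x) := by
      rw [hw, ← hE, Algebra.norm_eq_of_algEquiv E, PolLaw.rTensor_algHom_apply,
        ← PolLaw.detAct_self, PolLaw.detAct_map, PolLaw.detAct_self]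
    -- comparison of the two sides inside `Q ⊗ S`
    have hcmp : ∀ c : S ⊗[R] C,
        TensorProduct.rid Q (Q ⊗[R] S) (π'.toLinearMap.lTensor (Q ⊗[R] S)
          (PolLaw.bcAlong (Q := Q) θ.toLinearMap (Q ⊗[R] S) (ι.toLinearMap.rTensor C c))) =
        TensorProduct.comm R S Q (f₁.toLinearMap.lTensor S c) := by
      intro c
      induction c using TensorProduct.induction_on with
      | zero => simp
      | tmul s c₀ =>
        rw [LinearMap.rTensor_tmul, bcAlong_tmul, LinearMap.lTensor_tmul, TensorProduct.rid_tmul,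
          LinearMap.lTensor_tmul, TensorProduct.comm_tmul]
        simp [ι, f₁, TensorProduct.smul_tmul']
      | add y y' h h' => simp only [map_add, h, h']
    apply (TensorProduct.comm R S Q).injective
    rw [← hcmp, h4, hL, TensorProduct.rid_tmul, one_smul, hnorm, TensorProduct.comm_tmul]
    rfl
  rw [h2, h1]

end Groth.Agent.H89
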