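import Mathlib
import Groth.Agent.H89.NisGen

/-!
# Counting generators; generators after an affine Nisnevich cover of bounded length (helper89)

* `GenBy R M c`: the module `M` is generated by `c` elements.
* `exists_generators_of_strata'`: the induction on strata of a Nisnevich cover, with the local
  generation hypothesis phrased through base changes to affine schemes over the cover.
* `genBy_of_nisCover`: the affine case `U = Spec B`.
-/

set_option autoImplicit false
universe u
open CategoryTheory Limits AlgebraicGeometry TopologicalSpace Opposite TensorProduct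
open W4c5algebraiztannaka

namespace Groth.Agent.H89.PerfGen

/-- `M` is generated by `c` elements. -/
def GenBy (R : Type*) [CommRing R] (M : Type*) [AddCommGroup M] [Module R M] (c : ℕ) : Prop :=
  ∃ s : Fin c → M, Submodule.span R (Set.range s) = ⊤

section GenBy

variable {R : Type*} [CommRing R] {M M' : Type*} [AddCommGroup M] [Module R M]
  [AddCommGroup M'] [Module R M']

theorem GenBy.of_surjective {c : ℕ} (h : GenBy R M c) (f : M →ₗ[R] M')
    (hf : Function.Surjective f) : GenBy R M' c := by
  obtain ⟨s, hs⟩ := h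
  refine ⟨f ∘ s, ?_⟩
  rw [Set.range_comp, ← Submodule.map_span, hs, Submodule.map_top, LinearMap.range_eq_top]
  exact hf

theorem GenBy.mono {c c' : ℕ} (h : GenBy R M c) (hc : c ≤ c') : GenBy R M c' := by
  obtain ⟨s, hs⟩ := h
  refine ⟨fun i => if hi : (i : ℕ) < c then s ⟨i, hi⟩ else 0, ?_⟩
  rw [eq_top_iff, ← hs, Submodule.span_le]
  rintro _ ⟨i, rfl⟩
  refine Submodule.subset_span ⟨⟨i, lt_of_lt_of_le i.2 hc⟩, ?_⟩
  simp

theorem GenBy.finite {c : ℕ} (h : GenBy R M c) : Module.Finite R M := by
  obtain ⟨s, hs⟩ := h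
  exact ⟨⟨(Set.finite_range s).toFinset, by simpa using hs⟩⟩

theorem GenBy.exists_surjective {c : ℕ} (h : GenBy R M c) :
    ∃ g : (Fin c → R) →ₗ[R] M, Function.Surjective g := by
  obtain ⟨s, hs⟩ := h
  refine ⟨Fintype.linearCombination R s, ?_⟩
  rw [← LinearMap.range_eq_top, Fintype.range_linearCombination, hs]

theorem GenBy.of_exists_surjective {c : ℕ} (g : (Fin c → R) →ₗ[R] M)
    (hg : Function.Surjective g) : GenBy R M c := by
  refine GenBy.of_surjective ⟨fun i => Pi.single i 1, ?_⟩ g hg
  have h := (Pi.basisFun R (Fin c)).span_eq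
  have h2 : (⇑(Pi.basisFun R (Fin c)) : Fin c → (Fin c → R)) = fun i => Pi.single i 1 := by
    funext i
    exact Pi.basisFun_apply R (Fin c) i
  rw [h2] at h
  exact h

theorem GenBy.of_subsingleton [Subsingleton M] (c : ℕ) : GenBy R M c :=
  ⟨fun _ => 0, by rw [eq_top_iff]; intro x _; rw [Subsingleton.elim x 0]; exact Submodule.zero_mem _⟩

/-- If `M` is the sum of the images of `M₁` and `M₂`, generated by `c₁` and `c₂` elements. -/
theorem GenBy.of_sum {M₁ M₂ : Type*} [AddCommGroup M₁] [Module R M₁] [AddCommGroup M₂]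
    [Module R M₂] {c₁ c₂ : ℕ} (h₁ : GenBy R M₁ c₁) (h₂ : GenBy R M₂ c₂)
    (i₁ : M₁ →ₗ[R] M) (i₂ : M₂ →ₗ[R] M)
    (h : ∀ x : M, ∃ a b, x = i₁ a + i₂ b) : GenBy R M (c₁ + c₂) := by
  obtain ⟨s₁, hs₁⟩ := h₁
  obtain ⟨s₂, hs₂⟩ := h₂
  obtain ⟨σ, hσ⟩ := Groth.Agent.H89.NisGen.exists_fin_range_union (i₁ ∘ s₁) (i₂ ∘ s₂)
    (n := c₁ + c₂) rfl
  refine ⟨σ, ?_⟩
  rw [hσ, Submodule.span_union, Set.range_comp, Set.range_comp, ← Submodule.map_span,
    ← Submodule.map_span, hs₁, hs₂, eq_top_iff]
  intro x _
  obtain ⟨a, b, rfl⟩ := h x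
  exact Submodule.add_mem_sup (Submodule.mem_map_of_mem Submodule.mem_top)
    (Submodule.mem_map_of_mem Submodule.mem_top)

end GenBy

section BaseChange

variable {R : Type*} [CommRing R] {M : Type*} [AddCommGroup M] [Module R M]

/-- Generators base change. -/
theorem GenBy.baseChange (S : Type*) [CommRing S] [Algebra R S] {c : ℕ} (h : GenBy R M c) :
    GenBy S (S ⊗[R] M) c := by
  obtain ⟨s, hs⟩ := h
  refine ⟨fun i => (1 : S) ⊗ₜ[R] s i, ?_⟩
  have h1 := Submodule.baseChange_span (R := R) (M := M) S (Set.range s)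
  rw [hs, Submodule.baseChange_top] at h1
  rw [h1, ← Set.range_comp]
  rfl

end BaseChange

section Strata

open Groth.Agent.H89.NisGen

set_option backward.isDefEq.respectTransparency false in
/-- The induction on the strata of a Nisnevich cover, with the local generation hypothesis phrased
through affine schemes over the cover. -/
theorem exists_generators_of_strata' {R : Type u} [CommRing R] {U : Scheme.{u}}
    (f : U ⟶ Spec (CommRingCat.of R))
    (N m : ℕ) (Z : ℕ → Set (Spec (CommRingCat.of R))) (hZm : Z m = Set.univ)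
    (hcl : ∀ a, IsClosed (Z a))
    (hsect : ∀ a, a < m → HasSectOver f (Z (a + 1) \ Z a)) :
    ∀ (d k : ℕ), k + d = m → ∀ (M : Type u) [AddCommGroup M] [Module R M] [Module.Finite R M],
      (∀ (S : Type u) [CommRing S] [Algebra R S] (t : Spec (CommRingCat.of S) ⟶ U),
        t ≫ f = Spec.map (CommRingCat.ofHom (algebraMap R S)) → GenBy S (S ⊗[R] M) N) →
      (∀ p : PrimeSpectrum R, p ∈ Z k → p ∉ Module.support R M) →
      GenBy R M (N * d) := by
  intro d
  induction d with
  | zero =>
    intro k hk M _ _ _ _ hsupp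
    have hk' : k = m := by omega
    subst hk'
    have h0 : Module.support R M = ∅ := by
      ext p
      simp only [Set.mem_empty_iff_false, iff_false]
      exact hsupp p (by rw [hZm]; trivial)
    have hsub : Subsingleton M := Module.support_eq_empty_iff.mp h0
    exact GenBy.of_subsingleton _
  | succ d ih =>
    intro k hk M _ _ hfin hφ hsupp
    have hkm : k < m := by omega
    obtain ⟨T, g, s, hg, hrange, hsf⟩ := hsect k hkm
    let C : Set (PrimeSpectrum R) := Module.support R M ∩ Z (k + 1)
    have hCcl : IsClosed C := Module.isClosed_support.inter (hcl (k + 1))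
    have hCg : ∀ p ∈ C, ∃ x : T, g x = p := by
      intro p hp
      have : p ∈ Z (k + 1) \ Z k := ⟨hp.2, fun h => hsupp p h hp.1⟩
      rw [← hrange] at this
      exact this
    obtain ⟨S, ψ, t, hψ, ht, hker⟩ := exists_section_over_closed (R := CommRingCat.of R) g C hCcl hCg
    have htf : (t ≫ s) ≫ f = Spec.map ψ := by rw [Category.assoc, hsf, ht]
    let alg : Algebra R S := ψ.hom.toAlgebra
    obtain ⟨x, hx'⟩ := hφ S (t ≫ s) htf
    obtain ⟨y, r, hr, hr0⟩ := exists_lift_generators (R := R) (S := S) hψ M N _ hx'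
    set P := Submodule.span R (Set.range y) with hP
    have hfin' : Module.Finite R (M ⧸ P) := Module.Finite.quotient R P
    have hφ' : ∀ (S : Type u) [CommRing S] [Algebra R S] (t : Spec (CommRingCat.of S) ⟶ U),
        t ≫ f = Spec.map (CommRingCat.ofHom (algebraMap R S)) → GenBy S (S ⊗[R] (M ⧸ P)) N := by
      intro S' _ _ t' ht'
      exact (hφ S' t' ht').of_surjective (LinearMap.baseChange S' P.mkQ)
        (LinearMap.lTensor_surjective S' (Submodule.mkQ_surjective P))
    have hsupp' : ∀ p : PrimeSpectrum R, p ∈ Z (k + 1) → p ∉ Module.support R (M ⧸ P) := by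
      intro p hpZ hpM'
      by_cases hpM : p ∈ Module.support R M
      · have hkp : RingHom.ker ψ.hom ≤ p.asIdeal := hker p ⟨hpM, hpZ⟩
        have hann : r ∈ Module.annihilator R (M ⧸ P) := Module.mem_annihilator.mpr hr0
        have hrp : r ∈ p.asIdeal := (Module.mem_support_iff_of_finite.mp hpM') hann
        have h1 : (1 : R) ∈ p.asIdeal := by
          have := p.asIdeal.sub_mem hrp (hkp hr)
          simpa using this
        exact p.isPrime.ne_top ((Ideal.eq_top_iff_one _).mpr h1)
      · exact hpM (Module.support_subset_of_surjective P.mkQ (Submodule.mkQ_surjective P) hpM')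
    obtain ⟨s', hs'⟩ := ih (k + 1) (by omega) (M ⧸ P) hφ' hsupp'
    choose s'' hs'' using fun i => Submodule.mkQ_surjective P (s' i)
    obtain ⟨σ, hσ⟩ := exists_fin_range_union s'' y (n := N * (d + 1)) (by ring)
    refine ⟨σ, ?_⟩
    rw [hσ, Submodule.span_union, ← hP, sup_comm, ← Submodule.map_mkQ_eq_top, Submodule.map_span,
      ← Set.range_comp]
    have : (⇑P.mkQ ∘ s'') = s' := funext hs''
    rw [this]
    exact hs'

end Strata

section Affine

/-- Generators of a base change `S ⊗[R] M` from generators of `B ⊗[R] M`, for `R → B → S`. -/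
theorem GenBy.of_tower {R B S : Type u} [CommRing R] [CommRing B] [CommRing S] [Algebra R B]
    [Algebra R S] [Algebra B S] [IsScalarTower R B S] (M : Type u) [AddCommGroup M] [Module R M]
    {c : ℕ} (h : GenBy B (B ⊗[R] M) c) : GenBy S (S ⊗[R] M) c := by
  have h1 : GenBy S (S ⊗[B] (B ⊗[R] M)) c := h.baseChange S
  exact h1.of_surjective
    (TensorProduct.AlgebraTensorModule.cancelBaseChange R B S S M).toLinearMap
    (TensorProduct.AlgebraTensorModule.cancelBaseChange R B S S M).surjective

/-- If `Spec B ⟶ Spec R` is a Nisnevich cover of length at most `m` and `B ⊗[R] M` is generated by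
`c` elements, for a finite `R`-module `M`, then `M` is generated by `c * m` elements. -/
theorem genBy_of_nisCover {R B : Type u} [CommRing R] [CommRing B] [Algebra R B] (m c : ℕ)
    (hf : IsNisCoverLen (Spec.map (CommRingCat.ofHom (algebraMap R B))) m)
    (M : Type u) [AddCommGroup M] [Module R M] [Module.Finite R M]
    (h : GenBy B (B ⊗[R] M) c) : GenBy R M (c * m) := by
  obtain ⟨_, Z, hZ0, hZm, _, hcc, hsect⟩ :=
    (Groth.Agent.H89.NisCover.isNisCoverLen_iff_nat _ m).mp hf
  refine exists_generators_of_strata' (R := R) (Spec.map (CommRingCat.ofHom (algebraMap R B)))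
    c m Z hZm (fun a => (hcc a).1) hsect m 0 (by omega) M ?_
    (fun p hp => by rw [hZ0] at hp; exact absurd hp (Set.notMem_empty p))
  intro S _ _ t ht
  let χ : CommRingCat.of B ⟶ CommRingCat.of S := Spec.preimage t
  have hχ : Spec.map χ = t := Spec.map_preimage t
  have hcomp : CommRingCat.ofHom (algebraMap R B) ≫ χ = CommRingCat.ofHom (algebraMap R S) := by
    apply Spec.map_injective
    rw [Spec.map_comp, hχ, ht]
  let algBS : Algebra B S := χ.hom.toAlgebra
  have htower : IsScalarTower R B S := by
    refine IsScalarTower.of_algebraMap_eq (fun r => ?_)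
    have := congrArg (fun g => g.hom r) hcomp
    exact this.symm
  exact GenBy.of_tower (R := R) (B := B) (S := S) M h

end Affine

end Groth.Agent.H89.PerfGen
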