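import Mathlib
import Groth.Prelude.Def_W4c5algebraiztannakaNis
import Groth.Agent.H89.NisCover
import Groth.Agent.H89.PerfGen
import Groth.Agent.H44.PullbackTilde

/-!
# Termwise base change of complexes along a flat ring map (helper89)
-/

set_option autoImplicit false
universe u
open CategoryTheory Limits AlgebraicGeometry TopologicalSpace Opposite TensorProduct
open W4c5algebraiztannaka

namespace Groth.Agent.H89.PerfBC

open Groth.Agent.H89.PerfGen

/-- A Nisnevich cover of bounded length of affine schemes is faithfully flat. -/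
theorem faithfullyFlat_of_nisCover {R B : Type u} [CommRing R] [CommRing B] (φ : R →+* B) (m : ℕ)
    (hf : IsNisCoverLen (Spec.map (CommRingCat.ofHom φ)) m) : φ.FaithfullyFlat := by
  obtain ⟨hE, Z, hZ0, hZm, hmono, hcc, hsect⟩ :=
    (Groth.Agent.H89.NisCover.isNisCoverLen_iff_nat _ m).mp hf
  have hflat : Flat (Spec.map (CommRingCat.ofHom φ)) :=
    (Etale.iff_flat_and_formallyUnramified.mp hE).1
  have hsurj : Surjective (Spec.map (CommRingCat.ofHom φ)) := by
    rw [surjective_iff]
    intro y
    have hex : ∃ a, y ∈ Z a := ⟨m, by rw [hZm]; trivial⟩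
    classical
    let a := Nat.find hex
    have ha : y ∈ Z a := Nat.find_spec hex
    have ha0 : a ≠ 0 := by
      intro h0
      rw [h0, hZ0] at ha
      exact ha
    obtain ⟨a', ha'⟩ : ∃ a', a = a' + 1 := ⟨a - 1, by omega⟩
    have hna : y ∉ Z a' := fun h => by
      have := Nat.find_min hex (m := a') (by omega)
      exact this h
    have ham : a' < m := by
      have : a ≤ m := Nat.find_min' hex (by rw [hZm]; trivial)
      omega
    obtain ⟨T, g, s, _, hrange, hsf⟩ := hsect a' ham
    have hy : y ∈ Z (a' + 1) \ Z a' := ⟨ha' ▸ ha, hna⟩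
    rw [← hrange] at hy
    obtain ⟨t, ht⟩ := hy
    refine ⟨s t, ?_⟩
    rw [← ht, ← hsf]
    rfl
  exact (flat_and_surjective_SpecMap_iff (CommRingCat.ofHom φ)).mp ⟨hflat, hsurj⟩

section

variable {R B : Type u} [CommRing R] [CommRing B] (φ : R →+* B)

instance : PreservesFiniteColimits (ModuleCat.extendScalars.{u, u, u} φ) := by
  have := (ModuleCat.extendRestrictScalarsAdj.{u, u, u} φ).leftAdjoint_preservesColimits
  infer_instance

/-- base change of the mapping cone -/
noncomputable def bcConeIso {K L : DRing.Cx R} (u : K ⟶ L) :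
    (bcCx φ).obj (CochainComplex.mappingCone u) ≅ CochainComplex.mappingCone ((bcCx φ).map u) :=
  CochainComplex.mappingCone.mapHomologicalComplexIso u (ModuleCat.extendScalars.{u, u, u} φ)

/-- base change commutes with homology for flat maps -/
noncomputable def bcHomologyIso (hφ : φ.Flat) (K : DRing.Cx R) (i : ℤ) :
    ((bcCx φ).obj K).homology i ≅ (ModuleCat.extendScalars.{u, u, u} φ).obj (K.homology i) := by
  have := ModuleCat.preservesFiniteLimits_extendScalars_of_flat hφ
  exact (K.sc i).mapHomologyIso (ModuleCat.extendScalars.{u, u, u} φ)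

lemma exactAt_bc (hφ : φ.Flat) (K : DRing.Cx R) (i : ℤ) (h : K.ExactAt i) :
    ((bcCx φ).obj K).ExactAt i := by
  rw [HomologicalComplex.exactAt_iff_isZero_homology] at h ⊢
  exact IsZero.of_iso ((ModuleCat.extendScalars.{u, u, u} φ).map_isZero h) (bcHomologyIso φ hφ K i)

lemma isZero_of_isZero_extendScalars (hφ : φ.FaithfullyFlat) (M : ModuleCat.{u} R)
    (h : IsZero ((ModuleCat.extendScalars.{u, u, u} φ).obj M)) : IsZero M := by
  have h' : Subsingleton ((ModuleCat.extendScalars.{u, u, u} φ).obj M) :=
    ModuleCat.subsingleton_of_isZero h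
  algebraize [φ]
  have : Module.FaithfullyFlat R B := RingHom.faithfullyFlat_algebraMap_iff.mp hφ
  have h'' : Subsingleton (TensorProduct R B M) := h'
  have := Module.FaithfullyFlat.lTensor_reflects_triviality R B M
  exact ModuleCat.isZero_of_subsingleton _

lemma isZero_homology_of_bc (hφ : φ.FaithfullyFlat) (K : DRing.Cx R) (i : ℤ)
    (h : IsZero (((bcCx φ).obj K).homology i)) : IsZero (K.homology i) :=
  isZero_of_isZero_extendScalars φ hφ _ (IsZero.of_iso h (bcHomologyIso φ hφ.flat K i).symm)

lemma projective_extendScalars (M : ModuleCat.{u} R) (h : Projective M) :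
    Projective ((ModuleCat.extendScalars.{u, u, u} φ).obj M) :=
  (ModuleCat.extendRestrictScalarsAdj.{u, u, u} φ).map_projective _ h

end

section Algebra

variable {R B : Type u} [CommRing R] [CommRing B] [Algebra R B]

lemma genBy_extendScalars (M : ModuleCat.{u} R) {c : ℕ} (h : GenBy R M c) :
    GenBy B ((ModuleCat.extendScalars.{u, u, u} (algebraMap R B)).obj M) c :=
  (h.baseChange B).of_surjective
    (Groth.Agent.H44.extendScalarsEquiv (A := R) (B := B) M).symm.toLinearMap
    (Groth.Agent.H44.extendScalarsEquiv (A := R) (B := B) M).symm.surjective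

lemma genBy_tensor_of_extendScalars (M : ModuleCat.{u} R) {c : ℕ}
    (h : GenBy B ((ModuleCat.extendScalars.{u, u, u} (algebraMap R B)).obj M) c) :
    GenBy B (B ⊗[R] M) c :=
  h.of_surjective
    (Groth.Agent.H44.extendScalarsEquiv (A := R) (B := B) M).toLinearMap
    (Groth.Agent.H44.extendScalarsEquiv (A := R) (B := B) M).surjective

end Algebra

end Groth.Agent.H89.PerfBC
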