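import Mathlib
import Groth.Agent.H89.MatCx

/-!
# A bounded complex of finite projective modules is a retract of a matrix complex (helper89)
-/

set_option autoImplicit false
universe u
open CategoryTheory

namespace Groth.Agent.H89.PerfMat

open Groth.Agent.H89.MatCx

variable {R : Type u} [CommRing R]

lemma exists_pad (n N : ℕ) (h : n ≤ N) :
    ∃ (ι : (Fin n → R) →ₗ[R] (Fin N → R)) (p : (Fin N → R) →ₗ[R] (Fin n → R)),
      p ∘ₗ ι = LinearMap.id := by
  refine ⟨Function.ExtendByZero.linearMap R (Fin.castLE h),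
    LinearMap.funLeft R R (Fin.castLE h), ?_⟩
  apply LinearMap.ext
  intro v
  funext k
  simp [LinearMap.funLeft_apply, Function.ExtendByZero.linearMap_apply,
    (Fin.castLE_injective h).extend_apply]

theorem exists_retract (M : ModuleCat.{u} R) [Module.Finite R M] [Module.Projective R M] :
    ∃ n : ℕ, ∀ N, n ≤ N → ∃ (s : M ⟶ X R N) (r : X R N ⟶ M), s ≫ r = 𝟙 M := by
  obtain ⟨n, f, g, -, -, hfg⟩ := Module.Finite.exists_comp_eq_id_of_projective R M
  refine ⟨n, fun N hN => ?_⟩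
  obtain ⟨ι, p, hp⟩ := exists_pad (R := R) n N hN
  refine ⟨ModuleCat.ofHom (ι ∘ₗ g), ModuleCat.ofHom (f ∘ₗ p), ?_⟩
  apply ModuleCat.hom_ext
  change (f ∘ₗ p) ∘ₗ (ι ∘ₗ g) = LinearMap.id
  calc (f ∘ₗ p) ∘ₗ (ι ∘ₗ g) = f ∘ₗ (p ∘ₗ ι) ∘ₗ g := rfl
    _ = f ∘ₗ g := by rw [hp]; rfl
    _ = LinearMap.id := hfg

variable (E : DRing.Cx R) (a b : ℤ) (hE : DRing.VanishesOutside E a b)
  (hfp : DRing.TermwiseFiniteProjective E)

include hE hfp in
theorem exists_sr : ∃ N : ℕ, ∀ i : ℤ, ∃ (s : E.X i ⟶ X R N) (r : X R N ⟶ E.X i),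
    s ≫ r = 𝟙 _ ∧ (i < a ∨ b < i → s = 0 ∧ r = 0) := by
  have h1 : ∀ i : ℤ, ∃ n : ℕ, ∀ N, n ≤ N →
      ∃ (s : E.X i ⟶ X R N) (r : X R N ⟶ E.X i), s ≫ r = 𝟙 _ := by
    intro i
    have := (hfp i).1
    have := (hfp i).2
    exact exists_retract (E.X i)
  choose n hn using h1
  refine ⟨(Finset.Icc a b).sup n, fun i => ?_⟩
  by_cases hi : i < a ∨ b < i
  · refine ⟨0, 0, ?_, fun _ => ⟨rfl, rfl⟩⟩
    exact (hE i hi).eq_of_src _ _
  · have hi' : i ∈ Finset.Icc a b := by
      rw [Finset.mem_Icc]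
      constructor
      · by_contra hlt
        exact hi (Or.inl (lt_of_not_ge hlt))
      · by_contra hlt
        exact hi (Or.inr (lt_of_not_ge hlt))
    obtain ⟨s, r, hsr⟩ := hn i _ (Finset.le_sup (f := n) hi')
    exact ⟨s, r, hsr, fun h => absurd h hi⟩

/-- the matrix of an endomorphism of `R^N` -/
noncomputable def mat {N : ℕ} (f : X R N ⟶ X R N) : Matrix (Fin N) (Fin N) R :=
  LinearMap.toMatrix' f.hom

lemma lin_mat {N : ℕ} (f : X R N ⟶ X R N) : lin (mat f) = f := by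
  exact lin_toMatrix' (N := N) (A := R) f.hom

lemma lin_injective {N : ℕ} : Function.Injective (lin : Matrix (Fin N) (Fin N) R → _) := by
  intro M M' h
  have h' : Matrix.toLin' M = Matrix.toLin' M' := congrArg ModuleCat.Hom.hom h
  exact Matrix.toLin'.injective h'

lemma mat_zero {N : ℕ} : mat (0 : X R N ⟶ X R N) = 0 := by
  apply lin_injective
  rw [lin_mat, lin_zero]

include hE hfp in
/-- a bounded complex of finite projectives is the image of an idempotent on a matrix complex -/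
theorem exists_matrix_model :
    ∃ (N : ℕ) (D e : ℤ → Matrix (Fin N) (Fin N) R) (hD : ∀ i, D (i + 1) * D i = 0)
      (he : ∀ i, e (i + 1) * D i = D i * e i) (S : E ⟶ cx D hD) (Rr : cx D hD ⟶ E),
      (∀ i, e i * e i = e i) ∧ (∀ i, i < a ∨ b < i → D i = 0 ∧ e i = 0) ∧
        S ≫ Rr = 𝟙 E ∧ Rr ≫ S = endo D hD e he := by
  obtain ⟨N, h⟩ := exists_sr E a b hE hfp
  choose s r hsr h0 using h
  let D : ℤ → Matrix (Fin N) (Fin N) R := fun i => mat (r i ≫ E.d i (i + 1) ≫ s (i + 1))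
  let e : ℤ → Matrix (Fin N) (Fin N) R := fun i => mat (r i ≫ s i)
  have hlD : ∀ i, lin (D i) = r i ≫ E.d i (i + 1) ≫ s (i + 1) := fun i => lin_mat _
  have hle : ∀ i, lin (e i) = r i ≫ s i := fun i => lin_mat _
  have hD : ∀ i, D (i + 1) * D i = 0 := by
    intro i
    apply lin_injective
    rw [← lin_comp, hlD, hlD, lin_zero]
    simp only [Category.assoc]
    rw [reassoc_of% (hsr (i + 1)), E.d_comp_d_assoc, Limits.zero_comp, Limits.comp_zero]
  have he : ∀ i, e (i + 1) * D i = D i * e i := by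
    intro i
    apply lin_injective
    rw [← lin_comp, ← lin_comp, hlD, hle, hle]
    simp only [Category.assoc]
    rw [reassoc_of% (hsr (i + 1)), reassoc_of% (hsr i)]
  have hee : ∀ i, e i * e i = e i := by
    intro i
    apply lin_injective
    rw [← lin_comp, hle]
    simp only [Category.assoc]
    rw [reassoc_of% (hsr i)]
  refine ⟨N, D, e, hD, he,
    CochainComplex.ofHom (fun i => s i) (fun i => ?_),
    CochainComplex.ofHom (fun i => r i) (fun i => ?_), hee, ?_, ?_, ?_⟩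
  · rw [cx_d, hlD, reassoc_of% (hsr i)]
  · rw [cx_d, hlD]
    simp only [Category.assoc]
    rw [hsr (i + 1), Category.comp_id]
  · intro i hi
    obtain ⟨hs, hr⟩ := h0 i hi
    constructor
    · change mat (r i ≫ E.d i (i + 1) ≫ s (i + 1)) = 0
      rw [hr, Limits.zero_comp, mat_zero]
    · change mat (r i ≫ s i) = 0
      rw [hr, Limits.zero_comp, mat_zero]
  · ext i : 1
    exact hsr i
  · ext i : 1
    rw [endo_f, hle]
    rfl

end Groth.Agent.H89.PerfMat
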