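import Mathlib
import Groth.Agent.H35.LBaseChangeLib
import Groth.Agent.H89.PerfMat
import Groth.Agent.H89.MatDescent
import Groth.Prelude.Def_DDual2

/-!
# Perfect complexes descend along filtered colimits of rings (helper89)
-/

set_option autoImplicit false
universe u
open CategoryTheory CategoryTheory.Limits

namespace Groth.Agent.H89.PerfDescent

open Groth.Agent.H89.MatCx

attribute [local instance] HasDerivedCategory.standard

section Split

variable {A : Type u} [CommRing A] {N : ℕ}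
  (D e : ℤ → Matrix (Fin N) (Fin N) A) (a b : ℤ)
  (hD : ∀ i, D (i + 1) * D i = 0) (he : ∀ i, e (i + 1) * D i = D i * e i)
  (hee : ∀ i, e i * e i = e i) (h0 : ∀ i, i < a ∨ b < i → D i = 0 ∧ e i = 0)

include hee h0 in
/-- splitting the idempotent given by the matrices `e i` -/
theorem exists_split :
    ∃ (Y : DRing.Cx A) (ι : Y ⟶ cx D hD) (ρ : cx D hD ⟶ Y),
      ι ≫ ρ = 𝟙 Y ∧ ρ ≫ ι = endo D hD e he ∧ DRing.VanishesOutside Y a b ∧
        DRing.TermwiseFiniteProjective Y := by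
  have hic : IsIdempotentComplete (DRing.Cx A) := inferInstance
  obtain ⟨Y, ι, ρ, h1, h2⟩ := hic.idempotents_split _ (endo D hD e he)
    (endo_comp_endo D hD e he hee)
  have h1f : ∀ i, ι.f i ≫ ρ.f i = 𝟙 (Y.X i) := fun i => by
    rw [← HomologicalComplex.comp_f, h1]
    rfl
  have h2f : ∀ i, ρ.f i ≫ ι.f i = lin (e i) := fun i => by
    rw [← HomologicalComplex.comp_f, h2, endo_f]
  refine ⟨Y, ι, ρ, h1, h2, ?_, ?_⟩
  · intro i hi
    rw [IsZero.iff_id_eq_zero]
    have h3 : ι.f i ≫ (ρ.f i ≫ ι.f i) ≫ ρ.f i = 𝟙 (Y.X i) := by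
      rw [Category.assoc, h1f, Category.comp_id, h1f]
    rw [← h3, h2f, (h0 i hi).2, lin_zero, Limits.zero_comp, Limits.comp_zero]
  · intro i
    have hcomp : (ρ.f i).hom.comp (ι.f i).hom = LinearMap.id := by
      have := congrArg ModuleCat.Hom.hom (h1f i)
      exact this
    have hsurj : Function.Surjective (ρ.f i).hom := by
      intro y
      exact ⟨(ι.f i).hom y, LinearMap.congr_fun hcomp y⟩
    constructor
    · have : Module.Finite A ((cx D hD).X i) := by
        change Module.Finite A (Fin N → A)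
        infer_instance
      exact Module.Finite.of_surjective (ρ.f i).hom hsurj
    · have : Module.Projective A ((cx D hD).X i) := by
        change Module.Projective A (Fin N → A)
        infer_instance
      exact Module.Projective.of_split (ι.f i).hom (ρ.f i).hom hcomp

end Split

section Iso

variable {A B : Type u} [CommRing A] [CommRing B] (φ : A →+* B) {N : ℕ}
  (D e : ℤ → Matrix (Fin N) (Fin N) A)
  (hD : ∀ i, D (i + 1) * D i = 0) (he : ∀ i, e (i + 1) * D i = D i * e i)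

/-- termwise extension of scalars -/
noncomputable abbrev ext : DRing.Cx A ⥤ DRing.Cx B :=
  (ModuleCat.extendScalars.{u, u, u} φ).mapHomologicalComplex (ComplexShape.up ℤ)

/-- two splittings of the same idempotent agree after base change -/
theorem nonempty_ext_iso (E : DRing.Cx B)
    (he' : ∀ i, (e (i + 1)).map φ * (D i).map φ = (D i).map φ * (e i).map φ)
    (S : E ⟶ cx (fun i => (D i).map φ) (map_sq φ D hD))
    (Rr : cx (fun i => (D i).map φ) (map_sq φ D hD) ⟶ E) (hSR : S ≫ Rr = 𝟙 E)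
    (hRS : Rr ≫ S = endo (fun i => (D i).map φ) (map_sq φ D hD) (fun i => (e i).map φ) he')
    (Y : DRing.Cx A) (ι : Y ⟶ cx D hD) (ρ : cx D hD ⟶ Y) (h1 : ι ≫ ρ = 𝟙 Y)
    (h2 : ρ ≫ ι = endo D hD e he) :
    Nonempty (((ModuleCat.extendScalars.{u, u, u} φ).mapHomologicalComplex
      (ComplexShape.up ℤ)).obj Y ≅ E) := by
  let θ : (ext φ).obj (cx D hD) ≅ cx (fun i => (D i).map φ) (map_sq φ D hD) := bcIso φ D hD
  have hnat : (ext φ).map (endo D hD e he) ≫ θ.hom =
      θ.hom ≫ endo (fun i => (D i).map φ) (map_sq φ D hD) (fun i => (e i).map φ) he' :=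
    bcIso_naturality φ D hD e he he'
  have hπ : (ext φ).map (endo D hD e he) = θ.hom ≫ (Rr ≫ S) ≫ θ.inv := by
    rw [hRS, ← Category.assoc, ← hnat, Category.assoc, Iso.hom_inv_id, Category.comp_id]
  have hιρι : (ext φ).map ι ≫ (ext φ).map (endo D hD e he) ≫ (ext φ).map ρ = 𝟙 _ := by
    rw [← h2, ← (ext φ).map_comp, ← (ext φ).map_comp]
    have h4 : ι ≫ (ρ ≫ ι) ≫ ρ = 𝟙 Y := by
      rw [Category.assoc, h1, Category.comp_id, h1]
    rw [h4, CategoryTheory.Functor.map_id]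
  refine ⟨⟨(ext φ).map ι ≫ θ.hom ≫ Rr, S ≫ θ.inv ≫ (ext φ).map ρ, ?_, ?_⟩⟩
  · rw [hπ] at hιρι
    simpa only [Category.assoc] using hιρι
  · have h3 : θ.inv ≫ (ext φ).map (ρ ≫ ι) ≫ θ.hom = Rr ≫ S := by
      rw [h2, hπ]
      simp only [Category.assoc, Iso.inv_hom_id, Category.comp_id, Iso.inv_hom_id_assoc]
    calc (S ≫ θ.inv ≫ (ext φ).map ρ) ≫ (ext φ).map ι ≫ θ.hom ≫ Rr
        = S ≫ (θ.inv ≫ (ext φ).map (ρ ≫ ι) ≫ θ.hom) ≫ Rr := by
          rw [(ext φ).map_comp]
          simp only [Category.assoc]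
      _ = S ≫ (Rr ≫ S) ≫ Rr := by rw [h3]
      _ = 𝟙 E := by
          rw [Category.assoc, hSR, Category.comp_id, hSR]

end Iso

section Main

variable {J : Type u} [SmallCategory J] [IsFiltered J]
  (F : J ⥤ CommRingCat.{u}) (c : Cocone F) (hc : IsColimit c)

include hc in
theorem exists_perfect_descends [∀ j : J, DRing.HasLBaseChange (c.ι.app j).hom]
    (K : Dual.D c.pt) (hK : DRing.IsPerfect c.pt K) :
    ∃ (j : J) (Kj : Dual.D (F.obj j)), DRing.IsPerfect (F.obj j) Kj ∧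
      Nonempty ((DRing.LBaseChange (c.ι.app j).hom).obj Kj ≅ K) := by
  obtain ⟨E, a, b, hE, hfp, ⟨κ⟩⟩ := hK
  obtain ⟨N, D, e, hD, he, S, Rr, hee, h0, hSR, hRS⟩ :=
    Groth.Agent.H89.PerfMat.exists_matrix_model E a b hE hfp
  obtain ⟨j, D', e', hDm, hem, hD', he', hee', h0'⟩ :=
    Groth.Agent.H89.MatDescent.exists_descent F c hc N D e a b h0 hD he hee
  obtain rfl : D = fun i => (D' i).map (c.ι.app j).hom := funext fun i => (hDm i).symm
  obtain rfl : e = fun i => (e' i).map (c.ι.app j).hom := funext fun i => (hem i).symm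
  obtain ⟨Y, ι, ρ, h1, h2, hY, hYfp⟩ := exists_split D' e' a b hD' he' hee' h0'
  obtain ⟨ψ⟩ := nonempty_ext_iso (c.ι.app j).hom D' e' hD' he' E he S Rr hSR hRS Y ι ρ h1 h2
  have hYK : Groth.Agent.H35.KF.IsKFlat Y :=
    Groth.Agent.H35.KF.isKFlat_of_bounded_flat Y b (fun i hi => hY i (Or.inr hi)) (fun i => by
      have := (hYfp i).2
      infer_instance)
  refine ⟨j, DerivedCategory.Q.obj Y, ⟨Y, a, b, hY, hYfp, ⟨Iso.refl _⟩⟩, ⟨?_⟩⟩
  exact Groth.Agent.H35.LT.LBaseChangeIso (c.ι.app j).hom Y hYK ≪≫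
    DerivedCategory.Q.mapIso ψ ≪≫ κ

end Main

end Groth.Agent.H89.PerfDescent
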