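import Mathlib
import Groth.Agent.H28.StrictPerf

/-!
# Cycles of a bounded above complex of projectives which is exact in high degrees (helper89)

If `K` is bounded above, `K.X i` is projective for `i > n` and `K` is exact in degrees `> n`, then
`Zⁿ(K)` is a retract of `Kⁿ`.
-/

set_option autoImplicit false
universe v u
open CategoryTheory Limits

namespace Groth.Agent.H89.PerfSplit

variable {C : Type u} [Category.{v} C] [Abelian C] (K : CochainComplex C ℤ)

/-- A retraction of `Zⁱ ⟶ Kⁱ` from projectivity of `Zⁱ⁺¹` and exactness at `i + 1`. -/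
lemma exists_retraction_of_projective_cycles (i j : ℤ) (hij : i + 1 = j)
    (hp : Projective (K.cycles j)) (hex : K.ExactAt j) :
    ∃ r : K.X i ⟶ K.cycles i, K.iCycles i ≫ r = 𝟙 _ := by
  have hepi : Epi (K.toCycles i j) :=
    Groth.Agent.H28.StrictPerf.epi_toCycles_of_exactAt K i j hij hex
  let s : K.cycles j ⟶ K.X i := Projective.factorThru (𝟙 _) (K.toCycles i j)
  have hs : s ≫ K.toCycles i j = 𝟙 _ := Projective.factorThru_comp _ _
  have hrel : (ComplexShape.up ℤ).Rel i j := hij
  have hρ : (𝟙 (K.X i) - K.toCycles i j ≫ s) ≫ K.d i j = 0 := by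
    rw [Preadditive.sub_comp, Category.id_comp, Category.assoc, ← K.toCycles_i i j,
      reassoc_of% hs, sub_self]
  refine ⟨K.liftCycles _ j (by simpa using hij) hρ, ?_⟩
  rw [← cancel_mono (K.iCycles i), Category.assoc, K.liftCycles_i, Category.id_comp,
    Preadditive.comp_sub, Category.comp_id]
  have h0 : K.iCycles i ≫ K.toCycles i j = 0 := by
    rw [← cancel_mono (K.iCycles j), Category.assoc, K.toCycles_i, K.iCycles_d, zero_comp]
  rw [reassoc_of% h0, zero_comp, sub_zero]

lemma projective_of_retraction {X Y : C} (i : X ⟶ Y) (r : Y ⟶ X) (h : i ≫ r = 𝟙 _)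
    (hY : Projective Y) : Projective X := by
  constructor
  intro E Z f e he
  refine ⟨i ≫ Projective.factorThru (r ≫ f) e, ?_⟩
  rw [Category.assoc, Projective.factorThru_comp, reassoc_of% h]

/-- the cycles in degrees `> n` are projective -/
lemma projective_cycles (n b : ℤ) (hb : ∀ i : ℤ, b < i → IsZero (K.X i))
    (hP : ∀ i : ℤ, n < i → Projective (K.X i)) (hex : ∀ i : ℤ, n < i → K.ExactAt i) :
    ∀ i : ℤ, n < i → Projective (K.cycles i) := by
  have key : ∀ (k : ℕ) (i : ℤ), n < i → b + 1 - i ≤ k → Projective (K.cycles i) := by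
    intro k
    induction k with
    | zero =>
      intro i _ hik
      have hz : IsZero (K.cycles i) :=
        Groth.Agent.H28.StrictPerf.isZero_cycles_of_isZero K i (hb i (by omega))
      exact hz.projective
    | succ k ih =>
      intro i hni hik
      have h1 : Projective (K.cycles (i + 1)) := ih (i + 1) (by omega) (by push_cast at hik; omega)
      obtain ⟨r, hr⟩ := exists_retraction_of_projective_cycles K i (i + 1) rfl h1
        (hex _ (by omega))
      exact projective_of_retraction (K.iCycles i) r hr (hP i hni)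
  intro i hi
  exact key (b + 1 - i).toNat i hi (by omega)

/-- `Zⁿ` is a retract of `Kⁿ`. -/
theorem exists_retraction (n b : ℤ) (hb : ∀ i : ℤ, b < i → IsZero (K.X i))
    (hP : ∀ i : ℤ, n < i → Projective (K.X i)) (hex : ∀ i : ℤ, n < i → K.ExactAt i) :
    ∃ r : K.X n ⟶ K.cycles n, K.iCycles n ≫ r = 𝟙 _ :=
  exists_retraction_of_projective_cycles K n (n + 1) rfl
    (projective_cycles K n b hb hP hex (n + 1) (by omega)) (hex _ (by omega))

/-- There is an epimorphism `Kⁿ ⟶ Hⁿ(K)`. -/
theorem exists_epi_homology (n b : ℤ) (hb : ∀ i : ℤ, b < i → IsZero (K.X i))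
    (hP : ∀ i : ℤ, n < i → Projective (K.X i)) (hex : ∀ i : ℤ, n < i → K.ExactAt i) :
    ∃ p : K.X n ⟶ K.homology n, Epi p := by
  obtain ⟨r, hr⟩ := exists_retraction K n b hb hP hex
  have : IsSplitEpi r := ⟨⟨K.iCycles n, hr⟩⟩
  exact ⟨r ≫ K.homologyπ n, epi_comp _ _⟩

/-- If moreover `Kⁿ` is projective and `Kⁿ⁻¹ = 0`, then `Hⁿ(K)` is projective. -/
theorem projective_homology (n b : ℤ) (hb : ∀ i : ℤ, b < i → IsZero (K.X i))
    (hP : ∀ i : ℤ, n ≤ i → Projective (K.X i)) (hex : ∀ i : ℤ, n < i → K.ExactAt i)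
    (m : ℤ) (hm : m + 1 = n) (h0 : IsZero (K.X m)) : Projective (K.homology n) := by
  obtain ⟨r, hr⟩ := exists_retraction K n b hb (fun i hi => hP i hi.le) hex
  have hZ : Projective (K.cycles n) := projective_of_retraction (K.iCycles n) r hr (hP n le_rfl)
  have hiso : IsIso (K.homologyπ n) := by
    have h1 : K.toCycles m n = 0 := h0.eq_of_src _ _
    have hc := K.homologyIsCokernel m n (by simp; omega)
    have : Epi (K.homologyπ n) := inferInstance
    have : Mono (K.homologyπ n) := by
      apply Preadditive.mono_of_cancel_zero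
      intro A x hx
      have hex2 := (ShortComplex.exact_of_g_is_cokernel
        (ShortComplex.mk (K.toCycles m n) (K.homologyπ n) (by simp)) hc)
      rw [ShortComplex.exact_iff_exact_up_to_refinements] at hex2
      obtain ⟨A', π, hπ, x₁, hx₁⟩ := hex2 x hx
      dsimp at hx₁ x₁
      rw [h1, comp_zero] at hx₁
      rw [← cancel_epi π, hx₁, comp_zero]
    exact isIso_of_mono_of_epi _
  exact Projective.of_iso (asIso (K.homologyπ n)) hZ

end Groth.Agent.H89.PerfSplit
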