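import Mathlib
import Groth.Prelude.Def_W4c5algebraiztannakaNis
import Groth.Agent.H89.PerfGen
import Groth.Agent.H89.PerfSplit
import Groth.Agent.H35.ConeRep
import Groth.Agent.H28.StrictPerf

/-!
# The local bound: cohomology of a cone against a complex of bounded size (helper89)
-/

set_option autoImplicit false
universe u
open CategoryTheory Limits
open W4c5algebraiztannaka

namespace Groth.Agent.H89.PerfLocal

open Groth.Agent.H89.PerfGen

attribute [local instance] HasDerivedCategory.standard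

variable {B : Type u} [CommRing B]

/-- an isomorphism in the derived category induces isomorphisms in homology -/
noncomputable def homologyIsoOfQIso {K L : DRing.Cx B}
    (e : DRing.toD K ≅ DRing.toD L) (k : ℤ) : K.homology k ≅ L.homology k :=
  ((DerivedCategory.homologyFunctorFactors (ModuleCat.{u} B) k).app K).symm ≪≫
    (DerivedCategory.homologyFunctor (ModuleCat.{u} B) k).mapIso e ≪≫
    (DerivedCategory.homologyFunctorFactors (ModuleCat.{u} B) k).app L

lemma genBy_biprod (X Y : ModuleCat.{u} B) {c₁ c₂ : ℕ} (hX : GenBy B X c₁) (hY : GenBy B Y c₂) :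
    GenBy B ↑(X ⊞ Y) (c₁ + c₂) := by
  refine GenBy.of_sum hX hY (biprod.inl : X ⟶ X ⊞ Y).hom (biprod.inr : Y ⟶ X ⊞ Y).hom ?_
  intro x
  refine ⟨(biprod.fst : X ⊞ Y ⟶ X).hom x, (biprod.snd : X ⊞ Y ⟶ Y).hom x, ?_⟩
  have h := congrArg (fun f => f.hom x) (biprod.total (X := X) (Y := Y))
  exact h.symm

lemma genBy_of_iso {X Y : ModuleCat.{u} B} (e : X ≅ Y) {c : ℕ} (h : GenBy B X c) : GenBy B Y c :=
  h.of_surjective e.hom.hom e.toLinearEquiv.surjective

lemma genBy_of_epi {X Y : ModuleCat.{u} B} (p : X ⟶ Y) [Epi p] {c : ℕ} (h : GenBy B X c) :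
    GenBy B Y c :=
  h.of_surjective p.hom ((ModuleCat.epi_iff_surjective p).mp inferInstance)

lemma projective_of_termsOfSize {P : DRing.Cx B} {N : ℕ} (hP : TermsOfSize P N) (i : ℤ) :
    Projective (P.X i) := by
  have := (hP.2 i).1
  have h : Projective (ModuleCat.of B (P.X i)) := inferInstance
  exact h

lemma genBy_of_termsOfSize {P : DRing.Cx B} {N : ℕ} (hP : TermsOfSize P N) (i : ℤ) :
    GenBy B (P.X i) N := by
  obtain ⟨g, hg⟩ := (hP.2 i).2
  exact GenBy.of_exists_surjective g hg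

/-- A chain map `a : A ⟶ P` whose cone is isomorphic in the derived category to the cone of `u'`. -/
theorem exists_local_cone (A F' P : DRing.Cx B) (u' : A ⟶ F')
    (θ : DRing.toD P ≅ DRing.toD F') (bA : ℤ) (hbA : ∀ i : ℤ, bA < i → IsZero (A.X i))
    (hA : ∀ i : ℤ, Projective (A.X i)) :
    ∃ a : A ⟶ P, Nonempty (DRing.toD (CochainComplex.mappingCone a) ≅
      DRing.toD (CochainComplex.mappingCone u')) := by
  have : A.IsStrictlyLE bA := by
    rw [CochainComplex.isStrictlyLE_iff]
    exact hbA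
  have : A.IsKProjective := CochainComplex.isKProjective_of_projective A bA
  have hT : DerivedCategory.Q.mapTriangle.obj (CochainComplex.mappingCone.triangle u') ∈
      Pretriangulated.distinguishedTriangles := by
    rw [DerivedCategory.mem_distTriang_iff]
    exact ⟨_, _, u', ⟨Iso.refl _⟩⟩
  exact Groth.Agent.H35.exists_mappingCone_iso _ hT A P (Iso.refl _) θ

section Main

variable (A F' P : DRing.Cx B) (u' : A ⟶ F') (θ : DRing.toD P ≅ DRing.toD F') (N : ℕ) (n : ℤ)
  (hP : TermsOfSize P N) (bA : ℤ) (hbA : ∀ i : ℤ, bA < i → IsZero (A.X i))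
  (hA : ∀ i : ℤ, Projective (A.X i))
  (hex : ∀ i : ℤ, n < i → (CochainComplex.mappingCone u').ExactAt i)

include θ hP hbA hA hex in
/-- the auxiliary complex -/
lemma exists_aux : ∃ W : DRing.Cx B,
    (∀ i : ℤ, Nonempty (W.X i ≅ A.X (i + 1) ⊞ P.X i)) ∧
    (∀ i : ℤ, max bA N < i → IsZero (W.X i)) ∧ (∀ i : ℤ, Projective (W.X i)) ∧
    (∀ i : ℤ, n < i → W.ExactAt i) ∧
    (∀ i : ℤ, Nonempty (W.homology i ≅ (CochainComplex.mappingCone u').homology i)) := by
  obtain ⟨a, ⟨e⟩⟩ := exists_local_cone A F' P u' θ bA hbA hA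
  refine ⟨CochainComplex.mappingCone a, fun i => ⟨Groth.Agent.H35.mappingConeXIso a i⟩,
    fun i hi => ?_, fun i => ?_, fun i hi => ?_, fun i => ⟨homologyIsoOfQIso e i⟩⟩
  · exact Groth.Agent.H28.StrictPerf.isZero_mappingCone a i (hbA _ (by omega))
      (hP.1 i (Or.inr (by omega)))
  · have := hA (i + 1)
    have := projective_of_termsOfSize hP i
    exact Projective.of_iso (Groth.Agent.H35.mappingConeXIso a i).symm inferInstance
  · rw [HomologicalComplex.exactAt_iff_isZero_homology]
    exact IsZero.of_iso ((HomologicalComplex.exactAt_iff_isZero_homology _ _).mp (hex i hi))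
      (homologyIsoOfQIso e i)

include θ hP hbA hA hex in
theorem genBy_homology_cone (g : ℕ) (hg : ∀ i : ℤ, GenBy B (A.X i) g) :
    GenBy B ((CochainComplex.mappingCone u').homology n) (g + N) := by
  obtain ⟨W, hWX, hWb, hWP, hWex, hWh⟩ := exists_aux A F' P u' θ N n hP bA hbA hA hex
  obtain ⟨p, hp⟩ := Groth.Agent.H89.PerfSplit.exists_epi_homology W n (max bA N) hWb
    (fun i _ => hWP i) hWex
  obtain ⟨eX⟩ := hWX n
  obtain ⟨eh⟩ := hWh n
  have h1 : GenBy B (W.X n) (g + N) :=
    genBy_of_iso eX.symm (genBy_biprod _ _ (hg (n + 1)) (genBy_of_termsOfSize hP n))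
  exact genBy_of_iso eh (genBy_of_epi p h1)

include θ hP hbA hA hex in
theorem projective_homology_cone (hAn : ∀ i : ℤ, i ≤ n → IsZero (A.X i)) (hn : n < -(N : ℤ)) :
    Projective ((CochainComplex.mappingCone u').homology n) := by
  obtain ⟨W, hWX, hWb, hWP, hWex, hWh⟩ := exists_aux A F' P u' θ N n hP bA hbA hA hex
  obtain ⟨eh⟩ := hWh n
  obtain ⟨eX⟩ := hWX (n - 1)
  have h0 : IsZero (W.X (n - 1)) := by
    refine IsZero.of_iso ?_ eX
    have h1 : IsZero (A.X (n - 1 + 1)) := hAn _ (by omega)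
    have h2 : IsZero (P.X (n - 1)) := hP.1 _ (Or.inl (by omega))
    rw [IsZero.iff_id_eq_zero]
    apply biprod.hom_ext
    · rw [Category.id_comp, zero_comp]; exact h1.eq_of_tgt _ _
    · rw [Category.id_comp, zero_comp]; exact h2.eq_of_tgt _ _
  have := Groth.Agent.H89.PerfSplit.projective_homology W n (max bA N) hWb (fun i _ => hWP i) hWex
    (n - 1) (by omega) h0
  exact Projective.of_iso eh this

end Main

end Groth.Agent.H89.PerfLocal
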