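import Mathlib
import Groth.Agent.H28.PCohModify
import Groth.Agent.H28.StrictPerf

/-!
# The one-degree modification with an explicit attached object (helper89)

A variant of `Groth.Agent.H28.PCohCore.exists_modification_split` (whose proof is followed) which
records the modified complex explicitly, so that its exactness in the modified degree can be
studied when the attached object maps isomorphically onto the cohomology of the cone.
-/

set_option autoImplicit false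

universe v u

open CategoryTheory CategoryTheory.Limits CochainComplex HomComplex

namespace Groth.Agent.H89.PerfStep

open Groth.Agent.H28.ConeCoord Groth.Agent.H28.PCohCore

variable {C : Type u} [Category.{v} C] [Abelian C]

section Attach

variable {E F : CochainComplex C ℤ} (u : E ⟶ F) {n n1 n2 : ℤ} (hn1 : n + 1 = n1)
  (hn2 : n1 + 1 = n2) {L : C} (ζ₁ : L ⟶ E.X n1) (ζ₂ : L ⟶ F.X n)
  (hζ₁ : ζ₁ ≫ E.d n1 n2 = 0) (hζ : ζ₁ ≫ u.f n1 + ζ₂ ≫ F.d n n1 = 0)

/-- the modified complex -/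
noncomputable abbrev modE : CochainComplex C ℤ := mappingCone (attachMap hn2 ζ₁ hζ₁)

/-- the inclusion of `E` in the modified complex -/
noncomputable abbrev modV : E ⟶ modE hn2 ζ₁ hζ₁ := mappingCone.inr (attachMap hn2 ζ₁ hζ₁)

/-- the map from the modified complex -/
noncomputable def modU : modE hn2 ζ₁ hζ₁ ⟶ F :=
  mappingCone.desc (attachMap hn2 ζ₁ hζ₁) (attachCochain hn1 ζ₂) u
    (δ_attachCochain u hn1 hn2 ζ₁ ζ₂ hζ₁ hζ)

lemma modV_modU : modV hn2 ζ₁ hζ₁ ≫ modU u hn1 hn2 ζ₁ ζ₂ hζ₁ hζ = u :=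
  mappingCone.inr_desc _ _ _ _

lemma mono_modV_f (i : ℤ) : Mono ((modV hn2 ζ₁ hζ₁).f i) :=
  mono_of_mono_fac (mappingCone.inr_f_snd_v (attachMap hn2 ζ₁ hζ₁) i)

include hn1 in
lemma isIso_modV_f (i : ℤ) (hi : i ≠ n) : IsIso ((modV hn2 ζ₁ hζ₁).f i) := by
  have hAz : ∀ i : ℤ, i ≠ n1 → IsZero (((singleFunctor C n1).obj L).X i) := fun i hi =>
    HomologicalComplex.isZero_single_obj_X (.up ℤ) n1 L i hi
  have hz : (mappingCone.fst (attachMap hn2 ζ₁ hζ₁)).1.v i (i + 1) rfl = 0 :=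
    (hAz (i + 1) (by lia)).eq_of_tgt _ _
  have h := mappingCone.id_X (attachMap hn2 ζ₁ hζ₁) i (i + 1) rfl
  rw [hz, zero_comp, zero_add] at h
  exact ⟨(mappingCone.snd (attachMap hn2 ζ₁ hζ₁)).v i i (add_zero i),
    mappingCone.inr_f_snd_v (attachMap hn2 ζ₁ hζ₁) i, h⟩

include hn1 in
/-- the term of the modified complex in the modified degree -/
lemma nonempty_modE_X_iso : Nonempty ((modE hn2 ζ₁ hζ₁).X n ≅ L ⊞ E.X n) :=
  ⟨HomologicalComplex.homotopyCofiber.XIsoBiprod (attachMap hn2 ζ₁ hζ₁) n n1 hn1 ≪≫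
      biprod.mapIso (HomologicalComplex.singleObjXSelf (.up ℤ) n1 L) (Iso.refl _)⟩

include hn1 in
/-- if the attached map is a monomorphism and `E` vanishes in degree `n`, the modified complex is
exact in degree `n` -/
lemma exactAt_modE (hmono : Mono ζ₁) (h0 : IsZero (E.X n)) : (modE hn2 ζ₁ hζ₁).ExactAt n := by
  let s : ((singleFunctor C n1).obj L).X n1 ≅ L :=
    HomologicalComplex.singleObjXSelf (.up ℤ) n1 L
  rw [HomologicalComplex.exactAt_iff_exact_up_to_refinements _ (n - 1) n n1 (by simp)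
    (by simp [hn1])]
  intro T x₂ hx₂
  rw [eq_mk hn1 x₂] at hx₂ ⊢
  generalize x₂ ≫ (mappingCone.fst (attachMap hn2 ζ₁ hζ₁)).1.v n n1 hn1 = a at hx₂ ⊢
  generalize x₂ ≫ (mappingCone.snd (attachMap hn2 ζ₁ hζ₁)).v n n (add_zero n) = e at hx₂ ⊢
  have he : e = 0 := h0.eq_of_tgt _ _
  subst he
  rw [mk_d hn1 hn2, mk_eq_zero_iff] at hx₂
  obtain ⟨-, h2⟩ := hx₂
  rw [zero_comp, add_zero, attachMap_f] at h2
  have h3 : (a ≫ s.hom) ≫ ζ₁ = 0 := by rw [Category.assoc]; exact h2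
  have h4 : a ≫ s.hom = 0 := by
    rw [← cancel_mono ζ₁, h3, zero_comp]
  have h5 : a = 0 := by
    rw [← cancel_mono s.hom, h4, zero_comp]
  subst h5
  refine ⟨T, 𝟙 T, inferInstance, 0, ?_⟩
  rw [Category.id_comp, zero_comp, mk_eq_zero_iff]
  exact ⟨rfl, rfl⟩

include hn1 hn2 hζ₁ hζ in
/-- the one-degree modification: explicit form -/
theorem modU_epi_mono
    (hyp : ∀ ⦃T : C⦄ (a : T ⟶ E.X n1) (f : T ⟶ F.X n), a ≫ E.d n1 n2 = 0 →
      a ≫ u.f n1 + f ≫ F.d n n1 = 0 →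
      ∃ (T' : C) (π : T' ⟶ T) (_ : Epi π) (l : T' ⟶ L) (e' : T' ⟶ E.X n)
        (y' : T' ⟶ F.X (n - 1)),
        π ≫ a = l ≫ ζ₁ - e' ≫ E.d n n1 ∧
          π ≫ f = l ≫ ζ₂ + e' ≫ u.f n + y' ≫ F.d (n - 1) n) :
    Epi (HomologicalComplex.homologyMap (modU u hn1 hn2 ζ₁ ζ₂ hζ₁ hζ) n) ∧
      Mono (HomologicalComplex.homologyMap (modU u hn1 hn2 ζ₁ ζ₂ hζ₁ hζ) n1) := by
  let φ := attachMap hn2 ζ₁ hζ₁
  let α := attachCochain hn1 ζ₂
  have eq : δ (-1) 0 α = Cochain.ofHom (φ ≫ u) := δ_attachCochain u hn1 hn2 ζ₁ ζ₂ hζ₁ hζ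
  let s : ((singleFunctor C n1).obj L).X n1 ≅ L :=
    HomologicalComplex.singleObjXSelf (.up ℤ) n1 L
  have hφ : ∀ {T : C} (l : T ⟶ L), (l ≫ s.inv) ≫ φ.f n1 = l ≫ ζ₁ := by
    intro T l
    rw [attachMap_f]
    change (l ≫ s.inv) ≫ (s.hom ≫ ζ₁) = _
    rw [Category.assoc, Iso.inv_hom_id_assoc]
  have hα : ∀ {T : C} (l : T ⟶ L), (l ≫ s.inv) ≫ α.v n1 n (by lia) = -l ≫ ζ₂ := by
    intro T l
    rw [attachCochain_v]
    change (l ≫ s.inv) ≫ (s.hom ≫ (-ζ₂)) = _
    rw [Category.assoc, Iso.inv_hom_id_assoc, Preadditive.comp_neg]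
  have hAd : ∀ i j : ℤ, ((singleFunctor C n1).obj L).d i j = 0 := fun i j => rfl
  have hAz : ∀ i : ℤ, i ≠ n1 → IsZero (((singleFunctor C n1).obj L).X i) := fun i hi =>
    HomologicalComplex.isZero_single_obj_X (.up ℤ) n1 L i hi
  change Epi (HomologicalComplex.homologyMap (mappingCone.desc φ α u eq) n) ∧
    Mono (HomologicalComplex.homologyMap (mappingCone.desc φ α u eq) n1)
  constructor
  · rw [HomologicalComplex.epi_homologyMap_iff_up_to_refinements _ (n - 1) n n1 (by simp)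
      (by simp [hn1])]
    intro T y₂ hy₂
    obtain ⟨T', π, hπ, l, e', y', h1, h2⟩ := hyp (0 : T ⟶ E.X n1) y₂ (by simp) (by simpa using hy₂)
    rw [comp_zero] at h1
    refine ⟨T', π, hπ, mk φ hn1 (-l ≫ s.inv) e', ?_, y', ?_⟩
    · rw [mk_d hn1 hn2, mk_eq_zero_iff]
      constructor
      · rw [hAd]
        simp
      · rw [Preadditive.neg_comp, hφ, sub_eq_zero.mp h1.symm]
        simp
    · rw [mk_desc, Preadditive.neg_comp, hα, h2]
      simp
  · rw [HomologicalComplex.mono_homologyMap_iff_up_to_refinements _ n n1 n2 (by simp [← hn1])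
      (by simp [hn2])]
    intro T x₂ hx₂ y₁ hy₁
    rw [eq_mk hn2 x₂] at hx₂ hy₁ ⊢
    have hz : x₂ ≫ (mappingCone.fst φ).1.v n1 n2 hn2 = 0 :=
      (hAz n2 (by lia)).eq_of_tgt _ _
    rw [hz] at hx₂ hy₁ ⊢
    generalize x₂ ≫ (mappingCone.snd φ).v n1 n1 (add_zero n1) = e at hx₂ hy₁ ⊢
    have hn3 : n2 + 1 = n2 + 1 := rfl
    rw [mk_d hn2 hn3, mk_eq_zero_iff] at hx₂
    simp only [zero_comp, neg_zero, zero_add, true_and] at hx₂
    rw [mk_desc] at hy₁
    simp only [zero_comp, zero_add] at hy₁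
    obtain ⟨T', π, hπ, l, e', y', h1, h2⟩ := hyp (-e) y₁ (by simp [hx₂])
      (by rw [Preadditive.neg_comp, hy₁]; simp)
    refine ⟨T', π, hπ, mk φ hn1 (-l ≫ s.inv) e', ?_⟩
    rw [mk_d hn1 hn2, comp_mk, mk_eq_mk_iff]
    constructor
    · rw [hAd]
      simp
    · rw [Preadditive.neg_comp, hφ]
      rw [Preadditive.comp_neg] at h1
      rw [neg_eq_iff_eq_neg.mp h1]
      abel

end Attach

/-- the first coordinate of a map to the cycles of a cone is a monomorphism when the map is a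
monomorphism to cohomology, the target is exact and the source of the cone vanishes, in the given
degree -/
lemma mono_fst_of_mono_homology {E F : CochainComplex C ℤ} (u : E ⟶ F) {n n1 : ℤ}
    (hn1 : n + 1 = n1) {L : C} (ζ : L ⟶ (mappingCone u).cycles n)
    (hmono : Mono (ζ ≫ (mappingCone u).homologyπ n)) (h0 : IsZero (E.X n)) (hF : F.ExactAt n) :
    Mono ((ζ ≫ (mappingCone u).iCycles n) ≫ (mappingCone.fst u).1.v n n1 hn1) := by
  have hn0 : (n - 1) + 1 = n := by lia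
  have hn2 : n1 + 1 = n1 + 1 := rfl
  apply Preadditive.mono_of_cancel_zero
  intro T t ht
  have hc : (ζ ≫ (mappingCone u).iCycles n) ≫ (mappingCone u).d n n1 = 0 := by simp
  rw [eq_mk hn1 (ζ ≫ (mappingCone u).iCycles n)] at hc
  have hc2 : t ≫ (ζ ≫ (mappingCone u).iCycles n) =
      mk u hn1 0 (t ≫ (ζ ≫ (mappingCone u).iCycles n) ≫
        (mappingCone.snd u).v n n (add_zero n)) := by
    rw [eq_mk hn1 (t ≫ (ζ ≫ (mappingCone u).iCycles n))]
    apply mk_ext
    · rw [Category.assoc]; exact ht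
    · rw [Category.assoc]
  set ζ₂ := (ζ ≫ (mappingCone u).iCycles n) ≫ (mappingCone.snd u).v n n (add_zero n) with hζ₂
  rw [mk_d hn1 hn2, mk_eq_zero_iff] at hc
  obtain ⟨-, hc⟩ := hc
  have h1 : (t ≫ ζ₂) ≫ F.d n n1 = 0 := by
    have := congrArg (fun m => t ≫ m) hc
    simp only [Preadditive.comp_add, comp_zero] at this
    rw [← Category.assoc, ht, zero_comp, zero_add] at this
    rw [Category.assoc]
    exact this
  obtain ⟨T', π, hπ, y, hy⟩ := (F.exactAt_iff_exact_up_to_refinements (n - 1) n n1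
    (by simp) (by simp [← hn1])).mp hF (t ≫ ζ₂) h1
  have h2 : (π ≫ t ≫ ζ) ≫ (mappingCone u).iCycles n =
      (mk u hn0 0 y ≫ (mappingCone u).toCycles (n - 1) n) ≫ (mappingCone u).iCycles n := by
    rw [Category.assoc, Category.assoc, Category.assoc, HomologicalComplex.toCycles_i,
      mk_d hn0 hn1, hc2, comp_mk]
    apply mk_ext
    · simp
    · rw [zero_comp, zero_add]; exact hy
  have h3 : π ≫ t ≫ ζ = mk u hn0 0 y ≫ (mappingCone u).toCycles (n - 1) n := by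
    rw [← cancel_mono ((mappingCone u).iCycles n)]
    exact h2
  have h4 : (π ≫ t) ≫ (ζ ≫ (mappingCone u).homologyπ n) = 0 := by
    rw [Category.assoc, ← Category.assoc t, ← Category.assoc π, h3, Category.assoc,
      HomologicalComplex.toCycles_comp_homologyπ, comp_zero]
  have h5 : π ≫ t = 0 := by
    rw [← cancel_mono (ζ ≫ (mappingCone u).homologyπ n), h4, zero_comp]
  rw [← cancel_epi π, h5, comp_zero]

/-- one step modification with an explicit attached object -/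
theorem exists_modification_of_epi {E F : CochainComplex C ℤ} (u : E ⟶ F) (n : ℤ)
    (hiso : ∀ i : ℤ, n + 1 < i → IsIso (HomologicalComplex.homologyMap u i))
    (hepi : Epi (HomologicalComplex.homologyMap u (n + 1)))
    {L : C} (ζ : L ⟶ (mappingCone u).cycles n) (hζepi : Epi (ζ ≫ (mappingCone u).homologyπ n)) :
    ∃ (E' : CochainComplex C ℤ) (v : E ⟶ E') (u' : E' ⟶ F), v ≫ u' = u ∧
      (∀ i : ℤ, i ≠ n → IsIso (v.f i)) ∧ Nonempty (E'.X n ≅ L ⊞ E.X n) ∧
      (∀ i : ℤ, n < i → IsIso (HomologicalComplex.homologyMap u' i)) ∧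
      Epi (HomologicalComplex.homologyMap u' n) ∧
      (Mono (ζ ≫ (mappingCone u).homologyπ n) → IsZero (E.X n) → F.ExactAt n →
        E'.ExactAt n) := by
  have hn1 : n + 1 = n + 1 := rfl
  have hn2 : (n + 1) + 1 = n + 2 := by lia
  have hn0 : (n - 1) + 1 = n := by lia
  have hζ₀ : (ζ ≫ (mappingCone u).iCycles n) ≫ (mappingCone u).d n (n + 1) = 0 := by simp
  rw [eq_mk hn1 (ζ ≫ (mappingCone u).iCycles n), mk_d hn1 hn2, mk_eq_zero_iff] at hζ₀
  obtain ⟨hζ₁, hζ⟩ := hζ₀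
  rw [neg_eq_zero] at hζ₁
  obtain ⟨hepi', hmono'⟩ := modU_epi_mono u hn1 hn2 _ _ hζ₁ hζ (by
      intro T a f ha haf
      obtain ⟨T', π, hπ, l, c', hc'⟩ := cycle_decomp (mappingCone u) (n - 1) n (n + 1) hn0 hn1 ζ
        hζepi (mk u hn1 a f) (by rw [mk_d hn1 hn2, ha, haf]; simp [mk_eq_zero_iff])
      refine ⟨T', π, hπ, l, c' ≫ (mappingCone.fst u).1.v (n - 1) n hn0,
        c' ≫ (mappingCone.snd u).v (n - 1) (n - 1) (add_zero _), ?_⟩
      rw [eq_mk hn0 c', eq_mk hn1 (ζ ≫ (mappingCone u).iCycles n), mk_d hn0 hn1, comp_mk, comp_mk,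
        mk_add, mk_eq_mk_iff] at hc'
      obtain ⟨h1, h2⟩ := hc'
      refine ⟨?_, ?_⟩
      · rw [h1]
        abel
      · rw [h2]
        abel)
  have hvu := modV_modU u hn1 hn2 _ _ hζ₁ hζ
  have hisov := isIso_modV_f hn1 hn2 _ hζ₁
  have hmonov := mono_modV_f hn2 _ hζ₁
  refine ⟨_, modV hn2 _ hζ₁, modU u hn1 hn2 _ _ hζ₁ hζ, hvu, hisov,
    nonempty_modE_X_iso hn1 hn2 _ hζ₁, ?_, hepi', ?_⟩
  · intro i hi
    have hcomp := HomologicalComplex.homologyMap_comp (modV hn2 _ hζ₁)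
      (modU u hn1 hn2 _ _ hζ₁ hζ) i
    rw [hvu] at hcomp
    by_cases hi' : i = n + 1
    · subst hi'
      have : Epi (HomologicalComplex.homologyMap (modU u hn1 hn2 _ _ hζ₁ hζ) (n + 1)) := by
        rw [hcomp] at hepi
        exact epi_of_epi (HomologicalComplex.homologyMap (modV hn2 _ hζ₁) (n + 1)) _
      exact isIso_of_mono_of_epi _
    · have : QuasiIsoAt (modV hn2 _ hζ₁) i :=
        quasiIsoAt_of_isIso_f (modV hn2 _ hζ₁) (i - 1) i (i + 1) (by lia) rfl
        (by have := hisov (i - 1) (by lia); infer_instance) (hisov i (by lia)) (hmonov _)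
      have := hiso i (by lia)
      have : IsIso (HomologicalComplex.homologyMap (modV hn2 _ hζ₁) i) :=
        (quasiIsoAt_iff_isIso_homologyMap (modV hn2 _ hζ₁) i).mp inferInstance
      exact IsIso.of_isIso_fac_left hcomp.symm
  · intro hm h0 hF
    exact exactAt_modE hn1 hn2 _ hζ₁ (mono_fst_of_mono_homology u hn1 ζ hm h0 hF) h0

end Groth.Agent.H89.PerfStep
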