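import Mathlib
import Groth.Prelude.Def_W4c5algebraiztannakaNis
import Groth.Agent.H89.PerfGen
import Groth.Agent.H89.PerfSplit
import Groth.Agent.H89.PerfBC
import Groth.Agent.H89.PerfLocal
import Groth.Agent.H89.PerfStep
import Groth.Agent.H28.PCohQI

/-!
# From local size to global size of a perfect complex: the induction (helper89)
-/

set_option autoImplicit false
universe u
open CategoryTheory Limits AlgebraicGeometry TensorProduct
open W4c5algebraiztannaka
open scoped ZeroObject

namespace Groth.Agent.H89.PerfInd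

open Groth.Agent.H89.PerfGen Groth.Agent.H89.PerfBC Groth.Agent.H89.PerfLocal

attribute [local instance] HasDerivedCategory.standard

section Prelim

variable {R : Type u} [CommRing R]

lemma finite_biprod (X Y : ModuleCat.{u} R) [Module.Finite R X] [Module.Finite R Y] :
    Module.Finite R ↑(X ⊞ Y) := by
  obtain ⟨c₁, s₁, h₁⟩ := Module.Finite.exists_fin (R := R) (M := X)
  obtain ⟨c₂, s₂, h₂⟩ := Module.Finite.exists_fin (R := R) (M := Y)
  exact (genBy_biprod X Y ⟨s₁, h₁⟩ ⟨s₂, h₂⟩).finite

lemma module_projective_of_projective (M : ModuleCat.{u} R) (h : Projective M) :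
    Module.Projective R M :=
  (IsProjective.iff_projective (R := R) ↑M).mpr h

lemma projective_of_module_projective (M : ModuleCat.{u} R) (h : Module.Projective R M) :
    Projective M :=
  (IsProjective.iff_projective (R := R) ↑M).mp h

lemma exactAt_of_iso {K K' : DRing.Cx R} (e : K ≅ K') (i : ℤ) (h : K.ExactAt i) :
    K'.ExactAt i := by
  rw [HomologicalComplex.exactAt_iff_isZero_homology] at h ⊢
  exact IsZero.of_iso h
    ((HomologicalComplex.homologyFunctor (ModuleCat.{u} R) (ComplexShape.up ℤ) i).mapIso e.symm)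

/-- finite presentation of the top cohomology -/
lemma finitePresentation_homology (K : DRing.Cx R) (n b : ℤ)
    (hb : ∀ i : ℤ, b < i → IsZero (K.X i)) (hP : ∀ i : ℤ, Projective (K.X i))
    (hfin : ∀ i : ℤ, Module.Finite R (K.X i)) (hex : ∀ i : ℤ, n < i → K.ExactAt i) :
    Module.FinitePresentation R (K.homology n) := by
  obtain ⟨r, hr⟩ := Groth.Agent.H89.PerfSplit.exists_retraction K n b hb (fun i _ => hP i) hex
  have hZp : Projective (K.cycles n) :=
    Groth.Agent.H89.PerfSplit.projective_of_retraction (K.iCycles n) r hr (hP n)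
  have hZmp : Module.Projective R (K.cycles n) := module_projective_of_projective _ hZp
  have hrs : Function.Surjective r.hom := by
    intro z
    refine ⟨(K.iCycles n).hom z, ?_⟩
    have := congrArg (fun f => f.hom z) hr
    exact this
  have := hfin n
  have hZf : Module.Finite R (K.cycles n) := Module.Finite.of_surjective r.hom hrs
  have hZfp : Module.FinitePresentation R (K.cycles n) := Module.finitePresentation_of_projective R _
  have hc := K.homologyIsCokernel (n - 1) n (by simp)
  have hex2 := (ShortComplex.exact_of_g_is_cokernel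
    (ShortComplex.mk (K.toCycles (n - 1) n) (K.homologyπ n) (by simp)) hc)
  rw [ShortComplex.moduleCat_exact_iff_range_eq_ker] at hex2
  have hsurj : Function.Surjective (K.homologyπ n).hom :=
    (ModuleCat.epi_iff_surjective _).mp inferInstance
  refine Module.finitePresentation_of_surjective (K.homologyπ n).hom hsurj ?_
  dsimp at hex2
  rw [← hex2]
  have := hfin (n - 1)
  rw [LinearMap.range_eq_map]
  exact Submodule.FG.map _ Module.Finite.fg_top

end Prelim

section Main

variable {R B : Type u} [CommRing R] [CommRing B] [Algebra R B]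

/-- the generator bound recursion -/
def G (N : ℕ) : ℕ → ℕ
  | 0 => 0
  | (j + 1) => (G N j + N) * N + G N j

/-- the stage of the construction -/
def Stage (E : DRing.Cx R) (N : ℕ) (k : ℤ) (g : ℕ) : Prop :=
  ∃ (A : DRing.Cx R) (u : A ⟶ E), (∀ i : ℤ, i < k → IsZero (A.X i)) ∧
    (∀ i : ℤ, (N : ℤ) < i → IsZero (A.X i)) ∧
    (∀ i : ℤ, Projective (A.X i)) ∧ (∀ i : ℤ, GenBy R (A.X i) g) ∧
    (∀ i : ℤ, k < i → IsIso (HomologicalComplex.homologyMap u i)) ∧
    Epi (HomologicalComplex.homologyMap u k)

variable (E : DRing.Cx R) (N : ℕ) (P : DRing.Cx B) (hP : TermsOfSize P N)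
  (θ : DRing.toD P ≅ DRing.toD ((bcCx (algebraMap R B)).obj E))
  (hff : (algebraMap R B).FaithfullyFlat)

include hP θ hff in
lemma isZero_homology_E (i : ℤ) (hi : (N : ℤ) < i ∨ i < -(N : ℤ)) : IsZero (E.homology i) := by
  apply isZero_homology_of_bc (algebraMap R B) hff E i
  refine IsZero.of_iso ?_ (homologyIsoOfQIso θ.symm i)
  have h0 : IsZero (P.X i) := hP.1 i (by omega)
  have : P.ExactAt i := (P.sc i).exact_of_isZero_X₂ h0
  exact this.isZero_homology

lemma cone_exactAt {A : DRing.Cx R} (u : A ⟶ E) (n : ℤ)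
    (hiso : ∀ i : ℤ, n + 1 < i → IsIso (HomologicalComplex.homologyMap u i))
    (hepi : Epi (HomologicalComplex.homologyMap u (n + 1))) (i : ℤ) (hi : n < i) :
    (CochainComplex.mappingCone u).ExactAt i := by
  rw [HomologicalComplex.exactAt_iff_isZero_homology,
    Groth.Agent.H28.PCohCore.isZero_homology_mappingCone_iff u i (i + 1) rfl]
  have := hiso (i + 1) (by omega)
  constructor
  · rcases (show n + 1 ≤ i by omega).eq_or_lt with h | h
    · rw [← h]; exact hepi
    · have := hiso i h
      infer_instance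
  · infer_instance

include hP θ hff in
lemma local_genBy {A : DRing.Cx R} (u : A ⟶ E) (n : ℤ) (g : ℕ)
    (hAb : ∀ i : ℤ, (N : ℤ) < i → IsZero (A.X i)) (hAp : ∀ i : ℤ, Projective (A.X i))
    (hAg : ∀ i : ℤ, GenBy R (A.X i) g)
    (hex : ∀ i : ℤ, n < i → (CochainComplex.mappingCone u).ExactAt i) :
    GenBy B (B ⊗[R] ((CochainComplex.mappingCone u).homology n)) (g + N) := by
  have hexB : ∀ i : ℤ, n < i →
      (CochainComplex.mappingCone ((bcCx (algebraMap R B)).map u)).ExactAt i := fun i hi =>
    exactAt_of_iso (bcConeIso (algebraMap R B) u) i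
      (exactAt_bc (algebraMap R B) hff.flat _ i (hex i hi))
  have hABb : ∀ i : ℤ, (N : ℤ) < i → IsZero (((bcCx (algebraMap R B)).obj A).X i) := fun i hi =>
    (ModuleCat.extendScalars.{u, u, u} (algebraMap R B)).map_isZero (hAb i hi)
  have hABp : ∀ i : ℤ, Projective (((bcCx (algebraMap R B)).obj A).X i) := fun i =>
    projective_extendScalars (algebraMap R B) _ (hAp i)
  have hABg : ∀ i : ℤ, GenBy B (((bcCx (algebraMap R B)).obj A).X i) g := fun i =>
    genBy_extendScalars _ (hAg i)
  have h1 := genBy_homology_cone _ _ P ((bcCx (algebraMap R B)).map u) θ N n hP N hABb hABp hexB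
    g hABg
  have e1 : (CochainComplex.mappingCone ((bcCx (algebraMap R B)).map u)).homology n ≅
      ((bcCx (algebraMap R B)).obj (CochainComplex.mappingCone u)).homology n :=
    (HomologicalComplex.homologyFunctor (ModuleCat.{u} B) (ComplexShape.up ℤ) n).mapIso
      (bcConeIso (algebraMap R B) u).symm
  have e2 := bcHomologyIso (algebraMap R B) hff.flat (CochainComplex.mappingCone u) n
  exact genBy_tensor_of_extendScalars _ (genBy_of_iso (e1 ≪≫ e2) h1)

include hP θ hff in
lemma local_projective {A : DRing.Cx R} (u : A ⟶ E) (n : ℤ) (hn : n < -(N : ℤ))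
    (hAb : ∀ i : ℤ, (N : ℤ) < i → IsZero (A.X i)) (hAp : ∀ i : ℤ, Projective (A.X i))
    (hAn : ∀ i : ℤ, i ≤ n → IsZero (A.X i))
    (hex : ∀ i : ℤ, n < i → (CochainComplex.mappingCone u).ExactAt i) :
    Module.Projective B (B ⊗[R] ((CochainComplex.mappingCone u).homology n)) := by
  have hexB : ∀ i : ℤ, n < i →
      (CochainComplex.mappingCone ((bcCx (algebraMap R B)).map u)).ExactAt i := fun i hi =>
    exactAt_of_iso (bcConeIso (algebraMap R B) u) i
      (exactAt_bc (algebraMap R B) hff.flat _ i (hex i hi))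
  have hABb : ∀ i : ℤ, (N : ℤ) < i → IsZero (((bcCx (algebraMap R B)).obj A).X i) := fun i hi =>
    (ModuleCat.extendScalars.{u, u, u} (algebraMap R B)).map_isZero (hAb i hi)
  have hABn : ∀ i : ℤ, i ≤ n → IsZero (((bcCx (algebraMap R B)).obj A).X i) := fun i hi =>
    (ModuleCat.extendScalars.{u, u, u} (algebraMap R B)).map_isZero (hAn i hi)
  have hABp : ∀ i : ℤ, Projective (((bcCx (algebraMap R B)).obj A).X i) := fun i =>
    projective_extendScalars (algebraMap R B) _ (hAp i)
  have h1 := projective_homology_cone _ _ P ((bcCx (algebraMap R B)).map u) θ N n hP N hABb hABp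
    hexB hABn hn
  have e1 : (CochainComplex.mappingCone ((bcCx (algebraMap R B)).map u)).homology n ≅
      ((bcCx (algebraMap R B)).obj (CochainComplex.mappingCone u)).homology n :=
    (HomologicalComplex.homologyFunctor (ModuleCat.{u} B) (ComplexShape.up ℤ) n).mapIso
      (bcConeIso (algebraMap R B) u).symm
  have e2 := bcHomologyIso (algebraMap R B) hff.flat (CochainComplex.mappingCone u) n
  have h2 : Projective ((ModuleCat.extendScalars.{u, u, u} (algebraMap R B)).obj
      ((CochainComplex.mappingCone u).homology n)) := Projective.of_iso (e1 ≪≫ e2) h1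
  have h3 := module_projective_of_projective _ h2
  exact Module.Projective.of_equiv
    (Groth.Agent.H44.extendScalarsEquiv (A := R) (B := B) ((CochainComplex.mappingCone u).homology n))

variable (bE : ℤ) (hbE : ∀ i : ℤ, bE < i → IsZero (E.X i))
  (hfp : DRing.TermwiseFiniteProjective E)
  (hcov : IsNisCoverLen (Spec.map (CommRingCat.ofHom (algebraMap R B))) N)

include hbE hfp in
lemma cone_terms {A : DRing.Cx R} (u : A ⟶ E)
    (hAb : ∀ i : ℤ, (N : ℤ) < i → IsZero (A.X i)) (hAp : ∀ i : ℤ, Projective (A.X i))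
    (hAf : ∀ i : ℤ, Module.Finite R (A.X i)) :
    (∀ i : ℤ, max (N : ℤ) bE < i → IsZero ((CochainComplex.mappingCone u).X i)) ∧
    (∀ i : ℤ, Projective ((CochainComplex.mappingCone u).X i)) ∧
    (∀ i : ℤ, Module.Finite R ((CochainComplex.mappingCone u).X i)) := by
  refine ⟨fun i hi => ?_, fun i => ?_, fun i => ?_⟩
  · exact Groth.Agent.H28.StrictPerf.isZero_mappingCone u i (hAb _ (by omega)) (hbE i (by omega))
  · have := hAp (i + 1)
    have := projective_of_module_projective _ (hfp i).2
    exact Projective.of_iso (Groth.Agent.H35.mappingConeXIso u i).symm inferInstance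
  · have := hAf (i + 1)
    have := (hfp i).1
    have h1 := finite_biprod (A.X (i + 1)) (E.X i)
    exact Module.Finite.of_surjective (Groth.Agent.H35.mappingConeXIso u i).inv.hom
      (Groth.Agent.H35.mappingConeXIso u i).symm.toLinearEquiv.surjective

include hP θ hff hbE hfp hcov in
theorem stage_step (n : ℤ) (hn : n ≤ N) (g : ℕ) (h : Stage E N (n + 1) g) :
    Stage E N n ((g + N) * N + g) := by
  obtain ⟨A, u, hAk, hAb, hAp, hAg, hiso, hepi⟩ := h
  have hAf : ∀ i : ℤ, Module.Finite R (A.X i) := fun i => (hAg i).finite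
  obtain ⟨hCb, hCp, hCf⟩ := cone_terms E N bE hbE hfp u hAb hAp hAf
  have hex := cone_exactAt E u n hiso hepi
  obtain ⟨p, hp⟩ := Groth.Agent.H89.PerfSplit.exists_epi_homology (CochainComplex.mappingCone u) n
    (max (N : ℤ) bE) hCb (fun i _ => hCp i) hex
  have := hCf n
  have hHf : Module.Finite R ((CochainComplex.mappingCone u).homology n) :=
    Module.Finite.of_surjective p.hom ((ModuleCat.epi_iff_surjective p).mp hp)
  have hloc := local_genBy E N P hP θ hff u n g hAb hAp hAg hex
  have hglob : GenBy R ((CochainComplex.mappingCone u).homology n) ((g + N) * N) :=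
    genBy_of_nisCover N (g + N) hcov _ hloc
  obtain ⟨q, hq⟩ := hglob.exists_surjective
  let L : ModuleCat.{u} R := ModuleCat.of R (Fin ((g + N) * N) → R)
  have hLp : Projective L := projective_of_module_projective L inferInstance
  have hLg : GenBy R L ((g + N) * N) := GenBy.of_exists_surjective LinearMap.id Function.surjective_id
  let q' : L ⟶ (CochainComplex.mappingCone u).homology n := ModuleCat.ofHom q
  have hq' : Epi q' := (ModuleCat.epi_iff_surjective q').mpr hq
  let ζ : L ⟶ (CochainComplex.mappingCone u).cycles n :=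
    Projective.factorThru q' ((CochainComplex.mappingCone u).homologyπ n)
  have hζ : ζ ≫ (CochainComplex.mappingCone u).homologyπ n = q' := Projective.factorThru_comp _ _
  have hζepi : Epi (ζ ≫ (CochainComplex.mappingCone u).homologyπ n) := by rw [hζ]; exact hq'
  obtain ⟨E', v, u', -, hisov, ⟨eX⟩, hiso', hepi', -⟩ :=
    Groth.Agent.H89.PerfStep.exists_modification_of_epi u n hiso hepi ζ hζepi
  refine ⟨E', u', fun i hi => ?_, fun i hi => ?_, fun i => ?_, fun i => ?_, hiso', hepi'⟩
  · have := hisov i (by omega)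
    exact IsZero.of_iso (hAk i (by omega)) (asIso (v.f i)).symm
  · have := hisov i (by omega)
    exact IsZero.of_iso (hAb i hi) (asIso (v.f i)).symm
  · by_cases hi : i = n
    · subst hi
      have := hAp i
      exact Projective.of_iso eX.symm inferInstance
    · have := hisov i hi
      exact Projective.of_iso (asIso (v.f i)) (hAp i)
  · by_cases hi : i = n
    · subst hi
      exact genBy_of_iso eX.symm (genBy_biprod _ _ hLg (hAg i))
    · have := hisov i hi
      exact (genBy_of_iso (asIso (v.f i)) (hAg i)).mono (by omega)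

include hP θ hff hbE hfp hcov in
theorem stage_final (g : ℕ) (h : Stage E N (-(N : ℤ)) g) :
    ∃ (A' : DRing.Cx R) (u' : A' ⟶ E), (∀ i : ℤ, i < -(N : ℤ) - 1 → IsZero (A'.X i)) ∧
      (∀ i : ℤ, (N : ℤ) < i → IsZero (A'.X i)) ∧ (∀ i : ℤ, Projective (A'.X i)) ∧
      (∀ i : ℤ, GenBy R (A'.X i) ((g + N) * N + g)) ∧ QuasiIso u' := by
  obtain ⟨A, u, hAk, hAb, hAp, hAg, hiso, hepi⟩ := h
  set n : ℤ := -(N : ℤ) - 1 with hn
  have hn1 : n + 1 = -(N : ℤ) := by omega
  have hiso2 : ∀ i : ℤ, n + 1 < i → IsIso (HomologicalComplex.homologyMap u i) := fun i hi =>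
    hiso i (by omega)
  have hepi2 : Epi (HomologicalComplex.homologyMap u (n + 1)) := by rw [hn1]; exact hepi
  have hAf : ∀ i : ℤ, Module.Finite R (A.X i) := fun i => (hAg i).finite
  obtain ⟨hCb, hCp, hCf⟩ := cone_terms E N bE hbE hfp u hAb hAp hAf
  have hex := cone_exactAt E u n hiso2 hepi2
  have hHfp : Module.FinitePresentation R ((CochainComplex.mappingCone u).homology n) :=
    finitePresentation_homology _ n (max (N : ℤ) bE) hCb hCp hCf hex
  have hHf : Module.Finite R ((CochainComplex.mappingCone u).homology n) := inferInstance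
  have hloc := local_genBy E N P hP θ hff u n g hAb hAp hAg hex
  have hglob : GenBy R ((CochainComplex.mappingCone u).homology n) ((g + N) * N) :=
    genBy_of_nisCover N (g + N) hcov _ hloc
  have hlocp := local_projective E N P hP θ hff u n (by omega) hAb hAp
    (fun i hi => hAk i (by omega)) hex
  have hFF : Module.FaithfullyFlat R B := RingHom.faithfullyFlat_algebraMap_iff.mp hff
  have hflatB : Module.Flat B (B ⊗[R] ((CochainComplex.mappingCone u).homology n)) :=
    Module.Flat.of_projective
  have hflat : Module.Flat R ((CochainComplex.mappingCone u).homology n) :=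
    Module.Flat.of_flat_tensorProduct R _ B
  have hHmp : Module.Projective R ((CochainComplex.mappingCone u).homology n) :=
    Module.Flat.projective_of_finitePresentation
  let L : ModuleCat.{u} R := (CochainComplex.mappingCone u).homology n
  have hLp : Projective L := projective_of_module_projective L hHmp
  let ζ : L ⟶ (CochainComplex.mappingCone u).cycles n :=
    Projective.factorThru (𝟙 L) ((CochainComplex.mappingCone u).homologyπ n)
  have hζ : ζ ≫ (CochainComplex.mappingCone u).homologyπ n = 𝟙 L := Projective.factorThru_comp _ _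
  have hζepi : Epi (ζ ≫ (CochainComplex.mappingCone u).homologyπ n) := by rw [hζ]; infer_instance
  have hζmono : Mono (ζ ≫ (CochainComplex.mappingCone u).homologyπ n) := by
    rw [hζ]; infer_instance
  obtain ⟨E', v, u', -, hisov, ⟨eX⟩, hiso', hepi', hexact⟩ :=
    Groth.Agent.H89.PerfStep.exists_modification_of_epi u n hiso2 hepi2 ζ hζepi
  have hEz : ∀ i : ℤ, i < -(N : ℤ) → IsZero (E.homology i) := fun i hi =>
    isZero_homology_E E N P hP θ hff i (Or.inr hi)
  have hE'n : E'.ExactAt n := hexact hζmono (hAk n (by omega))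
    ((HomologicalComplex.exactAt_iff_isZero_homology _ _).mpr (hEz n (by omega)))
  have hE'z : ∀ i : ℤ, i < n → IsZero (E'.X i) := fun i hi => by
    have := hisov i (by omega)
    exact IsZero.of_iso (hAk i (by omega)) (asIso (v.f i)).symm
  refine ⟨E', u', hE'z, fun i hi => ?_, fun i => ?_, fun i => ?_, ?_⟩
  · have := hisov i (by omega)
    exact IsZero.of_iso (hAb i hi) (asIso (v.f i)).symm
  · by_cases hi : i = n
    · rw [hi]
      have := hAp n
      exact Projective.of_iso eX.symm inferInstance
    · have := hisov i hi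
      exact Projective.of_iso (asIso (v.f i)) (hAp i)
  · by_cases hi : i = n
    · rw [hi]
      exact genBy_of_iso eX.symm (genBy_biprod _ _ hglob (hAg n))
    · have := hisov i hi
      exact (genBy_of_iso (asIso (v.f i)) (hAg i)).mono (by omega)
  · rw [quasiIso_iff]
    intro i
    rw [quasiIsoAt_iff_isIso_homologyMap]
    rcases lt_trichotomy i n with hi | hi | hi
    · have h1 : IsZero (E'.homology i) := by
        have h2 : E'.ExactAt i := (E'.sc i).exact_of_isZero_X₂ (hE'z i hi)
        exact h2.isZero_homology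
      exact ⟨⟨0, h1.eq_of_src _ _, (hEz i (by omega)).eq_of_src _ _⟩⟩
    · rw [hi]
      have h1 : IsZero (E'.homology n) := (HomologicalComplex.exactAt_iff_isZero_homology _ _).mp hE'n
      exact ⟨⟨0, h1.eq_of_src _ _, (hEz n (by omega)).eq_of_src _ _⟩⟩
    · exact hiso' i hi

include hP θ hff hbE hfp hcov in
theorem stage_all (j : ℕ) : Stage E N ((N : ℤ) + 1 - j) (G N j) := by
  induction j with
  | zero =>
    have h0 : IsZero (0 : DRing.Cx R) := isZero_zero _
    have h0X : ∀ i : ℤ, IsZero ((0 : DRing.Cx R).X i) := fun i =>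
      (HomologicalComplex.eval (ModuleCat.{u} R) (ComplexShape.up ℤ) i).map_isZero h0
    have hEz : ∀ i : ℤ, (N : ℤ) < i → IsZero (E.homology i) := fun i hi =>
      isZero_homology_E E N P hP θ hff i (Or.inl hi)
    refine ⟨0, 0, fun i _ => h0X i, fun i _ => h0X i, fun i => (h0X i).projective, fun i => ?_,
      fun i hi => ?_, ?_⟩
    · have : Subsingleton ((0 : DRing.Cx R).X i) := ModuleCat.subsingleton_of_isZero (h0X i)
      exact GenBy.of_subsingleton _
    · have h1 : IsZero ((0 : DRing.Cx R).homology i) := by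
        have h2 : (0 : DRing.Cx R).ExactAt i := ((0 : DRing.Cx R).sc i).exact_of_isZero_X₂ (h0X i)
        exact h2.isZero_homology
      exact ⟨⟨0, h1.eq_of_src _ _, (hEz i (by push_cast at hi; omega)).eq_of_src _ _⟩⟩
    · exact (hEz _ (by push_cast; omega)).epi _
  | succ j ih =>
    have h1 := stage_step E N P hP θ hff bE hbE hfp hcov ((N : ℤ) + 1 - (j + 1 : ℕ)) (by omega)
      (G N j) (by
        have : (N : ℤ) + 1 - (j + 1 : ℕ) + 1 = (N : ℤ) + 1 - j := by push_cast; omega
        rw [this]
        exact ih)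
    exact h1

include hP θ hff hbE hfp hcov in
theorem globSize_of_local :
    GlobSize R (DRing.toD E) (max (N + 1) (G N (2 * N + 2))) := by
  have h := stage_all E N P hP θ hff bE hbE hfp hcov (2 * N + 1)
  have hk : (N : ℤ) + 1 - (2 * N + 1 : ℕ) = -(N : ℤ) := by push_cast; omega
  rw [hk] at h
  obtain ⟨A', u', hA'z, hA'b, hA'p, hA'g, hqi⟩ :=
    stage_final E N P hP θ hff bE hbE hfp hcov (G N (2 * N + 1)) h
  have hG : (G N (2 * N + 1) + N) * N + G N (2 * N + 1) = G N (2 * N + 2) := rfl
  rw [hG] at hA'g
  refine ⟨A', ⟨fun i hi => ?_, fun i => ⟨?_, ?_⟩⟩, ?_⟩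
  · rcases hi with hi | hi
    · refine hA'z i ?_
      have : ((N + 1 : ℕ) : ℤ) ≤ ((max (N + 1) (G N (2 * N + 2)) : ℕ) : ℤ) :=
        Int.ofNat_le.mpr (le_max_left _ _)
      push_cast at this hi
      omega
    · refine hA'b i ?_
      have : ((N + 1 : ℕ) : ℤ) ≤ ((max (N + 1) (G N (2 * N + 2)) : ℕ) : ℤ) :=
        Int.ofNat_le.mpr (le_max_left _ _)
      push_cast at this hi
      omega
  · exact module_projective_of_projective _ (hA'p i)
  · exact ((hA'g i).mono (le_max_right _ _)).exists_surjective
  · have : IsIso (DerivedCategory.Q.map u') := by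
      rw [DerivedCategory.isIso_Q_map_iff_quasiIso]
      exact hqi
    exact ⟨asIso (DerivedCategory.Q.map u')⟩

end Main

end Groth.Agent.H89.PerfInd
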