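import Mathlib
import Groth.Agent.H19.PiTensorFP

/-!
# Products of base changes of a finitely presented module (helper89)

`finitePresentation_pi_tensor`: for a finitely presented `B`-module `P` and any family of
`B`-algebras `R i`, the product `∏ (R i ⊗ P)` is finitely presented over `∏ R i`
(using helper19's `PiTensor.finitePresentation_iff`).
-/

set_option autoImplicit false
universe u
open TensorProduct

namespace Groth.Agent.H89.PiFP

variable (B : Type u) [CommRing B] {ι : Type u} (R : ι → Type u) [∀ i, CommRing (R i)]
  [∀ i, Algebra B (R i)] (P : Type u) [AddCommGroup P] [Module B P]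

/-- The `B`-linear comparison map `(∏ R i) ⊗ P → ∏ (R i ⊗ P)`. -/
noncomputable def rhoB : (∀ i, R i) ⊗[B] P →ₗ[B] ∀ i, R i ⊗[B] P :=
  LinearMap.pi fun i => LinearMap.rTensor P (LinearMap.proj i)

theorem rhoB_tmul (l : ∀ i, R i) (p : P) (i : ι) : rhoB B R P (l ⊗ₜ p) i = l i ⊗ₜ p := rfl

theorem rhoB_eq (z : (∀ i, R i) ⊗[B] P) (i : ι) :
    rhoB B R P z i = TensorProduct.comm B P (R i)
      (TensorProduct.piRightHom B B P R (TensorProduct.comm B (∀ i, R i) P z) i) := by
  induction z using TensorProduct.induction_on with
  | zero => simp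
  | tmul l p => rfl
  | add x y hx hy =>
    rw [map_add, map_add, map_add, Pi.add_apply, Pi.add_apply, map_add, hx, hy]

theorem rhoB_bijective [Module.FinitePresentation B P] : Function.Bijective (rhoB B R P) := by
  have h := (Groth.Agent.H19.PiTensor.finitePresentation_iff B P).mp inferInstance ι R
  have : rhoB B R P = (fun w : ∀ i, P ⊗[B] R i => fun i => TensorProduct.comm B P (R i) (w i)) ∘
      (TensorProduct.piRightHom B B P R) ∘ (TensorProduct.comm B (∀ i, R i) P) := by
    funext z; funext i
    exact rhoB_eq B R P z i
  rw [this]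
  refine Function.Bijective.comp ?_ (h.comp (TensorProduct.comm B (∀ i, R i) P).bijective)
  constructor
  · intro w w' hw
    funext i
    exact (TensorProduct.comm B P (R i)).injective (congrFun hw i)
  · intro v
    exact ⟨fun i => (TensorProduct.comm B P (R i)).symm (v i), by funext i; simp⟩

theorem rhoB_smul (l : ∀ i, R i) (z : (∀ i, R i) ⊗[B] P) :
    rhoB B R P (l • z) = l • rhoB B R P z := by
  induction z using TensorProduct.induction_on with
  | zero => simp
  | tmul m p =>
    funext i
    rw [TensorProduct.smul_tmul', rhoB_tmul]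
    change (l i • m i) ⊗ₜ[B] p = l i • (m i ⊗ₜ[B] p)
    rw [TensorProduct.smul_tmul']
  | add x y hx hy => rw [smul_add, map_add, hx, hy, map_add, smul_add]

/-- `∏ (R i ⊗ P)` is finitely presented over `∏ R i` when `P` is finitely presented. -/
theorem finitePresentation_pi_tensor [Module.FinitePresentation B P] :
    Module.FinitePresentation (∀ i, R i) (∀ i, R i ⊗[B] P) := by
  let e : (∀ i, R i) ⊗[B] P ≃ₗ[∀ i, R i] ∀ i, R i ⊗[B] P :=
    LinearEquiv.ofBijective
      { toFun := rhoB B R P
        map_add' := map_add _
        map_smul' := fun l z => rhoB_smul B R P l z } (rhoB_bijective B R P)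
  exact Module.FinitePresentation.of_equiv e

end Groth.Agent.H89.PiFP
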