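import Mathlib

/-!
# Sections of isomorphic modules; products of linear equivalences over varying rings (helper89)
-/

set_option autoImplicit false
universe u
open CategoryTheory Limits AlgebraicGeometry TopologicalSpace Opposite TensorProduct

namespace Groth.Agent.H89.PiSections

/-- An isomorphism of modules induces linear equivalences on sections. -/
noncomputable def sectionsEquivOfIso {Y : Scheme.{u}} {M N : Y.Modules} (e : M ≅ N) (U : Y.Opens) :
    Γ(M, U) ≃ₗ[Γ(Y, U)] Γ(N, U) where
  toFun := e.hom.app U
  invFun := e.inv.app U
  map_add' := map_add _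
  map_smul' r x := Scheme.Modules.Hom.app_smul e.hom r x
  left_inv x := by
    change (e.hom.app U ≫ e.inv.app U) x = x
    rw [← Scheme.Modules.Hom.comp_app, e.hom_inv_id]
    rfl
  right_inv x := by
    change (e.inv.app U ≫ e.hom.app U) x = x
    rw [← Scheme.Modules.Hom.comp_app, e.inv_hom_id]
    rfl

/-- Product of linear equivalences over varying rings. -/
def piEquiv {ι : Type*} (R : ι → Type*) [∀ i, Semiring (R i)] (M N : ι → Type*)
    [∀ i, AddCommMonoid (M i)] [∀ i, AddCommMonoid (N i)] [∀ i, Module (R i) (M i)]
    [∀ i, Module (R i) (N i)] (e : ∀ i, M i ≃ₗ[R i] N i) :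
    (∀ i, M i) ≃ₗ[∀ i, R i] (∀ i, N i) where
  toFun x i := e i (x i)
  invFun y i := (e i).symm (y i)
  map_add' x y := by funext i; simp
  map_smul' r x := by funext i; simp
  left_inv x := by funext i; simp
  right_inv y := by funext i; simp

end Groth.Agent.H89.PiSections
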