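import Mathlib

/-!
# Action of `End (𝟙_ D)` on objects of a monoidal category (helper89)

`act φ Z = λ⁻¹ ≫ (φ ▷ Z) ≫ λ`, its naturality, multiplicativity, compatibility with tensor
products (braided case), and bijectivity for invertible objects.
-/

set_option linter.unusedSectionVars false
open CategoryTheory MonoidalCategory
universe v u
namespace Groth.Agent.H89.PicTorsor

variable {D : Type u} [Category.{v} D] [MonoidalCategory D]

/-- the action of an endomorphism of the unit on an object -/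
def act (φ : End (𝟙_ D)) (Z : D) : Z ⟶ Z := (λ_ Z).inv ≫ ((φ : 𝟙_ D ⟶ 𝟙_ D) ▷ Z) ≫ (λ_ Z).hom

theorem act_naturality (φ : End (𝟙_ D)) {Z Z' : D} (f : Z ⟶ Z') : act φ Z ≫ f = f ≫ act φ Z' := by
  unfold act
  simp only [Category.assoc]
  rw [← leftUnitor_naturality, ← whisker_exchange_assoc, ← leftUnitor_inv_naturality_assoc]

theorem act_one (Z : D) : act (1 : End (𝟙_ D)) Z = 𝟙 Z := by
  unfold act
  rw [End.one_def, id_whiskerRight, Category.id_comp, Iso.inv_hom_id]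

theorem act_mul (φ ψ : End (𝟙_ D)) (Z : D) : act (φ * ψ) Z = act ψ Z ≫ act φ Z := by
  unfold act
  rw [End.mul_def, comp_whiskerRight]
  simp only [Category.assoc, Iso.hom_inv_id_assoc]

theorem act_whiskerRight (φ : End (𝟙_ D)) (A B : D) : act φ A ▷ B = act φ (A ⊗ B) := by
  unfold act
  rw [leftUnitor_tensor_hom, leftUnitor_tensor_inv]
  simp only [comp_whiskerRight, Category.assoc]
  congr 1
  rw [whiskerRight_tensor]
  simp only [Category.assoc, Iso.hom_inv_id_assoc]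

theorem act_injective (Z : D) (hZ : (tensorRight Z).IsEquivalence) :
    Function.Injective (fun φ : End (𝟙_ D) => act φ Z) := by
  intro φ ψ h
  have h1 : ((φ : 𝟙_ D ⟶ 𝟙_ D) ▷ Z) = ((ψ : 𝟙_ D ⟶ 𝟙_ D) ▷ Z) := by
    have h2 : (λ_ Z).inv ≫ ((φ : 𝟙_ D ⟶ 𝟙_ D) ▷ Z) ≫ (λ_ Z).hom =
        (λ_ Z).inv ≫ ((ψ : 𝟙_ D ⟶ 𝟙_ D) ▷ Z) ≫ (λ_ Z).hom := h
    exact (cancel_mono (λ_ Z).hom).1 ((cancel_epi (λ_ Z).inv).1 h2)
  exact (tensorRight Z).map_injective h1

theorem act_surjective (Z : D) (hZ : (tensorRight Z).IsEquivalence) :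
    Function.Surjective (fun φ : End (𝟙_ D) => act φ Z) := by
  intro g
  let g' : (tensorRight Z).obj (𝟙_ D) ⟶ (tensorRight Z).obj (𝟙_ D) :=
    (λ_ Z).hom ≫ g ≫ (λ_ Z).inv
  refine ⟨(tensorRight Z).preimage g', ?_⟩
  have h1 : ((tensorRight Z).preimage g' : 𝟙_ D ⟶ 𝟙_ D) ▷ Z = g' := (tensorRight Z).map_preimage g'
  change (λ_ Z).inv ≫ (((tensorRight Z).preimage g' : 𝟙_ D ⟶ 𝟙_ D) ▷ Z) ≫ (λ_ Z).hom = g
  rw [h1]
  simp [g']

variable [BraidedCategory D]

theorem act_whiskerLeft (ψ : End (𝟙_ D)) (A B : D) : A ◁ act ψ B = act ψ (A ⊗ B) := by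
  have h1 := act_naturality ψ (β_ A B).hom
  rw [← act_whiskerRight ψ B A, ← BraidedCategory.braiding_naturality_right] at h1
  exact ((cancel_mono (β_ A B).hom).1 h1).symm

theorem act_tensorHom (φ ψ : End (𝟙_ D)) (A B : D) :
    act φ A ⊗ₘ act ψ B = act (ψ * φ) (A ⊗ B) := by
  rw [MonoidalCategory.tensorHom_def, act_whiskerRight, act_whiskerLeft, act_mul]

theorem act_tensorHom' (φ ψ : End (𝟙_ D)) (A B : D) :
    act φ A ⊗ₘ act ψ B = act (φ * ψ) (A ⊗ B) := by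
  rw [MonoidalCategory.tensorHom_def', act_whiskerRight, act_whiskerLeft, act_mul]

section Torsor

open Functor.LaxMonoidal

variable {C : Type*} [Category C] [MonoidalCategory C] [IsGroupoid C] [IsGroupoid D]
  (hD : ∀ X : D, (tensorLeft X).IsEquivalence ∧ (tensorRight X).IsEquivalence)
  (F G : C ⥤ D) [F.LaxMonoidal] [G.LaxMonoidal] (θ₀ θ : F ⟶ G)

/-- the endomorphism of the unit measuring the difference of `θ` and `θ₀` at `X` -/
noncomputable def chi₀ (X : C) : End (𝟙_ D) :=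
  Classical.choose (act_surjective (G.obj X) (hD _).2 (inv (θ₀.app X) ≫ θ.app X))

theorem chi₀_spec (X : C) : act (chi₀ hD F G θ₀ θ X) (G.obj X) = inv (θ₀.app X) ≫ θ.app X :=
  Classical.choose_spec (act_surjective (G.obj X) (hD _).2 (inv (θ₀.app X) ≫ θ.app X))

theorem app_eq (X : C) : θ.app X = θ₀.app X ≫ act (chi₀ hD F G θ₀ θ X) (G.obj X) := by
  rw [chi₀_spec, IsIso.hom_inv_id_assoc]

theorem chi₀_unique (X : C) (φ : End (𝟙_ D)) (h : θ.app X = θ₀.app X ≫ act φ (G.obj X)) :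
    φ = chi₀ hD F G θ₀ θ X := by
  apply act_injective (G.obj X) (hD _).2
  change act φ (G.obj X) = act (chi₀ hD F G θ₀ θ X) (G.obj X)
  rw [chi₀_spec, h, IsIso.inv_hom_id_assoc]

theorem chi₀_iso {X Y : C} (f : X ⟶ Y) : chi₀ hD F G θ₀ θ X = chi₀ hD F G θ₀ θ Y := by
  symm
  apply chi₀_unique
  have h1 := θ.naturality f
  rw [app_eq hD F G θ₀ θ Y, θ₀.naturality_assoc f, ← act_naturality] at h1
  have h2 : θ.app X ≫ G.map f = (θ₀.app X ≫ act (chi₀ hD F G θ₀ θ Y) (G.obj X)) ≫ G.map f := by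
    rw [← h1]; simp only [Category.assoc]
  exact (cancel_mono (G.map f)).1 h2

variable [NatTrans.IsMonoidal θ₀] [NatTrans.IsMonoidal θ]

theorem chi₀_one : chi₀ hD F G θ₀ θ (𝟙_ C) = 1 := by
  symm
  apply chi₀_unique
  rw [act_one, Category.comp_id]
  have h1 : ε F ≫ θ.app (𝟙_ C) = ε F ≫ θ₀.app (𝟙_ C) := by
    rw [NatTrans.IsMonoidal.unit, NatTrans.IsMonoidal.unit]
  exact (cancel_epi (ε F)).1 h1

theorem chi₀_mul (X Y : C) :
    chi₀ hD F G θ₀ θ (X ⊗ Y) = chi₀ hD F G θ₀ θ X * chi₀ hD F G θ₀ θ Y := by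
  symm
  apply chi₀_unique
  have h1 : μ F X Y ≫ θ.app (X ⊗ Y) = (θ.app X ⊗ₘ θ.app Y) ≫ μ G X Y := NatTrans.IsMonoidal.tensor X Y
  have h0 : μ F X Y ≫ θ₀.app (X ⊗ Y) = (θ₀.app X ⊗ₘ θ₀.app Y) ≫ μ G X Y :=
    NatTrans.IsMonoidal.tensor X Y
  have h2 : μ F X Y ≫ θ.app (X ⊗ Y) = μ F X Y ≫ θ₀.app (X ⊗ Y) ≫
      act (chi₀ hD F G θ₀ θ X * chi₀ hD F G θ₀ θ Y) (G.obj (X ⊗ Y)) := by
    rw [h1, app_eq hD F G θ₀ θ X, app_eq hD F G θ₀ θ Y, ← MonoidalCategory.tensorHom_comp_tensorHom,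
      act_tensorHom', Category.assoc, act_naturality, reassoc_of% h0]
  exact (cancel_epi (μ F X Y)).1 h2

/-- the class function on the skeleton -/
noncomputable def chiFun (s : Skeleton C) : End (𝟙_ D) :=
  chi₀ hD F G θ₀ θ ((fromSkeleton C).obj s)

omit [NatTrans.IsMonoidal θ₀] [NatTrans.IsMonoidal θ] in
theorem chiFun_toSkeleton (X : C) : chiFun hD F G θ₀ θ (toSkeleton X) = chi₀ hD F G θ₀ θ X :=
  chi₀_iso hD F G θ₀ θ (fromSkeletonToSkeletonIso X).hom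

/-- the monoid homomorphism attached to a monoidal natural transformation -/
noncomputable def chiHom : Skeleton C →* End (𝟙_ D) where
  toFun := chiFun hD F G θ₀ θ
  map_one' := by
    rw [Skeleton.one_eq, chiFun_toSkeleton, chi₀_one]
  map_mul' a b := by
    rw [Skeleton.mul_eq, chiFun_toSkeleton, chi₀_mul]
    rfl

theorem chiHom_spec (X : C) :
    θ.app X = θ₀.app X ≫ act (chiHom hD F G θ₀ θ (toSkeleton X)) (G.obj X) := by
  change θ.app X = θ₀.app X ≫ act (chiFun hD F G θ₀ θ (toSkeleton X)) (G.obj X)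
  rw [chiFun_toSkeleton]
  exact app_eq hD F G θ₀ θ X

omit [NatTrans.IsMonoidal θ] in
/-- the natural transformation attached to a homomorphism -/
noncomputable def twist (χ : Skeleton C →* End (𝟙_ D)) : F ⟶ G where
  app X := θ₀.app X ≫ act (χ (toSkeleton X)) (G.obj X)
  naturality X Y f := by
    have h : toSkeleton X = toSkeleton Y := Quotient.sound ⟨asIso f⟩
    rw [h, θ₀.naturality_assoc, Category.assoc, act_naturality]

omit [NatTrans.IsMonoidal θ] in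
theorem twist_isMonoidal (χ : Skeleton C →* End (𝟙_ D)) :
    NatTrans.IsMonoidal (twist F G θ₀ χ) where
  unit := by
    change ε F ≫ θ₀.app (𝟙_ C) ≫ act (χ (toSkeleton (𝟙_ C))) (G.obj (𝟙_ C)) = ε G
    rw [← Skeleton.one_eq, map_one, act_one, Category.comp_id, NatTrans.IsMonoidal.unit]
  tensor X Y := by
    change μ F X Y ≫ θ₀.app (X ⊗ Y) ≫ act (χ (toSkeleton (X ⊗ Y))) (G.obj (X ⊗ Y)) =
      ((θ₀.app X ≫ act (χ (toSkeleton X)) (G.obj X)) ⊗ₘ
        (θ₀.app Y ≫ act (χ (toSkeleton Y)) (G.obj Y))) ≫ μ G X Y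
    have h0 : μ F X Y ≫ θ₀.app (X ⊗ Y) = (θ₀.app X ⊗ₘ θ₀.app Y) ≫ μ G X Y :=
      NatTrans.IsMonoidal.tensor X Y
    rw [Skeleton.toSkeleton_tensorObj, map_mul, reassoc_of% h0, ← act_naturality,
      ← act_tensorHom', ← MonoidalCategory.tensorHom_comp_tensorHom, Category.assoc]

end Torsor

end Groth.Agent.H89.PicTorsor
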