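import Mathlib

/-!
# `X(∏ Aᵢ) → ∏ X(Aᵢ)` is surjective for quasi-compact `X` (helper89)

Mathlib proves injectivity for quasi-separated `X` (`AlgebraicGeometry.pointsPi_injective`) and
surjectivity when `X` is affine or when all `Aᵢ` are local.  Here we prove surjectivity for
arbitrary rings `Aᵢ` when `X` is quasi-compact and quasi-separated.

Proof: choose a finite affine cover `U_k` of `X`; for each `i` a partition of unity
`1 ∈ (a_{ik})_k` in `A_i` with `D(a_{ik}) ⊆ f_i⁻¹(U_k)`.  The rings
`B'_k = ∏_i (A_i)_{a_{ik}}` are localizations of `B = ∏ A_i` (at `∏_i {a_{ik}^n}`),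
the family `Spec B'_k → Spec B` is a finite jointly surjective family of flat morphisms of affine
schemes, i.e. an fpqc covering, and `B'_k ⊗_B B'_l` is the localization at the product
submonoid, which is again a product ring `∏_i (A_i)_{a_{ik} a_{il}}`.  The maps
`Spec B'_k → U_k ⊆ X` given by the affine case are compatible on overlaps by the injectivity
statement, hence descend to `Spec B → X`.
-/

set_option autoImplicit false

open CategoryTheory Limits AlgebraicGeometry PrimeSpectrum

universe u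

namespace Groth.Agent.H89.PointsPi

section Ring

/-- A finite open cover of `Spec R` admits a subordinate family of elements spanning the unit
ideal, with the same index set. -/
theorem exists_span_eq_top_basicOpen_le {R : Type u} [CommRing R] {K : Type*}
    (W : K → TopologicalSpace.Opens (PrimeSpectrum R)) (hW : ⨆ k, W k = ⊤) :
    ∃ a : K → R, Ideal.span (Set.range a) = ⊤ ∧ ∀ k, PrimeSpectrum.basicOpen (a k) ≤ W k := by
  classical
  let I : K → Ideal R := fun k => vanishingIdeal ((W k : Set (PrimeSpectrum R))ᶜ)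
  have hI : ∀ k, zeroLocus (I k : Set R) = (W k : Set (PrimeSpectrum R))ᶜ := fun k => by
    rw [zeroLocus_vanishingIdeal_eq_closure, (W k).isOpen.isClosed_compl.closure_eq]
  have htop : (⨆ k, I k) = ⊤ := by
    rw [← zeroLocus_empty_iff_eq_top, zeroLocus_iSup]
    simp_rw [hI]
    rw [← Set.compl_iUnion]
    have : (⋃ k, (W k : Set (PrimeSpectrum R))) = Set.univ := by
      have := congrArg (fun O : TopologicalSpace.Opens (PrimeSpectrum R) =>
        (O : Set (PrimeSpectrum R))) hW
      simpa using this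
    rw [this, Set.compl_univ]
  have h1 : (1 : R) ∈ ⨆ k, I k := by rw [htop]; trivial
  obtain ⟨c, hc, hsum⟩ := (Submodule.mem_iSup_iff_exists_finsupp I 1).mp h1
  refine ⟨fun k => c k, ?_, ?_⟩
  · rw [Ideal.eq_top_iff_one, ← hsum]
    exact Ideal.sum_mem _ fun k _ => Ideal.subset_span ⟨k, rfl⟩
  · intro k x hx
    by_contra hxW
    have hx' : x ∈ zeroLocus (I k : Set R) := by rw [hI]; exact hxW
    exact hx (hx' (hc k))

/-- Powers (with varying exponents) of a family spanning the unit ideal span the unit ideal. -/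
theorem span_range_pow_eq_top' {R : Type*} [CommRing R] {K : Type*} (a : K → R)
    (ha : Ideal.span (Set.range a) = ⊤) (n : K → ℕ) :
    Ideal.span (Set.range fun k => a k ^ n k) = ⊤ := by
  by_contra hne
  obtain ⟨M, hM, hle⟩ := Ideal.exists_le_maximal _ hne
  have : Ideal.span (Set.range a) ≤ M := by
    rw [Ideal.span_le]
    rintro _ ⟨k, rfl⟩
    exact hM.isPrime.mem_of_pow_mem (n k) (hle (Ideal.subset_span ⟨k, rfl⟩))
  rw [ha] at this
  exact hM.ne_top (top_le_iff.mp this)

/-- The product submonoid of powers. -/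
abbrev piPowers {ι : Type*} (A : ι → Type*) [∀ i, CommRing (A i)] (a : ∀ i, A i) :
    Submonoid (∀ i, A i) :=
  Submonoid.pi Set.univ fun i => Submonoid.powers (a i)

/-- Joint surjectivity: every prime of `∏ A_i` is disjoint from one of the product submonoids
of powers attached to a uniformly finite partition of unity. -/
theorem exists_disjoint_piPowers {ι : Type*} {K : Type*} [Finite K] (A : ι → Type*)
    [∀ i, CommRing (A i)] (a : K → ∀ i, A i)
    (ha : ∀ i, Ideal.span (Set.range fun k => a k i) = ⊤)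
    (q : Ideal (∀ i, A i)) [hq : q.IsPrime] :
    ∃ k, Disjoint ((piPowers A (a k) : Submonoid (∀ i, A i)) : Set (∀ i, A i)) (q : Set _) := by
  classical
  by_contra hcon
  simp only [not_exists, Set.not_disjoint_iff] at hcon
  choose s hs hsq using hcon
  have hpow : ∀ k i, ∃ N : ℕ, a k i ^ N = s k i := fun k i => by
    have := hs k
    rw [SetLike.mem_coe, Submonoid.mem_pi] at this
    exact (Submonoid.mem_powers_iff _ _).mp (this i (Set.mem_univ i))
  choose N hN using hpow
  have hT : Ideal.span (Set.range s) = ⊤ := by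
    refine AlgebraicGeometry.Ideal.span_eq_top_of_span_image_evalRingHom (Set.range s)
      (Set.finite_range s) fun i => ?_
    have : Pi.evalRingHom (fun i => A i) i '' Set.range s = Set.range fun k => a k i ^ N k i := by
      ext x
      simp only [Set.mem_image, Set.mem_range, Pi.evalRingHom_apply, exists_exists_eq_and]
      constructor
      · rintro ⟨k, rfl⟩; exact ⟨k, hN k i⟩
      · rintro ⟨k, rfl⟩; exact ⟨k, (hN k i).symm⟩
    rw [this]
    exact span_range_pow_eq_top' (fun k => a k i) (ha i) fun k => N k i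
  have hle : Ideal.span (Set.range s) ≤ q := by
    rw [Ideal.span_le]
    rintro _ ⟨k, rfl⟩
    exact hsq k
  rw [hT] at hle
  exact hq.ne_top (top_le_iff.mp hle)

end Ring

section Scheme

variable {ι : Type u} (R : ι → CommRingCat.{u}) {X : Scheme.{u}}

/-- Surjectivity of `pointsPi` onto families that factor through a fixed affine open. -/
theorem exists_pointsPi_eq_of_range_subset {U : Scheme.{u}} [IsAffine U] (j : U ⟶ X)
    [IsOpenImmersion j] (h : ∀ i, Spec (R i) ⟶ X)
    (hh : ∀ i, Set.range (h i) ⊆ Set.range j) :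
    ∃ g : Spec (.of <| ∀ i, R i) ⟶ X, pointsPi R X g = h := by
  obtain ⟨g', hg'⟩ := pointsPi_surjective_of_isAffine R U
    (fun i => IsOpenImmersion.lift j (h i) (hh i))
  refine ⟨g' ≫ j, ?_⟩
  funext i
  have := congrFun hg' i
  simp only [pointsPi] at this ⊢
  rw [← Category.assoc, this, IsOpenImmersion.lift_fac]

end Scheme

section Compat

variable {ι : Type u} (A : ι → CommRingCat.{u}) {X : Scheme.{u}} [QuasiSeparatedSpace X]
  (f : ∀ i, Spec (A i) ⟶ X) (x y : ∀ i, A i)

/-- The family of localizations `(A_i)_{x_i}`. -/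
abbrev awayFam (x : ∀ i, A i) : ι → CommRingCat.{u} :=
  fun i => CommRingCat.of (Localization.Away (x i))

/-- The structure map `∏ A_i → ∏ (A_i)_{x_i}`. -/
noncomputable abbrev toAway (x : ∀ i, A i) :
    CommRingCat.of (∀ i, A i) ⟶ CommRingCat.of (∀ i, awayFam A x i) :=
  CommRingCat.ofHom (algebraMap (∀ i, A i) (∀ i, Localization.Away (x i)))

/-- A map `Spec ∏ (A_i)_{x_i} → X` restricting to `f_i` on each `Spec (A_i)_{x_i}`. -/
def IsLocalLift (x : ∀ i, A i) (g : Spec (.of <| ∀ i, awayFam A x i) ⟶ X) : Prop :=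
  ∀ i, Spec.map (CommRingCat.ofHom (Pi.evalRingHom (fun j => (awayFam A x j : Type u)) i)) ≫ g =
    Spec.map (CommRingCat.ofHom (algebraMap (A i) (Localization.Away (x i)))) ≫ f i

set_option maxHeartbeats 1600000 in
theorem compat {g₁ : Spec (.of <| ∀ i, awayFam A x i) ⟶ X}
    {g₂ : Spec (.of <| ∀ i, awayFam A y i) ⟶ X}
    (h₁ : IsLocalLift A f x g₁) (h₂ : IsLocalLift A f y g₂)
    {R : CommRingCat.{u}} (η₁ : CommRingCat.of (∀ i, awayFam A x i) ⟶ R)
    (η₂ : CommRingCat.of (∀ i, awayFam A y i) ⟶ R)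
    (hη : toAway A x ≫ η₁ = toAway A y ≫ η₂) :
    Spec.map η₁ ≫ g₁ = Spec.map η₂ ≫ g₂ := by
  classical
  -- the double localization
  let P : ι → Type u := fun i => Localization.Away (x i * y i)
  let η : (∀ i, A i) →+* R := η₁.hom.comp (algebraMap (∀ i, A i) (∀ i, Localization.Away (x i)))
  have hη' : η = η₂.hom.comp (algebraMap (∀ i, A i) (∀ i, Localization.Away (y i))) := by
    have := congrArg CommRingCat.Hom.hom hη
    exact this
  have hunit : ∀ s : piPowers (fun i => (A i : Type u)) (fun i => x i * y i), IsUnit (η s) := by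
    rintro ⟨s, hs⟩
    rw [Submonoid.mem_pi] at hs
    have hN : ∀ i, ∃ N : ℕ, (x i * y i) ^ N = s i := fun i =>
      (Submonoid.mem_powers_iff _ _).mp (hs i (Set.mem_univ i))
    choose N hN using hN
    let s₁ : ∀ i, A i := fun i => x i ^ N i
    let s₂ : ∀ i, A i := fun i => y i ^ N i
    have hs12 : s = s₁ * s₂ := by
      funext i
      simp only [Pi.mul_apply, s₁, s₂, ← hN i, mul_pow]
    have hs₁ : s₁ ∈ piPowers (fun i => (A i : Type u)) x := by
      rw [Submonoid.mem_pi]
      intro i _
      exact ⟨N i, rfl⟩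
    have hs₂ : s₂ ∈ piPowers (fun i => (A i : Type u)) y := by
      rw [Submonoid.mem_pi]
      intro i _
      exact ⟨N i, rfl⟩
    show IsUnit (η s)
    rw [hs12, map_mul]
    refine IsUnit.mul ?_ ?_
    · exact (IsLocalization.map_units (∀ i, Localization.Away (x i)) ⟨s₁, hs₁⟩).map η₁.hom
    · rw [hη']
      exact (IsLocalization.map_units (∀ i, Localization.Away (y i)) ⟨s₂, hs₂⟩).map η₂.hom
  let ξ : (∀ i, P i) →+* R :=
    IsLocalization.lift (M := piPowers (fun i => (A i : Type u)) (fun i => x i * y i)) hunit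
  let ψ₁ : (∀ i, Localization.Away (x i)) →+* (∀ i, P i) :=
    RingHom.pi fun i => (IsLocalization.Away.awayToAwayRight (x i) (y i)).comp
      (Pi.evalRingHom (fun j => Localization.Away (x j)) i)
  let ψ₂ : (∀ i, Localization.Away (y i)) →+* (∀ i, P i) :=
    RingHom.pi fun i => (IsLocalization.Away.awayToAwayLeft (y i) (x i)).comp
      (Pi.evalRingHom (fun j => Localization.Away (y j)) i)
  have hψ₁ : ψ₁.comp (algebraMap (∀ i, A i) (∀ i, Localization.Away (x i))) =
      algebraMap (∀ i, A i) (∀ i, P i) := by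
    ext b i
    exact IsLocalization.Away.awayToAwayRight_eq (x i) (y i) (b i)
  have hψ₂ : ψ₂.comp (algebraMap (∀ i, A i) (∀ i, Localization.Away (y i))) =
      algebraMap (∀ i, A i) (∀ i, P i) := by
    ext b i
    exact IsLocalization.Away.awayToAwayLeft_eq (y i) (x i) (b i)
  have hξ : ξ.comp (algebraMap (∀ i, A i) (∀ i, P i)) = η := IsLocalization.lift_comp _
  have e₁ : ξ.comp ψ₁ = η₁.hom := by
    apply IsLocalization.ringHom_ext (piPowers (fun i => (A i : Type u)) x)
    rw [RingHom.comp_assoc, hψ₁, hξ]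
  have e₂ : ξ.comp ψ₂ = η₂.hom := by
    apply IsLocalization.ringHom_ext (piPowers (fun i => (A i : Type u)) y)
    rw [RingHom.comp_assoc, hψ₂, hξ, hη']
  -- key: agreement on the double localization by injectivity of `pointsPi`
  have key : Spec.map (CommRingCat.ofHom ψ₁) ≫ g₁ = Spec.map (CommRingCat.ofHom ψ₂) ≫ g₂ := by
    apply pointsPi_injective (fun i => CommRingCat.of (P i)) X
    funext i
    simp only [pointsPi]
    have c₁ : (Pi.evalRingHom P i).comp ψ₁ =
        (IsLocalization.Away.awayToAwayRight (x i) (y i)).comp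
          (Pi.evalRingHom (fun j => (awayFam A x j : Type u)) i) := rfl
    have c₂ : (Pi.evalRingHom P i).comp ψ₂ =
        (IsLocalization.Away.awayToAwayLeft (y i) (x i)).comp
          (Pi.evalRingHom (fun j => (awayFam A y j : Type u)) i) := rfl
    have d₁ : (IsLocalization.Away.awayToAwayRight (S := Localization.Away (x i))
        (P := P i) (x i) (y i)).comp (algebraMap (A i) (Localization.Away (x i))) =
        algebraMap (A i) (P i) := by
      ext b
      exact IsLocalization.Away.awayToAwayRight_eq (x i) (y i) b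
    have d₂ : (IsLocalization.Away.awayToAwayLeft (S := Localization.Away (y i))
        (P := P i) (y i) (x i)).comp (algebraMap (A i) (Localization.Away (y i))) =
        algebraMap (A i) (P i) := by
      ext b
      exact IsLocalization.Away.awayToAwayLeft_eq (y i) (x i) b
    have L₁ : Spec.map (CommRingCat.ofHom (Pi.evalRingHom P i)) ≫
        Spec.map (CommRingCat.ofHom ψ₁) ≫ g₁ =
        Spec.map (CommRingCat.ofHom (algebraMap (A i) (P i))) ≫ f i := by
      rw [← Category.assoc, ← Spec.map_comp, ← CommRingCat.ofHom_comp, c₁,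
        CommRingCat.ofHom_comp, Spec.map_comp, Category.assoc]
      rw [h₁ i]
      rw [← Category.assoc, ← Spec.map_comp, ← CommRingCat.ofHom_comp, d₁]
    have L₂ : Spec.map (CommRingCat.ofHom (Pi.evalRingHom P i)) ≫
        Spec.map (CommRingCat.ofHom ψ₂) ≫ g₂ =
        Spec.map (CommRingCat.ofHom (algebraMap (A i) (P i))) ≫ f i := by
      rw [← Category.assoc, ← Spec.map_comp, ← CommRingCat.ofHom_comp, c₂,
        CommRingCat.ofHom_comp, Spec.map_comp, Category.assoc]
      rw [h₂ i]
      rw [← Category.assoc, ← Spec.map_comp, ← CommRingCat.ofHom_comp, d₂]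
    exact L₁.trans L₂.symm
  have E₁ : η₁ = CommRingCat.ofHom ψ₁ ≫ CommRingCat.ofHom ξ := by
    ext1; exact e₁.symm
  have E₂ : η₂ = CommRingCat.ofHom ψ₂ ≫ CommRingCat.ofHom ξ := by
    ext1; exact e₂.symm
  rw [E₁, E₂, Spec.map_comp, Spec.map_comp, Category.assoc, Category.assoc, key]

end Compat

section Main

/-- Every morphism to an affine scheme factors through `toSpecΓ`. -/
theorem hom_eq_toSpecΓ_comp {Z : Scheme.{u}} {S : CommRingCat.{u}} (h : Z ⟶ Spec S) :
    h = Z.toSpecΓ ≫ Spec.map ((Scheme.ΓSpecIso S).inv ≫ h.appTop) := by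
  rw [Spec.map_comp, ← Category.assoc, ← Scheme.toSpecΓ_naturality, Category.assoc,
    toSpecΓ_SpecMap_ΓSpecIso_inv, Category.comp_id]

theorem comp_eq_of_comp_SpecMap_eq {Z : Scheme.{u}} {B S₁ S₂ : CommRingCat.{u}}
    (φ₁ : B ⟶ S₁) (φ₂ : B ⟶ S₂) (h₁ : Z ⟶ Spec S₁) (h₂ : Z ⟶ Spec S₂)
    (h : h₁ ≫ Spec.map φ₁ = h₂ ≫ Spec.map φ₂) :
    φ₁ ≫ ((Scheme.ΓSpecIso S₁).inv ≫ h₁.appTop) = φ₂ ≫ ((Scheme.ΓSpecIso S₂).inv ≫ h₂.appTop) := by
  have := congrArg Scheme.Hom.appTop h
  rw [Scheme.Hom.comp_appTop, Scheme.Hom.comp_appTop] at this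
  have e₁ : (Spec.map φ₁).appTop = (Scheme.ΓSpecIso B).hom ≫ φ₁ ≫ (Scheme.ΓSpecIso S₁).inv := by
    rw [← Category.assoc, ← Scheme.ΓSpecIso_naturality, Category.assoc, Iso.hom_inv_id,
      Category.comp_id]
  have e₂ : (Spec.map φ₂).appTop = (Scheme.ΓSpecIso B).hom ≫ φ₂ ≫ (Scheme.ΓSpecIso S₂).inv := by
    rw [← Category.assoc, ← Scheme.ΓSpecIso_naturality, Category.assoc, Iso.hom_inv_id,
      Category.comp_id]
  rw [e₁, e₂] at this
  simp only [Category.assoc] at this
  exact (cancel_epi (Scheme.ΓSpecIso B).hom).mp this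

end Main

section Final

variable (X : Scheme.{u}) [CompactSpace X] [QuasiSeparatedSpace X]
  {ι : Type u} (A : ι → CommRingCat.{u})

omit [CompactSpace X] in
theorem compat' {f : ∀ i, Spec (A i) ⟶ X} {x y : ∀ i, A i}
    {g₁ : Spec (.of <| ∀ i, awayFam A x i) ⟶ X}
    {g₂ : Spec (.of <| ∀ i, awayFam A y i) ⟶ X}
    (h₁ : IsLocalLift A f x g₁) (h₂ : IsLocalLift A f y g₂) {Z : Scheme.{u}}
    (gk : Z ⟶ Spec (.of <| ∀ i, awayFam A x i)) (gl : Z ⟶ Spec (.of <| ∀ i, awayFam A y i))
    (h : gk ≫ Spec.map (toAway A x) = gl ≫ Spec.map (toAway A y)) :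
    gk ≫ g₁ = gl ≫ g₂ := by
  rw [hom_eq_toSpecΓ_comp gk, hom_eq_toSpecΓ_comp gl, Category.assoc, Category.assoc]
  congr 1
  exact compat A f x y h₁ h₂ _ _
    (comp_eq_of_comp_SpecMap_eq (toAway A x) (toAway A y) gk gl h)

set_option backward.isDefEq.respectTransparency.types false in
set_option maxHeartbeats 1600000 in
theorem pointsPi_surjective_of_qcqs : Function.Surjective (pointsPi A X) := by
  classical
  intro f
  let 𝒰 : X.OpenCover := X.affineCover.finiteSubcover
  have hfin : Finite 𝒰.I₀ := inferInstance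
  -- partitions of unity subordinate to the preimages of the charts
  have hpart : ∀ i, ∃ a : 𝒰.I₀ → A i, Ideal.span (Set.range a) = ⊤ ∧
      ∀ k, (PrimeSpectrum.basicOpen (a k) : Set (PrimeSpectrum (A i))) ⊆
        (f i) ⁻¹' (Set.range (𝒰.f k)) := by
    intro i
    have hW : (⨆ k, (f i) ⁻¹ᵁ (𝒰.f k).opensRange) = ⊤ := by
      rw [eq_top_iff]
      intro x _
      simp only [TopologicalSpace.Opens.mem_iSup]
      exact ⟨𝒰.idx ((f i) x), 𝒰.covers ((f i) x)⟩
    obtain ⟨a, ha, hle⟩ := exists_span_eq_top_basicOpen_le (R := A i)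
      (fun k => (f i) ⁻¹ᵁ (𝒰.f k).opensRange) hW
    exact ⟨a, ha, fun k z hz => hle k hz⟩
  choose a ha hsub using hpart
  let a' : 𝒰.I₀ → ∀ i, A i := fun k i => a i k
  -- local lifts
  have hg : ∀ k, ∃ g : Spec (.of <| ∀ i, awayFam A (a' k) i) ⟶ X, IsLocalLift A f (a' k) g := by
    intro k
    obtain ⟨g, hg⟩ := exists_pointsPi_eq_of_range_subset (awayFam A (a' k)) (𝒰.f k)
      (fun i => Spec.map (CommRingCat.ofHom (algebraMap (A i) (Localization.Away (a' k i)))) ≫ f i)
      (by
        intro i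
        rintro _ ⟨z, rfl⟩
        have hz : (Spec.map (CommRingCat.ofHom
            (algebraMap (A i) (Localization.Away (a' k i))))) z ∈
            (PrimeSpectrum.basicOpen (a i k) : Set (PrimeSpectrum (A i))) := by
          rw [← PrimeSpectrum.localization_away_comap_range (Localization.Away (a i k)) (a i k)]
          exact ⟨z, rfl⟩
        exact hsub i k hz)
    exact ⟨g, fun i => congrFun hg i⟩
  choose g hg using hg
  -- the fpqc covering of `Spec ∏ A_i`
  have hsurj : ∀ q : Spec (CommRingCat.of (∀ i, A i)),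
      ∃ k, q ∈ Set.range (Spec.map (toAway A (a' k))) := by
    intro q
    obtain ⟨k, hk⟩ := exists_disjoint_piPowers (fun i => (A i : Type u)) a'
      (fun i => ha i) (PrimeSpectrum.asIdeal q) (hq := PrimeSpectrum.isPrime q)
    refine ⟨k, ?_⟩
    have := PrimeSpectrum.localization_comap_range (S := ∀ i, Localization.Away (a' k i))
      (piPowers (fun i => (A i : Type u)) (a' k))
    exact (eq_iff_iff.mp congr(q ∈ $this)).mpr hk
  choose idx hidx using hsurj
  let 𝒱 : (Spec (CommRingCat.of (∀ i, A i))).AffineCover @Flat :=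
    { I₀ := 𝒰.I₀
      X := fun k => .of (∀ i, awayFam A (a' k) i)
      f := fun k => Spec.map (toAway A (a' k))
      idx := idx
      covers := hidx
      map_prop := fun k => by
        rw [Flat.SpecMap_iff]
        exact RingHom.flat_algebraMap_iff.mpr
          (IsLocalization.flat _ (piPowers (fun i => (A i : Type u)) (a' k))) }
  have hfin' : Finite 𝒱.I₀ := hfin
  have hsheaf : Presieve.IsSheafFor (yoneda.obj X)
      (Presieve.ofArrows 𝒱.cover.X 𝒱.cover.f) := by
    rw [Presieve.isSheafFor_iff_generate]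
    refine (GrothendieckTopology.Subcanonical.isSheaf_of_isRepresentable
      (J := Scheme.fpqcTopology) (yoneda.obj X)) _ ?_
    refine Precoverage.generate_mem_toGrothendieck ?_
    have hqc : QuasiCompactCover 𝒱.cover.toPreZeroHypercover := inferInstance
    exact ⟨Scheme.presieve₀_mem_qcPrecoverage_iff.mpr hqc, 𝒱.cover.mem₀⟩
  have hcompat : Presieve.Arrows.Compatible (yoneda.obj X) 𝒱.cover.f (fun k => g k) := by
    intro k l Z gk gl hkl
    exact compat' X A (hg k) (hg l) gk gl hkl
  obtain ⟨t, ht, -⟩ := (Presieve.isSheafFor_arrows_iff (yoneda.obj X) 𝒱.cover.f).mp hsheaf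
    (fun k => g k) hcompat
  refine ⟨t, ?_⟩
  funext i
  simp only [pointsPi]
  refine (Scheme.affineOpenCoverOfSpanRangeEqTop (fun k => a i k) (ha i)).openCover.hom_ext _ _
    fun k => ?_
  have htk : Spec.map (toAway A (a' k)) ≫ t = g k := ht k
  show Spec.map (CommRingCat.ofHom (algebraMap (A i) (Localization.Away (a i k)))) ≫
    Spec.map (CommRingCat.ofHom (Pi.evalRingHom (fun j => (A j : Type u)) i)) ≫ t =
    Spec.map (CommRingCat.ofHom (algebraMap (A i) (Localization.Away (a i k)))) ≫ f i
  rw [← hg k i, ← htk, ← Category.assoc, ← Category.assoc, ← Spec.map_comp, ← Spec.map_comp]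
  rfl

end Final

end Groth.Agent.H89.PointsPi
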