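import Mathlib
import Groth.Prelude.Def_SymTen

/-! Polarization for symmetric tensors (helper89): the symmetrisation of a pure tensor is an
integral combination of pure powers. -/

set_option autoImplicit false
universe u

open scoped TensorProduct
open PiTensorProduct

namespace Groth.Agent.H89.Polarize

variable (A : Type u) [CommRing A] (B : Type u) [CommRing B] [Algebra A B] (d : ℕ)

/-- Inclusion–exclusion: the alternating sum over all supersets of `T`. -/
theorem sum_superset_neg_one (T : Finset (Fin d)) :
    ∑ S ∈ (Finset.univ : Finset (Finset (Fin d))).filter (fun S => T ⊆ S),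
      (-1 : ℤ) ^ (d - S.card) = if T = Finset.univ then 1 else 0 := by
  classical
  -- reindex by complements
  have h1 : ∑ S ∈ (Finset.univ : Finset (Finset (Fin d))).filter (fun S => T ⊆ S),
      (-1 : ℤ) ^ (d - S.card) = ∑ U ∈ (Tᶜ).powerset, (-1 : ℤ) ^ U.card := by
    refine Finset.sum_bij' (fun S _ => Sᶜ) (fun U _ => Uᶜ) ?_ ?_ ?_ ?_ ?_
    · intro S hS
      simp only [Finset.mem_filter, Finset.mem_univ, true_and] at hS
      rw [Finset.mem_powerset]
      exact Finset.compl_subset_compl.mpr hS
    · intro U hU
      rw [Finset.mem_powerset] at hU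
      simp only [Finset.mem_filter, Finset.mem_univ, true_and]
      have := Finset.compl_subset_compl.mpr hU
      rwa [compl_compl] at this
    · intro S _
      exact compl_compl S
    · intro U _
      exact compl_compl U
    · intro S _
      rw [Finset.card_compl, Fintype.card_fin]
  rw [h1, Finset.sum_powerset_neg_one_pow_card]
  by_cases hT : T = Finset.univ
  · simp [hT]
  · rw [if_neg hT, if_neg]
    intro h
    apply hT
    rw [← compl_compl T, h, Finset.compl_empty]

/-- Polarization identity for a multilinear map. -/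
theorem polarization {M N : Type*} [AddCommGroup M] [Module A M] [AddCommGroup N] [Module A N]
    (f : MultilinearMap A (fun _ : Fin d => M) N) (x : Fin d → M) :
    ∑ S : Finset (Fin d), ((-1 : ℤ) ^ (d - S.card)) • f (fun _ => ∑ i ∈ S, x i) =
      ∑ σ : Equiv.Perm (Fin d), f (fun j => x (σ j)) := by
  classical
  have h1 : ∀ S : Finset (Fin d), f (fun _ => ∑ i ∈ S, x i) =
      ∑ I : Fin d → Fin d, if (∀ j, I j ∈ S) then f (fun j => x (I j)) else 0 := by
    intro S
    rw [MultilinearMap.map_sum_finset f (fun (_ : Fin d) (i : Fin d) => x i) (fun _ => S)]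
    rw [← Finset.sum_filter]
    refine Finset.sum_congr ?_ (fun _ _ => rfl)
    ext I
    simp [Fintype.mem_piFinset]
  simp_rw [h1, Finset.smul_sum]
  rw [Finset.sum_comm]
  have h2 : ∀ I : Fin d → Fin d,
      ∑ S : Finset (Fin d), ((-1 : ℤ) ^ (d - S.card)) •
        (if (∀ j, I j ∈ S) then f (fun j => x (I j)) else 0) =
      if Function.Bijective I then f (fun j => x (I j)) else 0 := by
    intro I
    have h3 : ∀ S : Finset (Fin d), ((-1 : ℤ) ^ (d - S.card)) •
        (if (∀ j, I j ∈ S) then f (fun j => x (I j)) else 0) =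
        (if (Finset.univ.image I ⊆ S) then ((-1 : ℤ) ^ (d - S.card)) else 0) •
          f (fun j => x (I j)) := by
      intro S
      have hiff : (∀ j, I j ∈ S) ↔ Finset.univ.image I ⊆ S := by
        constructor
        · intro h y hy
          obtain ⟨j, _, rfl⟩ := Finset.mem_image.mp hy
          exact h j
        · intro h j
          exact h (Finset.mem_image_of_mem I (Finset.mem_univ j))
      by_cases hS : ∀ j, I j ∈ S
      · rw [if_pos hS, if_pos (hiff.mp hS)]
      · rw [if_neg hS, if_neg (fun h => hS (hiff.mpr h)), smul_zero, zero_smul]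
    simp_rw [h3]
    rw [← Finset.sum_smul, ← Finset.sum_filter, sum_superset_neg_one]
    have hbij : Finset.univ.image I = Finset.univ ↔ Function.Bijective I := by
      constructor
      · intro h
        have hs : Function.Surjective I := by
          intro y
          have : y ∈ Finset.univ.image I := by rw [h]; exact Finset.mem_univ y
          obtain ⟨j, _, hj⟩ := Finset.mem_image.mp this
          exact ⟨j, hj⟩
        exact Finite.surjective_iff_bijective.mp hs
      · intro h
        exact Finset.image_univ_of_surjective h.2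
    by_cases hI : Function.Bijective I
    · rw [if_pos (hbij.mpr hI), if_pos hI, one_smul]
    · rw [if_neg (fun h => hI (hbij.mp h)), if_neg hI, zero_smul]
  simp_rw [h2]
  rw [← Finset.sum_filter]
  refine (Finset.sum_bij' (fun (σ : Equiv.Perm (Fin d)) _ => (σ : Fin d → Fin d))
    (fun I hI => Equiv.ofBijective I (Finset.mem_filter.mp hI).2) ?_ ?_ ?_ ?_ ?_).symm
  · intro σ _
    simp only [Finset.mem_filter, Finset.mem_univ, true_and]
    exact σ.bijective
  · intro I _
    exact Finset.mem_univ _
  · intro σ _
    ext j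
    rfl
  · intro I _
    rfl
  · intro σ _
    rfl


/-- Symmetrisation on the tensor power. -/
noncomputable def symL : (⨂[A] _ : Fin d, B) →ₗ[A] (⨂[A] _ : Fin d, B) :=
  ∑ σ : Equiv.Perm (Fin d), (PiTensorProduct.reindex A (fun _ : Fin d => B) σ).toLinearMap

theorem symL_apply (z : ⨂[A] _ : Fin d, B) :
    symL A B d z = ∑ σ : Equiv.Perm (Fin d), PiTensorProduct.reindex A (fun _ : Fin d => B) σ z := by
  simp [symL, LinearMap.sum_apply]

theorem symL_mem_TS (z : ⨂[A] _ : Fin d, B) : symL A B d z ∈ SymTen.TS A B d := by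
  intro τ
  rw [symL_apply, map_sum]
  refine Fintype.sum_equiv (Equiv.mulLeft τ) _ _ ?_
  intro σ
  have h := PiTensorProduct.reindex_trans (R := A) (s := fun _ : Fin d => B) σ τ
  have h2 := congrArg (fun e => e z) h
  simp only [LinearEquiv.trans_apply] at h2
  rw [h2]
  rfl

theorem symL_of_mem (z : ⨂[A] _ : Fin d, B) (hz : z ∈ SymTen.TS A B d) :
    symL A B d z = (d.factorial : A) • z := by
  rw [symL_apply]
  have : ∀ σ : Equiv.Perm (Fin d), PiTensorProduct.reindex A (fun _ : Fin d => B) σ z = z := hz
  simp_rw [this]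
  rw [Finset.sum_const, Finset.card_univ, Fintype.card_perm, Fintype.card_fin, Nat.cast_smul_eq_nsmul]

theorem symL_tprod (x : Fin d → B) :
    symL A B d (tprod A x) =
      ∑ S : Finset (Fin d), ((-1 : ℤ) ^ (d - S.card)) • tprod A (fun _ : Fin d => ∑ i ∈ S, x i) := by
  rw [polarization A d (tprod A) x, symL_apply]
  refine Fintype.sum_equiv (Equiv.inv (Equiv.Perm (Fin d))) _ _ ?_
  intro σ
  rw [PiTensorProduct.reindex_tprod]
  rfl

/-- Symmetrisation as a map into the symmetric tensors. -/
noncomputable def symT : (⨂[A] _ : Fin d, B) →ₗ[A] SymTen.TS A B d :=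
  (symL A B d).codRestrict (Subalgebra.toSubmodule (SymTen.TS A B d)) (symL_mem_TS A B d)

theorem symT_tprod (x : Fin d → B) :
    symT A B d (tprod A x) =
      ∑ S : Finset (Fin d), ((-1 : ℤ) ^ (d - S.card)) • SymTen.tpow A B d (∑ i ∈ S, x i) := by
  apply Subtype.ext
  change symL A B d (tprod A x) = _
  rw [symL_tprod]
  rw [AddSubmonoidClass.coe_finsetSum]
  refine Finset.sum_congr rfl fun S _ => ?_
  rfl

theorem symT_of_mem (z : SymTen.TS A B d) : symT A B d z.1 = (d.factorial : A) • z := by
  apply Subtype.ext
  change symL A B d z.1 = _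
  rw [symL_of_mem A B d z.1 z.2]
  rfl

/-- When `d!` is invertible, a linear map out of the symmetric tensors is determined by its values
on pure powers. -/
theorem linearMap_ext_of_tpow {N : Type*} [AddCommGroup N] [Module A N]
    (hfact : IsUnit ((d.factorial : ℕ) : A)) (φ₁ φ₂ : SymTen.TS A B d →ₗ[A] N)
    (h : ∀ r : B, φ₁ (SymTen.tpow A B d r) = φ₂ (SymTen.tpow A B d r)) : φ₁ = φ₂ := by
  have h1 : φ₁ ∘ₗ symT A B d = φ₂ ∘ₗ symT A B d := by
    apply PiTensorProduct.ext
    apply MultilinearMap.ext
    intro x
    simp only [LinearMap.compMultilinearMap_apply, LinearMap.comp_apply]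
    rw [symT_tprod, map_sum, map_sum]
    refine Finset.sum_congr rfl fun S _ => ?_
    rw [map_zsmul, map_zsmul, h]
  ext z
  have h2 := congrArg (fun g => g z.1) h1
  simp only [LinearMap.comp_apply] at h2
  rw [symT_of_mem, map_smul, map_smul] at h2
  obtain ⟨u, hu⟩ := hfact
  have h3 : (u : A) • φ₁ z = (u : A) • φ₂ z := by rw [hu]; exact h2
  have := congrArg (fun t => (↑u⁻¹ : A) • t) h3
  simpa [smul_smul] using this

end Groth.Agent.H89.Polarize
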