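import Mathlib

set_option autoImplicit false
universe u

namespace Groth.Agent.H89

open Polynomial

/-- Rescaling the variable by a high power of `r` moves a polynomial over `R[1/r]` with
integral constant term into the image of `R[X]`. -/
theorem exists_lift_scale (R : Type u) [CommRing R] (r : R)
    (p : (Localization.Away r)[X]) (a : R)
    (ha : p.coeff 0 = algebraMap R (Localization.Away r) a) :
    ∃ E : ℕ, ∀ n, E ≤ n → ∃ q : R[X], q.coeff 0 = a ∧
      Polynomial.map (algebraMap R (Localization.Away r)) q =
        p.comp (C (algebraMap R (Localization.Away r) (r ^ n)) * X) := by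
  classical
  obtain ⟨b, ⟨e, rfl⟩, hw⟩ := IsLocalization.integerNormalization_spec (Submonoid.powers r) p
  set w := IsLocalization.integerNormalization (Submonoid.powers r) p with hwdef
  have hwc : ∀ d, algebraMap R (Localization.Away r) (w.coeff d) =
      algebraMap R (Localization.Away r) (r ^ e) * p.coeff d := by
    intro d
    have := congrArg (fun p => p.coeff d) hw
    simp only [coeff_map, coeff_smul] at this
    rw [Algebra.smul_def] at this
    exact this
  refine ⟨e, fun n hn => ?_⟩
  let f : ℕ → R := fun d => if d = 0 then a else w.coeff d * r ^ (n * d - e)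
  have hf : ∀ d, f d ≠ 0 → d ∈ insert 0 w.support := by
    intro d hd
    by_cases h0 : d = 0
    · simp [h0]
    · simp only [f, if_neg h0] at hd
      have : w.coeff d ≠ 0 := fun h => hd (by rw [h, zero_mul])
      exact Finset.mem_insert_of_mem (Polynomial.mem_support_iff.mpr this)
  let q : R[X] := ∑ d ∈ insert 0 w.support, monomial d (f d)
  have hq : ∀ d, q.coeff d = f d := by
    intro d
    simp only [q, finsetSum_coeff, coeff_monomial, Finset.sum_ite_eq']
    split_ifs with h
    · rfl
    · by_contra hne
      exact h (hf d (Ne.symm hne))
  refine ⟨q, by simp [hq, f], ?_⟩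
  ext d
  rw [coeff_map, comp_C_mul_X_coeff, hq]
  by_cases hd : d = 0
  · subst hd; simp [f, ha]
  · simp only [f, if_neg hd, map_mul, map_pow]
    rw [← map_pow, hwc d, map_pow, map_pow]
    have hle : e ≤ n * d := le_trans hn (Nat.le_mul_of_pos_right n (Nat.pos_of_ne_zero hd))
    have : n * d - e + e = n * d := Nat.sub_add_cancel hle
    calc algebraMap R (Localization.Away r) r ^ e * p.coeff d *
          algebraMap R (Localization.Away r) r ^ (n * d - e)
        = p.coeff d * algebraMap R (Localization.Away r) r ^ (n * d - e + e) := by
          rw [pow_add]; ring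
      _ = p.coeff d * (algebraMap R (Localization.Away r) r ^ n) ^ d := by
          rw [this, pow_mul]

end Groth.Agent.H89
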