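import Mathlib
import Groth.Prelude.Def_Pic

/-!
# Functoriality of `PicF.pullCl` (helper89)
-/

set_option autoImplicit false
universe u
open CategoryTheory AlgebraicGeometry

namespace Groth.Agent.H89.PullCl

variable {Y Y' Y'' : Scheme.{u}}

lemma pullCl_cl (g : Y' ⟶ Y) (L : Y.Modules) :
    PicF.pullCl g (PicF.cl L) = PicF.cl ((Scheme.Modules.pullback g).obj L) := rfl

lemma pullCl_id (c : PicF.Cl Y) : PicF.pullCl (𝟙 Y) c = c := by
  induction c using Quot.inductionOn with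
  | _ L => exact Quot.sound ⟨(Scheme.Modules.pullbackId Y).app L⟩

lemma pullCl_comp (a : Y'' ⟶ Y') (b : Y' ⟶ Y) (c : PicF.Cl Y) :
    PicF.pullCl (a ≫ b) c = PicF.pullCl a (PicF.pullCl b c) := by
  induction c using Quot.inductionOn with
  | _ L => exact Quot.sound ⟨((Scheme.Modules.pullbackComp a b).app L).symm⟩

lemma pullCl_congr {a a' : Y' ⟶ Y} (h : a = a') (c : PicF.Cl Y) :
    PicF.pullCl a c = PicF.pullCl a' c := by rw [h]

lemma pullCl_inv_hom (e : Y' ≅ Y) (c : PicF.Cl Y) :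
    PicF.pullCl e.inv (PicF.pullCl e.hom c) = c := by
  rw [← pullCl_comp, e.inv_hom_id, pullCl_id]

lemma pullCl_hom_inv (e : Y' ≅ Y) (c : PicF.Cl Y') :
    PicF.pullCl e.hom (PicF.pullCl e.inv c) = c := by
  rw [← pullCl_comp, e.hom_inv_id, pullCl_id]

end Groth.Agent.H89.PullCl
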