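import Mathlib

set_option autoImplicit false
universe u

open CategoryTheory AlgebraicGeometry

namespace Groth.Agent.H89

/-- Two ring maps into a Hausdorff ring agreeing modulo all powers of `I` agree; scheme form. -/
theorem spec_hom_ext_of_adic (A : Type u) [CommRing A] (I : Ideal A) [IsHausdorff I A]
    (B : CommRingCat.{u}) (F G : Spec (CommRingCat.of A) ⟶ Spec B)
    (h : ∀ n : ℕ, Spec.map (CommRingCat.ofHom (Ideal.Quotient.mk (I ^ n))) ≫ F =
        Spec.map (CommRingCat.ofHom (Ideal.Quotient.mk (I ^ n))) ≫ G) : F = G := by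
  rw [← Spec.map_preimage F, ← Spec.map_preimage G]
  congr 1
  have h' : ∀ n : ℕ, Spec.preimage F ≫ CommRingCat.ofHom (Ideal.Quotient.mk (I ^ n))
      = Spec.preimage G ≫ CommRingCat.ofHom (Ideal.Quotient.mk (I ^ n)) := by
    intro n
    apply Spec.map_injective
    rw [Spec.map_comp, Spec.map_comp, Spec.map_preimage, Spec.map_preimage]
    exact h n
  ext b
  have key : (fun b => (Spec.preimage F).hom b) = (fun b => (Spec.preimage G).hom b) := by
    apply IsHausdorff.funext' I
    intro n r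
    have := congrArg (fun t => t.hom r) (h' n)
    exact this
  exact congrFun key b


/-- Existence half: a compatible system of `A/I^n`-points of a quasi-affine scheme comes from an
`A`-point, for `A` an `I`-adically complete ring. -/
theorem qaff_exists (A : Type u) [CommRing A] (I : Ideal A) [IsAdicComplete I A]
    (X : Scheme.{u}) [X.IsQuasiAffine]
    (e : ∀ n : ℕ, Spec (CommRingCat.of (A ⧸ I ^ n)) ⟶ X)
    (he : ∀ n : ℕ,
      Spec.map (CommRingCat.ofHom (Ideal.Quotient.factorPowSucc I n)) ≫ e (n + 1) = e n) :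
    ∃ f : Spec (CommRingCat.of A) ⟶ X,
      ∀ n : ℕ, Spec.map (CommRingCat.ofHom (Ideal.Quotient.mk (I ^ n))) ≫ f = e n := by
  have : Mono X.toSpecΓ := inferInstance
  -- the ring maps
  let φ : ∀ n : ℕ, Γ(X, ⊤) ⟶ CommRingCat.of (A ⧸ I ^ n) :=
    fun n => Spec.preimage (e n ≫ X.toSpecΓ)
  have hφ : ∀ n, Spec.map (φ n) = e n ≫ X.toSpecΓ := fun n => Spec.map_preimage _
  have hcompat : ∀ n : ℕ, φ (n + 1) ≫ CommRingCat.ofHom (Ideal.Quotient.factorPowSucc I n)
      = φ n := by
    intro n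
    apply Spec.map_injective
    rw [Spec.map_comp, hφ, hφ, ← Category.assoc, he n]
  have hf : ∀ {m : ℕ}, (Ideal.Quotient.factorPow I (strictMono_id.monotone m.le_succ)).comp
      ((fun n => (φ n).hom) (m + 1)) = (fun n => (φ n).hom) m := by
    intro m
    have := congrArg CommRingCat.Hom.hom (hcompat m)
    exact this
  let ψ : Γ(X, ⊤) →+* A :=
    IsAdicComplete.StrictMono.liftRingHom I strictMono_id (fun n => (φ n).hom) hf
  have hψ : ∀ n : ℕ, (Ideal.Quotient.mk (I ^ n)).comp ψ = (φ n).hom := fun n =>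
    IsAdicComplete.StrictMono.mk_comp_liftRingHom I strictMono_id (fun n => (φ n).hom) hf
  let F : Spec (CommRingCat.of A) ⟶ Spec Γ(X, ⊤) := Spec.map (CommRingCat.ofHom ψ)
  have hF : ∀ n : ℕ, Spec.map (CommRingCat.ofHom (Ideal.Quotient.mk (I ^ n))) ≫ F
      = e n ≫ X.toSpecΓ := by
    intro n
    rw [← hφ n, ← Spec.map_comp]
    congr 1
    ext x
    exact congrArg (fun t => t x) (hψ n)
  have hrange : Set.range F ⊆ Set.range X.toSpecΓ := by
    rintro _ ⟨x, rfl⟩
    by_contra hx
    -- closed set of bad points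
    have hopen : IsOpen (Set.range X.toSpecΓ) := X.toSpecΓ.isOpenEmbedding.isOpen_range
    have hclosed : IsClosed (F ⁻¹' (Set.range X.toSpecΓ)ᶜ) :=
      (hopen.isClosed_compl).preimage F.continuous
    obtain ⟨J, hJ⟩ := (PrimeSpectrum.isClosed_iff_zeroLocus_ideal _).mp hclosed
    have hxJ : x ∈ PrimeSpectrum.zeroLocus (J : Set A) := by
      rw [← hJ]; exact hx
    obtain ⟨m, hm, hxm⟩ := Ideal.exists_le_maximal x.asIdeal x.isPrime.ne_top
    let m' : PrimeSpectrum A := ⟨m, hm.isPrime⟩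
    have hm'J : m' ∈ PrimeSpectrum.zeroLocus (J : Set A) := by
      have hxJ' : (J : Set A) ⊆ x.asIdeal := (PrimeSpectrum.mem_zeroLocus x _).mp hxJ
      exact (PrimeSpectrum.mem_zeroLocus m' _).mpr (fun a ha => hxm (hxJ' ha))
    have hm'bad : F m' ∉ Set.range X.toSpecΓ := by
      rw [← hJ] at hm'J
      exact hm'J
    have hIm : I ≤ m := by
      refine (IsAdicComplete.le_jacobson_bot I).trans ?_
      exact sInf_le ⟨bot_le, hm⟩
    have hm'1 : m' ∈ PrimeSpectrum.zeroLocus ((I ^ 1 : Ideal A) : Set A) := by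
      rw [PrimeSpectrum.mem_zeroLocus, pow_one]
      exact hIm
    have hrng : Set.range (PrimeSpectrum.comap (Ideal.Quotient.mk (I ^ 1)))
        = PrimeSpectrum.zeroLocus ((I ^ 1 : Ideal A) : Set A) := by
      rw [_root_.range_comap_of_surjective _ _ Ideal.Quotient.mk_surjective,
        Ideal.mk_ker]
    rw [← hrng] at hm'1
    obtain ⟨y, hy⟩ := hm'1
    apply hm'bad
    refine ⟨e 1 y, ?_⟩
    have h1 := hF 1
    have h2 : (Spec.map (CommRingCat.ofHom (Ideal.Quotient.mk (I ^ 1))) ≫ F) y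
        = (e 1 ≫ X.toSpecΓ) y := by rw [h1]
    have h3 : (Spec.map (CommRingCat.ofHom (Ideal.Quotient.mk (I ^ 1)))) y = m' := hy
    rw [Scheme.Hom.comp_apply, Scheme.Hom.comp_apply, h3] at h2
    exact h2.symm
  refine ⟨IsOpenImmersion.lift X.toSpecΓ F hrange, ?_⟩
  intro n
  rw [← cancel_mono X.toSpecΓ, Category.assoc, IsOpenImmersion.lift_fac]
  exact hF n

end Groth.Agent.H89
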