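import Mathlib
import Groth.Prelude.Def_EtMil

set_option autoImplicit false
universe u

namespace Groth.Agent.H89.QuotSquare

open Function

/-- Four quotients `S/K`, `S/I`, `S/J`, `S/(I+J)` of a ring with `K = I ∩ J` form a Milnor
(fibre) square. -/
theorem isFibreSquare {S B' B A' A : Type u} [CommRing S] [CommRing B'] [CommRing B] [CommRing A']
    [CommRing A] [Algebra B' B] [Algebra B' A'] [Algebra B A] [Algebra A' A]
    (πB' : S →+* B') (πB : S →+* B) (πA' : S →+* A') (πA : S →+* A)
    (hB' : Surjective πB') (hB : Surjective πB) (hA' : Surjective πA') (hA : Surjective πA)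
    (c1 : ∀ s, algebraMap B' B (πB' s) = πB s) (c2 : ∀ s, algebraMap B' A' (πB' s) = πA' s)
    (c3 : ∀ s, algebraMap B A (πB s) = πA s) (c4 : ∀ s, algebraMap A' A (πA' s) = πA s)
    (hK : RingHom.ker πB' = RingHom.ker πB ⊓ RingHom.ker πA')
    (hsup : RingHom.ker πA = RingHom.ker πB ⊔ RingHom.ker πA') :
    EtMil.IsFibreSquare B' B A' A := by
  refine ⟨?_, ?_⟩
  · intro a
    obtain ⟨s, rfl⟩ := hA a
    exact ⟨πA' s, c4 s⟩
  · intro b a' hba
    obtain ⟨x, rfl⟩ := hB b
    obtain ⟨y, rfl⟩ := hA' a'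
    rw [c3, c4] at hba
    have hxy : x - y ∈ RingHom.ker πA := by
      rw [RingHom.mem_ker, map_sub, hba, sub_self]
    rw [hsup] at hxy
    obtain ⟨i, hi, j, hj, hij⟩ := Submodule.mem_sup.mp hxy
    rw [RingHom.mem_ker] at hi hj
    refine ⟨πB' (x - i), ⟨?_, ?_⟩, ?_⟩
    · rw [c1, map_sub, hi, sub_zero]
    · have : x - i = y + j := by
        linear_combination (-1 : S) * hij
      rw [c2, this, map_add, hj, add_zero]
    · rintro w ⟨hw1, hw2⟩
      obtain ⟨w, rfl⟩ := hB' w
      rw [c1] at hw1
      rw [c2] at hw2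
      have hmem : w - (x - i) ∈ RingHom.ker πB' := by
        rw [hK]
        refine ⟨?_, ?_⟩
        · show w - (x - i) ∈ RingHom.ker πB
          rw [RingHom.mem_ker, map_sub, hw1, map_sub, hi, sub_zero, sub_self]
        · show w - (x - i) ∈ RingHom.ker πA'
          have : x - i = y + j := by
            linear_combination (-1 : S) * hij
          rw [RingHom.mem_ker, this, map_sub, hw2, map_add, hj, add_zero, sub_self]
      rw [RingHom.mem_ker, map_sub, sub_eq_zero] at hmem
      exact hmem

end Groth.Agent.H89.QuotSquare
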