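import Groth.Agent.H89.MilnorPic
import Groth.Agent.H89.QuotSquare

set_option autoImplicit false
universe u

namespace Groth.Agent.H89.QuotPic

open Function

/-- If `Iw = Iv ∩ Iu` and `S/(Iv + Iu)` is a finite ring, then `Pic (S/Iw) → Pic (S/Iv)` is
surjective (Milnor patching). -/
theorem pic_factor_surjective {S : Type u} [CommRing S] (Iw Iv Iu : Ideal S) (hle : Iw ≤ Iv)
    (hinf : Iw = Iv ⊓ Iu) (hfin : Finite (S ⧸ (Iv ⊔ Iu))) :
    Surjective (CommRing.Pic.mapRingHom (Ideal.Quotient.factor hle)) := by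
  have hwu : Iw ≤ Iu := hinf ▸ inf_le_right
  let _ : Algebra (S ⧸ Iw) (S ⧸ Iv) := (Ideal.Quotient.factor hle).toAlgebra
  let _ : Algebra (S ⧸ Iw) (S ⧸ Iu) := (Ideal.Quotient.factor hwu).toAlgebra
  let _ : Algebra (S ⧸ Iv) (S ⧸ (Iv ⊔ Iu)) := (Ideal.Quotient.factor le_sup_left).toAlgebra
  let _ : Algebra (S ⧸ Iu) (S ⧸ (Iv ⊔ Iu)) := (Ideal.Quotient.factor le_sup_right).toAlgebra
  let _ : Algebra (S ⧸ Iw) (S ⧸ (Iv ⊔ Iu)) :=
    (Ideal.Quotient.factor (hle.trans le_sup_left)).toAlgebra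
  have t1 : IsScalarTower (S ⧸ Iw) (S ⧸ Iv) (S ⧸ (Iv ⊔ Iu)) :=
    IsScalarTower.of_algebraMap_eq (fun x => by
      obtain ⟨s, rfl⟩ := Ideal.Quotient.mk_surjective x
      rfl)
  have t2 : IsScalarTower (S ⧸ Iw) (S ⧸ Iu) (S ⧸ (Iv ⊔ Iu)) :=
    IsScalarTower.of_algebraMap_eq (fun x => by
      obtain ⟨s, rfl⟩ := Ideal.Quotient.mk_surjective x
      rfl)
  have hsq : EtMil.IsFibreSquare (S ⧸ Iw) (S ⧸ Iv) (S ⧸ Iu) (S ⧸ (Iv ⊔ Iu)) :=
    QuotSquare.isFibreSquare (Ideal.Quotient.mk Iw) (Ideal.Quotient.mk Iv) (Ideal.Quotient.mk Iu)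
      (Ideal.Quotient.mk (Iv ⊔ Iu)) Ideal.Quotient.mk_surjective Ideal.Quotient.mk_surjective
      Ideal.Quotient.mk_surjective Ideal.Quotient.mk_surjective (fun s => rfl) (fun s => rfl)
      (fun s => rfl) (fun s => rfl)
      (by rw [Ideal.mk_ker, Ideal.mk_ker, Ideal.mk_ker]; exact hinf)
      (by rw [Ideal.mk_ker, Ideal.mk_ker, Ideal.mk_ker])
  have hms : Finite (MaximalSpectrum (S ⧸ (Iv ⊔ Iu))) := inferInstance
  have hpic : Subsingleton (CommRing.Pic (S ⧸ (Iv ⊔ Iu))) := inferInstance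
  exact MilnorPic.pic_mapAlgebra_surjective hsq

end Groth.Agent.H89.QuotPic
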