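import Mathlib
import Groth.Agent.H2.InjDimQuot

set_option autoImplicit false
universe u

namespace Groth.Agent.H89.ReflInjDim

open CategoryTheory

/-- a ring of injective dimension `≤ 1` over itself has a two-term injective resolution -/
theorem exists_injective_resolution (S : Type u) [CommRing S]
    (h : HasInjectiveDimensionLT (ModuleCat.of S S) 2) :
    ∃ (I J : Type u) (_ : AddCommGroup I) (_ : AddCommGroup J) (_ : Module S I) (_ : Module S J)
      (_ : Module.Injective S I) (_ : Module.Injective S J) (ι : S →ₗ[S] I) (π : I →ₗ[S] J),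
      Function.Injective ι ∧ Function.Surjective π ∧ Function.Exact ι π := by
  have hS := Groth.Agent.H2.InjDimQuot.injSC_shortExact (ModuleCat.of S S)
  have hJinj : Injective (Groth.Agent.H2.InjDimQuot.injSC (ModuleCat.of S S)).X₂ :=
    inferInstanceAs (Injective (Injective.under (ModuleCat.of S S)))
  have h3 : HasInjectiveDimensionLT (Groth.Agent.H2.InjDimQuot.injSC (ModuleCat.of S S)).X₃ 1 :=
    hS.hasInjectiveDimensionLT_X₃ 1 inferInstance h
  have hJ3 : Injective (Groth.Agent.H2.InjDimQuot.injSC (ModuleCat.of S S)).X₃ :=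
    injective_iff_hasInjectiveDimensionLT_one.mpr h3
  have hI : Module.Injective S (Groth.Agent.H2.InjDimQuot.injSC (ModuleCat.of S S)).X₂ :=
    Module.injective_module_of_injective_object S _
  have hJ : Module.Injective S (Groth.Agent.H2.InjDimQuot.injSC (ModuleCat.of S S)).X₃ :=
    Module.injective_module_of_injective_object S _
  exact ⟨_, _, inferInstance, inferInstance, inferInstance, inferInstance, hI, hJ,
    (Groth.Agent.H2.InjDimQuot.injSC (ModuleCat.of S S)).f.hom,
    (Groth.Agent.H2.InjDimQuot.injSC (ModuleCat.of S S)).g.hom,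
    Groth.Agent.H2.InjDimQuot.injective_f hS, Groth.Agent.H2.InjDimQuot.surjective_g hS,
    Groth.Agent.H2.InjDimQuot.exact_fg hS⟩

variable {S : Type u} [CommRing S]

/-- the extension step: over a ring with a two-term injective resolution, a functional on the
kernel of a map between finite free duals extends -/
theorem exists_extension {I J : Type u} [AddCommGroup I] [AddCommGroup J] [Module S I]
    [Module S J] [Module.Injective S I] [Module.Injective S J] (ι : S →ₗ[S] I) (π : I →ₗ[S] J)
    (hι : Function.Injective ι) (hπ : Function.Surjective π) (hex : Function.Exact ι π)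
    {A B C : Type u} [AddCommGroup A] [AddCommGroup B] [AddCommGroup C] [Module S A] [Module S B]
    [Module S C] [Module.Projective S C] (α : A →ₗ[S] B) (β : B →ₗ[S] C)
    (hα : Function.Injective α) (hαβ : Function.Exact α β) (g : A →ₗ[S] S) :
    ∃ g' : B →ₗ[S] S, ∀ a, g' (α a) = g a := by
  -- step 1: extend `ι ∘ g` to `B`
  obtain ⟨G, hG⟩ := Module.Injective.out α hα (ι ∘ₗ g)
  -- step 2: `π ∘ G` factors through `B ⧸ ker β`, which embeds into `C`
  have hle : LinearMap.ker β ≤ LinearMap.ker (π ∘ₗ G) := by
    intro b hb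
    obtain ⟨a, rfl⟩ := (hαβ b).mp hb
    rw [LinearMap.mem_ker, LinearMap.comp_apply, hG, LinearMap.comp_apply]
    exact (hex _).mpr ⟨_, rfl⟩
  have hβinj : Function.Injective ((LinearMap.ker β).liftQ β le_rfl) := by
    rw [← LinearMap.ker_eq_bot]
    exact Submodule.ker_liftQ_eq_bot _ _ _ le_rfl
  obtain ⟨H, hH⟩ := Module.Injective.out ((LinearMap.ker β).liftQ β le_rfl) hβinj
    ((LinearMap.ker β).liftQ (π ∘ₗ G) hle)
  have hH' : ∀ b, H (β b) = π (G b) := by
    intro b
    have := hH (Submodule.Quotient.mk b)
    simpa using this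
  -- step 3: lift `H` along `π`
  obtain ⟨Ht, hHt⟩ := Module.projective_lifting_property π H hπ
  -- step 4: the difference lands in `S`
  have hmem : ∀ b, (G - Ht ∘ₗ β) b ∈ LinearMap.range ι := by
    intro b
    rw [LinearMap.mem_range]
    apply (hex _).mp
    rw [LinearMap.sub_apply, map_sub, LinearMap.comp_apply, ← hH' b, ← hHt, LinearMap.comp_apply,
      sub_self]
  refine ⟨(LinearEquiv.ofInjective ι hι).symm.toLinearMap ∘ₗ
    (G - Ht ∘ₗ β).codRestrict (LinearMap.range ι) hmem, ?_⟩
  intro a
  apply hι
  have h1 : ι ((LinearEquiv.ofInjective ι hι).symm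
      ((G - Ht ∘ₗ β).codRestrict (LinearMap.range ι) hmem (α a))) =
      (G - Ht ∘ₗ β) (α a) := by
    have := (LinearEquiv.ofInjective ι hι).apply_symm_apply
      ((G - Ht ∘ₗ β).codRestrict (LinearMap.range ι) hmem (α a))
    exact congrArg Subtype.val this
  rw [LinearMap.comp_apply, LinearEquiv.coe_coe, h1, LinearMap.sub_apply, LinearMap.comp_apply,
    hαβ.apply_apply_eq_zero, map_zero, sub_zero, hG, LinearMap.comp_apply]

/-- over a Noetherian ring of injective dimension `≤ 1`, `M → M**` is surjective for every finitely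
generated module -/
theorem eval_surjective [IsNoetherianRing S]
    (h : HasInjectiveDimensionLT (ModuleCat.of S S) 2) (M : Type u) [AddCommGroup M] [Module S M]
    [Module.Finite S M] : Function.Surjective (Module.Dual.eval S M) := by
  obtain ⟨I, J, _, _, _, _, _, _, ι, π, hι, hπ, hex⟩ := exists_injective_resolution S h
  -- a finite free presentation
  obtain ⟨n, ε, hε⟩ := Module.Finite.exists_fin' S M
  obtain ⟨m, d', hd'⟩ := Module.Finite.exists_fin' S (LinearMap.ker ε)
  let d : (Fin m → S) →ₗ[S] (Fin n → S) := (LinearMap.ker ε).subtype ∘ₗ d'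
  have hdε : Function.Exact d ε := by
    intro x
    constructor
    · intro hx
      obtain ⟨y, hy⟩ := hd' ⟨x, hx⟩
      exact ⟨y, by simp [d, hy]⟩
    · rintro ⟨y, rfl⟩
      exact (d' y).2
  -- the dual sequence is left exact
  have hαinj : Function.Injective (Module.Dual.transpose (R := S) ε) := by
    intro f f' hff'
    apply LinearMap.ext
    intro x
    obtain ⟨y, rfl⟩ := hε x
    exact LinearMap.congr_fun hff' y
  have hαβ : Function.Exact (Module.Dual.transpose (R := S) ε) (Module.Dual.transpose (R := S) d) := by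
    intro φ
    constructor
    · intro hφ
      have hker : LinearMap.ker ε ≤ LinearMap.ker φ := by
        intro x hx
        obtain ⟨y, rfl⟩ := (hdε x).mp hx
        exact LinearMap.congr_fun hφ y
      refine ⟨(LinearMap.ker ε).liftQ φ hker ∘ₗ
        (ε.quotKerEquivOfSurjective hε).symm.toLinearMap, ?_⟩
      apply LinearMap.ext
      intro x
      simp only [Module.Dual.transpose_apply, LinearMap.comp_apply, LinearEquiv.coe_coe]
      have : (ε.quotKerEquivOfSurjective hε).symm (ε x) = Submodule.Quotient.mk x := by
        rw [LinearEquiv.symm_apply_eq]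
        rfl
      rw [this, Submodule.liftQ_apply]
    · rintro ⟨f, rfl⟩
      apply LinearMap.ext
      intro y
      simp only [Module.Dual.transpose_apply, LinearMap.comp_apply, LinearMap.zero_apply]
      rw [hdε.apply_apply_eq_zero, map_zero]
  intro ξ
  obtain ⟨g', hg'⟩ := exists_extension ι π hι hπ hex (Module.Dual.transpose (R := S) ε)
    (Module.Dual.transpose (R := S) d) hαinj hαβ ξ
  obtain ⟨x, hx⟩ := (Module.IsReflexive.bijective_dual_eval' (R := S) (M := Fin n → S)).2 g'
  refine ⟨ε x, ?_⟩
  apply LinearMap.ext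
  intro f
  rw [Module.Dual.eval_apply, ← hg' f, ← hx, Module.Dual.eval_apply, Module.Dual.transpose_apply,
    LinearMap.comp_apply]

end Groth.Agent.H89.ReflInjDim
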