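import Mathlib
import Groth.Prelude.Def_PicRel2
import Groth.Agent.H89.PullCl
import Groth.Agent.H67.AmplePullback

/-!
# Base change of a representing object of the relative Picard functor (helper89)
-/

set_option autoImplicit false
universe u
open CategoryTheory CategoryTheory.Limits AlgebraicGeometry
open Groth.Agent.H89.PullCl

namespace Groth.Agent.H89.RelPicBC

variable {X S S' : Scheme.{u}} (f : X ⟶ S) (g : S' ⟶ S)

lemma isInvertibleCl_pullCl {Y Y' : Scheme.{u}} (a : Y' ⟶ Y) {c : PicF.Cl Y}
    (hc : PicF.IsInvertibleCl c) : PicF.IsInvertibleCl (PicF.pullCl a c) := by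
  obtain ⟨L, rfl, hL⟩ := hc
  exact ⟨(Scheme.Modules.pullback a).obj L, rfl,
    Groth.Agent.H67.AmplePullback.isInvertible_pullback a hL⟩

/-- `T` over `S'` regarded over `S` -/
abbrev flat (T : Over S') : Over S := Over.mk (T.hom ≫ g)

/-- a morphism over `S'` regarded over `S` -/
abbrev flatHom {T T' : Over S'} (h : T' ⟶ T) : flat g T' ⟶ flat g T :=
  Over.homMk h.left (by simp)

/-- the comparison iso `X' ×_{S'} T ≅ X ×_S T` -/
noncomputable abbrev θ (T : Over S') :
    PicF.XT (pullback.snd f g) T ≅ PicF.XT f (flat g T) :=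
  pullbackLeftPullbackSndIso f g T.hom

lemma θ_hom_XTmap {T T' : Over S'} (h : T' ⟶ T) :
    PicF.XTmap (pullback.snd f g) h ≫ (θ f g T).hom =
      (θ f g T').hom ≫ PicF.XTmap f (flatHom g h) := by
  dsimp only [PicF.XTmap, PicF.XT, flat, flatHom, θ, Over.mk_hom, Over.homMk_left]
  apply pullback.hom_ext
  · simp [pullback.lift_fst, pullback.lift_fst_assoc]
  · simp [pullback.lift_snd]

lemma θ_inv_XTmap {T T' : Over S'} (h : T' ⟶ T) :
    (θ f g T').inv ≫ PicF.XTmap (pullback.snd f g) h =
      PicF.XTmap f (flatHom g h) ≫ (θ f g T).inv := by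
  rw [Iso.inv_comp_eq, ← Category.assoc, Iso.eq_comp_inv]
  exact (θ_hom_XTmap f g h)

@[reassoc]
lemma XTmap_comp {T T' T'' : Over S} (a : T'' ⟶ T') (b : T' ⟶ T) :
    PicF.XTmap f (a ≫ b) = PicF.XTmap f a ≫ PicF.XTmap f b := by
  dsimp only [PicF.XTmap]
  apply pullback.hom_ext
  · simp [pullback.lift_fst]
  · simp [pullback.lift_snd, pullback.lift_snd_assoc]

/-- the reassociation morphism -/
abbrev reassoc (T : Over S') (U : T.left.Etale) :
    flat g (PicRel.ovr T U) ⟶ PicRel.ovr (flat g T) U :=
  Over.homMk (𝟙 _) (by simp)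

lemma flatHom_ovrHom (T : Over S') (U : T.left.Etale) :
    flatHom g (PicRel.ovrHom T U) = reassoc g T U ≫ PicRel.ovrHom (flat g T) U := by
  apply Over.OverMorphism.ext
  simp

theorem isRelPic_baseChange (P : Over S)
    (φ : ∀ T : Over S, PicF.Cl (PicF.XT f T) → (T ⟶ P)) (hP : PicRel.IsRelPic f P φ) :
    PicRel.IsRelPic (pullback.snd f g) (Over.mk (pullback.snd P.hom g))
      (fun T c => Over.homMk
        (pullback.lift (φ (Over.mk (T.hom ≫ g))
          (PicF.pullCl (pullbackLeftPullbackSndIso f g T.hom).inv c)).left T.hom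
          (Over.w (φ (Over.mk (T.hom ≫ g))
            (PicF.pullCl (pullbackLeftPullbackSndIso f g T.hom).inv c))))
        (pullback.lift_snd _ _ _)) := by
  constructor
  · intro T T' h c hc
    apply Over.OverMorphism.ext
    apply pullback.hom_ext
    · have hn := hP.natural (flat g T) (flat g T') (flatHom g h)
        (PicF.pullCl (θ f g T).inv c) (isInvertibleCl_pullCl _ hc)
      have e1 : PicF.pullCl (θ f g T').inv (PicF.pullCl (PicF.XTmap (pullback.snd f g) h) c) =
          PicF.pullCl (PicF.XTmap f (flatHom g h)) (PicF.pullCl (θ f g T).inv c) := by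
        rw [← pullCl_comp, ← pullCl_comp, θ_inv_XTmap]
      simp only [Over.homMk_left, Over.comp_left, pullback.lift_fst, Category.assoc]
      rw [e1, hn]
      rfl
    · simp only [Over.homMk_left, Over.comp_left, pullback.lift_snd, Category.assoc]
      exact (Over.w h).symm
  · intro T γ
    have hγ : γ.left ≫ pullback.snd P.hom g = T.hom := Over.w γ
    let γ' : flat g T ⟶ P := Over.homMk (γ.left ≫ pullback.fst P.hom g) (by
      simp only [Category.assoc, pullback.condition, Over.mk_hom]
      rw [← Category.assoc, hγ])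
    obtain ⟨ι, U, hU, hc⟩ := hP.locallySurjective (flat g T) γ'
    refine ⟨ι, U, hU, fun i => ?_⟩
    obtain ⟨c, hci, hcφ⟩ := hc i
    refine ⟨PicF.pullCl (θ f g (PicRel.ovr T (U i))).hom
      (PicF.pullCl (PicF.XTmap f (reassoc g T (U i))) c),
      isInvertibleCl_pullCl _ (isInvertibleCl_pullCl _ hci), ?_⟩
    apply Over.OverMorphism.ext
    apply pullback.hom_ext
    · have hn := hP.natural _ _ (reassoc g T (U i)) c hci
      simp only [Over.homMk_left, Over.comp_left, pullback.lift_fst, Category.assoc]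
      have e2 := pullCl_inv_hom (θ f g (PicRel.ovr T (U i)))
        (PicF.pullCl (PicF.XTmap f (reassoc g T (U i))) c)
      erw [e2, hn, hcφ]
      simp [γ']
    · simp only [Over.homMk_left, Over.comp_left, pullback.lift_snd, Category.assoc]
      rw [hγ]
      rfl
  · intro T c c' hc hc' hφ
    have h1 : φ (flat g T) (PicF.pullCl (θ f g T).inv c) =
        φ (flat g T) (PicF.pullCl (θ f g T).inv c') := by
      apply Over.OverMorphism.ext
      have := congrArg (fun m => Over.Hom.left m ≫ pullback.fst P.hom g) hφ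
      simpa only [Over.homMk_left, pullback.lift_fst] using this
    obtain ⟨ι, U, hU, hpc⟩ := hP.locallyInjective (flat g T) _ _
      (isInvertibleCl_pullCl _ hc) (isInvertibleCl_pullCl _ hc') h1
    refine ⟨ι, U, hU, fun i => ?_⟩
    have key : ∀ d : PicF.Cl (PicF.XT (pullback.snd f g) T),
        PicF.pullCl (PicF.XTmap (pullback.snd f g) (PicRel.ovrHom T (U i))) d =
        PicF.pullCl (θ f g (PicRel.ovr T (U i))).hom
          (PicF.pullCl (PicF.XTmap f (reassoc g T (U i)))
            (PicF.pullCl (PicF.XTmap f (PicRel.ovrHom (flat g T) (U i)))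
              (PicF.pullCl (θ f g T).inv d))) := by
      intro d
      rw [← pullCl_comp, ← pullCl_comp, ← pullCl_comp]
      apply pullCl_congr
      rw [Iso.eq_comp_inv, θ_hom_XTmap, flatHom_ovrHom, XTmap_comp, Category.assoc]
    rw [key c, key c', hpc i]

end Groth.Agent.H89.RelPicBC
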