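import Mathlib

set_option autoImplicit false
universe u
open Polynomial

namespace Groth.Agent.H89

theorem pow_eq_sum_descPochhammer {R : Type u} [CommRing R] [Algebra ℚ R]
    (r : R) (δ : ℕ) (hr : (r - 1) ^ (δ + 1) = 0) (n : ℕ) :
    r ^ n = ∑ k ∈ Finset.range (δ + 1),
      ((descPochhammer ℚ k).eval (n : ℚ) / (k.factorial : ℚ)) • (r - 1) ^ k := by
  have h1 : ∀ k : ℕ, ((descPochhammer ℚ k).eval (n : ℚ) / (k.factorial : ℚ)) • (r - 1) ^ k
      = (r - 1) ^ k * (n.choose k : R) := by
    intro k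
    rw [← Nat.cast_choose_eq_descPochhammer_div, Nat.cast_smul_eq_nsmul, nsmul_eq_mul, mul_comm]
  simp only [h1]
  have h2 : r ^ n = ∑ k ∈ Finset.range (n + 1), (r - 1) ^ k * (n.choose k : R) := by
    conv_lhs => rw [show r = (r - 1) + 1 by ring, add_pow]
    simp
  rw [h2]
  -- compare both with the sum over `range (max n δ + 1)`
  have hA : ∑ k ∈ Finset.range (n + 1), (r - 1) ^ k * (n.choose k : R)
      = ∑ k ∈ Finset.range (max n δ + 1), (r - 1) ^ k * (n.choose k : R) := by
    apply Finset.sum_subset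
    · intro k hk
      rw [Finset.mem_range] at hk ⊢
      have := le_max_left n δ
      omega
    · intro k _ hk
      rw [Finset.mem_range, not_lt] at hk
      rw [Nat.choose_eq_zero_of_lt (by omega)]
      simp
  have hB : ∑ k ∈ Finset.range (δ + 1), (r - 1) ^ k * (n.choose k : R)
      = ∑ k ∈ Finset.range (max n δ + 1), (r - 1) ^ k * (n.choose k : R) := by
    apply Finset.sum_subset
    · intro k hk
      rw [Finset.mem_range] at hk ⊢
      have := le_max_right n δ
      omega
    · intro k _ hk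
      rw [Finset.mem_range, not_lt] at hk
      rw [pow_eq_zero_of_le hk hr, zero_mul]
  rw [hA, hB]


theorem coeff_identity {R : Type u} [CommRing R] [Algebra ℚ R] (r : R) (k : ℕ) (s : ℤ) :
    ((k.factorial : ℚ)⁻¹) • ((s : R) * (r - 1) ^ k) =
      ∑ u ∈ Finset.range (k + 1),
        (((-1 : ℚ) ^ (k - u) * (s : ℚ)) / ((u.factorial * (k - u).factorial : ℕ) : ℚ)) • r ^ u := by
  rw [sub_pow, Finset.mul_sum, Finset.smul_sum]
  apply Finset.sum_congr rfl
  intro u hu
  rw [Finset.mem_range] at hu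
  have hu' : u ≤ k := by omega
  have hq : ((-1 : ℚ) ^ (k - u) * (s : ℚ)) / ((u.factorial * (k - u).factorial : ℕ) : ℚ)
      = (k.factorial : ℚ)⁻¹ * ((s : ℚ) * ((-1) ^ (u + k) * (k.choose u : ℚ))) := by
    have h1 : ((k.choose u * u.factorial * (k - u).factorial : ℕ) : ℚ) = (k.factorial : ℚ) := by
      rw [Nat.choose_mul_factorial_mul_factorial hu']
    have h2 : ((-1 : ℚ)) ^ (u + k) = (-1) ^ (k - u) := by
      have : u + k = (k - u) + 2 * u := by omega
      rw [this, pow_add, pow_mul]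
      simp
    rw [h2]
    have hk : (k.factorial : ℚ) ≠ 0 := Nat.cast_ne_zero.mpr k.factorial_ne_zero
    have hu0 : (u.factorial : ℚ) ≠ 0 := Nat.cast_ne_zero.mpr u.factorial_ne_zero
    have hku : ((k - u).factorial : ℚ) ≠ 0 := Nat.cast_ne_zero.mpr (k - u).factorial_ne_zero
    have hc : (k.choose u : ℚ) ≠ 0 := Nat.cast_ne_zero.mpr (Nat.choose_pos hu').ne'
    push_cast at h1 ⊢
    rw [← h1]
    field_simp
  rw [hq, Algebra.smul_def, Algebra.smul_def]
  simp only [map_mul, map_pow, map_neg, map_one, map_intCast, map_natCast, one_pow, mul_one]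
  ring


theorem stirling_term {R : Type u} [CommRing R] [Algebra ℚ R] (r : R) (δ k : ℕ) (hk : k < δ + 1) :
    ((k.factorial : ℚ)⁻¹ • (descPochhammer R k * Polynomial.C ((r - 1) ^ k))) =
      ∑ j ∈ Finset.range (δ + 1), Polynomial.C (∑ u ∈ Finset.range (k + 1),
        (((-1 : ℚ) ^ (k - u) * (((descPochhammer ℤ k).coeff j : ℤ) : ℚ)) /
          ((u.factorial * (k - u).factorial : ℕ) : ℚ)) • r ^ u) * Polynomial.X ^ j := by
  have hdeg : (descPochhammer ℤ k).natDegree < δ + 1 := by
    rw [descPochhammer_natDegree]; exact hk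
  have h1 : descPochhammer R k = ∑ j ∈ Finset.range (δ + 1),
      Polynomial.C (((descPochhammer ℤ k).coeff j : ℤ) : R) * Polynomial.X ^ j := by
    rw [← descPochhammer_map (Int.castRingHom R) k]
    conv_lhs => rw [(descPochhammer ℤ k).as_sum_range_C_mul_X_pow' hdeg]
    rw [Polynomial.map_sum]
    apply Finset.sum_congr rfl
    intro j _
    simp
  rw [h1, Finset.sum_mul, Finset.smul_sum]
  apply Finset.sum_congr rfl
  intro j _
  rw [← coeff_identity r k ((descPochhammer ℤ k).coeff j)]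
  have h2 : Polynomial.C (((descPochhammer ℤ k).coeff j : ℤ) : R) * Polynomial.X ^ j *
      Polynomial.C ((r - 1) ^ k) =
      Polynomial.C ((((descPochhammer ℤ k).coeff j : ℤ) : R) * (r - 1) ^ k) * Polynomial.X ^ j := by
    rw [Polynomial.C_mul]; ring
  rw [h2, ← smul_mul_assoc, Polynomial.smul_C]

theorem stirling_expand {R : Type u} [CommRing R] [Algebra ℚ R] (r : R) (δ : ℕ) :
    (∑ k ∈ Finset.range (δ + 1), ((k.factorial : ℚ)⁻¹ •
        (descPochhammer R k * Polynomial.C ((r - 1) ^ k)))) =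
      ∑ j ∈ Finset.range (δ + 1), Polynomial.C (∑ k ∈ Finset.range (δ + 1),
        ∑ u ∈ Finset.range (k + 1),
        (((-1 : ℚ) ^ (k - u) * (((descPochhammer ℤ k).coeff j : ℤ) : ℚ)) /
          ((u.factorial * (k - u).factorial : ℕ) : ℚ)) • r ^ u) * Polynomial.X ^ j := by
  simp only [map_sum, Finset.sum_mul]
  rw [Finset.sum_comm]
  apply Finset.sum_congr rfl
  intro k hk
  rw [Finset.mem_range] at hk
  rw [stirling_term r δ k hk]
  simp only [map_sum, Finset.sum_mul]

end Groth.Agent.H89
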