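import Mathlib
import Groth.Prelude.Def_SymTen
import Groth.Prelude.Def_PolLaw2
import Groth.Prelude.Def_W4c5normfunctorschNorm
import Groth.Agent.S17910
import Groth.Agent.H89.NormBC

/-! Helper library for S19898 (helper89): symmetric tensors act on the top exterior power of a
finite free algebra through the norm. -/

set_option autoImplicit false
universe u

open scoped TensorProduct
open PiTensorProduct

namespace Groth.Agent.H89.SymNorm

section
variable (R : Type u) [CommRing R] (R' : Type u) [CommRing R'] [Algebra R R'] (d : ℕ)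

theorem perm_comp_single (σ : Equiv.Perm (Fin d)) (j : Fin d) :
    (SymTen.perm R R' d σ).comp (singleAlgHom (R := R) (A := fun _ : Fin d => R') j) =
      singleAlgHom (R := R) (A := fun _ : Fin d => R') (σ j) := by
  ext b
  simp only [AlgHom.comp_apply, singleAlgHom_apply, SymTen.perm_tprod]
  congr 1
  ext i
  by_cases h : i = σ j
  · subst h; simp
  · have : σ.symm i ≠ j := fun h' => h (by rw [← h']; simp)
    simp [MonoidHom.mulSingle_apply, h, this]

theorem perm_tpowLaw (σ : Equiv.Perm (Fin d)) (S : Type u) [CommSemiring S] [Algebra R S]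
    (z : S ⊗[R] R') :
    (SymTen.perm R R' d σ).toLinearMap.lTensor S ((SymTen.tpowLaw R R' d).law.toFun' S z) =
      (SymTen.tpowLaw R R' d).law.toFun' S z := by
  rw [PolLaw.lTensor_algHom_apply]
  simp only [SymTen.tpowLaw, PolLaw.MulLaw.prodMap_toFun', map_prod]
  rw [← Equiv.prod_comp σ (fun j => Algebra.TensorProduct.map (AlgHom.id S S)
    (singleAlgHom (R := R) (A := fun _ : Fin d => R') j) z)]
  refine Finset.prod_congr rfl fun j _ => ?_
  rw [← perm_comp_single, ← AlgHom.comp_apply, ← Algebra.TensorProduct.map_comp]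
  rfl

theorem phi_mem_TS {C : Type u} [CommRing C] [Algebra R C] (γ : PolLaw.MulLaw R R' C d)
    (hγ : PolLaw.IsGammaD γ)
    (φ : C →ₐ[R] (⨂[R] _ : Fin d, R')) (hφ : PolLaw.MulLaw.postcomp φ γ = SymTen.tpowLaw R R' d)
    (c : C) : φ c ∈ SymTen.TS R R' d := by
  have hφ' : PolLaw.postcomp φ.toLinearMap γ.law = (SymTen.tpowLaw R R' d).law :=
    congrArg PolLaw.MulLaw.law hφ
  have hφ'' : ∀ (S : Type u) [CommSemiring S] [Algebra R S] (z : S ⊗[R] R'),
      φ.toLinearMap.lTensor S (γ.law.toFun' S z) = (SymTen.tpowLaw R R' d).law.toFun' S z := by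
    intro S _ _ z
    exact congrFun (congrFun (congrFun (congrFun (congrArg PolynomialLaw.toFun' hφ') S) _) _) z
  obtain ⟨f, -, hfu⟩ := hγ _ (SymTen.tpowLaw R R' d)
  intro σ
  rw [← SymTen.perm_apply]
  have h2 : φ = f := hfu φ hφ'
  have h1 : (SymTen.perm R R' d σ).comp φ = f := by
    apply hfu
    apply PolynomialLaw.ext
    funext S _ _ z
    show ((SymTen.perm R R' d σ).comp φ).toLinearMap.lTensor S (γ.law.toFun' S z) = _
    rw [AlgHom.comp_toLinearMap, LinearMap.lTensor_comp, LinearMap.comp_apply, hφ'',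
      perm_tpowLaw]
  have := congrArg (fun g : C →ₐ[R] (⨂[R] _ : Fin d, R') => g c) (h1.trans h2.symm)
  exact this

end

section
variable (R : Type u) [CommRing R] (P : Type u) [AddCommGroup P] [Module R P] (d : ℕ)

/-- the determinant functional on the tensor power -/
noncomputable def detL (b : Module.Basis (Fin d) R P) : (⨂[R] _ : Fin d, P) →ₗ[R] R :=
  PiTensorProduct.lift (b.det : P [⋀^Fin d]→ₗ[R] R).toMultilinearMap

theorem detL_tprod (b : Module.Basis (Fin d) R P) (v : Fin d → P) :
    detL R P d b (tprod R v) = b.det v := by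
  simp [detL]

theorem detL_altSpan (b : Module.Basis (Fin d) R P) (a : ⨂[R] _ : Fin d, P)
    (ha : a ∈ SymTen.altSpan R P d) : detL R P d b a = 0 := by
  induction ha using Submodule.span_induction with
  | mem x hx =>
    obtain ⟨p, i, j, hij, hp, rfl⟩ := hx
    rw [detL_tprod]
    exact (b.det).map_eq_zero_of_eq p hp hij
  | zero => exact map_zero _
  | add x y _ _ hx hy => rw [map_add, hx, hy, add_zero]
  | smul r x _ hx => rw [map_smul, hx, smul_zero]

open Groth.Agent.S17910 in
theorem altQ_eq (b : Module.Basis (Fin d) R P) (v : Fin d → P) :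
    altQ R P d v = b.det v • altQ R P d b := by
  have key : altQ R P d = (b.det).smulRight (altQ R P d b) := by
    apply Module.Basis.ext_alternating b
    intro I hI
    have hbij : Function.Bijective I := Finite.injective_iff_bijective.1 hI
    let σ : Equiv.Perm (Fin d) := Equiv.ofBijective I hbij
    have h1 : (fun i => b (I i)) = (⇑b) ∘ σ := rfl
    rw [h1, AlternatingMap.map_perm, AlternatingMap.smulRight_apply, AlternatingMap.map_perm,
      Module.Basis.det_self, smul_assoc, one_smul]
  conv_lhs => rw [key]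
  rw [AlternatingMap.smulRight_apply]

open Groth.Agent.S17910 in
theorem sub_detL_smul_mem (b : Module.Basis (Fin d) R P) (a : ⨂[R] _ : Fin d, P) :
    a - detL R P d b a • tprod R b ∈ SymTen.altSpan R P d := by
  have key : (SymTen.altSpan R P d).mkQ =
      (detL R P d b).smulRight ((SymTen.altSpan R P d).mkQ (tprod R b)) := by
    apply PiTensorProduct.ext
    apply MultilinearMap.ext
    intro v
    simp only [LinearMap.compMultilinearMap_apply, LinearMap.smulRight_apply, detL_tprod]
    exact altQ_eq R P d b v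
  have := LinearMap.congr_fun key a
  rw [LinearMap.smulRight_apply, ← map_smul, ← sub_eq_zero, ← map_sub] at this
  exact (Submodule.Quotient.mk_eq_zero _).1 this

end

section
variable (R : Type u) [CommRing R] (A : Type u) [CommRing A] [Algebra R A]
  (P : Type u) [AddCommGroup P] [Module R P] [Module A P] [IsScalarTower R A P] (d : ℕ)

open Groth.Agent.S17910 in
theorem tpowAct_mul (a a' : ⨂[R] _ : Fin d, A) (x : ⨂[R] _ : Fin d, P) :
    SymTen.tpowAct R A P d (a * a') x =
      SymTen.tpowAct R A P d a (SymTen.tpowAct R A P d a' x) := by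
  induction a using PiTensorProduct.induction_on with
  | smul_tprod r α =>
    induction a' using PiTensorProduct.induction_on with
    | smul_tprod r' β =>
      induction x using PiTensorProduct.induction_on with
      | smul_tprod r'' p =>
        simp only [Algebra.smul_mul_assoc, Algebra.mul_smul_comm, map_smul, LinearMap.smul_apply,
          tprod_mul_tprod, tpowAct_tprod, Pi.mul_apply, mul_smul]
      | add x y hx hy => simp only [map_add, hx, hy]
    | add b b' hb hb' => simp only [mul_add, map_add, LinearMap.add_apply, hb, hb']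
  | add b b' hb hb' => simp only [add_mul, map_add, LinearMap.add_apply, hb, hb']

open Groth.Agent.S17910 in
theorem tpowAct_one (x : ⨂[R] _ : Fin d, P) :
    SymTen.tpowAct R A P d 1 x = x := by
  induction x using PiTensorProduct.induction_on with
  | smul_tprod r p =>
    rw [map_smul, PiTensorProduct.one_def, tpowAct_tprod]
    simp
  | add x y hx hy => simp only [map_add, hx, hy]

end

section
variable (R : Type u) [CommRing R] (R' : Type u) [CommRing R'] [Algebra R R'] (d : ℕ)

theorem detL_tpowAct (b : Module.Basis (Fin d) R R') (a : ⨂[R] _ : Fin d, R')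
    (ha : a ∈ SymTen.TS R R' d) (x : ⨂[R] _ : Fin d, R') :
    detL R R' d b (SymTen.tpowAct R R' R' d a x) =
      detL R R' d b (SymTen.tpowAct R R' R' d a (tprod R b)) * detL R R' d b x := by
  have hfin : Module.Finite R R' := Module.Finite.of_basis b
  have hproj : Module.Projective R R' := Module.Projective.of_basis b
  have h1 := Groth.Agent.S17910.result R R' R' d a ha _ (sub_detL_smul_mem R R' d b x)
  have h2 := detL_altSpan R R' d b _ h1
  rw [map_sub, map_sub, map_smul, map_smul, sub_eq_zero, smul_eq_mul] at h2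
  rw [h2, mul_comm]

/-- the algebra hom `c ↦ det (φ c · ω)` -/
noncomputable def psi (b : Module.Basis (Fin d) R R') {C : Type u} [CommRing C] [Algebra R C]
    (φ : C →ₐ[R] (⨂[R] _ : Fin d, R')) (hφ : ∀ c, φ c ∈ SymTen.TS R R' d) : C →ₐ[R] R where
  toFun c := detL R R' d b (SymTen.tpowAct R R' R' d (φ c) (tprod R b))
  map_one' := by
    rw [map_one, tpowAct_one, detL_tprod, Module.Basis.det_self]
  map_mul' c c' := by
    rw [map_mul, tpowAct_mul, detL_tpowAct R R' d b (φ c) (hφ c)]
  map_zero' := by simp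
  map_add' c c' := by simp
  commutes' r := by
    rw [AlgHom.commutes, Algebra.algebraMap_eq_smul_one, map_smul, LinearMap.smul_apply,
      tpowAct_one, map_smul, detL_tprod, Module.Basis.det_self]
    simp

theorem final (b : Module.Basis (Fin d) R R') {C : Type u} [CommRing C] [Algebra R C]
    (φ : C →ₐ[R] (⨂[R] _ : Fin d, R')) (hφ : ∀ c, φ c ∈ SymTen.TS R R' d) (π : C →ₐ[R] R)
    (hπ : psi R R' d b φ hφ = π) (c : C) (x : ⨂[R] _ : Fin d, R') :
    SymTen.tpowAct R R' R' d (φ c) x - π c • x ∈ SymTen.altSpan R R' d := by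
  have h1 := sub_detL_smul_mem R R' d b (SymTen.tpowAct R R' R' d (φ c) x)
  have h2 := sub_detL_smul_mem R R' d b x
  have h3 := detL_tpowAct R R' d b (φ c) (hφ c) x
  have h4 : π c = detL R R' d b (SymTen.tpowAct R R' R' d (φ c) (tprod R b)) := by
    rw [← hπ]; rfl
  rw [← h4] at h3
  have : SymTen.tpowAct R R' R' d (φ c) x - π c • x =
      (SymTen.tpowAct R R' R' d (φ c) x -
        detL R R' d b (SymTen.tpowAct R R' R' d (φ c) x) • tprod R b) -
      π c • (x - detL R R' d b x • tprod R b) := by
    rw [h3, smul_sub, mul_smul]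
    abel
  rw [this]
  exact Submodule.sub_mem _ h1 (Submodule.smul_mem _ _ h2)

theorem det_baseChange (b : Module.Basis (Fin d) R R') (S : Type u) [CommRing S] [Algebra R S]
    (v : Fin d → R') :
    (Algebra.TensorProduct.basis S b).det (fun j => (1 : S) ⊗ₜ[R] v j) =
      algebraMap R S (b.det v) := by
  rw [Module.Basis.det_apply, Module.Basis.det_apply, RingHom.map_det]
  congr 1
  ext i j
  simp [Module.Basis.toMatrix_apply, Algebra.TensorProduct.basis_repr_tmul]

theorem norm_expand (b : Module.Basis (Fin d) R R') (S : Type u) [CommRing S] [Algebra R S]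
    (s : Fin d → S) :
    Algebra.norm S (∑ i, s i ⊗ₜ[R] b i : S ⊗[R] R') =
      ∑ I : Fin d → Fin d, (∏ j, s (I j)) * algebraMap R S (b.det (fun j => b (I j) * b j)) := by
  classical
  set bS := Algebra.TensorProduct.basis S b with hbS
  set z : S ⊗[R] R' := ∑ i, s i ⊗ₜ[R] b i with hz
  have h1 : Algebra.norm S z = bS.det (fun j => z * bS j) := by
    have := Module.Basis.det_comp bS (Algebra.lmul S (S ⊗[R] R') z) bS
    rw [Module.Basis.det_self, mul_one] at this
    rw [Algebra.norm_apply, ← this]
    rfl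
  have h2 : ∀ j, z * bS j = ∑ i, s i • ((1 : S) ⊗ₜ[R] (b i * b j)) := by
    intro j
    rw [hz, Finset.sum_mul]
    refine Finset.sum_congr rfl fun i _ => ?_
    rw [hbS, Algebra.TensorProduct.basis_apply, Algebra.TensorProduct.tmul_mul_tmul, mul_one,
      TensorProduct.smul_tmul', smul_eq_mul, mul_one]
  rw [h1]
  simp_rw [h2]
  have h3 := MultilinearMap.map_sum (bS.det : (S ⊗[R] R') [⋀^Fin d]→ₗ[S] S).toMultilinearMap
    (fun (j : Fin d) (i : Fin d) => s i • ((1 : S) ⊗ₜ[R] (b i * b j)))
  rw [AlternatingMap.coe_multilinearMap] at h3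
  rw [h3]
  refine Finset.sum_congr rfl fun I _ => ?_
  have h4 := MultilinearMap.map_smul_univ
    (bS.det : (S ⊗[R] R') [⋀^Fin d]→ₗ[S] S).toMultilinearMap (fun j => s (I j))
    (fun j => ((1 : S) ⊗ₜ[R] (b (I j) * b j)))
  rw [AlternatingMap.coe_multilinearMap] at h4
  rw [h4, smul_eq_mul]
  congr 1
  exact det_baseChange R R' d b S (fun j => b (I j) * b j)

theorem prod_tmul {S : Type u} [CommSemiring S] [Algebra R S] {B : Type u} [CommRing B] [Algebra R B]
    {ι : Type} (t : Finset ι) (a : ι → S) (c : ι → B) :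
    ∏ j ∈ t, (a j ⊗ₜ[R] c j) = (∏ j ∈ t, a j) ⊗ₜ[R] (∏ j ∈ t, c j) := by
  classical
  induction t using Finset.induction_on with
  | empty => simp [Algebra.TensorProduct.one_def]
  | insert j s hj ih =>
    rw [Finset.prod_insert hj, Finset.prod_insert hj, Finset.prod_insert hj, ih,
      Algebra.TensorProduct.tmul_mul_tmul]

theorem prod_single (x : Fin d → R') :
    ∏ j, singleAlgHom (R := R) (A := fun _ : Fin d => R') j (x j) = tprod R x := by
  simp only [singleAlgHom_apply]
  rw [← PiTensorProduct.tprod_prod]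
  exact congrArg _ (Finset.univ_prod_mulSingle x)

theorem tpowLaw_expand (b : Fin d → R') (S : Type u) [CommSemiring S] [Algebra R S]
    (s : Fin d → S) :
    (SymTen.tpowLaw R R' d).law.toFun' S (∑ i, s i ⊗ₜ[R] b i) =
      ∑ I : Fin d → Fin d, (∏ j, s (I j)) ⊗ₜ[R] tprod R (fun j => b (I j)) := by
  classical
  simp only [SymTen.tpowLaw, PolLaw.MulLaw.prodMap_toFun', map_sum,
    Algebra.TensorProduct.map_tmul, AlgHom.id_apply]
  rw [Finset.prod_univ_sum, Fintype.piFinset_univ]
  refine Finset.sum_congr rfl fun I _ => ?_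
  rw [prod_tmul, prod_single]

open Groth.Agent.S17910 in
theorem psi_law [Module.Free R R'] [Module.Finite R R'] (hd : Module.finrank R R' = d)
    (b : Module.Basis (Fin d) R R') {C : Type u} [CommRing C] [Algebra R C]
    (γ : PolLaw.MulLaw R R' C d)
    (φ : C →ₐ[R] (⨂[R] _ : Fin d, R'))
    (hφ' : ∀ (S : Type u) [CommSemiring S] [Algebra R S] (z : S ⊗[R] R'),
      φ.toLinearMap.lTensor S (γ.law.toFun' S z) = (SymTen.tpowLaw R R' d).law.toFun' S z)
    (hTS : ∀ c, φ c ∈ SymTen.TS R R' d) :
    PolLaw.postcomp (psi R R' d b φ hTS).toLinearMap γ.law = (PolLaw.normLaw R R' d hd).law := by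
  apply Groth.Agent.H89.polyLaw_ext_ring
  intro S _ _ z
  show (psi R R' d b φ hTS).toLinearMap.lTensor S (γ.law.toFun' S z) = _
  rw [PolLaw.normLaw_apply]
  let L' : (⨂[R] _ : Fin d, R') →ₗ[R] R :=
    (detL R R' d b) ∘ₗ (LinearMap.applyₗ (tprod R b)) ∘ₗ (SymTen.tpowAct R R' R' d)
  have hL' : ∀ α : Fin d → R', L' (tprod R α) = b.det (fun j => α j * b j) := by
    intro α
    show detL R R' d b (SymTen.tpowAct R R' R' d (tprod R α) (tprod R b)) = _
    rw [tpowAct_tprod, detL_tprod]
    rfl
  have hpsi : (psi R R' d b φ hTS).toLinearMap = L' ∘ₗ φ.toLinearMap := by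
    ext c; rfl
  rw [hpsi, LinearMap.lTensor_comp, LinearMap.comp_apply, hφ']
  obtain ⟨s, rfl⟩ : ∃ s : Fin d → S, z = ∑ i, s i ⊗ₜ[R] b i := by
    refine ⟨fun i => (Algebra.TensorProduct.basis S b).repr z i, ?_⟩
    conv_lhs => rw [← (Algebra.TensorProduct.basis S b).sum_repr z]
    refine Finset.sum_congr rfl fun i _ => ?_
    rw [Algebra.TensorProduct.basis_apply, TensorProduct.smul_tmul', smul_eq_mul, mul_one]
  rw [tpowLaw_expand, map_sum, norm_expand, TensorProduct.sum_tmul]
  refine Finset.sum_congr rfl fun I _ => ?_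
  rw [LinearMap.lTensor_tmul, hL', mul_comm, ← Algebra.smul_def, TensorProduct.smul_tmul,
    smul_eq_mul, mul_one]

end

end Groth.Agent.H89.SymNorm
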