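import Mathlib

set_option autoImplicit false
universe u

namespace Groth.Agent.H89.Torsionless

open nonZeroDivisors

variable (Λ : Type u) [CommRing Λ] [IsDomain Λ] (S : Type u) [CommRing S] [Algebra Λ S]
  (M : Type u) [AddCommGroup M] [Module S M] [Module Λ M] [IsScalarTower Λ S M]

/-- a torsionless module over a torsion-free algebra is torsion-free over the base -/
theorem torsionFree_of_eval_injective
    (hS : ∀ (c : Λ) (s : S), c ≠ 0 → c • s = 0 → s = 0)
    (hinj : Function.Injective (Module.Dual.eval S M)) :
    ∀ (c : Λ) (m : M), c ≠ 0 → c • m = 0 → m = 0 := by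
  intro c m hc hcm
  apply hinj
  rw [map_zero]
  apply LinearMap.ext
  intro f
  rw [Module.Dual.eval_apply, LinearMap.zero_apply]
  apply hS c _ hc
  have h1 : c • f m = f (c • m) := by
    rw [← algebraMap_smul S c (f m), ← algebraMap_smul S c m, map_smul]
  rw [h1, hcm, map_zero]

variable [Module.Finite Λ S] [IsReduced S] [Module.Finite S M]

/-- over a reduced finite torsion-free algebra over a domain, a finitely generated module which is
torsion-free over the base is torsionless -/
theorem eval_injective_of_torsionFree
    (hS : ∀ (c : Λ) (s : S), c ≠ 0 → c • s = 0 → s = 0)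
    (hM : ∀ (c : Λ) (m : M), c ≠ 0 → c • m = 0 → m = 0) :
    Function.Injective (Module.Dual.eval S M) := by
  classical
  let W : Submonoid S := Algebra.algebraMapSubmonoid S Λ⁰
  have hfin : Module.Finite (FractionRing Λ) (Localization W) := inferInstance
  have hart : IsArtinianRing (Localization W) := IsArtinianRing.of_finite (FractionRing Λ) _
  have hss : IsSemisimpleRing (Localization W) := IsArtinianRing.isSemisimpleRing_of_isReduced _
  have hproj : Module.Projective (Localization W) (LocalizedModule W M) :=
    Module.projective_of_isSemisimpleRing _ _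
  have hrefl : Module.IsReflexive (Localization W) (LocalizedModule W M) := inferInstance
  have hWmem : ∀ w ∈ W, ∃ c : Λ, c ≠ 0 ∧ algebraMap Λ S c = w := by
    intro w hw
    obtain ⟨c, hc, rfl⟩ := hw
    exact ⟨c, nonZeroDivisors.ne_zero hc, rfl⟩
  have hWle : W ≤ S⁰ := by
    intro w hw
    obtain ⟨c, hc, rfl⟩ := hWmem w hw
    rw [mem_nonZeroDivisors_iff_right]
    intro s hs
    apply hS c s hc
    rw [Algebra.smul_def, mul_comm]
    exact hs
  have hinjS : Function.Injective (algebraMap S (Localization W)) :=
    IsLocalization.injective _ hWle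
  rw [injective_iff_map_eq_zero]
  intro m hm
  by_contra hne
  have hm' : LocalizedModule.mkLinearMap W M m ≠ 0 := by
    intro h0
    obtain ⟨w, hw⟩ := (IsLocalizedModule.eq_zero_iff W (LocalizedModule.mkLinearMap W M)).mp h0
    obtain ⟨c, hc, hcw⟩ := hWmem w.1 w.2
    apply hne
    apply hM c m hc
    rw [← algebraMap_smul S c m, hcw]
    exact hw
  obtain ⟨f', hf'⟩ : ∃ f' : Module.Dual (Localization W) (LocalizedModule W M),
      f' (LocalizedModule.mkLinearMap W M m) ≠ 0 := by
    by_contra hcon
    apply hm'
    apply hrefl.bijective_dual_eval'.1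
    rw [map_zero]
    apply LinearMap.ext
    intro f'
    rw [Module.Dual.eval_apply, LinearMap.zero_apply]
    by_contra h
    exact hcon ⟨f', h⟩
  obtain ⟨T, hT⟩ := (Module.Finite.fg_top : (⊤ : Submodule S M).FG)
  obtain ⟨b, hb⟩ := IsLocalization.exist_integer_multiples_of_finset W
    (T.image (fun t => f' (LocalizedModule.mkLinearMap W M t)))
  let f'' : M →ₗ[S] Localization W :=
    (b : S) • ((f'.restrictScalars S) ∘ₗ LocalizedModule.mkLinearMap W M)
  have hmem : ∀ x : M, f'' x ∈ LinearMap.range (Algebra.linearMap S (Localization W)) := by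
    intro x
    have hx : x ∈ Submodule.span S (T : Set M) := by rw [hT]; trivial
    induction hx using Submodule.span_induction with
    | mem x hx =>
      obtain ⟨r, hr⟩ := hb _ (Finset.mem_image_of_mem _ hx)
      exact ⟨r, hr⟩
    | zero => rw [map_zero]; exact Submodule.zero_mem _
    | add x y _ _ hx hy => rw [map_add]; exact Submodule.add_mem _ hx hy
    | smul a x _ hx => rw [map_smul]; exact Submodule.smul_mem _ a hx
  let f : M →ₗ[S] S := (LinearEquiv.ofInjective (Algebra.linearMap S (Localization W))
    hinjS).symm.toLinearMap ∘ₗ f''.codRestrict _ hmem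
  have hf : algebraMap S (Localization W) (f m) = f'' m := by
    have := (LinearEquiv.ofInjective (Algebra.linearMap S (Localization W)) hinjS).apply_symm_apply
      (f''.codRestrict _ hmem m)
    exact congrArg Subtype.val this
  have hfm : f m = 0 := by
    have := LinearMap.congr_fun hm f
    rwa [Module.Dual.eval_apply, LinearMap.zero_apply] at this
  rw [hfm, map_zero] at hf
  have hunit : IsUnit (algebraMap S (Localization W) (b : S)) := IsLocalization.map_units _ b
  have h2 : f'' m = algebraMap S (Localization W) (b : S) *
      f' (LocalizedModule.mkLinearMap W M m) := by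
    show (b : S) • f' (LocalizedModule.mkLinearMap W M m) = _
    rw [Algebra.smul_def]
  rw [h2] at hf
  exact hf' ((hunit.mul_right_eq_zero).mp hf.symm)

end Groth.Agent.H89.Torsionless
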