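import Mathlib

/-!
# The trace ideal of a reflexive module with scalar endomorphism ring (helper89)

* `trace S M`: the ideal generated by the values `f m`.
* `exists_smul_of_hom_trace`: `M` reflexive, `S → End M` onto ⇒ every `trace → S` is a homothety.
* `exists_notMem_mul_eq_zero`: a minimal prime of a reduced Noetherian ring is killed by an element
  outside it.
* `trace_eq_top`: `S` reduced Noetherian of dimension `≤ 1`, `M` reflexive, `S ≃ End M` ⇒ trace `= ⊤`.
* `nonempty_equiv_localization`: then `M` is locally free of rank one.
-/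

set_option autoImplicit false
universe u

namespace Groth.Agent.H89.TraceIdeal

variable {S : Type u} [CommRing S] {M : Type u} [AddCommGroup M] [Module S M]

/-- The trace ideal of a module: the ideal generated by all values `f m`. -/
def trace (S : Type u) [CommRing S] (M : Type u) [AddCommGroup M] [Module S M] : Ideal S :=
  Ideal.span {t | ∃ (f : Module.Dual S M) (m : M), f m = t}

theorem apply_mem_trace (f : Module.Dual S M) (m : M) : f m ∈ trace S M :=
  Ideal.subset_span ⟨f, m, rfl⟩

/-- For reflexive `M` with `End M = S`, every linear map `trace → S` is multiplication by a scalar. -/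
theorem exists_smul_of_hom_trace [Module.IsReflexive S M]
    (hsurj : Function.Surjective (algebraMap S (Module.End S M)))
    (g : trace S M →ₗ[S] S) : ∃ a : S, ∀ t : trace S M, g t = a * t := by
  -- the endomorphism attached to g
  let ψ : M →ₗ[S] Module.Dual S (Module.Dual S M) :=
    { toFun := fun m =>
        { toFun := fun f => g ⟨f m, apply_mem_trace f m⟩
          map_add' := fun f f' => by
            rw [← map_add]; congr 1
          map_smul' := fun c f => by
            rw [RingHom.id_apply, ← map_smul]; congr 1 }
      map_add' := fun m m' => by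
        ext f
        simp only [LinearMap.coe_mk, AddHom.coe_mk, LinearMap.add_apply]
        rw [← map_add]; congr 1
        ext; simp
      map_smul' := fun c m => by
        ext f
        simp only [LinearMap.coe_mk, AddHom.coe_mk, LinearMap.smul_apply, RingHom.id_apply]
        rw [← map_smul]; congr 1
        ext; simp }
  let φ : M →ₗ[S] M := (Module.evalEquiv S M).symm.toLinearMap ∘ₗ ψ
  obtain ⟨a, ha⟩ := hsurj φ
  refine ⟨a, ?_⟩
  have key : ∀ (f : Module.Dual S M) (m : M), g ⟨f m, apply_mem_trace f m⟩ = a * f m := by
    intro f m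
    have h1 : Module.Dual.eval S M (φ m) = ψ m := by
      change Module.evalEquiv S M ((Module.evalEquiv S M).symm (ψ m)) = ψ m
      exact LinearEquiv.apply_symm_apply _ _
    have h2 : f (φ m) = g ⟨f m, apply_mem_trace f m⟩ := by
      have := congrArg (fun F => F f) h1
      exact this
    rw [← h2, ← ha]
    change f (a • m) = a * f m
    rw [map_smul, smul_eq_mul]
  intro t
  obtain ⟨t, ht⟩ := t
  induction ht using Submodule.span_induction with
  | mem x hx =>
    obtain ⟨f, m, rfl⟩ := hx
    exact key f m
  | zero =>
    have : (⟨0, Submodule.zero_mem _⟩ : trace S M) = 0 := rfl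
    rw [this, map_zero]; simp
  | add x y hx hy hx' hy' =>
    have : (⟨x + y, Submodule.add_mem _ hx hy⟩ : trace S M) = ⟨x, hx⟩ + ⟨y, hy⟩ := rfl
    rw [this, map_add, hx', hy']
    simp [mul_add]
  | smul c x hx hx' =>
    have : (⟨c • x, Submodule.smul_mem _ c hx⟩ : trace S M) = c • ⟨x, hx⟩ := rfl
    rw [this, map_smul, hx']
    change c * (a * x) = a * (c * x)
    ring

/-- In a reduced Noetherian ring, a minimal prime is killed by an element outside it. -/
theorem exists_notMem_mul_eq_zero [IsReduced S] [IsNoetherianRing S] {p : Ideal S}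
    (hp : p ∈ minimalPrimes S) : ∃ u, u ∉ p ∧ ∀ x ∈ p, u * x = 0 := by
  classical
  have hpp : p.IsPrime := hp.1.1
  let F : Finset (Ideal S) := (minimalPrimes.finite_of_isNoetherianRing S).toFinset.erase p
  have hQ : ¬ (F.inf id ≤ p) := by
    intro h
    obtain ⟨q, hqF, hqp⟩ := (Ideal.IsPrime.inf_le' hpp).mp h
    rw [Finset.mem_erase, Set.Finite.mem_toFinset] at hqF
    have hq : q ∈ minimalPrimes S := hqF.2
    have : p ≤ q := hp.2 hq.1 hqp
    exact hqF.1 (le_antisymm hqp this)
  obtain ⟨u, huQ, hup⟩ := SetLike.not_le_iff_exists.mp hQ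
  refine ⟨u, hup, fun x hx => ?_⟩
  have h1 : u * x ∈ sInf (minimalPrimes S) := by
    rw [Ideal.mem_sInf]
    intro q hq
    by_cases hqp : q = p
    · rw [hqp]; exact Ideal.mul_mem_left _ _ hx
    · have : F.inf id ≤ q := Finset.inf_le (f := id) (by
        rw [Finset.mem_erase, Set.Finite.mem_toFinset]; exact ⟨hqp, hq⟩)
      exact Ideal.mul_mem_right _ _ (this huQ)
  have h2 : sInf (minimalPrimes S) = ⊥ := by
    rw [minimalPrimes, Ideal.sInf_minimalPrimes]
    exact nilradical_eq_zero S
  rw [h2] at h1
  exact h1


/-- The trace ideal of a reflexive module with faithful scalar action is not contained in a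
minimal prime. -/
theorem trace_not_le_of_mem_minimalPrimes [IsReduced S] [IsNoetherianRing S]
    [Module.IsReflexive S M] (hinj : Function.Injective (algebraMap S (Module.End S M)))
    {p : Ideal S} (hp : p ∈ minimalPrimes S) : ¬ trace S M ≤ p := by
  intro hle
  obtain ⟨u, hup, hu⟩ := exists_notMem_mul_eq_zero hp
  have h0 : ∀ m : M, u • m = 0 := by
    intro m
    apply (Module.evalEquiv S M).injective
    rw [map_zero]
    ext f
    change f (u • m) = 0
    rw [map_smul, smul_eq_mul]
    exact hu _ (hle (apply_mem_trace f m))
  have h1 : algebraMap S (Module.End S M) u = algebraMap S (Module.End S M) 0 := by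
    ext m
    simp [h0 m]
  have := hinj h1
  rw [this] at hup
  exact hup (Ideal.zero_mem _)

end Groth.Agent.H89.TraceIdeal
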