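import Mathlib
import Groth.Agent.H89.TraceIdeal

/-!
# The trace ideal is the unit ideal (helper89)

`trace_eq_top`: for `S` reduced Noetherian of dimension `≤ 1` and `M` reflexive with
`S ≃ End M`, the trace ideal of `M` is the unit ideal.
-/

set_option autoImplicit false
universe u

namespace Groth.Agent.H89.TraceIdeal

variable {S : Type u} [CommRing S] {M : Type u} [AddCommGroup M] [Module S M]

theorem trace_eq_top [IsReduced S] [IsNoetherianRing S] (hdim : ringKrullDim S ≤ 1)
    [Module.IsReflexive S M] (hbij : Function.Bijective (algebraMap S (Module.End S M))) :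
    trace S M = ⊤ := by
  classical
  by_contra hne
  obtain ⟨P, hPmax, hτP⟩ := Ideal.exists_le_maximal _ hne
  have hPprime : P.IsPrime := hPmax.isPrime
  -- an element of the trace ideal outside all minimal primes
  have hfin := minimalPrimes.finite_of_isNoetherianRing S
  have hx : ∃ x ∈ trace S M, ∀ q ∈ minimalPrimes S, x ∉ q := by
    by_contra hcon
    have hsub : (trace S M : Set S) ⊆ ⋃ q ∈ (hfin.toFinset : Set (Ideal S)), (id q : Ideal S) := by
      intro x hx
      by_contra hxn
      apply hcon
      refine ⟨x, hx, fun q hq hxq => hxn ?_⟩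
      simp only [Set.mem_iUnion]
      exact ⟨q, by simpa using hq, hxq⟩
    obtain ⟨q, hq, hle⟩ := (Ideal.subset_union_prime (R := S) (s := hfin.toFinset) (f := id) ⊥ ⊥
      (fun i hi _ _ => by
        have : i ∈ minimalPrimes S := by simpa using hi
        exact this.1.1)).mp hsub
    have hq' : q ∈ minimalPrimes S := by simpa using hq
    exact trace_not_le_of_mem_minimalPrimes hbij.injective hq' hle
  obtain ⟨x, hxτ, hxmin⟩ := hx
  -- x is a nonzerodivisor
  have hxnzd : ∀ y : S, x * y = 0 → y = 0 := by
    intro y hy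
    have h1 : y ∈ sInf (minimalPrimes S) := by
      rw [Ideal.mem_sInf]
      intro q hq
      have hqp : q.IsPrime := hq.1.1
      have : x * y ∈ q := by rw [hy]; exact Ideal.zero_mem _
      exact (hqp.mem_or_mem this).resolve_left (hxmin q hq)
    have h2 : sInf (minimalPrimes S) = ⊥ := by
      rw [minimalPrimes, Ideal.sInf_minimalPrimes]
      exact nilradical_eq_zero S
    rw [h2] at h1
    exact h1
  -- P is minimal over (x)
  have hxP : x ∈ P := hτP hxτ
  have hPx : P ∈ (Ideal.span {x}).minimalPrimes := by
    obtain ⟨Q, hQ, hQP⟩ := Ideal.exists_minimalPrimes_le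
      (show Ideal.span {x} ≤ P from (Ideal.span_singleton_le_iff_mem _).mpr hxP)
    have hQprime : Q.IsPrime := hQ.1.1
    have hxQ : x ∈ Q := hQ.1.2 (Ideal.mem_span_singleton_self x)
    by_cases hQeq : Q = P
    · rw [← hQeq]; exact hQ
    · exfalso
      obtain ⟨q₀, hq₀, hq₀Q⟩ := Ideal.exists_minimalPrimes_le (show (⊥ : Ideal S) ≤ Q from bot_le)
      have hq₀prime : q₀.IsPrime := hq₀.1.1
      have h01 : (⟨q₀, hq₀prime⟩ : PrimeSpectrum S) < ⟨Q, hQprime⟩ := by
        refine lt_of_le_of_ne hq₀Q ?_
        intro h
        have : q₀ = Q := congrArg PrimeSpectrum.asIdeal h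
        exact hxmin q₀ hq₀ (this ▸ hxQ)
      have h12 : (⟨Q, hQprime⟩ : PrimeSpectrum S) < ⟨P, hPprime⟩ := by
        refine lt_of_le_of_ne hQP ?_
        intro h
        exact hQeq (congrArg PrimeSpectrum.asIdeal h)
      let ser2 : LTSeries (PrimeSpectrum S) :=
        { length := 2
          toFun := ![⟨q₀, hq₀prime⟩, ⟨Q, hQprime⟩, ⟨P, hPprime⟩]
          step := by
            intro i
            fin_cases i
            · exact h01
            · exact h12 }
      have hlen : ser2.length = 2 := rfl
      have := Order.LTSeries.length_le_krullDim ser2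
      rw [hlen] at this
      have h2 : (2 : WithBot ℕ∞) ≤ 1 := this.trans hdim
      exact absurd h2 (by decide)
  -- P is an associated prime of S/(x)
  have hann : Module.annihilator S (S ⧸ Ideal.span {x}) = Ideal.span {x} :=
    Ideal.annihilator_quotient
  have hass : P ∈ associatedPrimes S (S ⧸ Ideal.span {x}) :=
    Module.associatedPrimes.minimalPrimes_annihilator_subset_associatedPrimes S _
      (by rw [hann]; exact hPx)
  obtain ⟨-, ybar, hy⟩ := isAssociatedPrime_iff.mp hass
  obtain ⟨y, rfl⟩ := Ideal.Quotient.mk_surjective ybar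
  have hmem : ∀ t : S, t ∈ P ↔ t * y ∈ Ideal.span {x} := by
    intro t
    rw [hy, Submodule.mem_colon_singleton, Submodule.mem_bot, ← Ideal.Quotient.eq_zero_iff_mem,
      map_mul]
    rfl
  have hPy : ∀ t ∈ P, ∃ s, t * y = x * s := by
    intro t ht
    obtain ⟨s, hs⟩ := Ideal.mem_span_singleton'.mp ((hmem t).mp ht)
    exact ⟨s, by rw [← hs, mul_comm]⟩
  have hynot : y ∉ Ideal.span {x} := by
    intro hyx
    have : (1 : S) ∈ P := by
      rw [hmem, one_mul]; exact hyx
    exact hPprime.ne_top ((Ideal.eq_top_iff_one _).mpr this)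
  have hcancel : ∀ a b : S, x * a = x * b → a = b := by
    intro a b hab
    have : x * (a - b) = 0 := by rw [mul_sub, hab, sub_self]
    exact sub_eq_zero.mp (hxnzd _ this)
  choose! sfun hsfun using hPy
  let g : trace S M →ₗ[S] S :=
    { toFun := fun t => sfun t.1
      map_add' := fun t t' => by
        apply hcancel
        rw [mul_add, ← hsfun _ (hτP t.2), ← hsfun _ (hτP t'.2),
          ← hsfun _ (hτP (t + t').2)]
        change (t.1 + t'.1) * y = _
        ring
      map_smul' := fun c t => by
        apply hcancel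
        rw [RingHom.id_apply, smul_eq_mul, ← hsfun _ (hτP (c • t).2)]
        change (c * t.1) * y = x * (c * sfun t.1)
        rw [mul_left_comm x, ← hsfun _ (hτP t.2)]
        ring }
  obtain ⟨a, ha⟩ := exists_smul_of_hom_trace hbij.surjective g
  have h1 : sfun x = a * x := ha ⟨x, hxτ⟩
  have h2 : y = sfun x := hcancel _ _ (by rw [← hsfun x hxP, mul_comm])
  apply hynot
  rw [h2, h1]
  exact Ideal.mem_span_singleton'.mpr ⟨a, rfl⟩

end Groth.Agent.H89.TraceIdeal
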