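import Mathlib
import Groth.Agent.H89.TraceIdeal2

/-!
# Locally free of rank one versus `S ≃ End M` (helper89)

* `nonempty_equiv_localization`: if the trace ideal of `M` is not contained in the prime `P` and
  `S → End M` is onto then `M_P ≃ S_P`.
* `bijective_algebraMap_end_of_locallyFree`: f.g. locally free of rank one ⇒ `S ≃ End M`.
-/

set_option autoImplicit false
universe u

namespace Groth.Agent.H89.TraceIdeal

variable {S : Type u} [CommRing S] {M : Type u} [AddCommGroup M] [Module S M]

/-- If the trace ideal is not contained in the prime `P` and `S → End M` is onto, then `M_P` is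
free of rank one. -/
theorem nonempty_equiv_localization (hsurj : Function.Surjective (algebraMap S (Module.End S M)))
    (P : Ideal S) [P.IsPrime] (hP : ¬ trace S M ≤ P) :
    Nonempty (LocalizedModule P.primeCompl M ≃ₗ[Localization.AtPrime P] Localization.AtPrime P) := by
  have : ∃ (f : Module.Dual S M) (m₀ : M), f m₀ ∉ P := by
    by_contra hcon
    apply hP
    rw [trace, Ideal.span_le]
    rintro _ ⟨f, m, rfl⟩
    by_contra hfm
    exact hcon ⟨f, m, hfm⟩
  obtain ⟨f, m₀, hu⟩ := this
  set u := f m₀ with hudef
  -- the endomorphism m ↦ f m • m₀ is a homothety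
  let e : Module.End S M := (LinearMap.toSpanSingleton S M m₀) ∘ₗ f
  obtain ⟨a, ha⟩ := hsurj e
  have ham : ∀ m : M, a • m = f m • m₀ := by
    intro m
    have := congrArg (fun φ : Module.End S M => φ m) ha
    exact this
  have hau : u * (a - u) = 0 := by
    have h1 := congrArg f (ham m₀)
    rw [map_smul, map_smul, smul_eq_mul, smul_eq_mul] at h1
    rw [mul_sub, mul_comm u a, h1]
    ring
  have haP : a ∉ P := by
    intro haP
    have h1 : u * (a - u) ∈ P := by rw [hau]; exact Ideal.zero_mem _
    have h2 : a - u ∈ P := (Ideal.IsPrime.mem_or_mem ‹P.IsPrime› h1).resolve_left hu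
    have h3 : u ∈ P := by
      have := P.sub_mem haP h2
      simpa using this
    exact hu h3
  let L : Localization.AtPrime P →ₗ[Localization.AtPrime P] LocalizedModule P.primeCompl M :=
    LinearMap.toSpanSingleton _ _ (LocalizedModule.mk m₀ 1)
  have hLinj : Function.Injective L := by
    rw [injective_iff_map_eq_zero]
    intro c hc
    obtain ⟨s, t, rfl⟩ := IsLocalization.exists_mk'_eq P.primeCompl c
    have h1 : LocalizedModule.mk (s • m₀) t = 0 := by
      have : L (IsLocalization.mk' (Localization.AtPrime P) s t) =
          LocalizedModule.mk (s • m₀) t := by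
        rw [show L (IsLocalization.mk' (Localization.AtPrime P) s t) =
          (IsLocalization.mk' (Localization.AtPrime P) s t) • LocalizedModule.mk m₀ 1 from
            LinearMap.toSpanSingleton_apply _ _ _ _]
        rw [← Localization.mk_eq_mk', LocalizedModule.mk_smul_mk, mul_one]
      rw [← this]; exact hc
    rw [← LocalizedModule.zero_mk (1 : P.primeCompl), LocalizedModule.mk_eq] at h1
    obtain ⟨v, hv⟩ := h1
    rw [one_smul, smul_zero, smul_zero] at hv
    have hv' : ((v : S) * s) • m₀ = 0 := by
      rw [mul_smul]; exact hv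
    have h2 := congrArg f hv'
    rw [map_zero, map_smul, smul_eq_mul] at h2
    rw [IsLocalization.mk'_eq_zero_iff]
    refine ⟨v * ⟨u, hu⟩, ?_⟩
    change (v : S) * u * s = 0
    rw [mul_right_comm]; exact h2
  have hLsurj : Function.Surjective L := by
    intro z
    induction z using LocalizedModule.induction_on with
    | h m t =>
      refine ⟨IsLocalization.mk' (Localization.AtPrime P) (f m) (⟨a, haP⟩ * t), ?_⟩
      rw [show L (IsLocalization.mk' (Localization.AtPrime P) (f m) (⟨a, haP⟩ * t)) =
          (IsLocalization.mk' (Localization.AtPrime P) (f m) (⟨a, haP⟩ * t)) •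
            LocalizedModule.mk m₀ 1 from LinearMap.toSpanSingleton_apply _ _ _ _]
      rw [← Localization.mk_eq_mk', LocalizedModule.mk_smul_mk, mul_one, ← ham m]
      rw [LocalizedModule.mk_eq]
      refine ⟨1, ?_⟩
      simp only [one_smul]
      change (t : S) • a • m = (a * (t : S)) • m
      rw [smul_smul, mul_comm]
  exact ⟨(LinearEquiv.ofBijective L ⟨hLinj, hLsurj⟩).symm⟩

/-- On a module locally free of rank one, a localized endomorphism is a homothety. -/
theorem exists_smul_eq_of_equiv (P : Ideal S) [P.IsPrime]
    (e : LocalizedModule P.primeCompl M ≃ₗ[Localization.AtPrime P] Localization.AtPrime P)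
    (Φ : LocalizedModule P.primeCompl M →ₗ[Localization.AtPrime P] LocalizedModule P.primeCompl M) :
    ∃ c : Localization.AtPrime P, ∀ z, Φ z = c • z := by
  set m₁ := e.symm 1 with hm₁
  have hz : ∀ z, z = e z • m₁ := by
    intro z
    apply e.injective
    rw [map_smul, hm₁, e.apply_symm_apply, smul_eq_mul, mul_one]
  refine ⟨e (Φ m₁), fun z => ?_⟩
  calc Φ z = Φ (e z • m₁) := by rw [← hz z]
    _ = e z • Φ m₁ := map_smul _ _ _
    _ = e z • (e (Φ m₁) • m₁) := by rw [← hz (Φ m₁)]
    _ = e (Φ m₁) • (e z • m₁) := by rw [smul_smul, smul_smul, mul_comm]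
    _ = e (Φ m₁) • z := by rw [← hz z]

/-- A finitely generated module which is locally free of rank one has `S ≃ End M`. -/
theorem bijective_algebraMap_end_of_locallyFree [Module.Finite S M]
    (h : ∀ (P : Ideal S) (_ : P.IsPrime),
      Nonempty (LocalizedModule P.primeCompl M ≃ₗ[Localization.AtPrime P] Localization.AtPrime P)) :
    Function.Bijective (algebraMap S (Module.End S M)) := by
  classical
  constructor
  · rw [injective_iff_map_eq_zero]
    intro s hs
    have hsm : ∀ m : M, s • m = 0 := fun m => by
      have := congrArg (fun φ : Module.End S M => φ m) hs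
      exact this
    by_contra hne
    let 𝔟 : Ideal S := (Ideal.span {s}).annihilator
    have h𝔟 : 𝔟 ≠ ⊤ := by
      intro htop
      have : (1 : S) ∈ 𝔟 := by rw [htop]; trivial
      have h1 := Submodule.mem_annihilator.mp this s (Ideal.mem_span_singleton_self s)
      exact hne (by simpa using h1)
    obtain ⟨P, hPmax, h𝔟P⟩ := Ideal.exists_le_maximal _ h𝔟
    have hPprime : P.IsPrime := hPmax.isPrime
    obtain ⟨e⟩ := h P hPprime
    have h0 : ∀ z : LocalizedModule P.primeCompl M, s • z = 0 := by
      intro z
      induction z using LocalizedModule.induction_on with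
      | h m t => rw [LocalizedModule.smul'_mk, hsm, LocalizedModule.zero_mk]
    have h1 : algebraMap S (Localization.AtPrime P) s = 0 := by
      have h2 := h0 (e.symm 1)
      have h3 := congrArg e h2
      rw [map_zero, ← algebraMap_smul (Localization.AtPrime P) s (e.symm 1), map_smul,
        e.apply_symm_apply, smul_eq_mul, mul_one] at h3
      exact h3
    obtain ⟨v, hv⟩ := (IsLocalization.map_eq_zero_iff P.primeCompl _ s).mp h1
    have hv𝔟 : (v : S) ∈ 𝔟 := by
      rw [Submodule.mem_annihilator]
      intro x hx
      obtain ⟨c, rfl⟩ := Ideal.mem_span_singleton'.mp hx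
      rw [smul_eq_mul, mul_left_comm, hv, mul_zero]
    exact v.2 (h𝔟P hv𝔟)
  · intro φ
    let 𝔞 : Ideal S :=
      { carrier := {t | ∃ a : S, ∀ m : M, t • φ m = a • m}
        add_mem' := by
          rintro t t' ⟨a, ha⟩ ⟨a', ha'⟩
          exact ⟨a + a', fun m => by rw [add_smul, add_smul, ha, ha']⟩
        zero_mem' := ⟨0, fun m => by rw [zero_smul, zero_smul]⟩
        smul_mem' := by
          rintro c t ⟨a, ha⟩
          exact ⟨c * a, fun m => by rw [smul_eq_mul, mul_smul, mul_smul, ha]⟩ }
    have h𝔞 : 𝔞 = ⊤ := by
      by_contra hne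
      obtain ⟨P, hPmax, h𝔞P⟩ := Ideal.exists_le_maximal _ hne
      have hPprime : P.IsPrime := hPmax.isPrime
      obtain ⟨e⟩ := h P hPprime
      obtain ⟨c, hc⟩ := exists_smul_eq_of_equiv P e (LocalizedModule.map P.primeCompl φ)
      obtain ⟨a₀, t₁, rfl⟩ := IsLocalization.exists_mk'_eq P.primeCompl c
      obtain ⟨G, hG⟩ := (Module.Finite.fg_top : (⊤ : Submodule S M).FG)
      have hloc : ∀ g : M, ∃ u : P.primeCompl, (u : S) • (t₁ : S) • φ g = (u : S) • a₀ • g := by
        intro g
        have h1 := hc (LocalizedModule.mk g 1)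
        rw [LocalizedModule.map_mk, ← Localization.mk_eq_mk', LocalizedModule.mk_smul_mk, mul_one,
          LocalizedModule.mk_eq] at h1
        obtain ⟨u, hu⟩ := h1
        refine ⟨u, ?_⟩
        have h2 : u • t₁ • φ g = u • (1 : P.primeCompl) • a₀ • g := hu
        rw [one_smul] at h2
        exact h2
      choose ufun hufun using hloc
      let u : P.primeCompl := ∏ g ∈ G, ufun g
      have hmem : ((u * t₁ : P.primeCompl) : S) ∈ 𝔞 := by
        refine ⟨(u : S) * a₀, fun m => ?_⟩
        have hlin : ((((u * t₁ : P.primeCompl) : S) • φ : M →ₗ[S] M)) =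
            (((u : S) * a₀) • LinearMap.id : M →ₗ[S] M) := by
          apply LinearMap.ext_on hG
          intro g hg
          have hg' : g ∈ G := hg
          have hprod : ufun g * ∏ x ∈ G.erase g, ufun x = u := Finset.mul_prod_erase G ufun hg'
          simp only [LinearMap.smul_apply, LinearMap.id_apply]
          rw [← hprod]
          simp only [Submonoid.coe_mul]
          have := hufun g
          calc ((ufun g : S) * ((∏ x ∈ G.erase g, ufun x : P.primeCompl) : S) * (t₁ : S)) • φ g
              = ((∏ x ∈ G.erase g, ufun x : P.primeCompl) : S) • ((ufun g : S) • (t₁ : S) • φ g) := by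
                rw [smul_smul, smul_smul]; congr 1; ring
            _ = ((∏ x ∈ G.erase g, ufun x : P.primeCompl) : S) • ((ufun g : S) • a₀ • g) := by
                rw [this]
            _ = ((ufun g : S) * ((∏ x ∈ G.erase g, ufun x : P.primeCompl) : S) * a₀) • g := by
                rw [smul_smul, smul_smul]; congr 1; ring
        have := congrArg (fun ψ : M →ₗ[S] M => ψ m) hlin
        simpa using this
      exact (u * t₁).2 (h𝔞P hmem)
    have h1 : (1 : S) ∈ 𝔞 := by rw [h𝔞]; trivial
    obtain ⟨a, ha⟩ := h1
    refine ⟨a, ?_⟩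
    ext m
    have := ha m
    rw [one_smul] at this
    simp [this]

end Groth.Agent.H89.TraceIdeal
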