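import Mathlib

set_option autoImplicit false

namespace Groth.Agent.H89.UltraEsymm

open Multiset

variable {K : Type*} [NormedField K] [IsUltrametricDist K]

theorem esymm_succ_cons {R : Type*} [CommSemiring R] (a : R) (s : Multiset R) (n : ℕ) :
    (a ::ₘ s).esymm (n + 1) = s.esymm (n + 1) + a * s.esymm n := by
  unfold Multiset.esymm
  rw [Multiset.powersetCard_cons, Multiset.map_add, Multiset.sum_add, Multiset.map_map]
  congr 1
  rw [← Multiset.sum_map_mul_left]
  congr 1
  apply Multiset.map_congr rfl
  intro t _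
  simp

theorem esymm_zero' {R : Type*} [CommSemiring R] (s : Multiset R) : s.esymm 0 = 1 := by
  simp [Multiset.esymm]

/-- ultrametric estimate for the elementary symmetric functions of a multiset of integral
elements, `u` of which are units -/
theorem esymm_norm [DecidablePred fun z : K => ‖z‖ = 1] (s : Multiset K)
    (hs : ∀ z ∈ s, ‖z‖ ≤ 1) :
    ∀ j, ‖s.esymm j‖ ≤ 1 ∧ (card (s.filter fun z => ‖z‖ = 1) < j → ‖s.esymm j‖ < 1) ∧
      (j = card (s.filter fun z => ‖z‖ = 1) → ‖s.esymm j‖ = 1) := by
  induction s using Multiset.induction_on with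
  | empty =>
    intro j
    rcases j with _ | j
    · simp [esymm_zero']
    · simp [Multiset.esymm]
  | cons a s ih =>
    have hs' : ∀ z ∈ s, ‖z‖ ≤ 1 := fun z hz => hs z (Multiset.mem_cons_of_mem hz)
    have ha : ‖a‖ ≤ 1 := hs a (Multiset.mem_cons_self a s)
    have ih' := ih hs'
    intro j
    rcases j with _ | j
    · rw [esymm_zero', norm_one]
      refine ⟨le_rfl, fun h => absurd h (Nat.not_lt_zero _), fun _ => rfl⟩
    · rw [esymm_succ_cons]
      obtain ⟨h1a, h1b, h1c⟩ := ih' (j + 1)
      obtain ⟨h0a, h0b, h0c⟩ := ih' j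
      have hmul_le : ‖a * s.esymm j‖ ≤ 1 := by
        rw [norm_mul]
        exact mul_le_one₀ ha (norm_nonneg _) h0a
      refine ⟨(IsUltrametricDist.norm_add_le_max _ _).trans (max_le h1a hmul_le), ?_, ?_⟩
      · intro hlt
        by_cases hau : ‖a‖ = 1
        · rw [Multiset.filter_cons_of_pos (p := fun z : K => ‖z‖ = 1) s hau, Multiset.card_cons] at hlt
          have h1 : ‖s.esymm (j + 1)‖ < 1 := h1b (by omega)
          have h2 : ‖a * s.esymm j‖ < 1 := by
            rw [norm_mul, hau, one_mul]
            exact h0b (by omega)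
          exact (IsUltrametricDist.norm_add_le_max _ _).trans_lt (max_lt h1 h2)
        · rw [Multiset.filter_cons_of_neg (p := fun z : K => ‖z‖ = 1) s hau] at hlt
          have h1 : ‖s.esymm (j + 1)‖ < 1 := h1b hlt
          have h2 : ‖a * s.esymm j‖ < 1 := by
            rw [norm_mul]
            have : ‖a‖ < 1 := lt_of_le_of_ne ha hau
            calc ‖a‖ * ‖s.esymm j‖ ≤ ‖a‖ * 1 := mul_le_mul_of_nonneg_left h0a (norm_nonneg _)
              _ < 1 := by rw [mul_one]; exact this
          exact (IsUltrametricDist.norm_add_le_max _ _).trans_lt (max_lt h1 h2)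
      · intro heq
        by_cases hau : ‖a‖ = 1
        · rw [Multiset.filter_cons_of_pos (p := fun z : K => ‖z‖ = 1) s hau, Multiset.card_cons] at heq
          have h1 : ‖s.esymm (j + 1)‖ < 1 := h1b (by omega)
          have h2 : ‖a * s.esymm j‖ = 1 := by
            rw [norm_mul, hau, one_mul]
            exact h0c (by omega)
          rw [IsUltrametricDist.norm_add_eq_max_of_norm_ne_norm (by rw [h2]; exact h1.ne), h2]
          exact max_eq_right h1.le
        · rw [Multiset.filter_cons_of_neg (p := fun z : K => ‖z‖ = 1) s hau] at heq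
          have h1 : ‖s.esymm (j + 1)‖ = 1 := h1c heq
          have h2 : ‖a * s.esymm j‖ < 1 := by
            rw [norm_mul]
            have : ‖a‖ < 1 := lt_of_le_of_ne ha hau
            calc ‖a‖ * ‖s.esymm j‖ ≤ ‖a‖ * 1 := mul_le_mul_of_nonneg_left h0a (norm_nonneg _)
              _ < 1 := by rw [mul_one]; exact this
          rw [IsUltrametricDist.norm_add_eq_max_of_norm_ne_norm (by rw [h1]; exact h2.ne'), h1]
          exact max_eq_left h2.le

/-- a root of a monic polynomial with integral coefficients is integral -/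
theorem norm_le_one_of_root (P : Polynomial K) (hmon : P.Monic) (hc : ∀ k, ‖P.coeff k‖ ≤ 1)
    (z : K) (hz : P.eval z = 0) : ‖z‖ ≤ 1 := by
  by_contra hgt
  rw [not_le] at hgt
  have hn : P.eval z = z ^ P.natDegree + ∑ k ∈ Finset.range P.natDegree, P.coeff k * z ^ k := by
    rw [Polynomial.eval_eq_sum_range, Finset.sum_range_succ, hmon.coeff_natDegree, one_mul, add_comm]
  rw [hz] at hn
  have hsum : ‖∑ k ∈ Finset.range P.natDegree, P.coeff k * z ^ k‖ < ‖z ^ P.natDegree‖ := by
    rcases Nat.eq_zero_or_pos P.natDegree with h0 | hpos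
    · rw [h0, Finset.range_zero, Finset.sum_empty, norm_zero, pow_zero, norm_one]
      exact one_pos
    · have hne : (Finset.range P.natDegree).Nonempty := ⟨0, Finset.mem_range.mpr hpos⟩
      obtain ⟨k, hk, hle⟩ := IsUltrametricDist.exists_norm_finset_sum_le_of_nonempty hne
        (fun k => P.coeff k * z ^ k)
      refine lt_of_le_of_lt hle ?_
      rw [norm_mul, norm_pow, norm_pow]
      have hk' := Finset.mem_range.mp hk
      calc ‖P.coeff k‖ * ‖z‖ ^ k ≤ 1 * ‖z‖ ^ k :=
            mul_le_mul_of_nonneg_right (hc k) (pow_nonneg (norm_nonneg _) _)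
        _ = ‖z‖ ^ k := one_mul _
        _ < ‖z‖ ^ P.natDegree := pow_lt_pow_right₀ hgt hk'
  have : z ^ P.natDegree = -∑ k ∈ Finset.range P.natDegree, P.coeff k * z ^ k := by
    linear_combination -hn
  rw [this, norm_neg] at hsum
  exact lt_irrefl _ hsum

end Groth.Agent.H89.UltraEsymm
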