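import Mathlib
import Groth.Agent.H89.PointsPi

/-!
# Uniform affine covers of pullbacks to affine schemes (helper89)

For a quasi-compact morphism `j : W ⟶ Y` with `Y` quasi-compact there is a natural number `m`
such that for every affine scheme `Spec B` over `Y` the fibre product `W ×_Y Spec B` is covered by
`m` affine opens.  (Partition of unity on `Spec B` subordinate to the preimages of a finite affine
cover of `Y`.)
-/

set_option autoImplicit false

open CategoryTheory Limits AlgebraicGeometry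

universe u

namespace Groth.Agent.H89.UniformCover

theorem exists_uniform_affine_cover {W Y : Scheme.{u}} (j : W ⟶ Y) [QuasiCompact j]
    [CompactSpace Y] :
    ∃ m : ℕ, ∀ (B : CommRingCat.{u}) (g : Spec B ⟶ Y),
      ∃ U : Fin m → (Limits.pullback j g).Opens, (∀ k, IsAffineOpen (U k)) ∧ ⨆ k, U k = ⊤ := by
  classical
  let 𝒴 : Y.OpenCover := Y.affineCover.finiteSubcover
  have hfinY : Finite 𝒴.I₀ := inferInstance
  -- the pieces of `W` over the charts, and finite affine covers of them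
  let 𝒲 : ∀ a : 𝒴.I₀, (pullback j (𝒴.f a)).OpenCover := fun a =>
    (pullback j (𝒴.f a)).affineCover.finiteSubcover
  have hfinW : ∀ a, Finite (𝒲 a).I₀ := fun a => inferInstance
  let Idx := Σ a : 𝒴.I₀, (𝒲 a).I₀
  have hfinI : Finite Idx := inferInstance
  refine ⟨Nat.card Idx, fun B g => ?_⟩
  let e : Idx ≃ Fin (Nat.card Idx) := Finite.equivFin Idx
  -- partition of unity on `Spec B`
  have hW : (⨆ a, g ⁻¹ᵁ (𝒴.f a).opensRange) = ⊤ := by
    rw [eq_top_iff]
    intro x _
    simp only [TopologicalSpace.Opens.mem_iSup]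
    exact ⟨𝒴.idx (g x), 𝒴.covers (g x)⟩
  obtain ⟨b, hb, hle⟩ := Groth.Agent.H89.PointsPi.exists_span_eq_top_basicOpen_le (R := B)
    (fun a => g ⁻¹ᵁ (𝒴.f a).opensRange) hW
  -- the localizations and their maps to the charts
  let i₂ : ∀ a, Spec (CommRingCat.of (Localization.Away (b a))) ⟶ Spec B := fun a =>
    Spec.map (CommRingCat.ofHom (algebraMap B (Localization.Away (b a))))
  have hi₂ : ∀ a, Set.range (i₂ a) = (PrimeSpectrum.basicOpen (b a) : Set (PrimeSpectrum B)) :=
    fun a => PrimeSpectrum.localization_away_comap_range (Localization.Away (b a)) (b a)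
  have hr : ∀ a, Set.range (i₂ a ≫ g) ⊆ Set.range (𝒴.f a) := by
    intro a
    rintro _ ⟨z, rfl⟩
    have hz : (i₂ a) z ∈ (PrimeSpectrum.basicOpen (b a) : Set (PrimeSpectrum B)) := by
      rw [← hi₂ a]; exact ⟨z, rfl⟩
    exact hle a hz
  let v : ∀ a, Spec (CommRingCat.of (Localization.Away (b a))) ⟶ 𝒴.X a := fun a =>
    IsOpenImmersion.lift (𝒴.f a) (i₂ a ≫ g) (hr a)
  have hv : ∀ a, v a ≫ 𝒴.f a = i₂ a ≫ g := fun a => IsOpenImmersion.lift_fac _ _ _
  let i₁ : ∀ p : Idx, (𝒲 p.1).X p.2 ⟶ W := fun p => (𝒲 p.1).f p.2 ≫ pullback.fst j (𝒴.f p.1)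
  let u : ∀ p : Idx, (𝒲 p.1).X p.2 ⟶ 𝒴.X p.1 := fun p =>
    (𝒲 p.1).f p.2 ≫ pullback.snd j (𝒴.f p.1)
  have hu : ∀ p : Idx, u p ≫ 𝒴.f p.1 = i₁ p ≫ j := fun p => by
    simp only [u, i₁, Category.assoc, pullback.condition]
  let φ : ∀ p : Idx, pullback (u p) (v p.1) ⟶ pullback j g := fun p =>
    pullback.map (u p) (v p.1) j g (i₁ p) (i₂ p.1) (𝒴.f p.1) (hu p) (hv p.1)
  have hφrange : ∀ p : Idx, Set.range (φ p) =
      pullback.fst j g ⁻¹' Set.range (i₁ p) ∩ pullback.snd j g ⁻¹' Set.range (i₂ p.1) :=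
    fun p => Scheme.Pullback.range_map _ _ _ _ _ _ _ _ _
  have haff : ∀ p : Idx, IsAffineOpen (φ p).opensRange := fun p => by
    have : IsAffine ((𝒲 p.1).X p.2) := by
      dsimp [𝒲]; infer_instance
    have : IsAffine (𝒴.X p.1) := by
      dsimp [𝒴]; infer_instance
    exact isAffineOpen_opensRange (φ p)
  refine ⟨fun k => (φ (e.symm k)).opensRange, fun k => haff _, ?_⟩
  rw [eq_top_iff]
  intro z _
  simp only [TopologicalSpace.Opens.mem_iSup]
  -- find the chart
  have hzb : ∃ a, (pullback.snd j g) z ∈ (PrimeSpectrum.basicOpen (b a) : Set (PrimeSpectrum B)) := by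
    by_contra hcon
    simp only [not_exists] at hcon
    have hq : ((pullback.snd j g) z : PrimeSpectrum B).asIdeal ≠ ⊤ :=
      ((pullback.snd j g) z : PrimeSpectrum B).isPrime.ne_top
    apply hq
    rw [← top_le_iff, ← hb, Ideal.span_le]
    rintro _ ⟨a, rfl⟩
    by_contra hmem
    exact hcon a hmem
  obtain ⟨a, ha⟩ := hzb
  -- the point of `W` lies over the chart `a`
  have hz1 : (pullback.fst j g) z ∈ Set.range (pullback.fst j (𝒴.f a)) := by
    rw [Scheme.Pullback.range_fst]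
    have : j ((pullback.fst j g) z) = g ((pullback.snd j g) z) := by
      rw [← Scheme.Hom.comp_apply, ← Scheme.Hom.comp_apply, pullback.condition]
    show j ((pullback.fst j g) z) ∈ Set.range (𝒴.f a)
    rw [this]
    exact hle a ha
  obtain ⟨w, hw⟩ := hz1
  let l := (𝒲 a).idx w
  obtain ⟨w', hw'⟩ := (𝒲 a).covers w
  refine ⟨e ⟨a, l⟩, ?_⟩
  rw [Equiv.symm_apply_apply]
  show z ∈ Set.range (φ ⟨a, l⟩)
  rw [hφrange]
  refine ⟨⟨w', ?_⟩, ?_⟩
  · show (i₁ ⟨a, l⟩) w' = _
    simp only [i₁, Scheme.Hom.comp_apply]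
    rw [hw', hw]
  · show (pullback.snd j g) z ∈ Set.range (i₂ a)
    rw [hi₂ a]
    exact ha

end Groth.Agent.H89.UniformCover
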