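import Mathlib

set_option autoImplicit false

namespace Groth.Agent.H89.WeilCI

open MvPolynomial

theorem prime_FV_sub_q (q : ℤ) (hq : q ≠ 0) :
    Prime (X 0 * X 1 - C q : MvPolynomial (Fin 2) ℤ) := by
  let e := MvPolynomial.finSuccEquiv ℤ 1
  rw [← MulEquiv.prime_iff e.toMulEquiv]
  have he : e.toMulEquiv (X 0 * X 1 - C q : MvPolynomial (Fin 2) ℤ) =
      Polynomial.C (X 0 : MvPolynomial (Fin 1) ℤ) * Polynomial.X + Polynomial.C (C (-q)) := by
    show e (X 0 * X 1 - C q) = _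
    rw [map_sub, map_mul]
    have h1 : (1 : Fin 2) = Fin.succ (0 : Fin 1) := rfl
    rw [h1, MvPolynomial.finSuccEquiv_X_zero, MvPolynomial.finSuccEquiv_X_succ]
    have h2 : e (C q) = Polynomial.C (C q) := by
      simp [e]
    rw [h2]
    simp only [map_neg]
    ring
  rw [he]
  apply Irreducible.prime
  apply Polynomial.irreducible_C_mul_X_add_C
  · exact MvPolynomial.X_ne_zero 0
  · have hirr : Irreducible (X 0 : MvPolynomial (Fin 1) ℤ) := (MvPolynomial.X_prime).irreducible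
    rw [hirr.isRelPrime_iff_not_dvd]
    intro hdvd
    have := map_dvd (MvPolynomial.eval (fun _ : Fin 1 => (0 : ℤ))) hdvd
    simp at this
    exact hq this

theorem span_closed {Q : Type*} [CommRing Q] (f v : Q) (q : ℤ) (hfv : f * v = (q : Q)) (D' : ℕ)
    (α : ℕ → ℤ) (hαD : α (D' + 1) = 1) (ε : ℤ) (hε : ε * ε = 1)
    (hrel : ∑ r ∈ Finset.range (D' + 1 + 1), (α r : Q) * f ^ r +
      (ε : Q) * ∑ r ∈ Finset.range (D' + 1), (α (r + 1) : Q) * v ^ (r + 1) = 0)
    (L : Submodule ℤ Q)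
    (hL : L = Submodule.span ℤ ({x | ∃ i, i < D' + 1 ∧ x = f ^ i} ∪
      {x | ∃ j, j < D' + 1 ∧ x = v ^ (j + 1)})) :
    (1 : Q) ∈ L ∧ (∀ x ∈ L, f * x ∈ L) ∧ (∀ x ∈ L, v * x ∈ L) := by
  have gF : ∀ i, i < D' + 1 → f ^ i ∈ L := fun i hi => by
    rw [hL]; exact Submodule.subset_span (Or.inl ⟨i, hi, rfl⟩)
  have gV : ∀ j, j < D' + 1 → v ^ (j + 1) ∈ L := fun j hj => by
    rw [hL]; exact Submodule.subset_span (Or.inr ⟨j, hj, rfl⟩)
  have im : ∀ (a : ℤ) (x : Q), x ∈ L → (a : Q) * x ∈ L := fun a x hx => by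
    rw [← zsmul_eq_mul]; exact L.smul_mem a hx
  have hεQ : (ε : Q) * (ε : Q) = 1 := by exact_mod_cast congrArg (Int.cast : ℤ → Q) hε
  -- f ^ D ∈ L
  have fD : f ^ (D' + 1) ∈ L := by
    rw [Finset.sum_range_succ, hαD, Int.cast_one, one_mul] at hrel
    have : f ^ (D' + 1) = -(∑ r ∈ Finset.range (D' + 1), (α r : Q) * f ^ r +
        (ε : Q) * ∑ r ∈ Finset.range (D' + 1), (α (r + 1) : Q) * v ^ (r + 1)) := by
      linear_combination hrel
    rw [this]
    refine L.neg_mem (L.add_mem (L.sum_mem fun r hr => ?_) (im _ _ (L.sum_mem fun r hr => ?_)))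
    · exact im _ _ (gF r (Finset.mem_range.mp hr))
    · exact im _ _ (gV r (Finset.mem_range.mp hr))
  -- f ^ r * v ∈ L for r ≤ D
  have fv : ∀ r, r < D' + 1 + 1 → f ^ r * v ∈ L := by
    intro r hr
    rcases Nat.eq_zero_or_pos r with h0 | hpos
    · rw [h0, pow_zero, one_mul]
      have := gV 0 (Nat.succ_pos _)
      simpa using this
    · obtain ⟨r', rfl⟩ := Nat.exists_eq_succ_of_ne_zero hpos.ne'
      have : f ^ (r' + 1) * v = (q : Q) * f ^ r' := by
        rw [pow_succ, mul_assoc, hfv, mul_comm]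
      rw [this]
      exact im _ _ (gF r' (by omega))
  -- v ^ (D + 1) ∈ L
  have vD : v ^ (D' + 1 + 1) ∈ L := by
    have h1 := congrArg (fun x => x * v) hrel
    simp only [zero_mul, add_mul, Finset.sum_mul, mul_assoc, Finset.mul_sum] at h1
    have e2 := Finset.sum_range_succ
      (fun x => (ε : Q) * ((α (x + 1) : Q) * (v ^ (x + 1) * v))) D'
    rw [e2, hαD, Int.cast_one, one_mul, ← pow_succ] at h1
    have h2 : (ε : Q) * v ^ (D' + 1 + 1) = -(∑ r ∈ Finset.range (D' + 1 + 1), (α r : Q) * (f ^ r * v) +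
        ∑ r ∈ Finset.range D', (ε : Q) * ((α (r + 1) : Q) * (v ^ (r + 1) * v))) := by
      linear_combination h1
    have h3 : v ^ (D' + 1 + 1) = (ε : Q) * ((ε : Q) * v ^ (D' + 1 + 1)) := by
      rw [← mul_assoc, hεQ, one_mul]
    rw [h3, h2]
    refine im _ _ (L.neg_mem (L.add_mem (L.sum_mem fun r hr => ?_) (L.sum_mem fun r hr => ?_)))
    · exact im _ _ (fv r (Finset.mem_range.mp hr))
    · refine im _ _ (im _ _ ?_)
      rw [← pow_succ]
      exact gV (r + 1) (by have := Finset.mem_range.mp hr; omega)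
  refine ⟨by simpa using gF 0 (Nat.succ_pos _), ?_, ?_⟩
  · intro x hx
    rw [hL] at hx
    induction hx using Submodule.span_induction with
    | mem x hx =>
      rcases hx with ⟨i, hi, rfl⟩ | ⟨j, hj, rfl⟩
      · rw [← pow_succ']
        rcases Nat.lt_or_ge (i + 1) (D' + 1) with h | h
        · exact gF _ h
        · have : i + 1 = D' + 1 := by omega
          rw [this]; exact fD
      · have : f * v ^ (j + 1) = (q : Q) * v ^ j := by
          rw [pow_succ', ← mul_assoc, hfv]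
        rw [this]
        rcases Nat.eq_zero_or_pos j with h0 | hpos
        · rw [h0, pow_zero]
          exact im _ _ (by simpa using gF 0 (Nat.succ_pos _))
        · obtain ⟨j', rfl⟩ := Nat.exists_eq_succ_of_ne_zero hpos.ne'
          exact im _ _ (gV j' (by omega))
    | zero => rw [mul_zero]; exact L.zero_mem
    | add x y _ _ hx hy => rw [mul_add]; exact L.add_mem hx hy
    | smul a x _ hx => rw [mul_smul_comm]; exact L.smul_mem a hx
  · intro x hx
    rw [hL] at hx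
    induction hx using Submodule.span_induction with
    | mem x hx =>
      rcases hx with ⟨i, hi, rfl⟩ | ⟨j, hj, rfl⟩
      · rw [mul_comm]
        exact fv i (by omega)
      · rw [← pow_succ']
        rcases Nat.lt_or_ge (j + 1) (D' + 1) with h | h
        · exact gV _ h
        · have : j + 1 = D' + 1 := by omega
          rw [this]; exact vD
    | zero => rw [mul_zero]; exact L.zero_mem
    | add x y _ _ hx hy => rw [mul_add]; exact L.add_mem hx hy
    | smul a x _ hx => rw [mul_smul_comm]; exact L.smul_mem a hx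

theorem sym_eval {Q : Type*} [CommRing Q] (f v : Q) (q : ℤ) (hfv : f * v = (q : Q)) (D : ℕ)
    (a : ℕ → ℤ) (ε : ℤ) (hsym : ∀ r, r ≤ D → a (D - r) = ε * q ^ r * a (D + r)) :
    f ^ D * (∑ r ∈ Finset.range (D + 1), (a (D + r) : Q) * f ^ r +
      (ε : Q) * ∑ r ∈ Finset.range D, (a (D + (r + 1)) : Q) * v ^ (r + 1)) =
    ∑ k ∈ Finset.range (2 * D + 1), (a k : Q) * f ^ k := by
  have h2 : 2 * D + 1 = D + (D + 1) := by ring
  have hR : ∑ k ∈ Finset.range (2 * D + 1), (a k : Q) * f ^ k =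
      ∑ r ∈ Finset.range D, (a (D - (r + 1)) : Q) * f ^ (D - (r + 1)) +
        ∑ r ∈ Finset.range (D + 1), (a (D + r) : Q) * f ^ (D + r) := by
    rw [h2, Finset.sum_range_add (fun k => (a k : Q) * f ^ k) D (D + 1)]
    congr 1
    rw [← Finset.sum_range_reflect]
    apply Finset.sum_congr rfl
    intro r hr
    have hr' := Finset.mem_range.mp hr
    have h3 : D - 1 - r = D - (r + 1) := by omega
    rw [h3]
  rw [hR, mul_add, add_comm]
  congr 1
  · rw [← mul_assoc, mul_comm (f ^ D), mul_assoc, Finset.mul_sum, Finset.mul_sum]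
    apply Finset.sum_congr rfl
    intro r hr
    have hr' := Finset.mem_range.mp hr
    rw [hsym (r + 1) (by omega)]
    have h4 : f ^ D = f ^ (D - (r + 1)) * f ^ (r + 1) := by
      rw [← pow_add]; congr 1; omega
    have h5 : f ^ (r + 1) * v ^ (r + 1) = (q : Q) ^ (r + 1) := by
      rw [← mul_pow, hfv]
    push_cast
    calc (ε : Q) * (f ^ D * ((a (D + (r + 1)) : Q) * v ^ (r + 1)))
        = (ε : Q) * (a (D + (r + 1)) : Q) * f ^ (D - (r + 1)) * (f ^ (r + 1) * v ^ (r + 1)) := by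
          rw [h4]; ring
      _ = _ := by rw [h5]; ring
  · rw [Finset.mul_sum]
    apply Finset.sum_congr rfl
    intro r _
    rw [pow_add]; ring

/-- the explicit symmetric polynomial attached to a polynomial of degree `2D` -/
noncomputable def h0 (P : Polynomial ℤ) (D : ℕ) (ε : ℤ) : MvPolynomial (Fin 2) ℤ :=
  ∑ r ∈ Finset.range (D + 1), C (P.coeff (D + r)) * X 0 ^ r +
    C ε * ∑ r ∈ Finset.range D, C (P.coeff (D + (r + 1))) * X 1 ^ (r + 1)

theorem mk_C_eq_intCast (I : Ideal (MvPolynomial (Fin 2) ℤ)) (a : ℤ) :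
    Ideal.Quotient.mk I (C a) = ((a : ℤ) : MvPolynomial (Fin 2) ℤ ⧸ I) := by
  have h : (C a : MvPolynomial (Fin 2) ℤ) = ((a : ℤ) : MvPolynomial (Fin 2) ℤ) := by simp
  rw [h, map_intCast]

theorem mk_h0 (I : Ideal (MvPolynomial (Fin 2) ℤ)) (P : Polynomial ℤ) (D : ℕ) (ε : ℤ) :
    Ideal.Quotient.mk I (h0 P D ε) =
      ∑ r ∈ Finset.range (D + 1), ((P.coeff (D + r) : ℤ) : MvPolynomial (Fin 2) ℤ ⧸ I) *
          (Ideal.Quotient.mk I (X 0)) ^ r +
        ((ε : ℤ) : MvPolynomial (Fin 2) ℤ ⧸ I) *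
          ∑ r ∈ Finset.range D, ((P.coeff (D + (r + 1)) : ℤ) : MvPolynomial (Fin 2) ℤ ⧸ I) *
            (Ideal.Quotient.mk I (X 1)) ^ (r + 1) := by
  simp only [h0, map_add, map_sum, map_mul, map_pow, mk_C_eq_intCast]

theorem mk_aeval (I : Ideal (MvPolynomial (Fin 2) ℤ)) (P : Polynomial ℤ) :
    Ideal.Quotient.mk I (Polynomial.aeval (X 0 : MvPolynomial (Fin 2) ℤ) P) =
      ∑ k ∈ Finset.range (P.natDegree + 1), ((P.coeff k : ℤ) : MvPolynomial (Fin 2) ℤ ⧸ I) *
          (Ideal.Quotient.mk I (X 0)) ^ k := by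
  rw [Polynomial.aeval_eq_sum_range, map_sum]
  apply Finset.sum_congr rfl
  intro k _
  rw [zsmul_eq_mul, map_mul, map_pow, map_intCast]

theorem mk_FV (q : ℤ) (I : Ideal (MvPolynomial (Fin 2) ℤ))
    (hI : (X 0 * X 1 - C q : MvPolynomial (Fin 2) ℤ) ∈ I) :
    Ideal.Quotient.mk I (X 0) * Ideal.Quotient.mk I (X 1) =
      ((q : ℤ) : MvPolynomial (Fin 2) ℤ ⧸ I) := by
  rw [← mk_C_eq_intCast, ← map_mul, ← sub_eq_zero, ← map_sub]
  exact Ideal.Quotient.eq_zero_iff_mem.mpr hI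

/-- `F ^ D * h0 ≡ P(F)` modulo `FV - q`. -/
theorem h0_spec (q : ℤ) (P : Polynomial ℤ) (D : ℕ) (ε : ℤ) (hdeg : P.natDegree = 2 * D)
    (hsym : ∀ r, r ≤ D → P.coeff (D - r) = ε * q ^ r * P.coeff (D + r)) :
    X 0 ^ D * h0 P D ε - Polynomial.aeval (X 0 : MvPolynomial (Fin 2) ℤ) P ∈
      Ideal.span ({X 0 * X 1 - C q} : Set (MvPolynomial (Fin 2) ℤ)) := by
  rw [← Ideal.Quotient.eq_zero_iff_mem, map_sub, map_mul, map_pow, mk_h0, mk_aeval, hdeg,
    sub_eq_zero]
  exact sym_eval _ _ q (mk_FV q _ (Ideal.subset_span (Set.mem_singleton _))) D (fun k => P.coeff k) ε hsym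

theorem X0_notMem (q : ℤ) :
    (X 0 : MvPolynomial (Fin 2) ℤ) ∉
      Ideal.span ({X 0 * X 1 - C q} : Set (MvPolynomial (Fin 2) ℤ)) := by
  intro h
  have hle : Ideal.span ({X 0 * X 1 - C q} : Set (MvPolynomial (Fin 2) ℤ)) ≤
      RingHom.ker (MvPolynomial.eval ![(1 : ℤ), q]) := by
    rw [Ideal.span_le]
    intro x hx
    rw [Set.mem_singleton_iff] at hx
    rw [hx, SetLike.mem_coe, RingHom.mem_ker]
    simp
  have := hle h
  rw [RingHom.mem_ker] at this
  simp at this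

theorem isPrime_span (q : ℤ) (hq : q ≠ 0) :
    (Ideal.span ({X 0 * X 1 - C q} : Set (MvPolynomial (Fin 2) ℤ))).IsPrime := by
  rw [Ideal.span_singleton_prime (prime_FV_sub_q q hq).ne_zero]
  exact prime_FV_sub_q q hq

/-- any `h` with `F ^ D * h ≡ P(F)` is congruent to `h0` modulo `FV - q`. -/
theorem sub_h0_mem (q : ℤ) (hq : q ≠ 0) (P : Polynomial ℤ) (D : ℕ) (ε : ℤ)
    (hdeg : P.natDegree = 2 * D)
    (hsym : ∀ r, r ≤ D → P.coeff (D - r) = ε * q ^ r * P.coeff (D + r))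
    (h : MvPolynomial (Fin 2) ℤ)
    (hh : X 0 ^ D * h - Polynomial.aeval (X 0 : MvPolynomial (Fin 2) ℤ) P ∈
      Ideal.span ({X 0 * X 1 - C q} : Set (MvPolynomial (Fin 2) ℤ))) :
    h - h0 P D ε ∈ Ideal.span ({X 0 * X 1 - C q} : Set (MvPolynomial (Fin 2) ℤ)) := by
  have hp := isPrime_span q hq
  have h1 := Ideal.sub_mem _ hh (h0_spec q P D ε hdeg hsym)
  have h2 : X 0 ^ D * h - Polynomial.aeval (X 0 : MvPolynomial (Fin 2) ℤ) P -
      (X 0 ^ D * h0 P D ε - Polynomial.aeval (X 0 : MvPolynomial (Fin 2) ℤ) P) =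
      X 0 ^ D * (h - h0 P D ε) := by ring
  rw [h2] at h1
  rcases hp.mem_or_mem h1 with h3 | h3
  · exact absurd (hp.mem_of_pow_mem D h3) (X0_notMem q)
  · exact h3

theorem span_pair_eq (a h h' : MvPolynomial (Fin 2) ℤ)
    (hd : h - h' ∈ Ideal.span ({a} : Set (MvPolynomial (Fin 2) ℤ))) :
    Ideal.span ({a, h} : Set (MvPolynomial (Fin 2) ℤ)) = Ideal.span {a, h'} := by
  have ha : ∀ x : MvPolynomial (Fin 2) ℤ, Ideal.span ({a} : Set (MvPolynomial (Fin 2) ℤ)) ≤
      Ideal.span {a, x} := fun x => Ideal.span_mono (by simp)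
  apply le_antisymm
  · rw [Ideal.span_le]
    intro x hx
    rcases hx with rfl | rfl
    · exact Ideal.subset_span (by simp)
    · have : x = x - h' + h' := by ring
      rw [this]
      exact Ideal.add_mem _ (ha h' hd) (Ideal.subset_span (by simp))
  · rw [Ideal.span_le]
    intro x hx
    rcases hx with rfl | rfl
    · exact Ideal.subset_span (by simp)
    · have : x = h - (h - x) := by ring
      rw [this]
      exact Ideal.sub_mem _ (Ideal.subset_span (by simp)) (ha h hd)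

end Groth.Agent.H89.WeilCI
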