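import Groth.Agent.H89.WeilCI

set_option autoImplicit false

namespace Groth.Agent.H89.WeilCI

open MvPolynomial

/-- the normal form of elements modulo `(FV - q, h0)` -/
noncomputable def nf (D : ℕ) (c d : ℕ → ℤ) : MvPolynomial (Fin 2) ℤ :=
  ∑ i ∈ Finset.range D, C (c i) * X 0 ^ i + ∑ j ∈ Finset.range D, C (d j) * X 1 ^ (j + 1)

theorem exists_rep (q : ℤ) (P : Polynomial ℤ) (D' : ℕ) (ε : ℤ) (hε : ε * ε = 1)
    (hmon : P.Monic) (hdeg : P.natDegree = 2 * (D' + 1)) (x : MvPolynomial (Fin 2) ℤ) :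
    ∃ c d : ℕ → ℤ, x - nf (D' + 1) c d ∈
      Ideal.span ({X 0 * X 1 - C q, h0 P (D' + 1) ε} : Set (MvPolynomial (Fin 2) ℤ)) := by
  set 𝔞 := Ideal.span ({X 0 * X 1 - C q, h0 P (D' + 1) ε} : Set (MvPolynomial (Fin 2) ℤ)) with h𝔞
  set f := Ideal.Quotient.mk 𝔞 (X 0) with hf
  set v := Ideal.Quotient.mk 𝔞 (X 1) with hv
  have hfv : f * v = ((q : ℤ) : MvPolynomial (Fin 2) ℤ ⧸ 𝔞) :=
    mk_FV q 𝔞 (Ideal.subset_span (by simp))
  have hαD : P.coeff (D' + 1 + (D' + 1)) = 1 := by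
    have : D' + 1 + (D' + 1) = P.natDegree := by rw [hdeg]; ring
    rw [this]
    exact hmon.coeff_natDegree
  have hrel : ∑ r ∈ Finset.range (D' + 1 + 1),
        ((P.coeff (D' + 1 + r) : ℤ) : MvPolynomial (Fin 2) ℤ ⧸ 𝔞) * f ^ r +
      ((ε : ℤ) : MvPolynomial (Fin 2) ℤ ⧸ 𝔞) * ∑ r ∈ Finset.range (D' + 1),
        ((P.coeff (D' + 1 + (r + 1)) : ℤ) : MvPolynomial (Fin 2) ℤ ⧸ 𝔞) * v ^ (r + 1) = 0 := by
    rw [← mk_h0]
    exact Ideal.Quotient.eq_zero_iff_mem.mpr (Ideal.subset_span (by simp))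
  obtain ⟨h1, hF, hV⟩ := span_closed f v q hfv D' (fun r => P.coeff (D' + 1 + r)) hαD ε hε hrel
    _ rfl
  set L := Submodule.span ℤ ({x | ∃ i, i < D' + 1 ∧ x = f ^ i} ∪
      {x | ∃ j, j < D' + 1 ∧ x = v ^ (j + 1)}) with hL
  -- every element lies in `L`
  have hall : ∀ y : MvPolynomial (Fin 2) ℤ, Ideal.Quotient.mk 𝔞 y ∈ L := by
    intro y
    induction y using MvPolynomial.induction_on with
    | C a =>
      rw [mk_C_eq_intCast]
      have : ((a : ℤ) : MvPolynomial (Fin 2) ℤ ⧸ 𝔞) = a • (1 : MvPolynomial (Fin 2) ℤ ⧸ 𝔞) := by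
        rw [zsmul_eq_mul, mul_one]
      rw [this]
      exact L.smul_mem a h1
    | add p p' hp hp' =>
      rw [map_add]
      exact L.add_mem hp hp'
    | mul_X p i hp =>
      rw [map_mul, mul_comm]
      fin_cases i
      · exact hF _ hp
      · exact hV _ hp
  -- representation of the elements of `L`
  have hrep : ∀ y ∈ L, ∃ c d : ℕ → ℤ, y = Ideal.Quotient.mk 𝔞 (nf (D' + 1) c d) := by
    intro y hy
    induction hy using Submodule.span_induction with
    | mem y hy =>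
      rcases hy with ⟨i, hi, rfl⟩ | ⟨j, hj, rfl⟩
      · refine ⟨fun k => if k = i then 1 else 0, fun _ => 0, ?_⟩
        simp only [nf, map_zero, zero_mul, Finset.sum_const_zero, add_zero]
        rw [Finset.sum_eq_single i]
        · simp [hf]
        · intro k _ hk
          simp [hk]
        · intro hi'
          exact absurd (Finset.mem_range.mpr hi) hi'
      · refine ⟨fun _ => 0, fun k => if k = j then 1 else 0, ?_⟩
        simp only [nf, map_zero, zero_mul, Finset.sum_const_zero, zero_add]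
        rw [Finset.sum_eq_single j]
        · simp [hv]
        · intro k _ hk
          simp [hk]
        · intro hj'
          exact absurd (Finset.mem_range.mpr hj) hj'
    | zero =>
      refine ⟨fun _ => 0, fun _ => 0, ?_⟩
      simp [nf]
    | add y y' _ _ hy hy' =>
      obtain ⟨c, d, rfl⟩ := hy
      obtain ⟨c', d', rfl⟩ := hy'
      refine ⟨fun k => c k + c' k, fun k => d k + d' k, ?_⟩
      rw [← map_add]
      congr 1
      simp only [nf, map_add, add_mul, Finset.sum_add_distrib]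
      ring
    | smul a y _ hy =>
      obtain ⟨c, d, rfl⟩ := hy
      refine ⟨fun k => a * c k, fun k => a * d k, ?_⟩
      rw [zsmul_eq_mul, ← mk_C_eq_intCast, ← map_mul]
      congr 1
      simp only [nf, map_mul, mul_add, Finset.mul_sum, mul_assoc]
  obtain ⟨c, d, hcd⟩ := hrep _ (hall x)
  exact ⟨c, d, Ideal.Quotient.eq.mp hcd⟩

end Groth.Agent.H89.WeilCI
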