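import Mathlib

set_option autoImplicit false
universe u
open Polynomial

namespace Groth.Agent.H89

/-- The reciprocal polynomial `x^N P(q/x)`. -/
noncomputable def recip (P : ℤ[X]) (q : ℤ) : ℤ[X] := (P.comp (C q * X)).reverse

theorem natDegree_comp_C_mul_X (P : ℤ[X]) (q : ℤ) (hq : q ≠ 0) :
    (P.comp (C q * X)).natDegree = P.natDegree := by
  rw [natDegree_comp, natDegree_C_mul_X q hq, mul_one]

theorem recip_coeff (P : ℤ[X]) (q : ℤ) (hq : q ≠ 0) (i : ℕ) (hi : i ≤ P.natDegree) :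
    (recip P q).coeff i = P.coeff (P.natDegree - i) * q ^ (P.natDegree - i) := by
  rw [recip, coeff_reverse, natDegree_comp_C_mul_X P q hq, revAt_le hi, comp_C_mul_X_coeff]

theorem recip_natDegree_le (P : ℤ[X]) (q : ℤ) (hq : q ≠ 0) :
    (recip P q).natDegree ≤ P.natDegree := by
  rw [recip]
  exact (reverse_natDegree_le _).trans (natDegree_comp_C_mul_X P q hq).le

/-- Evaluation of the reciprocal polynomial. -/
theorem recip_eval₂ {S : Type*} [Field S] (i : ℤ →+* S) (P : ℤ[X]) (q : ℤ) (hq : q ≠ 0) (z : S)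
    (hz : z ≠ 0) :
    eval₂ i z (recip P q) = z ^ P.natDegree * eval₂ i (i q / z) P := by
  have hz' : z⁻¹ ≠ 0 := inv_ne_zero hz
  let _ : Invertible (z⁻¹) := invertibleOfNonzero hz'
  have h := eval₂_reverse_mul_pow i (z⁻¹) (P.comp (C q * X))
  rw [natDegree_comp_C_mul_X P q hq] at h
  have h1 : ⅟(z⁻¹) = z := by
    rw [invOf_eq_inv, inv_inv]
  rw [h1] at h
  have h2 : eval₂ i z⁻¹ (P.comp (C q * X)) = eval₂ i (i q / z) P := by
    rw [eval₂_comp]
    congr 1
    rw [eval₂_mul, eval₂_C, eval₂_X, div_eq_mul_inv]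
  rw [h2] at h
  rw [recip, ← h]
  have h3 : z ^ P.natDegree * z⁻¹ ^ P.natDegree = 1 := by
    rw [← mul_pow, mul_inv_cancel₀ hz, one_pow]
  calc eval₂ i z (P.comp (C q * X)).reverse
      = eval₂ i z (P.comp (C q * X)).reverse * (z ^ P.natDegree * z⁻¹ ^ P.natDegree) := by
        rw [h3, mul_one]
    _ = z ^ P.natDegree * (eval₂ i z (P.comp (C q * X)).reverse * z⁻¹ ^ P.natDegree) := by ring


/-- Functional equation: if `z` and `q / z` are both roots of the monic irreducible `P`, then the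
reciprocal polynomial is a constant multiple of `P`. -/
theorem recip_eq_of_root (P : ℤ[X]) (hP : Irreducible P) (hmon : P.Monic) (q : ℤ) (hq : q ≠ 0)
    (z : ℂ) (hz : aeval z P = 0) (hz0 : z ≠ 0) (hz' : aeval ((q : ℂ) / z) P = 0) :
    recip P q = C (P.coeff 0) * P := by
  have hint : IsIntegral ℤ z := ⟨P, hmon, by rwa [aeval_def] at hz⟩
  have hm_dvd : minpoly ℤ z ∣ P := minpoly.isIntegrallyClosed_dvd hint hz
  have hassoc : Associated (minpoly ℤ z) P :=
    (minpoly.irreducible hint).associated_of_dvd hP hm_dvd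
  have hrz : aeval z (recip P q) = 0 := by
    rw [aeval_def, recip_eval₂ _ P q hq z hz0]
    have : eval₂ (algebraMap ℤ ℂ) ((algebraMap ℤ ℂ) q / z) P = 0 := by
      rw [aeval_def] at hz'
      simpa using hz'
    rw [this, mul_zero]
  have hdvd : P ∣ recip P q :=
    hassoc.symm.dvd.trans (minpoly.isIntegrallyClosed_dvd hint hrz)
  obtain ⟨D, hD⟩ := hdvd
  have hN : (recip P q).coeff P.natDegree = P.coeff 0 := by
    rw [recip_coeff P q hq _ le_rfl, Nat.sub_self, pow_zero, mul_one]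
  have h0 : (recip P q).coeff 0 = q ^ P.natDegree := by
    rw [recip_coeff P q hq 0 (Nat.zero_le _), Nat.sub_zero, hmon.coeff_natDegree, one_mul]
  have hrne : recip P q ≠ 0 := by
    intro h
    rw [h, coeff_zero] at h0
    exact pow_ne_zero _ hq h0.symm
  have hDne : D ≠ 0 := by
    rintro rfl
    rw [mul_zero] at hD
    exact hrne hD
  have hdeg : D.natDegree = 0 := by
    have h1 := recip_natDegree_le P q hq
    rw [hD, hmon.natDegree_mul' hDne] at h1
    omega
  obtain ⟨d, rfl⟩ : ∃ d, D = C d := ⟨D.coeff 0, eq_C_of_natDegree_eq_zero hdeg⟩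
  have hd : d = P.coeff 0 := by
    rw [hD, coeff_mul_C, hmon.coeff_natDegree, one_mul] at hN
    exact hN
  rw [hD, hd, mul_comm]


/-- A monic integer polynomial without real roots has even degree and positive constant term. -/
theorem even_natDegree_and_pos_of_no_real_root (P : ℤ[X]) (hmon : P.Monic)
    (hnr : ∀ x : ℝ, (P.map (Int.castRingHom ℝ)).eval x ≠ 0) :
    Even P.natDegree ∧ 0 < P.coeff 0 := by
  have hmonr : (P.map (Int.castRingHom ℝ)).Monic := hmon.map _
  have hdeg : (P.map (Int.castRingHom ℝ)).natDegree = P.natDegree := hmon.natDegree_map _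
  have hlc : (0 : ℝ) ≤ (P.map (Int.castRingHom ℝ)).leadingCoeff := by
    rw [hmonr.leadingCoeff]; norm_num
  have h1 : 0 < (P.map (Int.castRingHom ℝ)).eval 0 :=
    zero_lt_eval_of_roots_lt_of_leadingCoeff_nonneg (fun y hy => absurd hy (hnr y)) hlc
  have h2 := zero_lt_negOnePow_mul_eval_of_lt_roots_of_leadingCoeff_nonneg (x := 0)
    (fun y hy => absurd hy (hnr y)) hlc
  constructor
  · by_contra hodd
    rw [Nat.not_even_iff_odd] at hodd
    rw [hdeg, Int.negOnePow_odd _ (by exact_mod_cast hodd)] at h2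
    push_cast at h2
    linarith
  · have : (P.map (Int.castRingHom ℝ)).eval 0 = ((P.coeff 0 : ℤ) : ℝ) := by
      rw [← coeff_zero_eq_eval_zero, coeff_map]
      rfl
    rw [this] at h1
    exact_mod_cast h1


/-- Coefficient symmetry of the minimal polynomial of a nonreal Weil number. -/
theorem weil_symmetry (P : ℤ[X]) (hP : Irreducible P) (hmon : P.Monic) (hpos : 0 < P.natDegree)
    (q : ℕ) (hq : 0 < q)
    (hweil : ∀ z ∈ P.aroots ℂ, ‖z‖ = Real.sqrt (q : ℝ))
    (hnr : ∀ z ∈ P.aroots ℂ, z.im ≠ 0) :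
    Even P.natDegree ∧ ∀ r ≤ P.natDegree / 2,
      P.coeff (P.natDegree / 2 - r) = (q : ℤ) ^ r * P.coeff (P.natDegree / 2 + r) := by
  have hP0 : P ≠ 0 := hmon.ne_zero
  have hqz : (q : ℤ) ≠ 0 := by exact_mod_cast hq.ne'
  -- no real roots
  have hnoreal : ∀ x : ℝ, (P.map (Int.castRingHom ℝ)).eval x ≠ 0 := by
    intro x hx
    have h1 : aeval x P = 0 := by
      rw [aeval_def, eval₂_eq_eval_map, algebraMap_int_eq]
      exact hx
    have h2 : aeval (algebraMap ℝ ℂ x) P = 0 := by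
      rw [aeval_algebraMap_apply, h1, map_zero]
    have h3 : (algebraMap ℝ ℂ x) ∈ P.aroots ℂ := (mem_aroots).mpr ⟨hP0, h2⟩
    exact hnr _ h3 (by simp)
  obtain ⟨heven, ha0⟩ := even_natDegree_and_pos_of_no_real_root P hmon hnoreal
  refine ⟨heven, ?_⟩
  -- a complex root
  have hdegC : 0 < (P.map (algebraMap ℤ ℂ)).degree := by
    rw [(hmon.map _).degree_pos]
    intro h
    have := hmon.natDegree_map (algebraMap ℤ ℂ)
    rw [h, natDegree_one] at this
    omega
  obtain ⟨z, hzroot⟩ := Complex.exists_root hdegC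
  have hz : aeval z P = 0 := by
    rw [aeval_def, eval₂_eq_eval_map]
    exact hzroot
  have hzmem : z ∈ P.aroots ℂ := mem_aroots.mpr ⟨hP0, hz⟩
  have hnorm := hweil z hzmem
  have hqr : (0 : ℝ) < (q : ℝ) := by exact_mod_cast hq
  have hz0 : z ≠ 0 := by
    intro h
    rw [h, norm_zero] at hnorm
    have := Real.sqrt_pos.mpr hqr
    linarith
  have hconj : (starRingEnd ℂ) z = (q : ℂ) / z := by
    rw [eq_div_iff hz0, mul_comm, Complex.mul_conj, Complex.normSq_eq_norm_sq, hnorm,
      Real.sq_sqrt hqr.le]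
    simp
  have hz' : aeval (((q : ℤ) : ℂ) / z) P = 0 := by
    have h1 : aeval ((starRingEnd ℂ) z) P = (starRingEnd ℂ) (aeval z P) := by
      have := aeval_algHom_apply ((starRingEnd ℂ).toIntAlgHom) z P
      simpa using this
    rw [hz, map_zero, hconj] at h1
    simpa using h1
  have hfe := recip_eq_of_root P hP hmon (q : ℤ) hqz z hz hz0 hz'
  -- constant coefficient
  obtain ⟨d, hd⟩ := heven
  have hsq : P.coeff 0 * P.coeff 0 = ((q : ℤ) ^ d) * ((q : ℤ) ^ d) := by
    have h0 := congrArg (fun f => f.coeff 0) hfe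
    simp only [coeff_C_mul] at h0
    rw [recip_coeff P _ hqz 0 (Nat.zero_le _), Nat.sub_zero, hmon.coeff_natDegree, one_mul] at h0
    rw [← h0, hd, pow_add]
  have ha0' : P.coeff 0 = (q : ℤ) ^ d := by
    have hqd : (0 : ℤ) ≤ (q : ℤ) ^ d := by positivity
    nlinarith [sq_nonneg (P.coeff 0 - (q : ℤ) ^ d), sq_nonneg (P.coeff 0 + (q : ℤ) ^ d)]
  have hhalf : P.natDegree / 2 = d := by omega
  rw [hhalf]
  intro r hr
  have hc := congrArg (fun f => f.coeff (d + r)) hfe
  simp only [coeff_C_mul] at hc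
  rw [recip_coeff P _ hqz (d + r) (by omega), ha0'] at hc
  have h1 : P.natDegree - (d + r) = d - r := by omega
  rw [h1] at hc
  have h2 : (q : ℤ) ^ d = (q : ℤ) ^ (d - r) * (q : ℤ) ^ r := by
    rw [← pow_add]; congr 1; omega
  rw [h2] at hc
  have h3 : (q : ℤ) ^ (d - r) ≠ 0 := pow_ne_zero _ hqz
  apply mul_left_cancel₀ h3
  linarith

end Groth.Agent.H89
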