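import Groth.Agent.H89.WeilCI2
import Groth.Agent.H89.WeilSym

set_option autoImplicit false

namespace Groth.Agent.H89.WeilCI

open Polynomial

theorem recip_mul (P Q : ℤ[X]) (q : ℤ) : recip (P * Q) q = recip P q * recip Q q := by
  unfold recip
  rw [mul_comp, reverse_mul_of_domain]

theorem recip_one (q : ℤ) : recip 1 q = 1 := by
  unfold recip
  rw [one_comp, ← C_1, reverse_C]

theorem recip_prod {ι : Type*} (s : Finset ι) (P : ι → ℤ[X]) (q : ℤ) :
    recip (∏ i ∈ s, P i) q = ∏ i ∈ s, recip (P i) q := by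
  classical
  induction s using Finset.induction_on with
  | empty => simp [recip_one]
  | insert a s ha ih => rw [Finset.prod_insert ha, Finset.prod_insert ha, recip_mul, ih]

/-- functional equation for a single Weil polynomial -/
theorem recip_eq_of_weil (P : ℤ[X]) (hP : Irreducible P) (hmon : P.Monic)
    (hpos : 0 < P.natDegree) (q : ℕ) (hq : 0 < q)
    (hweil : ∀ z ∈ P.aroots ℂ, ‖z‖ = Real.sqrt (q : ℝ)) :
    recip P (q : ℤ) = C (P.coeff 0) * P := by
  have hP0 : P ≠ 0 := hmon.ne_zero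
  have hqz : (q : ℤ) ≠ 0 := by exact_mod_cast hq.ne'
  have hdegC : 0 < (P.map (algebraMap ℤ ℂ)).degree := by
    rw [(hmon.map _).degree_pos]
    intro h
    have := hmon.natDegree_map (algebraMap ℤ ℂ)
    rw [h, natDegree_one] at this
    omega
  obtain ⟨z, hzroot⟩ := Complex.exists_root hdegC
  have hz : aeval z P = 0 := by
    rw [aeval_def, eval₂_eq_eval_map]
    exact hzroot
  have hzmem : z ∈ P.aroots ℂ := mem_aroots.mpr ⟨hP0, hz⟩
  have hnorm := hweil z hzmem
  have hqr : (0 : ℝ) < (q : ℝ) := by exact_mod_cast hq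
  have hz0 : z ≠ 0 := by
    intro h
    rw [h, norm_zero] at hnorm
    have := Real.sqrt_pos.mpr hqr
    linarith
  have hconj : (starRingEnd ℂ) z = (q : ℂ) / z := by
    rw [eq_div_iff hz0, mul_comm, Complex.mul_conj, Complex.normSq_eq_norm_sq, hnorm,
      Real.sq_sqrt hqr.le]
    simp
  have hz' : aeval (((q : ℤ) : ℂ) / z) P = 0 := by
    have h1 : aeval ((starRingEnd ℂ) z) P = (starRingEnd ℂ) (aeval z P) := by
      have := aeval_algHom_apply ((starRingEnd ℂ).toIntAlgHom) z P
      simpa using this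
    rw [hz, map_zero, hconj] at h1
    simpa using h1
  exact recip_eq_of_root P hP hmon (q : ℤ) hqz z hz hz0 hz'

/-- coefficient symmetry from the functional equation -/
theorem sym_of_recip (P : ℤ[X]) (hmon : P.Monic) (D : ℕ) (hdeg : P.natDegree = 2 * D) (q : ℤ)
    (hq : q ≠ 0) (c : ℤ) (hfe : recip P q = C c * P) :
    ∃ ε : ℤ, ε * ε = 1 ∧ ∀ r, r ≤ D → P.coeff (D - r) = ε * q ^ r * P.coeff (D + r) := by
  have hc : c = P.coeff 0 := by
    have h := congrArg (fun f => f.coeff P.natDegree) hfe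
    simp only [coeff_C_mul] at h
    rw [recip_coeff P q hq _ le_rfl, Nat.sub_self, pow_zero, mul_one, hmon.coeff_natDegree,
      mul_one] at h
    exact h.symm
  have hsq : c * c = q ^ D * q ^ D := by
    have h := congrArg (fun f => f.coeff 0) hfe
    simp only [coeff_C_mul] at h
    rw [recip_coeff P q hq 0 (Nat.zero_le _), Nat.sub_zero, hmon.coeff_natDegree, one_mul,
      ← hc, hdeg] at h
    rw [← h, ← pow_add]
    congr 1
    ring
  have hcases : c = q ^ D ∨ c = -(q ^ D) := by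
    have h : (c - q ^ D) * (c + q ^ D) = 0 := by ring_nf; ring_nf at hsq; linarith
    rcases mul_eq_zero.mp h with h | h
    · left; linarith
    · right; linarith
  have key : ∀ ε : ℤ, c = ε * q ^ D → ∀ r, r ≤ D →
      P.coeff (D - r) = ε * q ^ r * P.coeff (D + r) := by
    intro ε hε r hr
    have h := congrArg (fun f => f.coeff (D + r)) hfe
    simp only [coeff_C_mul] at h
    rw [recip_coeff P q hq (D + r) (by omega), hε] at h
    have h1 : P.natDegree - (D + r) = D - r := by omega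
    rw [h1] at h
    have h2 : q ^ D = q ^ (D - r) * q ^ r := by
      rw [← pow_add]; congr 1; omega
    rw [h2] at h
    have h3 : q ^ (D - r) ≠ 0 := pow_ne_zero _ hq
    apply mul_left_cancel₀ h3
    linarith
  rcases hcases with h | h
  · exact ⟨1, by norm_num, key 1 (by rw [h]; ring)⟩
  · exact ⟨-1, by norm_num, key (-1) (by rw [h]; ring)⟩

/-- coefficient symmetry for a product of Weil polynomials of even total degree -/
theorem sym_of_weil_prod {ι : Type*} (s : Finset ι) (P : ι → ℤ[X])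
    (hP : ∀ i ∈ s, Irreducible (P i)) (hmon : ∀ i ∈ s, (P i).Monic)
    (hpos : ∀ i ∈ s, 0 < (P i).natDegree) (q : ℕ) (hq : 0 < q)
    (hweil : ∀ i ∈ s, ∀ z ∈ (P i).aroots ℂ, ‖z‖ = Real.sqrt (q : ℝ))
    (D : ℕ) (hdeg : (∏ i ∈ s, P i).natDegree = 2 * D) :
    ∃ ε : ℤ, ε * ε = 1 ∧ ∀ r, r ≤ D →
      (∏ i ∈ s, P i).coeff (D - r) = ε * (q : ℤ) ^ r * (∏ i ∈ s, P i).coeff (D + r) := by
  have hqz : (q : ℤ) ≠ 0 := by exact_mod_cast hq.ne'
  have hfe : recip (∏ i ∈ s, P i) (q : ℤ) = C (∏ i ∈ s, (P i).coeff 0) * ∏ i ∈ s, P i := by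
    rw [recip_prod, map_prod, ← Finset.prod_mul_distrib]
    apply Finset.prod_congr rfl
    intro i hi
    exact recip_eq_of_weil (P i) (hP i hi) (hmon i hi) (hpos i hi) q hq (hweil i hi)
  exact sym_of_recip _ (monic_prod_of_monic _ _ hmon) D hdeg (q : ℤ) hqz _ hfe

end Groth.Agent.H89.WeilCI
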