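import Groth.Agent.H89.WeilCI2

set_option autoImplicit false

namespace Groth.Agent.H89.WeilCI

open MvPolynomial

/-- an ideal containing `FV - q`, `h0`, and meeting the normal forms trivially is `(FV - q, h0)` -/
theorem ideal_eq_span (q : ℤ) (P : Polynomial ℤ) (D' : ℕ) (ε : ℤ) (hε : ε * ε = 1)
    (hmon : P.Monic) (hdeg : P.natDegree = 2 * (D' + 1))
    (I : Ideal (MvPolynomial (Fin 2) ℤ)) (h1 : X 0 * X 1 - C q ∈ I)
    (h2 : h0 P (D' + 1) ε ∈ I)
    (hind : ∀ c d : ℕ → ℤ, nf (D' + 1) c d ∈ I → nf (D' + 1) c d = 0) :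
    I = Ideal.span {X 0 * X 1 - C q, h0 P (D' + 1) ε} := by
  have hle : Ideal.span {X 0 * X 1 - C q, h0 P (D' + 1) ε} ≤ I := by
    rw [Ideal.span_le]
    intro y hy
    rcases hy with rfl | rfl
    · exact h1
    · exact h2
  apply le_antisymm _ hle
  intro x hx
  obtain ⟨c, d, hcd⟩ := exists_rep q P D' ε hε hmon hdeg x
  have hnf : nf (D' + 1) c d ∈ I := by
    have h3 := I.sub_mem hx (hle hcd)
    have h4 : x - (x - nf (D' + 1) c d) = nf (D' + 1) c d := by ring
    rwa [h4] at h3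
  rw [hind c d hnf, sub_zero] at hcd
  exact hcd

/-- the one-variable polynomial `F ^ D * nf D c d` -/
noncomputable def gpoly (q : ℤ) (D : ℕ) (c d : ℕ → ℤ) : Polynomial ℤ :=
  ∑ k ∈ Finset.range D, Polynomial.C (c k) * Polynomial.X ^ (D + k) +
    ∑ j ∈ Finset.range D, Polynomial.C (d j * q ^ (j + 1)) * Polynomial.X ^ (D - (j + 1))

theorem aeval_gpoly {R : Type*} [CommRing R] (f v : R) (q : ℤ) (hfv : f * v = (q : R)) (D : ℕ)
    (c d : ℕ → ℤ) :
    Polynomial.aeval f (gpoly q D c d) = f ^ D * MvPolynomial.aeval ![f, v] (nf D c d) := by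
  simp only [gpoly, nf, map_add, map_sum, map_mul, map_pow, Polynomial.aeval_C, Polynomial.aeval_X,
    MvPolynomial.aeval_X, MvPolynomial.aeval_C, Matrix.cons_val_zero, Matrix.cons_val_one,
    Matrix.cons_val_fin_one, mul_add, Finset.mul_sum]
  congr 1
  · apply Finset.sum_congr rfl
    intro k _
    rw [pow_add]; ring
  · apply Finset.sum_congr rfl
    intro j hj
    have hj' := Finset.mem_range.mp hj
    have h4 : f ^ D = f ^ (D - (j + 1)) * f ^ (j + 1) := by
      rw [← pow_add]; congr 1; omega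
    have h5 : f ^ (j + 1) * v ^ (j + 1) = (q : R) ^ (j + 1) := by
      rw [← mul_pow, hfv]
    rw [h4]
    simp only [algebraMap_int_eq, eq_intCast]
    calc (d j : R) * (q : R) ^ (j + 1) * f ^ (D - (j + 1))
        = f ^ (D - (j + 1)) * ((d j : R) * (q : R) ^ (j + 1)) := by ring
      _ = f ^ (D - (j + 1)) * ((d j : R) * (f ^ (j + 1) * v ^ (j + 1))) := by rw [h5]
      _ = _ := by ring

theorem gpoly_degree_lt (q : ℤ) (D : ℕ) (hD : 0 < D) (c d : ℕ → ℤ) :
    (gpoly q D c d).degree < ((2 * D : ℕ) : WithBot ℕ) := by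
  rw [← Polynomial.mem_degreeLT]
  unfold gpoly
  refine Submodule.add_mem _ (Submodule.sum_mem _ fun k hk => ?_)
    (Submodule.sum_mem _ fun j hj => ?_)
  · rw [Polynomial.mem_degreeLT]
    refine lt_of_le_of_lt (Polynomial.degree_C_mul_X_pow_le _ _) ?_
    have := Finset.mem_range.mp hk
    exact_mod_cast (by omega : D + k < 2 * D)
  · rw [Polynomial.mem_degreeLT]
    refine lt_of_le_of_lt (Polynomial.degree_C_mul_X_pow_le _ _) ?_
    exact_mod_cast (by omega : D - (j + 1) < 2 * D)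

theorem gpoly_coeff_hi (q : ℤ) (D : ℕ) (c d : ℕ → ℤ) (k : ℕ) (hk : k < D) :
    (gpoly q D c d).coeff (D + k) = c k := by
  unfold gpoly
  rw [Polynomial.coeff_add, Polynomial.finsetSum_coeff, Polynomial.finsetSum_coeff]
  have h1 : ∑ j ∈ Finset.range D,
      (Polynomial.C (d j * q ^ (j + 1)) * Polynomial.X ^ (D - (j + 1))).coeff (D + k) = 0 := by
    apply Finset.sum_eq_zero
    intro j _
    rw [Polynomial.coeff_C_mul, Polynomial.coeff_X_pow, if_neg (by omega), mul_zero]
  rw [h1, add_zero, Finset.sum_eq_single k]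
  · rw [Polynomial.coeff_C_mul, Polynomial.coeff_X_pow, if_pos rfl, mul_one]
  · intro k' _ hk'
    rw [Polynomial.coeff_C_mul, Polynomial.coeff_X_pow, if_neg (by omega), mul_zero]
  · intro hk'
    exact absurd (Finset.mem_range.mpr hk) hk'

theorem gpoly_coeff_lo (q : ℤ) (D : ℕ) (c d : ℕ → ℤ) (j : ℕ) (hj : j < D) :
    (gpoly q D c d).coeff (D - (j + 1)) = d j * q ^ (j + 1) := by
  unfold gpoly
  rw [Polynomial.coeff_add, Polynomial.finsetSum_coeff, Polynomial.finsetSum_coeff]
  have h1 : ∑ k ∈ Finset.range D,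
      (Polynomial.C (c k) * Polynomial.X ^ (D + k)).coeff (D - (j + 1)) = 0 := by
    apply Finset.sum_eq_zero
    intro k _
    rw [Polynomial.coeff_C_mul, Polynomial.coeff_X_pow, if_neg (by omega), mul_zero]
  rw [h1, zero_add, Finset.sum_eq_single j]
  · rw [Polynomial.coeff_C_mul, Polynomial.coeff_X_pow, if_pos rfl, mul_one]
  · intro j' hj' hne
    have := Finset.mem_range.mp hj'
    rw [Polynomial.coeff_C_mul, Polynomial.coeff_X_pow, if_neg (by omega), mul_zero]
  · intro hj'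
    exact absurd (Finset.mem_range.mpr hj) hj'

theorem nf_eq_zero_of_gpoly (q : ℤ) (hq : q ≠ 0) (D : ℕ) (c d : ℕ → ℤ)
    (hg : gpoly q D c d = 0) : nf D c d = 0 := by
  unfold nf
  have hc : ∀ k ∈ Finset.range D, (C (c k) * X 0 ^ k : MvPolynomial (Fin 2) ℤ) = 0 := by
    intro k hk
    have := gpoly_coeff_hi q D c d k (Finset.mem_range.mp hk)
    rw [hg, Polynomial.coeff_zero] at this
    rw [← this, map_zero, zero_mul]
  have hd : ∀ j ∈ Finset.range D, (C (d j) * X 1 ^ (j + 1) : MvPolynomial (Fin 2) ℤ) = 0 := by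
    intro j hj
    have := gpoly_coeff_lo q D c d j (Finset.mem_range.mp hj)
    rw [hg, Polynomial.coeff_zero] at this
    have h0 : d j = 0 := by
      rcases mul_eq_zero.mp this.symm with h | h
      · exact h
      · exact absurd h (pow_ne_zero _ hq)
    rw [h0, map_zero, zero_mul]
  rw [Finset.sum_eq_zero hc, Finset.sum_eq_zero hd, add_zero]

/-- a normal form killed by enough roots vanishes -/
theorem nf_eq_zero_of_dvd (q : ℤ) (hq : q ≠ 0) (P : Polynomial ℤ) (hmon : P.Monic) (D : ℕ)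
    (hD : 0 < D) (hdeg : P.natDegree = 2 * D) (c d : ℕ → ℤ)
    (hdvd : P.map (Int.castRingHom ℚ) ∣ (gpoly q D c d).map (Int.castRingHom ℚ)) :
    nf D c d = 0 := by
  apply nf_eq_zero_of_gpoly q hq
  have h0 : (gpoly q D c d).map (Int.castRingHom ℚ) = 0 := by
    apply Polynomial.eq_zero_of_dvd_of_degree_lt hdvd
    refine lt_of_le_of_lt (Polynomial.degree_map_le) ?_
    refine lt_of_lt_of_le (gpoly_degree_lt q D hD c d) ?_
    rw [Polynomial.degree_eq_natDegree (hmon.map _).ne_zero, hmon.natDegree_map, hdeg]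
  exact Polynomial.map_injective _ Int.cast_injective (by rw [h0, Polynomial.map_zero])

end Groth.Agent.H89.WeilCI
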