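import Groth.Agent.H89.WeilCI

set_option autoImplicit false

namespace Groth.Agent.H89.WeilCI

open MvPolynomial

/-- `P(F)` is not a multiple of `FV - q` for nonzero `P`. -/
theorem aeval_X0_notMem (q : ℤ) (P : Polynomial ℤ) (hP : P ≠ 0) :
    Polynomial.aeval (X 0 : MvPolynomial (Fin 2) ℤ) P ∉
      Ideal.span ({X 0 * X 1 - C q} : Set (MvPolynomial (Fin 2) ℤ)) := by
  intro hmem
  -- a nonzero integer which is not a root of `P`
  obtain ⟨c, hc⟩ := Infinite.exists_notMem_finset (P * Polynomial.X).roots.toFinset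
  have hPX : P * Polynomial.X ≠ 0 := mul_ne_zero hP Polynomial.X_ne_zero
  have hc' : ¬ (P * Polynomial.X).IsRoot c := by
    intro h
    exact hc (Multiset.mem_toFinset.mpr ((Polynomial.mem_roots hPX).mpr h))
  rw [Polynomial.IsRoot.def, Polynomial.eval_mul, Polynomial.eval_X] at hc'
  have hc0 : c ≠ 0 := fun h => hc' (by rw [h, mul_zero])
  have hPc : P.eval c ≠ 0 := fun h => hc' (by rw [h, zero_mul])
  have hcQ : (c : ℚ) ≠ 0 := by exact_mod_cast hc0
  have hle : Ideal.span ({X 0 * X 1 - C q} : Set (MvPolynomial (Fin 2) ℤ)) ≤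
      RingHom.ker (MvPolynomial.aeval ![(c : ℚ), (q : ℚ) / c] :
        MvPolynomial (Fin 2) ℤ →ₐ[ℤ] ℚ) := by
    rw [Ideal.span_le]
    intro x hx
    rw [Set.mem_singleton_iff] at hx
    rw [hx, SetLike.mem_coe, RingHom.mem_ker]
    rw [map_sub, map_mul, MvPolynomial.aeval_X, MvPolynomial.aeval_X, MvPolynomial.aeval_C]
    simp only [Matrix.cons_val_zero, Matrix.cons_val_one, Matrix.cons_val_fin_one,
      algebraMap_int_eq, eq_intCast]
    rw [mul_comm, div_mul_cancel₀ _ hcQ, sub_self]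
  have h1 := hle hmem
  rw [RingHom.mem_ker, ← Polynomial.aeval_algHom_apply, MvPolynomial.aeval_X,
    Matrix.cons_val_zero] at h1
  have h2 : Polynomial.aeval (c : ℚ) P = ((P.eval c : ℤ) : ℚ) := by
    have := Polynomial.aeval_algebraMap_apply ℚ c P
    rw [Polynomial.coe_aeval_eq_eval] at this
    simpa using this
  rw [h2] at h1
  exact hPc (by exact_mod_cast h1)

/-- `(FV - q, h)` is a weakly regular sequence when `F ^ D * h ≡ P(F)` modulo `FV - q`. -/
theorem weaklyRegular (q : ℤ) (hq : q ≠ 0) (P : Polynomial ℤ) (hP : P ≠ 0) (D : ℕ)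
    (h : MvPolynomial (Fin 2) ℤ)
    (hh : X 0 ^ D * h - Polynomial.aeval (X 0 : MvPolynomial (Fin 2) ℤ) P ∈
      Ideal.span ({X 0 * X 1 - C q} : Set (MvPolynomial (Fin 2) ℤ))) :
    RingTheory.Sequence.IsWeaklyRegular (MvPolynomial (Fin 2) ℤ) [X 0 * X 1 - C q, h] := by
  have hp := isPrime_span q hq
  have hne : (X 0 * X 1 - C q : MvPolynomial (Fin 2) ℤ) ≠ 0 := (prime_FV_sub_q q hq).ne_zero
  have hnot : h ∉ Ideal.span ({X 0 * X 1 - C q} : Set (MvPolynomial (Fin 2) ℤ)) := by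
    intro hmem
    apply aeval_X0_notMem q P hP
    have h1 := Ideal.sub_mem _ (Ideal.mul_mem_left _ (X 0 ^ D) hmem) hh
    have h2 : X 0 ^ D * h - (X 0 ^ D * h - Polynomial.aeval (X 0 : MvPolynomial (Fin 2) ℤ) P) =
        Polynomial.aeval (X 0 : MvPolynomial (Fin 2) ℤ) P := by ring
    rwa [h2] at h1
  rw [RingTheory.Sequence.isWeaklyRegular_cons_iff, RingTheory.Sequence.isWeaklyRegular_cons_iff]
  refine ⟨?_, ?_, RingTheory.Sequence.IsWeaklyRegular.nil _ _⟩
  · exact (isSMulRegular_iff_right_eq_zero_of_smul).mpr (fun x hx => by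
      rw [smul_eq_mul] at hx
      exact (mul_eq_zero.mp hx).resolve_left hne)
  · rw [isSMulRegular_quotient_iff_mem_of_smul_mem]
    intro x hx
    rw [Submodule.mem_smul_pointwise_iff_exists] at hx ⊢
    obtain ⟨y, _, hy⟩ := hx
    rw [smul_eq_mul, smul_eq_mul] at hy
    have hmem : h * x ∈ Ideal.span ({X 0 * X 1 - C q} : Set (MvPolynomial (Fin 2) ℤ)) := by
      rw [← hy]
      exact Ideal.mul_mem_right _ _ (Ideal.subset_span (Set.mem_singleton _))
    rcases hp.mem_or_mem hmem with h3 | h3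
    · exact absurd h3 hnot
    · obtain ⟨z, hz⟩ := Ideal.mem_span_singleton'.mp h3
      exact ⟨z, Submodule.mem_top, by rw [smul_eq_mul, ← hz, mul_comm]⟩

end Groth.Agent.H89.WeilCI
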