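import Groth.Agent.H89.WeilCI3
import Groth.Agent.H89.WeilCI4
import Groth.Agent.H89.WeilCI5

set_option autoImplicit false
universe u

namespace Groth.Agent.H89.WeilCI

open MvPolynomial

/-- Membership in the kernel of a map to a product, coordinatewise. -/
theorem mem_ker_pi_iff {T : Type} {L : T → Type u} [∀ t, Field (L t)] (a b : ∀ t, L t)
    (x : MvPolynomial (Fin 2) ℤ) :
    x ∈ RingHom.ker (MvPolynomial.aeval ![a, b] : MvPolynomial (Fin 2) ℤ →ₐ[ℤ] ((t : T) → L t)) ↔
      ∀ t, MvPolynomial.aeval ![a t, b t] x = 0 := by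
  rw [RingHom.mem_ker]
  have key : ∀ t, (MvPolynomial.aeval ![a, b] x : (t : T) → L t) t =
      MvPolynomial.aeval ![a t, b t] x := by
    intro t
    have := MvPolynomial.comp_aeval_apply (R := ℤ) (f := ![a, b]) (Pi.evalAlgHom ℤ L t) x
    rw [Pi.evalAlgHom_apply] at this
    have hfun : (fun i => (Pi.evalAlgHom ℤ L t) (![a, b] i)) = ![a t, b t] := by
      funext i
      fin_cases i <;> rfl
    rw [this, hfun]
  constructor
  · intro h t
    rw [← key t, h]
    rfl
  · intro h
    funext t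
    rw [key t, h t]
    rfl

/-- a root of a polynomial all of whose complex roots have absolute value `√q` is nonzero -/
theorem ne_zero_of_weil (P : Polynomial ℤ) (hP0 : P ≠ 0) (q : ℕ) (hq : 0 < q)
    (hweil : ∀ z ∈ P.aroots ℂ, ‖z‖ = Real.sqrt (q : ℝ))
    {K : Type*} [Field K] [CharZero K] (ϖ : K) (hϖ : Polynomial.aeval ϖ P = 0) : ϖ ≠ 0 := by
  rintro rfl
  rw [Polynomial.aeval_def, Polynomial.eval₂_at_zero] at hϖ
  have hc0 : P.coeff 0 = 0 := by
    have := (algebraMap ℤ K).injective_int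
    exact this (by rw [hϖ, map_zero])
  have h0 : (0 : ℂ) ∈ P.aroots ℂ := by
    rw [Polynomial.mem_aroots]
    refine ⟨hP0, ?_⟩
    rw [Polynomial.aeval_def, Polynomial.eval₂_at_zero, hc0, map_zero]
  have h1 := hweil 0 h0
  rw [norm_zero] at h1
  have hqr : (0 : ℝ) < (q : ℝ) := by exact_mod_cast hq
  have := Real.sqrt_pos.mpr hqr
  linarith

end Groth.Agent.H89.WeilCI
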