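import Groth.Agent.H89.WeilCI6

set_option autoImplicit false
universe u

namespace Groth.Agent.H89.WeilCI

open MvPolynomial

/-- the kernel of `ℤ[F, V] → ∏ K_i` for a family of pairwise nonconjugate Weil numbers of even
total degree is generated by `FV - q` and the explicit symmetric polynomial `h0` -/
theorem weil_ker (p e : ℕ) [Fact p.Prime]
    (ι : Type) [Fintype ι] (K : ι → Type u) [∀ i, Field (K i)] [∀ i, CharZero (K i)]
    (ϖ : ∀ i, K i)
    (hint : ∀ i, IsIntegral ℤ (ϖ i))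
    (hweil : ∀ i, ∀ z ∈ (minpoly ℤ (ϖ i)).aroots ℂ, ‖z‖ = Real.sqrt ((p : ℝ) ^ e))
    (hinj : ∀ i j, minpoly ℤ (ϖ i) = minpoly ℤ (ϖ j) → i = j)
    (D : ℕ) (hD : ∑ i, (minpoly ℤ (ϖ i)).natDegree = 2 * D) :
    ∃ ε : ℤ, ε * ε = 1 ∧
      (∀ r, r ≤ D → (∏ i, minpoly ℤ (ϖ i)).coeff (D - r) =
        ε * ((p : ℤ) ^ e) ^ r * (∏ i, minpoly ℤ (ϖ i)).coeff (D + r)) ∧
      RingHom.ker (MvPolynomial.aeval ![fun i => ϖ i, fun i => ((p : K i) ^ e) / ϖ i] :
        MvPolynomial (Fin 2) ℤ →ₐ[ℤ] ((i : ι) → K i)) =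
        Ideal.span {X 0 * X 1 - C ((p : ℤ) ^ e), h0 (∏ i, minpoly ℤ (ϖ i)) D ε} := by
  classical
  have hq : 0 < p ^ e := pow_pos (Fact.out : p.Prime).pos e
  have hqcast : (((p ^ e : ℕ) : ℤ)) = (p : ℤ) ^ e := by push_cast; rfl
  have hqz : ((p : ℤ) ^ e) ≠ 0 := by rw [← hqcast]; exact_mod_cast hq.ne'
  have hweil' : ∀ i, ∀ z ∈ (minpoly ℤ (ϖ i)).aroots ℂ, ‖z‖ = Real.sqrt ((p ^ e : ℕ) : ℝ) := by
    intro i z hz
    rw [hweil i z hz]
    push_cast
    rfl
  set Pw : Polynomial ℤ := ∏ i, minpoly ℤ (ϖ i) with hPw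
  have hmon : Pw.Monic := Polynomial.monic_prod_of_monic _ _ (fun i _ => minpoly.monic (hint i))
  have hdeg : Pw.natDegree = 2 * D := by
    rw [hPw, Polynomial.natDegree_prod_of_monic _ _ (fun i _ => minpoly.monic (hint i)), hD]
  obtain ⟨ε, hε, hsym⟩ := sym_of_weil_prod Finset.univ (fun i => minpoly ℤ (ϖ i))
    (fun i _ => minpoly.irreducible (hint i)) (fun i _ => minpoly.monic (hint i))
    (fun i _ => minpoly.natDegree_pos (hint i)) (p ^ e) hq (fun i _ => hweil' i) D hdeg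
  rw [hqcast] at hsym
  refine ⟨ε, hε, hsym, ?_⟩
  -- nonvanishing
  have hne : ∀ i, ϖ i ≠ 0 := fun i =>
    ne_zero_of_weil (minpoly ℤ (ϖ i)) (minpoly.ne_zero (hint i)) (p ^ e) hq (hweil' i) (ϖ i)
      (minpoly.aeval ℤ (ϖ i))
  have hfv : ∀ i, ϖ i * (((p : K i) ^ e) / ϖ i) = (((p : ℤ) ^ e : ℤ) : K i) := by
    intro i
    rw [mul_comm, div_mul_cancel₀ _ (hne i)]
    push_cast
    rfl
  set I := RingHom.ker (MvPolynomial.aeval ![fun i => ϖ i, fun i => ((p : K i) ^ e) / ϖ i] :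
        MvPolynomial (Fin 2) ℤ →ₐ[ℤ] ((i : ι) → K i)) with hI
  have h1 : X 0 * X 1 - C ((p : ℤ) ^ e) ∈ I := by
    rw [hI, mem_ker_pi_iff]
    intro i
    rw [map_sub, map_mul, MvPolynomial.aeval_X, MvPolynomial.aeval_X, MvPolynomial.aeval_C]
    simp only [Matrix.cons_val_zero, Matrix.cons_val_one, Matrix.cons_val_fin_one,
      algebraMap_int_eq, eq_intCast]
    rw [hfv i, sub_self]
  have hspanle : Ideal.span ({X 0 * X 1 - C ((p : ℤ) ^ e)} : Set (MvPolynomial (Fin 2) ℤ)) ≤ I := by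
    rw [Ideal.span_le]
    intro x hx
    rw [Set.mem_singleton_iff] at hx
    rw [hx]
    exact h1
  have hPw0 : Polynomial.aeval (X 0 : MvPolynomial (Fin 2) ℤ) Pw ∈ I := by
    rw [hI, mem_ker_pi_iff]
    intro i
    rw [← Polynomial.aeval_algHom_apply, MvPolynomial.aeval_X, Matrix.cons_val_zero, hPw, map_prod]
    exact Finset.prod_eq_zero (Finset.mem_univ i) (minpoly.aeval ℤ _)
  have h2 : h0 Pw D ε ∈ I := by
    have h3 := I.add_mem (hspanle (h0_spec ((p : ℤ) ^ e) Pw D ε hdeg hsym)) hPw0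
    rw [sub_add_cancel, hI, mem_ker_pi_iff] at h3
    rw [hI, mem_ker_pi_iff]
    intro i
    have h4 := h3 i
    rw [map_mul, map_pow, MvPolynomial.aeval_X, Matrix.cons_val_zero] at h4
    exact (mul_eq_zero.mp h4).resolve_left (pow_ne_zero _ (hne i))
  rcases Nat.eq_zero_or_pos D with hD0 | hDpos
  · -- degenerate case
    have hP1 : Pw = 1 :=
      Polynomial.eq_one_of_monic_natDegree_zero hmon (by rw [hdeg, hD0])
    have hh0 : h0 Pw D ε = 1 := by
      rw [hD0, hP1]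
      simp [h0]
    rw [hh0] at h2 ⊢
    rw [(Ideal.eq_top_iff_one I).mpr h2]
    symm
    rw [Ideal.eq_top_iff_one]
    exact Ideal.subset_span (by simp)
  · obtain ⟨D', rfl⟩ := Nat.exists_eq_succ_of_ne_zero hDpos.ne'
    apply ideal_eq_span ((p : ℤ) ^ e) Pw D' ε hε hmon hdeg I h1 h2
    intro c d hcd
    apply nf_eq_zero_of_dvd ((p : ℤ) ^ e) hqz Pw hmon (D' + 1) hDpos hdeg c d
    rw [hPw, Polynomial.map_prod]
    apply Finset.prod_dvd_of_coprime
    · intro i _ j _ hij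
      have hi : Irreducible ((minpoly ℤ (ϖ i)).map (Int.castRingHom ℚ)) := by
        have := (minpoly.monic (hint i)).irreducible_iff_irreducible_map_fraction_map
          (K := ℚ) |>.mp (minpoly.irreducible (hint i))
        rwa [algebraMap_int_eq] at this
      have hj : Irreducible ((minpoly ℤ (ϖ j)).map (Int.castRingHom ℚ)) := by
        have := (minpoly.monic (hint j)).irreducible_iff_irreducible_map_fraction_map
          (K := ℚ) |>.mp (minpoly.irreducible (hint j))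
        rwa [algebraMap_int_eq] at this
      show IsCoprime ((minpoly ℤ (ϖ i)).map (Int.castRingHom ℚ))
        ((minpoly ℤ (ϖ j)).map (Int.castRingHom ℚ))
      rw [hi.coprime_iff_not_dvd]
      intro hdvd
      have hassoc := hi.associated_of_dvd hj hdvd
      have heq := Polynomial.eq_of_monic_of_associated ((minpoly.monic (hint i)).map _)
        ((minpoly.monic (hint j)).map _) hassoc
      have h3 := Polynomial.map_injective _ Int.cast_injective heq
      exact hij (hinj _ _ h3)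
    · intro i _
      apply Polynomial.map_dvd
      apply minpoly.isIntegrallyClosed_dvd (hint i)
      rw [aeval_gpoly (ϖ i) (((p : K i) ^ e) / ϖ i) ((p : ℤ) ^ e) (hfv i)]
      rw [hI, mem_ker_pi_iff] at hcd
      rw [hcd i, mul_zero]

end Groth.Agent.H89.WeilCI
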