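import Groth.Agent.H89.WeilCI7

set_option autoImplicit false
universe u

namespace Groth.Agent.H89.WeilCI

open MvPolynomial

theorem coeffs_eq_zero_of_gpoly (q : ℤ) (hq : q ≠ 0) (D : ℕ) (c d : ℕ → ℤ)
    (hg : gpoly q D c d = 0) : (∀ k, k < D → c k = 0) ∧ (∀ j, j < D → d j = 0) := by
  constructor
  · intro k hk
    have := gpoly_coeff_hi q D c d k hk
    rw [hg, Polynomial.coeff_zero] at this
    exact this.symm
  · intro j hj
    have := gpoly_coeff_lo q D c d j hj
    rw [hg, Polynomial.coeff_zero] at this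
    rcases mul_eq_zero.mp this.symm with h | h
    · exact h
    · exact absurd h (pow_ne_zero _ hq)

theorem gpoly_eq_zero_of_dvd (q : ℤ) (P : Polynomial ℤ) (hmon : P.Monic) (D : ℕ)
    (hD : 0 < D) (hdeg : P.natDegree = 2 * D) (c d : ℕ → ℤ)
    (hdvd : P.map (Int.castRingHom ℚ) ∣ (gpoly q D c d).map (Int.castRingHom ℚ)) :
    gpoly q D c d = 0 := by
  have h0 : (gpoly q D c d).map (Int.castRingHom ℚ) = 0 := by
    apply Polynomial.eq_zero_of_dvd_of_degree_lt hdvd
    refine lt_of_le_of_lt (Polynomial.degree_map_le) ?_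
    refine lt_of_lt_of_le (gpoly_degree_lt q D hD c d) ?_
    rw [Polynomial.degree_eq_natDegree (hmon.map _).ne_zero, hmon.natDegree_map, hdeg]
  exact Polynomial.map_injective _ Int.cast_injective (by rw [h0, Polynomial.map_zero])

/-- linear independence of the normal forms for a family of Weil numbers -/
theorem weil_indep (p e : ℕ) [Fact p.Prime]
    (ι : Type) [Fintype ι] (K : ι → Type u) [∀ i, Field (K i)] [∀ i, CharZero (K i)]
    (ϖ : ∀ i, K i)
    (hint : ∀ i, IsIntegral ℤ (ϖ i))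
    (hweil : ∀ i, ∀ z ∈ (minpoly ℤ (ϖ i)).aroots ℂ, ‖z‖ = Real.sqrt ((p : ℝ) ^ e))
    (hinj : ∀ i j, minpoly ℤ (ϖ i) = minpoly ℤ (ϖ j) → i = j)
    (D : ℕ) (hDpos : 0 < D) (hD : ∑ i, (minpoly ℤ (ϖ i)).natDegree = 2 * D) (c d : ℕ → ℤ)
    (hcd : nf D c d ∈ RingHom.ker (MvPolynomial.aeval ![fun i => ϖ i,
        fun i => ((p : K i) ^ e) / ϖ i] : MvPolynomial (Fin 2) ℤ →ₐ[ℤ] ((i : ι) → K i))) :
    (∀ k, k < D → c k = 0) ∧ (∀ j, j < D → d j = 0) := by
  classical
  have hq : 0 < p ^ e := pow_pos (Fact.out : p.Prime).pos e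
  have hqcast : (((p ^ e : ℕ) : ℤ)) = (p : ℤ) ^ e := by push_cast; rfl
  have hqz : ((p : ℤ) ^ e) ≠ 0 := by rw [← hqcast]; exact_mod_cast hq.ne'
  have hweil' : ∀ i, ∀ z ∈ (minpoly ℤ (ϖ i)).aroots ℂ, ‖z‖ = Real.sqrt ((p ^ e : ℕ) : ℝ) := by
    intro i z hz
    rw [hweil i z hz]
    push_cast
    rfl
  set Pw : Polynomial ℤ := ∏ i, minpoly ℤ (ϖ i) with hPw
  have hmon : Pw.Monic := Polynomial.monic_prod_of_monic _ _ (fun i _ => minpoly.monic (hint i))
  have hdeg : Pw.natDegree = 2 * D := by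
    rw [hPw, Polynomial.natDegree_prod_of_monic _ _ (fun i _ => minpoly.monic (hint i)), hD]
  have hne : ∀ i, ϖ i ≠ 0 := fun i =>
    ne_zero_of_weil (minpoly ℤ (ϖ i)) (minpoly.ne_zero (hint i)) (p ^ e) hq (hweil' i) (ϖ i)
      (minpoly.aeval ℤ (ϖ i))
  have hfv : ∀ i, ϖ i * (((p : K i) ^ e) / ϖ i) = (((p : ℤ) ^ e : ℤ) : K i) := by
    intro i
    rw [mul_comm, div_mul_cancel₀ _ (hne i)]
    push_cast
    rfl
  apply coeffs_eq_zero_of_gpoly ((p : ℤ) ^ e) hqz
  apply gpoly_eq_zero_of_dvd ((p : ℤ) ^ e) Pw hmon D hDpos hdeg c d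
  rw [hPw, Polynomial.map_prod]
  apply Finset.prod_dvd_of_coprime
  · intro i _ j _ hij
    have hi : Irreducible ((minpoly ℤ (ϖ i)).map (Int.castRingHom ℚ)) := by
      have := (minpoly.monic (hint i)).irreducible_iff_irreducible_map_fraction_map
        (K := ℚ) |>.mp (minpoly.irreducible (hint i))
      rwa [algebraMap_int_eq] at this
    have hj : Irreducible ((minpoly ℤ (ϖ j)).map (Int.castRingHom ℚ)) := by
      have := (minpoly.monic (hint j)).irreducible_iff_irreducible_map_fraction_map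
        (K := ℚ) |>.mp (minpoly.irreducible (hint j))
      rwa [algebraMap_int_eq] at this
    show IsCoprime ((minpoly ℤ (ϖ i)).map (Int.castRingHom ℚ))
      ((minpoly ℤ (ϖ j)).map (Int.castRingHom ℚ))
    rw [hi.coprime_iff_not_dvd]
    intro hdvd
    have hassoc := hi.associated_of_dvd hj hdvd
    have heq := Polynomial.eq_of_monic_of_associated ((minpoly.monic (hint i)).map _)
      ((minpoly.monic (hint j)).map _) hassoc
    have h3 := Polynomial.map_injective _ Int.cast_injective heq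
    exact hij (hinj _ _ h3)
  · intro i _
    apply Polynomial.map_dvd
    apply minpoly.isIntegrallyClosed_dvd (hint i)
    rw [aeval_gpoly (ϖ i) (((p : K i) ^ e) / ϖ i) ((p : ℤ) ^ e) (hfv i)]
    rw [mem_ker_pi_iff] at hcd
    rw [hcd i, mul_zero]

/-- freeness and rank from the normal forms -/
theorem free_finrank {B : Type u} [CommRing B] (q : ℤ) (P : Polynomial ℤ) (D' : ℕ) (ε : ℤ)
    (hε : ε * ε = 1) (hmon : P.Monic) (hdeg : P.natDegree = 2 * (D' + 1))
    (g : MvPolynomial (Fin 2) ℤ →+* B) (hg : Function.Surjective g)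
    (hker : RingHom.ker g = Ideal.span {X 0 * X 1 - C q, h0 P (D' + 1) ε})
    (hind : ∀ c d : ℕ → ℤ, nf (D' + 1) c d ∈ RingHom.ker g →
      (∀ k, k < D' + 1 → c k = 0) ∧ (∀ j, j < D' + 1 → d j = 0)) :
    Module.Free ℤ B ∧ Module.finrank ℤ B = 2 * (D' + 1) := by
  classical
  let v : Fin (D' + 1) ⊕ Fin (D' + 1) → B := fun x =>
    match x with
    | Sum.inl i => g (X 0) ^ (i : ℕ)
    | Sum.inr j => g (X 1) ^ ((j : ℕ) + 1)
  have hgC : ∀ a : ℤ, g (C a) = (a : B) := by
    intro a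
    have := eq_intCast (g.comp (C : ℤ →+* MvPolynomial (Fin 2) ℤ)) a
    rwa [RingHom.comp_apply] at this
  have hgnf : ∀ c d : ℕ → ℤ, g (nf (D' + 1) c d) =
      ∑ i : Fin (D' + 1), c i • g (X 0) ^ (i : ℕ) +
        ∑ j : Fin (D' + 1), d j • g (X 1) ^ ((j : ℕ) + 1) := by
    intro c d
    unfold nf
    rw [map_add, map_sum, map_sum, Fin.sum_univ_eq_sum_range
      (fun i => c i • g (X 0) ^ i) (D' + 1), Fin.sum_univ_eq_sum_range
      (fun j => d j • g (X 1) ^ (j + 1)) (D' + 1)]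
    congr 1
    · apply Finset.sum_congr rfl
      intro i _
      rw [map_mul, map_pow, hgC, zsmul_eq_mul]
    · apply Finset.sum_congr rfl
      intro j _
      rw [map_mul, map_pow, hgC, zsmul_eq_mul]
  have hli : LinearIndependent ℤ v := by
    rw [Fintype.linearIndependent_iff]
    intro w hw
    let c : ℕ → ℤ := fun k => if hk : k < D' + 1 then w (Sum.inl ⟨k, hk⟩) else 0
    let d : ℕ → ℤ := fun k => if hk : k < D' + 1 then w (Sum.inr ⟨k, hk⟩) else 0
    have hc_eq : ∀ i : Fin (D' + 1), c i = w (Sum.inl i) := by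
      intro i
      show (if hk : (i : ℕ) < D' + 1 then w (Sum.inl ⟨i, hk⟩) else 0) = _
      rw [dif_pos i.2]
    have hd_eq : ∀ j : Fin (D' + 1), d j = w (Sum.inr j) := by
      intro j
      show (if hk : (j : ℕ) < D' + 1 then w (Sum.inr ⟨j, hk⟩) else 0) = _
      rw [dif_pos j.2]
    have hmem : nf (D' + 1) c d ∈ RingHom.ker g := by
      rw [RingHom.mem_ker, hgnf, ← hw, Fintype.sum_sum_type]
      congr 1
      · apply Finset.sum_congr rfl
        intro i _
        rw [hc_eq]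
      · apply Finset.sum_congr rfl
        intro j _
        rw [hd_eq]
    obtain ⟨hc, hd⟩ := hind c d hmem
    intro x
    rcases x with i | j
    · rw [← hc_eq]
      exact hc i i.2
    · rw [← hd_eq]
      exact hd j j.2
  have hsp : ⊤ ≤ Submodule.span ℤ (Set.range v) := by
    intro b _
    obtain ⟨x, rfl⟩ := hg b
    obtain ⟨c, d, hcd⟩ := exists_rep q P D' ε hε hmon hdeg x
    rw [← hker, RingHom.mem_ker, map_sub, sub_eq_zero] at hcd
    rw [hcd, hgnf]
    refine Submodule.add_mem _ (Submodule.sum_mem _ fun i _ => ?_)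
      (Submodule.sum_mem _ fun j _ => ?_)
    · exact Submodule.smul_mem _ _ (Submodule.subset_span ⟨Sum.inl i, rfl⟩)
    · exact Submodule.smul_mem _ _ (Submodule.subset_span ⟨Sum.inr j, rfl⟩)
  let bas := Module.Basis.mk hli hsp
  refine ⟨Module.Free.of_basis bas, ?_⟩
  rw [Module.finrank_eq_card_basis bas]
  simp
  ring

end Groth.Agent.H89.WeilCI
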