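import Mathlib
import Groth.Agent.H89.GorReg
import Groth.Agent.H89.WeilCI5

set_option autoImplicit false
universe u

namespace Groth.Agent.H89.WeilCI

open MvPolynomial CategoryTheory

theorem ringKrullDim_int : ringKrullDim ℤ = 1 :=
  IsPrincipalIdealRing.ringKrullDim_eq_one ℤ Int.not_isField

/-- a quotient `ℤ[F, V] / (FV - q, h)` with `h ∉ (FV - q)` has injective dimension at most one -/
theorem hasInjectiveDimensionLT_of_ker_eq {B : Type u} [CommRing B] (q : ℤ) (hq : q ≠ 0)
    (h : MvPolynomial (Fin 2) ℤ)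
    (hnot : h ∉ Ideal.span ({X 0 * X 1 - C q} : Set (MvPolynomial (Fin 2) ℤ)))
    (g : MvPolynomial (Fin 2) ℤ →+* B) (hg : Function.Surjective g)
    (hker : RingHom.ker g = Ideal.span {X 0 * X 1 - C q, h}) :
    HasInjectiveDimensionLT (ModuleCat.of B B) 2 := by
  have hp := isPrime_span q hq
  have hne : (X 0 * X 1 - C q : MvPolynomial (Fin 2) ℤ) ≠ 0 := (prime_FV_sub_q q hq).ne_zero
  let σ : ULift.{u} (MvPolynomial (Fin 2) ℤ) ≃+* MvPolynomial (Fin 2) ℤ := ULift.ringEquiv
  have hreg : IsRegularRing (ULift.{u} (MvPolynomial (Fin 2) ℤ)) :=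
    IsRegularRing.of_ringEquiv σ.symm
  have hgor : LocCoh.IsGorensteinRing (ULift.{u} (MvPolynomial (Fin 2) ℤ)) :=
    GorReg.isGorensteinRing_of_isRegularRing _
  have hdim : ringKrullDim (ULift.{u} (MvPolynomial (Fin 2) ℤ)) ≤ (3 : ℕ) := by
    rw [ringKrullDim_eq_of_ringEquiv σ, MvPolynomial.ringKrullDim_of_isNoetherianRing,
      ringKrullDim_int]
    simp only [Nat.card_eq_fintype_card, Fintype.card_fin]
    norm_num
  have hS := Groth.Agent.H2.GorensteinGlobal.hasInjectiveDimensionLT_of_isGorensteinRing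
    (ULift.{u} (MvPolynomial (Fin 2) ℤ)) 3 hdim
  refine GorReg.hasInjectiveDimensionLT_of_regular_pair 2 hS
    (σ.symm (X 0 * X 1 - C q)) (σ.symm h) ?_ ?_ (g.comp σ.toRingHom) ?_ ?_
  · rw [isSMulRegular_iff_right_eq_zero_of_smul]
    intro y hy
    have h1 := congrArg σ hy
    rw [smul_eq_mul, map_mul, RingEquiv.apply_symm_apply, map_zero] at h1
    have h2 := (mul_eq_zero.mp h1).resolve_left hne
    exact (map_eq_zero_iff σ σ.injective).mp h2
  · intro y hy
    obtain ⟨c, hc⟩ := Ideal.mem_span_singleton'.mp hy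
    have h1 := congrArg σ hc
    rw [map_mul, map_mul, RingEquiv.apply_symm_apply, RingEquiv.apply_symm_apply] at h1
    have h2 : h * σ y ∈ Ideal.span ({X 0 * X 1 - C q} : Set (MvPolynomial (Fin 2) ℤ)) := by
      rw [← h1]
      exact Ideal.mul_mem_left _ _ (Ideal.subset_span (Set.mem_singleton _))
    have h3 := (hp.mem_or_mem h2).resolve_left hnot
    obtain ⟨c', hc'⟩ := Ideal.mem_span_singleton'.mp h3
    rw [Ideal.mem_span_singleton']
    refine ⟨σ.symm c', ?_⟩
    apply σ.injective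
    rw [map_mul, RingEquiv.apply_symm_apply, RingEquiv.apply_symm_apply, hc']
  · exact hg.comp σ.surjective
  · ext x
    rw [RingHom.mem_ker, RingHom.comp_apply, Ideal.mem_span_pair]
    have h1 : g (σ.toRingHom x) = 0 ↔ σ x ∈ Ideal.span {X 0 * X 1 - C q, h} := by
      rw [← hker, RingHom.mem_ker]
      rfl
    rw [h1, Ideal.mem_span_pair]
    constructor
    · rintro ⟨r, s, hrs⟩
      refine ⟨σ.symm r, σ.symm s, ?_⟩
      apply σ.injective
      rw [map_add, map_mul, map_mul, RingEquiv.apply_symm_apply, RingEquiv.apply_symm_apply,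
        RingEquiv.apply_symm_apply, RingEquiv.apply_symm_apply, hrs]
    · rintro ⟨r, s, hrs⟩
      refine ⟨σ r, σ s, ?_⟩
      rw [← hrs, map_add, map_mul, map_mul, RingEquiv.apply_symm_apply,
        RingEquiv.apply_symm_apply]

end Groth.Agent.H89.WeilCI
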