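import Mathlib
import Groth.Agent.H89.WeilSym

set_option autoImplicit false

namespace Groth.Agent.H89

open Polynomial

/-- For a monic irreducible integer polynomial all of whose complex roots have absolute value
`√q`, and a root `π` in a field of characteristic zero, `q / π` is again a root. -/
theorem aeval_div_eq_zero_of_weil (P : ℤ[X]) (hP : Irreducible P) (hmon : P.Monic)
    (hpos : 0 < P.natDegree) (q : ℕ) (hq : 0 < q)
    (hweil : ∀ z ∈ P.aroots ℂ, ‖z‖ = Real.sqrt (q : ℝ))
    {K : Type*} [Field K] [CharZero K] (π : K) (hπ : aeval π P = 0) :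
    aeval ((q : K) / π) P = 0 := by
  have hP0 : P ≠ 0 := hmon.ne_zero
  have hqz : (q : ℤ) ≠ 0 := by exact_mod_cast hq.ne'
  have hdegC : 0 < (P.map (algebraMap ℤ ℂ)).degree := by
    rw [(hmon.map _).degree_pos]
    intro h
    have := hmon.natDegree_map (algebraMap ℤ ℂ)
    rw [h, natDegree_one] at this
    omega
  obtain ⟨z, hzroot⟩ := Complex.exists_root hdegC
  have hz : aeval z P = 0 := by
    rw [aeval_def, eval₂_eq_eval_map]
    exact hzroot
  have hzmem : z ∈ P.aroots ℂ := mem_aroots.mpr ⟨hP0, hz⟩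
  have hnorm := hweil z hzmem
  have hqr : (0 : ℝ) < (q : ℝ) := by exact_mod_cast hq
  have hz0 : z ≠ 0 := by
    intro h
    rw [h, norm_zero] at hnorm
    have := Real.sqrt_pos.mpr hqr
    linarith
  have hconj : (starRingEnd ℂ) z = (q : ℂ) / z := by
    rw [eq_div_iff hz0, mul_comm, Complex.mul_conj, Complex.normSq_eq_norm_sq, hnorm,
      Real.sq_sqrt hqr.le]
    simp
  have hz' : aeval (((q : ℤ) : ℂ) / z) P = 0 := by
    have h1 : aeval ((starRingEnd ℂ) z) P = (starRingEnd ℂ) (aeval z P) := by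
      have := aeval_algHom_apply ((starRingEnd ℂ).toIntAlgHom) z P
      simpa using this
    rw [hz, map_zero, hconj] at h1
    simpa using h1
  have hfe := recip_eq_of_root P hP hmon (q : ℤ) hqz z hz hz0 hz'
  have hc0 : P.coeff 0 ≠ 0 := by
    intro h0
    have h0' := congrArg (fun f => f.coeff 0) hfe
    simp only [coeff_C_mul] at h0'
    rw [recip_coeff P _ hqz 0 (Nat.zero_le _), Nat.sub_zero, hmon.coeff_natDegree, one_mul, h0,
      zero_mul] at h0'
    exact pow_ne_zero _ hqz h0'
  have hcK : (algebraMap ℤ K) (P.coeff 0) ≠ 0 := by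
    intro h
    apply hc0
    have := (algebraMap ℤ K).injective_int
    exact this (by rw [h, map_zero])
  have hπ0 : π ≠ 0 := by
    intro h
    rw [h, aeval_def, eval₂_at_zero] at hπ
    exact hcK hπ
  have hqK : (q : K) ≠ 0 := by exact_mod_cast hq.ne'
  have hπ' : (q : K) / π ≠ 0 := div_ne_zero hqK hπ0
  have h1 := recip_eval₂ (algebraMap ℤ K) P (q : ℤ) hqz ((q : K) / π) hπ'
  have h2 : (algebraMap ℤ K) (q : ℤ) / ((q : K) / π) = π := by
    have : (algebraMap ℤ K) (q : ℤ) = (q : K) := by simp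
    rw [this]
    field_simp
  have hπe : eval₂ (algebraMap ℤ K) π P = 0 := by
    rw [← aeval_def]
    exact hπ
  rw [h2, hπe, mul_zero, hfe, eval₂_mul, eval₂_C] at h1
  rcases mul_eq_zero.mp h1 with h | h
  · exact absurd h hcK
  · rw [aeval_def]
    exact h

end Groth.Agent.H89
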