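import Groth.Agent.H89.WeilCI7

set_option autoImplicit false
universe u

namespace Groth.Agent.H89.WeilCI

open MvPolynomial

/-- two commuting elements of a ring define a ring homomorphism from `ℤ[F, V]` -/
theorem exists_ringHom_of_commute {E : Type*} [Ring E] (f v : E) (hfv : f * v = v * f) :
    ∃ Ψ : MvPolynomial (Fin 2) ℤ →+* E, Ψ (X 0) = f ∧ Ψ (X 1) = v := by
  classical
  let s : Set E := {f, v}
  have hcomm : ∀ a ∈ s, ∀ b ∈ s, a * b = b * a := by
    intro a ha b hb
    rcases ha with rfl | rfl <;> rcases hb with rfl | rfl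
    · rfl
    · exact hfv
    · exact hfv.symm
    · rfl
  have hmc : IsMulCommutative (Subring.closure s) := Subring.isMulCommutative_closure hcomm
  let _ : CommRing (Subring.closure s) :=
    { (inferInstance : Ring (Subring.closure s)) with mul_comm := hmc.is_comm.comm }
  let f' : Subring.closure s := ⟨f, Subring.subset_closure (by simp [s])⟩
  let v' : Subring.closure s := ⟨v, Subring.subset_closure (by simp [s])⟩
  let Ψ0 : MvPolynomial (Fin 2) ℤ →+* Subring.closure s :=
    MvPolynomial.eval₂Hom (Int.castRingHom _) ![f', v']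
  refine ⟨(Subring.closure s).subtype.comp Ψ0, ?_, ?_⟩
  · simp [Ψ0, f']
  · simp [Ψ0, v']

/-- an endomorphism of a finite free `ℤ`-module with a right quasi-inverse is injective -/
theorem injective_of_comp_eq_smul {T : Type*} [AddCommGroup T] [Module.Finite ℤ T]
    [Module.Free ℤ T] (FT VT : T →ₗ[ℤ] T) (q : ℤ) (hq : q ≠ 0)
    (h : FT ∘ₗ VT = q • LinearMap.id) : Function.Injective FT := by
  classical
  have hdet : LinearMap.det FT * LinearMap.det VT = q ^ Module.finrank ℤ T := by
    rw [← LinearMap.det_comp, h, LinearMap.det_smul, LinearMap.det_id, mul_one]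
  have hdetF : LinearMap.det FT ≠ 0 := by
    intro h0
    rw [h0, zero_mul] at hdet
    exact pow_ne_zero _ hq hdet.symm
  let b := Module.Free.chooseBasis ℤ T
  rw [injective_iff_map_eq_zero]
  intro t ht
  have h1 := LinearMap.toMatrix_mulVec_repr b b FT t
  rw [ht, map_zero] at h1
  have h2 : (LinearMap.toMatrix b b FT).det ≠ 0 := by
    rw [LinearMap.det_toMatrix]
    exact hdetF
  have h3 := Matrix.eq_zero_of_mulVec_eq_zero h2 h1
  exact b.repr.map_eq_zero_iff.mp (DFunLike.coe_injective h3)

end Groth.Agent.H89.WeilCI
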