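import Mathlib
import Groth.Agent.H89.UltraEsymm

set_option autoImplicit false

namespace Groth.Agent.H89.WeilOrd

open Polynomial

theorem norm_intCast_le_one (p : ℕ) [Fact p.Prime] (n : ℤ) : ‖((n : ℤ) : PadicAlgCl p)‖ ≤ 1 := by
  rw [← map_intCast (algebraMap ℚ_[p] (PadicAlgCl p)) n]
  have := PadicAlgCl.norm_extends p (n : ℚ_[p])
  rw [this]
  exact Padic.norm_int_le_one n

theorem norm_intCast_lt_one_iff (p : ℕ) [Fact p.Prime] (n : ℤ) :
    ‖((n : ℤ) : PadicAlgCl p)‖ < 1 ↔ (p : ℤ) ∣ n := by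
  rw [← map_intCast (algebraMap ℚ_[p] (PadicAlgCl p)) n]
  have := PadicAlgCl.norm_extends p (n : ℚ_[p])
  rw [this]
  exact Padic.norm_intCast_lt_one_iff

/-- half of the roots are `p`-adic units iff the middle coefficient is prime to `p`, for a monic
polynomial of degree `2d` whose coefficients below the middle are divisible by `p` -/
theorem ordinary_iff (p : ℕ) [Fact p.Prime] (P : ℤ[X]) (hmon : P.Monic) (d : ℕ)
    (hdeg : P.natDegree = 2 * d) (hlow : ∀ k, k < d → (p : ℤ) ∣ P.coeff k)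
    [DecidablePred fun z : PadicAlgCl p => ‖z‖ = 1] :
    2 * Multiset.card ((P.aroots (PadicAlgCl p)).filter (fun z => ‖z‖ = 1)) = P.natDegree ↔
      ¬ (p : ℤ) ∣ P.coeff d := by
  set Pc := P.map (algebraMap ℤ (PadicAlgCl p)) with hPc
  have hmonc : Pc.Monic := hmon.map _
  have hdegc : Pc.natDegree = 2 * d := by rw [hPc, hmon.natDegree_map, hdeg]
  have hcoeff : ∀ k, Pc.coeff k = ((P.coeff k : ℤ) : PadicAlgCl p) := by
    intro k
    rw [hPc, coeff_map, eq_intCast]
  have hroots : P.aroots (PadicAlgCl p) = Pc.roots := rfl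
  have hcard : Multiset.card Pc.roots = Pc.natDegree :=
    (splits_iff_card_roots.mp (IsAlgClosed.splits Pc))
  have hint : ∀ z ∈ Pc.roots, ‖z‖ ≤ 1 := by
    intro z hz
    apply UltraEsymm.norm_le_one_of_root Pc hmonc
    · intro k
      rw [hcoeff]
      exact norm_intCast_le_one p _
    · exact (mem_roots hmonc.ne_zero).mp hz
  set u := Multiset.card (Pc.roots.filter (fun z => ‖z‖ = 1)) with hu
  have hule : u ≤ 2 * d := by
    rw [← hdegc, ← hcard]
    exact Multiset.card_le_card (Multiset.filter_le _ _)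
  have hvieta : ∀ k, k ≤ 2 * d → ‖Pc.coeff k‖ = ‖Pc.roots.esymm (2 * d - k)‖ := by
    intro k hk
    rw [coeff_eq_esymm_roots_of_card hcard (by rw [hdegc]; exact hk), hmonc.leadingCoeff, one_mul,
      hdegc, norm_mul, norm_pow, norm_neg, norm_one, one_pow, one_mul]
  have hest := UltraEsymm.esymm_norm Pc.roots hint
  -- the index of the lowest coefficient prime to `p`
  have hk0 : ¬ (p : ℤ) ∣ P.coeff (2 * d - u) := by
    rw [← norm_intCast_lt_one_iff, ← hcoeff, hvieta _ (Nat.sub_le _ _)]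
    have h1 : 2 * d - (2 * d - u) = u := by omega
    rw [h1, (hest u).2.2 rfl]
    exact lt_irrefl _
  have hbelow : ∀ k, k < 2 * d - u → (p : ℤ) ∣ P.coeff k := by
    intro k hk
    rw [← norm_intCast_lt_one_iff, ← hcoeff, hvieta _ (by omega)]
    exact (hest _).2.1 (by omega)
  have hdle : d ≤ 2 * d - u := by
    by_contra hlt
    rw [not_le] at hlt
    exact hk0 (hlow _ hlt)
  rw [hdeg]
  constructor
  · intro h2
    have hud : u = d := by omega
    have h3 : 2 * d - u = d := by omega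
    rw [h3] at hk0
    exact hk0
  · intro hnd
    have h3 : ¬ d < 2 * d - u := fun hlt => hnd (hbelow d hlt)
    show 2 * u = 2 * d
    omega

end Groth.Agent.H89.WeilOrd
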