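import Mathlib

set_option autoImplicit false
universe u

namespace Groth.Agent.H89.WeilPic

open Polynomial

/-- Bezout over `ℚ` with cleared denominators. -/
theorem exists_int_combination (P Q : ℤ[X])
    (h : IsCoprime (P.map (Int.castRingHom ℚ)) (Q.map (Int.castRingHom ℚ))) :
    ∃ N : ℤ, N ≠ 0 ∧ ∃ a b : ℤ[X], a * P + b * Q = C N := by
  obtain ⟨a, b, hab⟩ := h
  obtain ⟨⟨da, hda⟩, hda'⟩ :=
    IsLocalization.integerNormalization_map_to_map (nonZeroDivisors ℤ) a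
  obtain ⟨⟨db, hdb⟩, hdb'⟩ :=
    IsLocalization.integerNormalization_map_to_map (nonZeroDivisors ℤ) b
  set a' := IsLocalization.integerNormalization (nonZeroDivisors ℤ) a
  set b' := IsLocalization.integerNormalization (nonZeroDivisors ℤ) b
  have hda0 : da ≠ 0 := nonZeroDivisors.ne_zero hda
  have hdb0 : db ≠ 0 := nonZeroDivisors.ne_zero hdb
  refine ⟨da * db, mul_ne_zero hda0 hdb0, C db * a', C da * b', ?_⟩
  apply Polynomial.map_injective (Int.castRingHom ℚ) Int.cast_injective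
  simp only [Polynomial.map_add, Polynomial.map_mul, Polynomial.map_C]
  have e1 : a'.map (Int.castRingHom ℚ) = (da : ℚ) • a := by
    simpa [Algebra.smul_def] using hda'
  have e2 : b'.map (Int.castRingHom ℚ) = (db : ℚ) • b := by
    simpa [Algebra.smul_def] using hdb'
  rw [e1, e2]
  have : (C ((Int.castRingHom ℚ) db) * ((da : ℚ) • a)) * P.map (Int.castRingHom ℚ) +
      (C ((Int.castRingHom ℚ) da) * ((db : ℚ) • b)) * Q.map (Int.castRingHom ℚ) =
      C ((Int.castRingHom ℚ) (da * db)) *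
        (a * P.map (Int.castRingHom ℚ) + b * Q.map (Int.castRingHom ℚ)) := by
    simp only [smul_eq_C_mul, eq_intCast, Int.cast_mul, C_mul]
    ring
  rw [this, hab, mul_one]

/-- A quotient of `ℤ[X₀, X₁]` in which both variables become integral and some nonzero integer
vanishes is a finite ring. -/
theorem finite_quotient (𝔞 : Ideal (MvPolynomial (Fin 2) ℤ)) (P₀ P₁ : ℤ[X]) (h₀ : P₀.Monic)
    (h₁ : P₁.Monic) (hP₀ : aeval (MvPolynomial.X 0 : MvPolynomial (Fin 2) ℤ) P₀ ∈ 𝔞)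
    (hP₁ : aeval (MvPolynomial.X 1 : MvPolynomial (Fin 2) ℤ) P₁ ∈ 𝔞)
    (N : ℤ) (hN : N ≠ 0) (hN' : (MvPolynomial.C N : MvPolynomial (Fin 2) ℤ) ∈ 𝔞) :
    Finite (MvPolynomial (Fin 2) ℤ ⧸ 𝔞) := by
  have hX : ∀ i : Fin 2, IsIntegral ℤ (Ideal.Quotient.mk 𝔞 (MvPolynomial.X i)) := by
    intro i
    fin_cases i
    · refine ⟨P₀, h₀, ?_⟩
      have := aeval_algHom_apply (Ideal.Quotient.mkₐ ℤ 𝔞) (MvPolynomial.X 0) P₀
      rw [← aeval_def]
      show aeval ((Ideal.Quotient.mkₐ ℤ 𝔞) (MvPolynomial.X 0)) P₀ = 0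
      rw [this]
      exact Ideal.Quotient.eq_zero_iff_mem.mpr hP₀
    · refine ⟨P₁, h₁, ?_⟩
      have := aeval_algHom_apply (Ideal.Quotient.mkₐ ℤ 𝔞) (MvPolynomial.X 1) P₁
      rw [← aeval_def]
      show aeval ((Ideal.Quotient.mkₐ ℤ 𝔞) (MvPolynomial.X 1)) P₁ = 0
      rw [this]
      exact Ideal.Quotient.eq_zero_iff_mem.mpr hP₁
  have hint : Algebra.IsIntegral ℤ (MvPolynomial (Fin 2) ℤ ⧸ 𝔞) := by
    refine ⟨fun x => ?_⟩
    obtain ⟨s, rfl⟩ := Ideal.Quotient.mk_surjective x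
    induction s using MvPolynomial.induction_on with
    | C a =>
      have : Ideal.Quotient.mk 𝔞 (MvPolynomial.C a) =
          algebraMap ℤ (MvPolynomial (Fin 2) ℤ ⧸ 𝔞) a := rfl
      rw [this]
      exact isIntegral_algebraMap
    | add f g hf hg =>
      rw [map_add]
      exact hf.add hg
    | mul_X f i hf =>
      rw [map_mul]
      exact hf.mul (hX i)
  have hft : Algebra.FiniteType ℤ (MvPolynomial (Fin 2) ℤ ⧸ 𝔞) :=
    Algebra.FiniteType.of_surjective (Ideal.Quotient.mkₐ ℤ 𝔞)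
      (Ideal.Quotient.mkₐ_surjective ℤ 𝔞)
  have hfin : Module.Finite ℤ (MvPolynomial (Fin 2) ℤ ⧸ 𝔞) := Algebra.IsIntegral.finite
  have hfg : AddGroup.FG (MvPolynomial (Fin 2) ℤ ⧸ 𝔞) := Module.Finite.iff_addGroup_fg.mp hfin
  have htors : AddMonoid.IsTorsion (MvPolynomial (Fin 2) ℤ ⧸ 𝔞) := by
    intro x
    rw [isOfFinAddOrder_iff_nsmul_eq_zero]
    refine ⟨N.natAbs, Int.natAbs_pos.mpr hN, ?_⟩
    obtain ⟨s, rfl⟩ := Ideal.Quotient.mk_surjective x
    have h1 : Ideal.Quotient.mk 𝔞 (MvPolynomial.C (N.natAbs : ℤ)) = 0 := by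
      rw [Ideal.Quotient.eq_zero_iff_mem]
      rcases Int.natAbs_eq N with h | h
      · rw [← h]; exact hN'
      · have : (N.natAbs : ℤ) = -N := by omega
        rw [this, map_neg]
        exact 𝔞.neg_mem hN'
    rw [nsmul_eq_mul, ← map_natCast (Ideal.Quotient.mk 𝔞), ← map_mul]
    have h2 : ((N.natAbs : ℕ) : MvPolynomial (Fin 2) ℤ) = MvPolynomial.C (N.natAbs : ℤ) := by
      simp
    rw [h2, map_mul, h1, zero_mul]
  exact AddCommGroup.finite_of_fg_torsion _ htors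

end Groth.Agent.H89.WeilPic
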