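import Mathlib

set_option autoImplicit false
universe v u

open CategoryTheory Limits

namespace Groth.Agent.H89

variable {C : Type u} [Category.{v} C]

/-- A retract of a representable presheaf `h_Y` is represented by the equalizer of the identity and
the induced idempotent of `Y`. -/
theorem exists_iso_yoneda_equalizer_of_retract (Y : C) (F : Cᵒᵖ ⥤ Type v)
    (f : yoneda.obj Y ⟶ F) (s : F ⟶ yoneda.obj Y) (hsf : s ≫ f = 𝟙 F)
    (π : Y ⟶ Y) (hπ : yoneda.map π = f ≫ s) [HasEqualizer (𝟙 Y) π] :
    ∃ e : F ≅ yoneda.obj (equalizer (𝟙 Y) π), e.hom ≫ yoneda.map (equalizer.ι (𝟙 Y) π) = s := by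
  have hsfx : ∀ (T : Cᵒᵖ) (x : F.obj T), f.app T (s.app T x) = x := by
    intro T x
    have h1 : (s ≫ f).app T = (𝟙 F : F ⟶ F).app T := by rw [hsf]
    have := ConcreteCategory.congr_hom h1 x
    simpa using this
  have hπx : ∀ (T : Cᵒᵖ) (y : T.unop ⟶ Y), y ≫ π = s.app T (f.app T y) := by
    intro T y
    have h1 : (yoneda.map π).app T = (f ≫ s).app T := by rw [hπ]
    have := ConcreteCategory.congr_hom h1 y
    simpa using this
  have hcond : ∀ (T : Cᵒᵖ) (x : F.obj T), s.app T x ≫ 𝟙 Y = s.app T x ≫ π := by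
    intro T x
    rw [Category.comp_id, hπx, hsfx]
  have hnatS : ∀ {T T' : Cᵒᵖ} (g : T ⟶ T') (x : F.obj T),
      s.app T' (F.map g x) = g.unop ≫ s.app T x := by
    intro T T' g x
    have := NatTrans.naturality_apply s g x
    simpa using this
  have hnatF : ∀ {T T' : Cᵒᵖ} (g : T ⟶ T') (y : T.unop ⟶ Y),
      f.app T' (g.unop ≫ y) = F.map g (f.app T y) := by
    intro T T' g y
    have := NatTrans.naturality_apply f g y
    simpa using this
  let ehom : F ⟶ yoneda.obj (equalizer (𝟙 Y) π) :=
    { app := fun T => TypeCat.ofHom (fun x => equalizer.lift (s.app T x) (hcond T x))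
      naturality := by
        intro T T' g
        ext x
        apply equalizer.hom_ext
        change equalizer.lift (s.app T' (F.map g x)) _ ≫ equalizer.ι (𝟙 Y) π
          = (g.unop ≫ equalizer.lift (s.app T x) _) ≫ equalizer.ι (𝟙 Y) π
        rw [equalizer.lift_ι, Category.assoc, equalizer.lift_ι, hnatS] }
  let einv : yoneda.obj (equalizer (𝟙 Y) π) ⟶ F :=
    { app := fun T => TypeCat.ofHom (fun z => f.app T (z ≫ equalizer.ι (𝟙 Y) π))
      naturality := by
        intro T T' g
        ext z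
        change f.app T' ((g.unop ≫ z) ≫ equalizer.ι (𝟙 Y) π)
          = F.map g (f.app T (z ≫ equalizer.ι (𝟙 Y) π))
        rw [Category.assoc, hnatF] }
  refine ⟨⟨ehom, einv, ?_, ?_⟩, ?_⟩
  · ext T x
    change f.app T (equalizer.lift (s.app T x) _ ≫ equalizer.ι (𝟙 Y) π) = x
    rw [equalizer.lift_ι]
    exact hsfx T x
  · ext T z
    change equalizer.lift (s.app T (f.app T (z ≫ equalizer.ι (𝟙 Y) π))) _ = z
    apply equalizer.hom_ext
    rw [equalizer.lift_ι, ← hπx, Category.assoc, ← equalizer.condition, Category.comp_id]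
  · ext T x
    change equalizer.lift (s.app T x) _ ≫ equalizer.ι (𝟙 Y) π = s.app T x
    rw [equalizer.lift_ι]

end Groth.Agent.H89
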