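import Mathlib

/-!
# Dimension shifting for `Ext` along a short exact sequence with injective middle term (helper89)

Generic lemmas used for the comparison of Zariski and fppf cohomology (S8785):
* `ZF.delta hS Z₀ q : Ext Z₀ X₃ q →+ Ext Z₀ X₁ (q+1)` is surjective, and injective for `q ≥ 1`;
* for sheaves and a terminal object `T`: `ZF.delta₀ hS hT : X₃(T) →+ H¹(X₁)` is surjective with
  kernel the range of `X₂(T) → X₃(T)`;
* `ZF.equivOfKerEq`: two surjections with the same kernel have isomorphic targets.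
-/

set_option autoImplicit false
open CategoryTheory Limits Opposite

namespace Groth.Agent.H89.ZF

section ExtShift
open Abelian
variable {𝒜 : Type*} [Category 𝒜] [Abelian 𝒜] [HasExt 𝒜] {S : ShortComplex 𝒜} (hS : S.ShortExact)
  [Injective S.X₂] (Z₀ : 𝒜)

/-- the connecting homomorphism `Ext^q(Z₀, X₃) → Ext^{q+1}(Z₀, X₁)` -/
noncomputable def delta (q : ℕ) : Ext Z₀ S.X₃ q →+ Ext Z₀ S.X₁ (q + 1) :=
  hS.extClass.postcomp Z₀ rfl

lemma delta_apply (q : ℕ) (x : Ext Z₀ S.X₃ q) : delta hS Z₀ q x = x.comp hS.extClass rfl := rfl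

theorem delta_surjective (q : ℕ) : Function.Surjective (delta hS Z₀ q) := by
  intro x₁
  obtain ⟨x₃, hx₃⟩ := Ext.covariant_sequence_exact₁ Z₀ hS x₁
    (Ext.eq_zero_of_injective _) (rfl : q + 1 = q + 1)
  exact ⟨x₃, hx₃⟩

theorem delta_eq_zero_iff (q : ℕ) (x : Ext Z₀ S.X₃ q) :
    delta hS Z₀ q x = 0 ↔ ∃ y : Ext Z₀ S.X₂ q, y.comp (Ext.mk₀ S.g) (add_zero q) = x := by
  constructor
  · intro h
    exact Ext.covariant_sequence_exact₃ Z₀ hS x rfl h
  · rintro ⟨y, rfl⟩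
    rw [delta_apply, Ext.comp_assoc_of_second_deg_zero, hS.comp_extClass, Ext.comp_zero]

theorem delta_injective (q : ℕ) : Function.Injective (delta hS Z₀ (q + 1)) := by
  rw [injective_iff_map_eq_zero]
  intro x hx
  obtain ⟨y, rfl⟩ := (delta_eq_zero_iff hS Z₀ (q + 1) x).1 hx
  rw [Ext.eq_zero_of_injective y, Ext.zero_comp]

/-- dimension shifting -/
noncomputable def deltaEquiv (q : ℕ) : Ext Z₀ S.X₃ (q + 1) ≃+ Ext Z₀ S.X₁ (q + 2) :=
  AddEquiv.ofBijective (delta hS Z₀ (q + 1)) ⟨delta_injective hS Z₀ q, delta_surjective hS Z₀ (q + 1)⟩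

end ExtShift

section KerEq

variable {A B₁ B₂ : Type*} [AddCommGroup A] [AddCommGroup B₁] [AddCommGroup B₂]

/-- two surjections with equal kernels have isomorphic targets -/
noncomputable def equivOfKerEq (δ₁ : A →+ B₁) (δ₂ : A →+ B₂) (h₁ : Function.Surjective δ₁)
    (h₂ : Function.Surjective δ₂) (hk : δ₁.ker = δ₂.ker) : B₁ ≃+ B₂ :=
  (QuotientAddGroup.quotientKerEquivOfSurjective δ₁ h₁).symm.trans
    ((QuotientAddGroup.quotientAddEquivOfEq hk).trans
      (QuotientAddGroup.quotientKerEquivOfSurjective δ₂ h₂))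

end KerEq

section Shf
open Abelian
universe w' w v u
variable {C : Type u} [Category.{v} C] {J : GrothendieckTopology C}
  [HasSheafify J AddCommGrpCat.{w}] [HasExt.{w'} (Sheaf J AddCommGrpCat.{w})]
  {S : ShortComplex (Sheaf J AddCommGrpCat.{w})} (hS : S.ShortExact) [Injective S.X₂]
  {T : C} (hT : IsTerminal T)

/-- `X₃(T) → H¹(X₁)` for a terminal object `T` -/
noncomputable def delta₀ : S.X₃.obj.obj (op T) →+ Sheaf.H S.X₁ 1 :=
  (delta hS _ 0).comp (Sheaf.H.equiv₀ S.X₃ hT).symm.toAddMonoidHom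

theorem delta₀_surjective : Function.Surjective (delta₀ hS hT) := by
  intro x
  obtain ⟨y, hy⟩ := delta_surjective hS _ 0 x
  exact ⟨Sheaf.H.equiv₀ S.X₃ hT y, by
    change delta hS _ 0 ((Sheaf.H.equiv₀ S.X₃ hT).symm (Sheaf.H.equiv₀ S.X₃ hT y)) = x
    rw [AddEquiv.symm_apply_apply, hy]⟩

theorem delta₀_eq_zero_iff (s : S.X₃.obj.obj (op T)) :
    delta₀ hS hT s = 0 ↔ ∃ t : S.X₂.obj.obj (op T), S.g.hom.app (op T) t = s := by
  have h0 : delta₀ hS hT s = delta hS _ 0 ((Sheaf.H.equiv₀ S.X₃ hT).symm s) := rfl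
  rw [h0, delta_eq_zero_iff]
  constructor
  · rintro ⟨y, hy⟩
    refine ⟨Sheaf.H.equiv₀ S.X₂ hT y, ?_⟩
    rw [Sheaf.H.equiv₀_naturality]
    have : Sheaf.H.map S.g 0 y = (Sheaf.H.equiv₀ S.X₃ hT).symm s := hy
    rw [this, AddEquiv.apply_symm_apply]
  · rintro ⟨t, rfl⟩
    refine ⟨(Sheaf.H.equiv₀ S.X₂ hT).symm t, ?_⟩
    exact Sheaf.H.equiv₀_symm_naturality hT S.g t

end Shf

end Groth.Agent.H89.ZF
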