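import Groth.Agent.H89.AdeqCartan
import Groth.Agent.H89.ZarFppf1
import Groth.Agent.H4.ZarBig

/-!
# Zariski versus fppf cohomology for Čech-acyclic sheaves on the big fppf site (helper89)

`ZF.nonempty_equiv q F hF : Nonempty (H^q_Zar(S, F|_{S_Zar}) ≃+ H^q_fppf(S, F))` for every abelian
fppf sheaf `F` on `Over S` which is Čech-acyclic for faithfully flat covers of affine objects
(`AQ.CechAcyclic`), by dimension shifting along `0 → F → I → Q → 0` with `I` injective:
`resZar` preserves injectives (its left adjoint is exact, helper4's `ZarBig`), the restricted sequence is still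
short exact because `I(V) → Q(V)` is surjective for affine `V`, and `Q` is again Čech-acyclic.
-/

set_option autoImplicit false
set_option linter.style.haveILetI false
set_option linter.unusedSectionVars false
universe u
open CategoryTheory Limits Opposite Adeq AlgebraicGeometry TopologicalSpace

namespace Groth.Agent.H89.ZF

open Groth.Agent.H89.AQ

variable (S : Scheme.{u}) [BigSite.ZarCont Scheme.fppfPrecoverage S]

local notation "Kf" => Scheme.fppfPrecoverage

instance resZar_preservesFiniteLimits : PreservesFiniteLimits (BigSite.resZar Kf S) := by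
  have : PreservesLimitsOfSize.{0, 0} (BigSite.resZar Kf S) :=
    (BigSite.piZarAdj Kf S).rightAdjoint_preservesLimits
  exact PreservesLimitsOfSize.preservesFiniteLimits _

theorem injective_resZar (I : BigSite.Ab Kf S) [hI : Injective I] :
    Injective ((BigSite.resZar Kf S).obj I) :=
  (BigSite.piZarAdj Kf S).map_injective I hI

/-- the image of `⊤` in the big site is terminal -/
noncomputable def topTerminal : IsTerminal ((BigSite.zarIncl S).obj ⊤) :=
  IsTerminal.ofIso Over.mkIdTerminal
    (Over.isoMk (S.topIso).symm (S.toIso_inv_ι) : Over.mk (𝟙 S) ≅ (BigSite.zarIncl S).obj ⊤)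

theorem epi_of_affine_surj {M N : EtZar.Ab S} (φ : M ⟶ N)
    (h : ∀ (U : S.Opens), IsAffineOpen U → Function.Surjective (φ.hom.app (op U))) : Epi φ := by
  haveI : (Opens.grothendieckTopology S).WEqualsLocallyBijective AddCommGrpCat.{u + 1} :=
    GrothendieckTopology.WEqualsLocallyBijective.ofEssentiallySmall (Opens.grothendieckTopology S)
  rw [← Sheaf.isLocallySurjective_iff_epi']
  constructor
  intro V sec p hp
  obtain ⟨_, ⟨U, hU, rfl⟩, hpU, hUV⟩ := (S.isBasis_affineOpens).exists_subset_of_mem_open hp V.2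
  have hle : U ≤ V := hUV
  obtain ⟨x, hx⟩ := h U hU (N.obj.map (homOfLE hle).op sec)
  exact ⟨U, homOfLE hle, ⟨x, hx⟩, hpU⟩

variable {S}

section SES
variable (C : ShortComplex (BigSite.Ab Kf S)) (hC : C.ShortExact) (hF : CechAcyclic C.X₁)

include hC hF in
theorem shortExact_map_resZar : (C.map (BigSite.resZar Kf S)).ShortExact := by
  haveI := hC.mono_f
  haveI : Mono (C.map (BigSite.resZar Kf S)).f :=
    inferInstanceAs (Mono ((BigSite.resZar Kf S).map C.f))
  haveI : Epi (C.map (BigSite.resZar Kf S)).g := by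
    apply epi_of_affine_surj
    intro U hU
    haveI : IsAffine ((BigSite.zarIncl S).obj U).left := hU
    exact ab_shortExact_g_surj_affine C hC hF ((BigSite.zarIncl S).obj U)
  exact ShortComplex.ShortExact.mk'
    (hC.exact.map_of_mono_of_preservesKernel (BigSite.resZar Kf S) hC.mono_f inferInstance)
    inferInstance inferInstance

end SES

theorem exists_ses (F : BigSite.Ab Kf S) :
    ∃ C : ShortComplex (BigSite.Ab Kf S), C.ShortExact ∧ C.X₁ = F ∧ Injective C.X₂ := by
  refine ⟨ShortComplex.mk (Injective.ι F) (cokernel.π (Injective.ι F)) (cokernel.condition _),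
    ShortComplex.ShortExact.mk' (ShortComplex.exact_cokernel _) inferInstance inferInstance,
    rfl, ?_⟩
  exact inferInstanceAs (Injective (Injective.under F))

theorem nonempty_equiv_zero (F : BigSite.Ab Kf S) :
    Nonempty (EtZar.H ((BigSite.resZar Kf S).obj F) 0 ≃+ BigSite.H Kf S F 0) :=
  ⟨(Sheaf.H.equiv₀ ((BigSite.resZar Kf S).obj F) isTerminalTop).trans
    (Sheaf.H.equiv₀ F (topTerminal S)).symm⟩

theorem nonempty_equiv_one (F : BigSite.Ab Kf S) (hF : CechAcyclic F) :
    Nonempty (EtZar.H ((BigSite.resZar Kf S).obj F) 1 ≃+ BigSite.H Kf S F 1) := by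
  obtain ⟨C, hC, rfl, hI⟩ := exists_ses F
  haveI := hI
  have hC' := shortExact_map_resZar C hC hF
  haveI : Injective (C.map (BigSite.resZar Kf S)).X₂ := injective_resZar S C.X₂
  let A : Type (u + 1) := C.X₃.obj.obj (op ((BigSite.zarIncl S).obj ⊤))
  let δ₁ : A →+ EtZar.H ((BigSite.resZar Kf S).obj C.X₁) 1 := delta₀ hC' isTerminalTop
  let δ₂ : A →+ BigSite.H Kf S C.X₁ 1 := delta₀ hC (topTerminal S)
  have h₁ : ∀ s : A, δ₁ s = 0 ↔ ∃ t : C.X₂.obj.obj (op ((BigSite.zarIncl S).obj ⊤)),
      C.g.hom.app (op ((BigSite.zarIncl S).obj ⊤)) t = s :=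
    fun s => delta₀_eq_zero_iff hC' isTerminalTop s
  have h₂ : ∀ s : A, δ₂ s = 0 ↔ ∃ t : C.X₂.obj.obj (op ((BigSite.zarIncl S).obj ⊤)),
      C.g.hom.app (op ((BigSite.zarIncl S).obj ⊤)) t = s :=
    fun s => delta₀_eq_zero_iff hC (topTerminal S) s
  have hk : δ₁.ker = δ₂.ker := by
    ext s
    exact (h₁ s).trans (h₂ s).symm
  exact ⟨equivOfKerEq δ₁ δ₂ (delta₀_surjective hC' _) (delta₀_surjective hC _) hk⟩

theorem nonempty_equiv_succ (q : ℕ) : ∀ F : BigSite.Ab Kf S, CechAcyclic F →
    Nonempty (EtZar.H ((BigSite.resZar Kf S).obj F) (q + 1) ≃+ BigSite.H Kf S F (q + 1)) := by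
  induction q with
  | zero =>
    intro F hF
    exact nonempty_equiv_one F hF
  | succ q ih =>
    intro F hF
    obtain ⟨C, hC, rfl, hI⟩ := exists_ses F
    haveI := hI
    have hC' := shortExact_map_resZar C hC hF
    haveI : Injective (C.map (BigSite.resZar Kf S)).X₂ := injective_resZar S C.X₂
    obtain ⟨e⟩ := ih C.X₃ (cechAcyclic_quot C hC hF (cechAcyclic_of_injective C.X₂))
    exact ⟨(deltaEquiv hC' _ q).symm.trans (e.trans (deltaEquiv hC _ q))⟩

theorem nonempty_equiv (q : ℕ) (F : BigSite.Ab Kf S) (hF : CechAcyclic F) :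
    Nonempty (EtZar.H ((BigSite.resZar Kf S).obj F) q ≃+ BigSite.H Kf S F q) := by
  cases q with
  | zero => exact nonempty_equiv_zero F
  | succ q => exact nonempty_equiv_succ q F hF

end Groth.Agent.H89.ZF
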